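import Groth.Prelude.Def_Algz
import Groth.Agent.QCohMod.Category

set_option autoImplicit false

universe u

open CategoryTheory AlgebraicGeometry

namespace Groth.MiscGeom.AlgzTilde

theorem isIso_fromTildeΓ_app {R : CommRingCat.{u}} (M : (Spec R).Modules) [M.IsQuasicoherent] :
    IsIso ((Scheme.Modules.fromTildeΓNatTrans (R := R)).app M) :=
  (inferInstance : IsIso M.fromTildeΓ)

end Groth.MiscGeom.AlgzTilde
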