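import Groth.Prelude.Def_Algz
import Groth.Agent.CohC3.QuotSections
import Groth.Agent.CohC3.LimitSys
import Groth.Agent.QCohMod.Coherent
import Groth.Agent.PropsBasic.FPSections
import Groth.Agent.S2269
import Groth.Agent.MiscGeom.AlgzTilde

/-! Coherent formal modules on an affine scheme over itself, via global sections. -/

set_option autoImplicit false

universe u

open CategoryTheory CategoryTheory.Limits AlgebraicGeometry Opposite

namespace Groth.MiscGeom.AlgzSheaf

open Groth.CohC3

section General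

variable {R : CommRingCat.{u}}

lemma isIso_map_of_gamma {M G : (Spec R).Modules} [M.IsQuasicoherent] [G.IsQuasicoherent]
    (p : M ⟶ G) [IsIso ((moduleSpecΓFunctor (R := R)).map p)] : IsIso p := by
  have hM : IsIso M.fromTildeΓ := inferInstance
  have hG : IsIso G.fromTildeΓ := inferInstance
  have n : (tilde.functor R).map ((moduleSpecΓFunctor (R := R)).map p) ≫ G.fromTildeΓ = M.fromTildeΓ ≫ p :=
    (tilde.adjunction (R := R)).counit.naturality p
  have ht : IsIso ((tilde.functor R).map ((moduleSpecΓFunctor (R := R)).map p)) := inferInstance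
  have h2 : IsIso ((tilde.functor R).map ((moduleSpecΓFunctor (R := R)).map p) ≫ G.fromTildeΓ) :=
    @IsIso.comp_isIso _ _ _ _ _ _ _ ht hG
  rw [n] at h2
  exact @IsIso.of_isIso_comp_left _ _ _ _ _ M.fromTildeΓ p hM h2

lemma finite_gamma {M : (Spec R).Modules} (hM : Coh.IsCoh M) :
    Module.Finite R ((moduleSpecΓFunctor (R := R)).obj M) := by
  have := hM.1
  have hI : IsIso M.fromTildeΓ := inferInstance
  exact (Groth.PropsBasic.FPSections.isFT_tilde_iff _).mp
    (Groth.QCohMod.isCoh_of_iso (asIso M.fromTildeΓ).symm hM).2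

lemma isCoh_tilde' (N : ModuleCat.{u} R) (h : Module.Finite R N) : Coh.IsCoh (tilde N) :=
  ⟨inferInstance, (Groth.PropsBasic.FPSections.isFT_tilde_iff N).mpr h⟩

end General

variable {A : Type u} [CommRing A]

noncomputable local instance selfOver : (Spec (CommRingCat.of A)).Over (Spec (CommRingCat.of A)) := ⟨𝟙 _⟩

/-- Global sections on `Spec A` as `A`-modules. -/
noncomputable abbrev ΓA : (Spec (CommRingCat.of A)).Modules ⥤ ModuleCat.{u} A :=
  moduleSpecΓFunctor (R := CommRingCat.of A)

lemma baseSpec_self : baseSpec (A := A) (R := CommRingCat.of A) = RingHom.id A := by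
  refine RingHom.ext fun a => ?_
  unfold baseSpec baseApp
  simp only [Coh.resTop, Coh.toGlobal]
  show (Scheme.ΓSpecIso (CommRingCat.of A)).hom
    ((Spec (CommRingCat.of A)).presheaf.map _
      ((𝟙 (Spec (CommRingCat.of A)) : _ ⟶ _).appTop ((Scheme.ΓSpecIso (CommRingCat.of A)).inv a))) = a
  simp

/-- Global sections of a morphism as a linear map. -/
noncomputable abbrev gMap {M N : (Spec (CommRingCat.of A)).Modules} (p : M ⟶ N) :=
  (ΓA.map p).hom

lemma gMap_smulMod (M : (Spec (CommRingCat.of A)).Modules) (a : A) (x : ΓA.obj M) :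
    gMap (Formal.smulMod A M a) x = a • x := by
  refine (smulMod_app M a ⊤ x).trans ((baseApp_top_smul M a x).trans ?_)
  rw [baseSpec_self]
  rfl

lemma hom_ext {M N : (Spec (CommRingCat.of A)).Modules} [M.IsQuasicoherent] {φ ψ : M ⟶ N}
    (h : ∀ x, gMap φ x = gMap ψ x) : φ = ψ :=
  hom_ext_top h

lemma gMap_zero {M N : (Spec (CommRingCat.of A)).Modules} (x : ΓA.obj M) :
    gMap (0 : M ⟶ N) x = 0 := rfl

lemma killedBy_iff {J : Ideal A} (M : (Spec (CommRingCat.of A)).Modules) [M.IsQuasicoherent] :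
    Formal.KilledBy J M ↔ ∀ a ∈ J, ∀ x : ΓA.obj M, a • x = 0 := by
  refine ⟨fun h a ha x => ?_, fun h a ha => hom_ext fun x => ?_⟩
  · rw [← gMap_smulMod, h a ha, gMap_zero]
  · rw [gMap_smulMod, h a ha x, gMap_zero]

lemma smul_top_le {J : Ideal A} {M G : (Spec (CommRingCat.of A)).Modules} {p : M ⟶ G}
    (h : J ≤ annHom p) : J • ⊤ ≤ LinearMap.ker (gMap p) :=
  Submodule.smul_le.2 fun a ha x _ => by
    rw [LinearMap.mem_ker, ← gMap_smulMod]
    have : Formal.smulMod A M a ≫ p = 0 := (mem_annHom p a).1 (h ha)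
    exact LinearMap.congr_fun (congrArg ModuleCat.Hom.hom
      (((ΓA).map_comp _ _).symm.trans (congrArg (ΓA).map this))) x |>.trans (gMap_zero x)

lemma ker_gMap {J : Ideal A} {M G : (Spec (CommRingCat.of A)).Modules} [M.IsQuasicoherent] {p : M ⟶ G}
    (h : IsQuot J p) : LinearMap.ker (gMap p) = J • ⊤ := by
  refine le_antisymm (fun x hx => ?_) (smul_top_le h.le_ann)
  have := ker_top_le h x hx
  rwa [baseSpec_self, Ideal.map_id] at this

lemma surjective_gMap {M G : (Spec (CommRingCat.of A)).Modules} [M.IsQuasicoherent] [G.IsQuasicoherent]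
    (p : M ⟶ G) [Epi p] : Function.Surjective (gMap p) :=
  QCohMod.app_surjective_of_epi p (isAffineOpen_top _)

lemma isIso_of_bijective {M G : (Spec (CommRingCat.of A)).Modules} [M.IsQuasicoherent] [G.IsQuasicoherent]
    (p : M ⟶ G) (h : Function.Bijective (gMap p)) : IsIso p := by
  have : IsIso (ΓA.map p) := (ConcreteCategory.isIso_iff_bijective _).2 h
  exact isIso_map_of_gamma (R := CommRingCat.of A) p

lemma isQuot_of_gMap {J : Ideal A} {M G : (Spec (CommRingCat.of A)).Modules} [M.IsQuasicoherent]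
    [G.IsQuasicoherent] (p : M ⟶ G) (hs : Function.Surjective (gMap p))
    (hk : LinearMap.ker (gMap p) = J • ⊤) : IsQuot J p := by
  have hann : J ≤ annHom p := fun a ha => by
    rw [mem_annHom]
    refine hom_ext fun x => ?_
    refine (congrArg (gMap p) (gMap_smulMod M a x)).trans ?_
    exact LinearMap.mem_ker.1 (hk.ge (Submodule.smul_mem_smul ha trivial))
  have hq := isQuot_cokernel J M
  obtain ⟨c, hc⟩ := hq.desc p hann
  have : (cokernel (Formal.smulFamily J M)).IsQuasicoherent := isQCoh_of_isQuot hq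
  have hcx : ∀ m, gMap c (gMap (cokernel.π (Formal.smulFamily J M)) m) = gMap p m := fun m =>
    LinearMap.congr_fun (congrArg ModuleCat.Hom.hom (((ΓA).map_comp _ _).symm.trans
      (congrArg (ΓA).map hc))) m
  have : IsIso c := by
    refine isIso_of_bijective c ⟨?_, fun y => ?_⟩
    · rw [injective_iff_map_eq_zero]
      intro z hz
      obtain ⟨m, rfl⟩ := surjective_gMap (cokernel.π (Formal.smulFamily J M)) z
      rw [hcx, ← LinearMap.mem_ker, hk, ← ker_gMap hq] at hz
      exact hz
    · obtain ⟨m, rfl⟩ := hs y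
      exact ⟨_, hcx m⟩
  simpa [hc] using hq.comp_iso c

/-- The axioms of the sections of a coherent formal module on `Spec A`. -/
structure IsModSys (I : Ideal A) (N : ℕᵒᵖ ⥤ ModuleCat.{u} A) : Prop where
  finite : ∀ n, Module.Finite A (N.obj (op n))
  surj : ∀ i j (h : i ≤ j), Function.Surjective (ARSys.tr N h).hom
  ker : ∀ i j (h : i ≤ j), LinearMap.ker (ARSys.tr N h).hom = I ^ (i + 1) • ⊤

lemma IsModSys.smul_eq_bot {I : Ideal A} {N : ℕᵒᵖ ⥤ ModuleCat.{u} A} (h : IsModSys I N) (n : ℕ) :
    I ^ (n + 1) • (⊤ : Submodule A (N.obj (op n))) = ⊥ := by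
  rw [← h.ker n n le_rfl, show ARSys.tr N (le_refl n) = 𝟙 _ from N.map_id _]
  exact LinearMap.ker_id


lemma isModSys_gamma {I : Ideal A} {G : ℕᵒᵖ ⥤ (Spec (CommRingCat.of A)).Modules}
    (hG : Formal.IsCohFormal I G) : IsModSys I (G ⋙ ΓA) := by
  have hs := isSys_of_isCohFormal hG
  have hq : ∀ n, (G.obj (op n)).IsQuasicoherent := fun n => (hG.1 n).1
  refine ⟨fun n => ?_, fun i j h => ?_, fun i j h => ?_⟩
  · exact finite_gamma (R := CommRingCat.of A) (hG.1 n)
  · have := hq i
    have := hq j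
    have := (hs.isQuot h).epi
    exact surjective_gMap (sysMap G h)
  · have := hq j
    exact ker_gMap (hs.isQuot h)

lemma isCoh_tilde (N : ModuleCat.{u} A) [Module.Finite A N] : Coh.IsCoh (tilde (R := CommRingCat.of A) N) :=
  isCoh_tilde' (R := CommRingCat.of A) N ‹_›

lemma gMap_tilde_surjective {M N : ModuleCat.{u} A} (f : M ⟶ N) (hf : Function.Surjective f.hom) :
    Function.Surjective (gMap ((tilde.functor (CommRingCat.of A)).map f)) := fun y => by
  obtain ⟨z, rfl⟩ := (ConcreteCategory.bijective_of_isIso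
    ((tilde.toTildeΓNatIso (R := CommRingCat.of A)).hom.app N)).2 y
  obtain ⟨x, rfl⟩ := hf z
  exact ⟨_, (LinearMap.congr_fun (congrArg ModuleCat.Hom.hom
    ((tilde.toTildeΓNatIso (R := CommRingCat.of A)).hom.naturality f)) x).symm⟩

lemma ker_gMap_tilde {M N : ModuleCat.{u} A} (f : M ⟶ N) {J : Ideal A}
    (hf : LinearMap.ker f.hom = J • ⊤) :
    LinearMap.ker (gMap ((tilde.functor (CommRingCat.of A)).map f)) = J • ⊤ := by
  let eM := ((tilde.toTildeΓNatIso (R := CommRingCat.of A)).app M).toLinearEquiv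
  let eN := ((tilde.toTildeΓNatIso (R := CommRingCat.of A)).app N).toLinearEquiv
  have hn : ∀ x, gMap ((tilde.functor (CommRingCat.of A)).map f) (eM x) = eN (f.hom x) := fun x =>
    (LinearMap.congr_fun (congrArg ModuleCat.Hom.hom
      ((tilde.toTildeΓNatIso (R := CommRingCat.of A)).hom.naturality f)) x).symm
  have e1 : (J • (⊤ : Submodule A M)).map eM.toLinearMap = J • ⊤ := by
    rw [Submodule.map_smul'', Submodule.map_top, LinearEquiv.range]
  rw [← e1, ← hf]
  ext y
  rw [LinearMap.mem_ker, Submodule.mem_map]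
  refine ⟨fun hy => ?_, ?_⟩
  · refine ⟨eM.symm y, ?_, eM.apply_symm_apply y⟩
    rw [LinearMap.mem_ker]
    apply eN.injective
    rw [← hn, eM.apply_symm_apply, hy, map_zero]
  · rintro ⟨x, hx, rfl⟩
    refine (hn x).trans ?_
    rw [LinearMap.mem_ker.1 hx, map_zero]

lemma isCohFormal_tilde {I : Ideal A} {N : ℕᵒᵖ ⥤ ModuleCat.{u} A} (h : IsModSys I N) :
    Formal.IsCohFormal I (N ⋙ tilde.functor (CommRingCat.of A)) := by
  have hc : ∀ n, Coh.IsCoh ((N ⋙ tilde.functor (CommRingCat.of A)).obj (op n)) := fun n =>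
    have := h.finite n; isCoh_tilde _
  refine ⟨hc, fun n => ?_, fun n => ?_⟩
  · have := (hc n).1
    refine (killedBy_iff _).2 fun a ha x => ?_
    obtain ⟨z, rfl⟩ := (ConcreteCategory.bijective_of_isIso
      ((tilde.toTildeΓNatIso (R := CommRingCat.of A)).hom.app (N.obj (op n)))).2 x
    have : a • z = 0 := (Submodule.mem_bot A).1
      ((h.smul_eq_bot n).le (Submodule.smul_mem_smul ha trivial))
    exact ((map_smul _ a z).symm.trans (congrArg _ this)).trans (map_zero _)
  · exact (@isQuot_of_gMap _ _ _ _ _ (hc (n + 1)).1 (hc n).1 _ (gMap_tilde_surjective _ (h.surj n (n + 1) (Nat.le_succ n)))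
      (ker_gMap_tilde _ (h.ker n (n + 1) (Nat.le_succ n)))).isIso_desc

end Groth.MiscGeom.AlgzSheaf
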