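import Mathlib.CategoryTheory.Sites.Over
import Mathlib.CategoryTheory.Sites.Canonical

/-!
# Sheaves on an over category and the total presheaf
-/

universe w v v' u

open CategoryTheory CategoryTheory.Limits Opposite

noncomputable section

namespace Groth.MiscGeom.OverTotal

variable {C : Type u} [Category.{v} C] {S : C} (G : (Over S)ᵒᵖ ⥤ Type w)

/-- comparison of two structure maps -/
abbrev reb {X : C} {g g' : X ⟶ S} (e : g' = g) : Over.mk g' ⟶ Over.mk g :=
  Over.homMk (𝟙 X) (by simpa using e.symm)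

theorem total_ext {X : C} {p q : Σ g : X ⟶ S, G.obj (op (Over.mk g))} (e : q.1 = p.1)
    (h : G.map (reb e).op p.2 = q.2) : p = q := by
  obtain ⟨g, x⟩ := p
  obtain ⟨g', x'⟩ := q
  dsimp only at e
  subst e
  have : reb (rfl : g' = g') = 𝟙 (Over.mk g') := Over.OverMorphism.ext rfl
  rw [this, op_id, FunctorToTypes.map_id_apply] at h
  dsimp only at h
  subst h
  rfl

theorem map_eq {U V : Over S} {f g : V ⟶ U} (h : f.left = g.left) (x : G.obj (op U)) :
    G.map f.op x = G.map g.op x := by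
  rw [Over.OverMorphism.ext h]

theorem map_map {U V W : Over S} (f : V ⟶ U) (g : W ⟶ V) (x : G.obj (op U)) :
    G.map g.op (G.map f.op x) = G.map (g ≫ f).op x :=
  (FunctorToTypes.map_comp_apply G f.op g.op x).symm

/-- the total presheaf `X ↦ Σ (g : X → S), G (X/S)` -/
def total : Cᵒᵖ ⥤ Type (max v w) where
  obj X := Σ g : X.unop ⟶ S, G.obj (op (Over.mk g))
  map φ := ↾fun p => ⟨φ.unop ≫ p.1, G.map (Over.homMk φ.unop rfl : Over.mk (φ.unop ≫ p.1) ⟶ Over.mk p.1).op p.2⟩
  map_id X := by
    refine ConcreteCategory.hom_ext _ _ fun p => ?_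
    refine total_ext G ?_ ?_
    · exact (Category.id_comp p.1).symm
    refine (map_map G _ _ _).trans ?_
    exact (map_eq G (g := 𝟙 _) (Category.id_comp _) _).trans (FunctorToTypes.map_id_apply G _)
  map_comp φ ψ := by
    refine ConcreteCategory.hom_ext _ _ fun p => ?_
    refine total_ext G ?_ ?_
    · exact (Category.assoc ψ.unop φ.unop p.1).symm
    refine (map_map G _ _ _).trans (Eq.trans ?_ (map_map G _ _ _).symm)
    exact map_eq G (Category.id_comp _) _

theorem total_map_fst {X Y : C} (φ : Y ⟶ X) (p : (total G).obj (op X)) :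
    ((total G).map φ.op p).1 = φ ≫ p.1 := rfl

/-- extract the second component of an equality -/
theorem snd_of_eq {X : C} {p q : Σ g : X ⟶ S, G.obj (op (Over.mk g))} (h : p = q) :
    G.map (reb (congrArg Sigma.fst h).symm).op p.2 = q.2 := by
  subst h
  exact (map_eq G (g := 𝟙 _) rfl _).trans (FunctorToTypes.map_id_apply G _)

variable {J : GrothendieckTopology C} [J.Subcanonical]

theorem hom_ext_of_cover {X : C} {R : Sieve X} (hR : R ∈ J X) (a b : X ⟶ S)
    (h : ∀ (Y : C) (f : Y ⟶ X), R f → f ≫ a = f ≫ b) : a = b :=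
  ((GrothendieckTopology.Subcanonical.isSheaf_of_isRepresentable (J := J) (yoneda.obj S)) R hR).isSeparatedFor.ext
    fun Y f hf => h Y f hf

theorem isSheaf_over_of_total (h : Presieve.IsSheaf J (total G)) : Presieve.IsSheaf (J.over S) G := by
  intro U R hR
  have hR' : Sieve.overEquiv U R ∈ J U.left := hR
  intro x hx
  let x' : Presieve.FamilyOfElements (total G) (Sieve.overEquiv U R).arrows := fun Z f hf =>
    ⟨f ≫ U.hom, x (Over.homMk f rfl : Over.mk (f ≫ U.hom) ⟶ U) ((Sieve.overEquiv_iff R f).1 hf)⟩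
  have hx' : x'.Compatible := fun Y₁ Y₂ W g₁ g₂ f₁ f₂ h₁ h₂ e => by
    have eh : g₂ ≫ f₂ ≫ U.hom = g₁ ≫ f₁ ≫ U.hom := by rw [← Category.assoc, ← e, Category.assoc]
    refine total_ext G eh ?_
    refine (map_map G _ _ _).trans ?_
    exact hx _ _ _ _ (Over.OverMorphism.ext ((Category.assoc _ _ _).trans ((Category.id_comp _).trans e)))
  obtain ⟨p, hp, huniq⟩ := h _ hR' x' hx'
  have hfst : p.1 = U.hom := hom_ext_of_cover hR' _ _ fun Y f hf => congrArg Sigma.fst (hp f hf)
  let t : G.obj (op U) := G.map (Over.homMk (𝟙 U.left) (by simpa using hfst) : U ⟶ Over.mk p.1).op p.2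
  refine ⟨t, fun V j hj => ?_, fun t' ht' => ?_⟩
  · have hf : (Sieve.overEquiv U R).arrows j.left := (Sieve.overEquiv_iff R j.left).2 (by
      have : (Over.homMk j.left rfl : Over.mk (j.left ≫ U.hom) ⟶ U) =
          (Over.homMk (𝟙 _) (by simp) : Over.mk (j.left ≫ U.hom) ⟶ V) ≫ j :=
        Over.OverMorphism.ext (Category.id_comp _).symm
      rw [this]
      exact R.downward_closed hj _)
    let c : V ⟶ Over.mk (j.left ≫ U.hom) := Over.homMk (𝟙 _) (by simp)
    have h2 := congrArg (G.map c.op) (snd_of_eq G (hp j.left hf))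
    refine (map_map G _ _ _).trans (Eq.trans ?_ (h2.trans ?_))
    · refine Eq.symm ((congrArg (G.map c.op) (map_map G _ _ _)).trans ((map_map G _ _ _).trans (map_eq G ?_ _)))
      simp [c]
    · refine (hx c (𝟙 _) _ hj (Over.OverMorphism.ext ?_)).trans (FunctorToTypes.map_id_apply G _)
      simp [c]
  · have : (⟨U.hom, G.map (Over.homMk (𝟙 U.left) (by simp) : Over.mk U.hom ⟶ U).op t'⟩ :
        (total G).obj (op U.left)) = p := huniq _ fun Y f hf => by
      refine total_ext G (show f ≫ U.hom = f ≫ U.hom from rfl) ?_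
      refine (map_map G _ _ _).trans ((map_map G _ _ _).trans ?_)
      refine Eq.trans (map_eq G ?_ _) (ht' _ ((Sieve.overEquiv_iff R f).1 hf))
      simp
    have h2 := congrArg (G.map (Over.homMk (𝟙 U.left) (by simpa using hfst) : U ⟶ Over.mk p.1).op) (snd_of_eq G this)
    refine Eq.trans ?_ h2
    refine Eq.symm ((congrArg _ (map_map G _ _ _)).trans ((map_map G _ _ _).trans ?_))
    exact (map_eq G (g := 𝟙 U) (by simp) _).trans (FunctorToTypes.map_id_apply G _)

theorem isSheaf_total (h : Presieve.IsSheaf (J.over S) G) : Presieve.IsSheaf J (total G) := by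
  intro X R hR x hx
  let y : Presieve.FamilyOfElements (yoneda.obj S) R.arrows := fun Y f hf => (x f hf).1
  have hy : y.Compatible := fun Y₁ Y₂ W g₁ g₂ f₁ f₂ h₁ h₂ e => congrArg Sigma.fst (hx g₁ g₂ h₁ h₂ e)
  obtain ⟨g, hg, -⟩ :=
    GrothendieckTopology.Subcanonical.isSheaf_of_isRepresentable (J := J) (yoneda.obj S) R hR y hy
  have hg' : ∀ {Y : C} (f : Y ⟶ X) (hf : R f), f ≫ g = (x f hf).1 := fun f hf => hg f hf
  let U : Over S := Over.mk g
  let R' : Sieve U := (Sieve.overEquiv U).symm R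
  have hR' : R' ∈ (J.over S) U := GrothendieckTopology.overEquiv_symm_mem_over J U R hR
  have hmem : ∀ {V : Over S} {j : V ⟶ U}, R' j → R j.left := fun {V j} hj => hj
  have e0 : ∀ {V : Over S} (j : V ⟶ U) (hj : R' j), (x j.left (hmem hj)).1 = V.hom := fun j hj =>
    (hg' _ (hmem hj)).symm.trans (Over.w j)
  let z : Presieve.FamilyOfElements G R'.arrows := fun V j hj =>
    G.map (Over.homMk (𝟙 _) (by simpa using e0 j hj) : V ⟶ Over.mk (x j.left (hmem hj)).1).op (x j.left (hmem hj)).2
  have hz : z.Compatible := fun Y₁ Y₂ W g₁ g₂ f₁ f₂ h₁ h₂ e => by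
    have hx' := hx g₁.left g₂.left (hmem h₁) (hmem h₂) (congrArg CommaMorphism.left e)
    refine (map_map G _ _ _).trans (Eq.trans ?_ (map_map G _ _ _).symm)
    let c : W ⟶ Over.mk (g₂.left ≫ (x f₂.left (hmem h₂)).1) := Over.homMk (𝟙 _) (by
      have := e0 f₂ h₂
      simp only [Category.id_comp, Over.mk_hom, this]
      exact Over.w g₂)
    have h3 := congrArg (G.map c.op) (snd_of_eq G hx')
    refine Eq.trans ?_ (h3.trans ?_)
    · refine Eq.symm ((congrArg _ (map_map G _ _ _)).trans ((map_map G _ _ _).trans (map_eq G ?_ _)))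
      simp [c]
    · refine (map_map G _ _ _).trans (map_eq G ?_ _)
      simp [c]
  obtain ⟨t, ht, huniq⟩ := h R' hR' z hz
  refine ⟨⟨g, t⟩, fun Y f hf => ?_, fun p hp => ?_⟩
  · refine total_ext G (hg' f hf).symm ?_
    refine (map_map G _ _ _).trans ?_
    let j : Over.mk (x f hf).1 ⟶ U := Over.homMk f (hg' f hf)
    refine ((map_eq G (g := j) ?_ _).trans (ht j hf)).trans
      ((map_eq G (g := 𝟙 _) rfl _).trans (FunctorToTypes.map_id_apply G _))
    simp [j]
  · have hfst : p.1 = g := hom_ext_of_cover hR _ _ fun Y f hf =>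
      (congrArg Sigma.fst (hp f hf)).trans (hg' f hf).symm
    refine total_ext G hfst.symm (huniq _ fun V j hj => ?_)
    have h2 := congrArg (G.map (Over.homMk (𝟙 _) (by simpa using e0 j hj) : V ⟶ Over.mk (x j.left (hmem hj)).1).op)
      (snd_of_eq G (hp j.left (hmem hj)))
    refine Eq.trans ?_ h2
    refine (map_map G _ _ _).trans (Eq.symm ((congrArg _ (map_map G _ _ _)).trans ((map_map G _ _ _).trans (map_eq G ?_ _))))
    simp [U]

end Groth.MiscGeom.OverTotal

end
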