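import Groth.Agent.MiscGeom.MagnetBase
import Groth.Prelude.Def_Magnet3
import Mathlib.CategoryTheory.Limits.Shapes.Pullback.IsPullback.Basic
import Mathlib.CategoryTheory.Limits.Types.Pullbacks

/-!
# Lifting equivariant families through closed immersions; change of monoid for separated targets
-/

universe u v₁ u₁

open CategoryTheory CategoryTheory.Limits MonoidalCategory CartesianMonoidalCategory MonObj AlgebraicGeometry Opposite
open Magnet

noncomputable section

namespace Groth.MiscGeom.Mag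

section General

variable {C : Type u₁} [Category.{v₁} C] [CartesianMonoidalCategory C]

/-- inverse of an equivariant isomorphism -/
theorem isEquivariant_inv {A X Y : C} [MonObj A] {a : MonAct A X} {b : MonAct A Y} (e : X ≅ Y)
    (h : MonAct.IsEquivariant a b e.hom) : MonAct.IsEquivariant b a e.inv := by
  unfold MonAct.IsEquivariant at h ⊢
  rw [← cancel_epi (A ◁ e.hom), ← reassoc_of% h, e.hom_inv_id, Category.comp_id, ← whiskerLeft_comp_assoc,
    e.hom_inv_id, whiskerLeft_id, Category.id_comp]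

/-- equivariance of a lift through a monomorphism -/
theorem isEquivariant_of_comp_mono {A P X Y : C} [MonObj A] {p : MonAct A P} {a : MonAct A X} {b : MonAct A Y}
    (χ : P ⟶ X) (f : X ⟶ Y) [Mono f] (hf : MonAct.IsEquivariant a b f)
    (h : MonAct.IsEquivariant p b (χ ≫ f)) : MonAct.IsEquivariant p a χ := by
  unfold MonAct.IsEquivariant at hf h ⊢
  rw [← cancel_mono f, Category.assoc, h, Category.assoc, hf, whiskerLeft_comp_assoc]

/-- an element of `eqvHom` on the image of the acting monoid, for `B` a monoid under `A` -/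
theorem key_evalAt {A B X T : C} [MonObj A] [MonObj B] (F : A ⟶ B) [IsMonHom F] (a : MonAct A X)
    (φ : (MonAct.eqvHom ((MonAct.regular B).restrict F) a).obj (op T)) :
    (F ▷ T) ≫ φ.1 = (A ◁ (MonAct.eqvHom.evalAt ((MonAct.regular B).restrict F) a η[B]).app (op T) φ) ≫ a.act := by
  refine hom_ext_lift₂ fun T' g t => ?_
  rw [lift_whiskerRight_assoc, lift_whiskerLeft_assoc]
  have e := MonAct.mem_eqvHom_iff (ρ := (MonAct.regular B).restrict F) (a := a) φ.1 |>.1 φ.2 T' g (toUnit T' ≫ η) t
  have e2 : lift g (toUnit T' ≫ η) ≫ ((MonAct.regular B).restrict F).act = g ≫ F := by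
    rw [MonAct.lift_restrict_act, MonAct.lift_regular_act, ← Hom.one_def, _root_.mul_one]
  rw [e2] at e
  refine e.trans ?_
  congr 2
  show _ = t ≫ lift (toUnit T ≫ η) (𝟙 T) ≫ φ.1
  rw [comp_lift_assoc, comp_toUnit_assoc, Category.comp_id]

/-- cartesianness of the evaluation square from existence of lifts -/
theorem isPullback_evalAt {A B X Y : C} [MonObj A] {ρ : MonAct A B} {aX : MonAct A X} {aY : MonAct A Y}
    (e : 𝟙_ C ⟶ B) (f : X ⟶ Y) [Mono f] (hf : MonAct.IsEquivariant aX aY f)
    (hlift : ∀ (T : C) (φ : (MonAct.eqvHom ρ aY).obj (op T)) (z : T ⟶ X),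
      (MonAct.eqvHom.evalAt ρ aY e).app (op T) φ = z ≫ f → ∃ χ : B ⊗ T ⟶ X, χ ≫ f = φ.1) :
    IsPullback (MonAct.eqvHom.postcomp ρ f hf) (MonAct.eqvHom.evalAt ρ aX e) (MonAct.eqvHom.evalAt ρ aY e)
      (yoneda.map f) := by
  have w : MonAct.eqvHom.postcomp ρ f hf ≫ MonAct.eqvHom.evalAt ρ aY e =
      MonAct.eqvHom.evalAt ρ aX e ≫ yoneda.map f := by
    ext T φ
    show lift (toUnit (unop T) ≫ e) (𝟙 (unop T)) ≫ (φ.1 ≫ f) = (lift (toUnit (unop T) ≫ e) (𝟙 (unop T)) ≫ φ.1) ≫ f
    rw [Category.assoc]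
  refine IsPullback.of_forall_isPullback_app fun T => ?_
  rw [CategoryTheory.Limits.Types.isPullback_iff]
  refine ⟨NatTrans.congr_app w T, fun φ φ' h => Subtype.ext ((cancel_mono f).1 (congrArg Subtype.val h.1)),
    fun φ z h => ?_⟩
  obtain ⟨χ, hχ⟩ := hlift (unop T) φ z h
  refine ⟨⟨χ, isEquivariant_of_comp_mono χ f hf (by rw [hχ]; exact φ.2)⟩, Subtype.ext hχ, (cancel_mono f).1 ?_⟩
  refine Eq.trans ?_ h
  show (lift (toUnit (unop T) ≫ e) (𝟙 (unop T)) ≫ χ) ≫ f = lift (toUnit (unop T) ≫ e) (𝟙 (unop T)) ≫ φ.1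
  rw [Category.assoc, hχ]

end General

variable {S : Scheme.{u}}

theorem mono_of_closedImmersion {Z Y : Over S} (f : Z ⟶ Y) [IsClosedImmersion f.left] : Mono f :=
  haveI : Mono f.left := inferInstance
  (Over.forget S).mono_of_mono_map ‹Mono f.left›

/-- lift through a closed immersion along a map with injective functions -/
theorem exists_lift_closed_affine {P P' Z Y : Over S} [IsAffine P.left] (f : Z ⟶ Y) [IsClosedImmersion f.left]
    (g : P' ⟶ P) (hg : Function.Injective g.left.appTop) (φ : P ⟶ Y) (ψ : P' ⟶ Z) (w : g ≫ φ = ψ ≫ f) :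
    ∃ χ : P ⟶ Z, χ ≫ f = φ := by
  have w' : g.left ≫ φ.left = ψ.left ≫ f.left := congrArg CommaMorphism.left w
  let k := pullback.lift g.left ψ.left w'
  have hinj : Function.Injective (pullback.fst φ.left f.left).appTop := by
    have hk : k ≫ pullback.fst φ.left f.left = g.left := pullback.lift_fst _ _ _
    rw [← hk, Scheme.Hom.comp_appTop] at hg
    exact fun a b hab => hg (congrArg k.appTop hab)
  haveI : IsIso (pullback.fst φ.left f.left) := IsClosedImmersion.isIso_of_injective_of_isAffine hinj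
  let χ := inv (pullback.fst φ.left f.left) ≫ pullback.snd φ.left f.left
  have hχ : χ ≫ f.left = φ.left := by
    rw [Category.assoc, ← pullback.condition, IsIso.inv_hom_id_assoc]
  exact ⟨Over.homMk χ (by rw [← Over.w f, reassoc_of% hχ, Over.w φ]), Over.OverMorphism.ext hχ⟩

/-- lifts through a monomorphism glue -/
theorem exists_lift_cover {P Z Y : Over S} (f : Z ⟶ Y) [Mono f.left] (φ : P ⟶ Y) (𝒰 : Scheme.OpenCover.{u} P.left)
    (h : ∀ j, ∃ χ : 𝒰.X j ⟶ Z.left, χ ≫ f.left = 𝒰.f j ≫ φ.left) : ∃ χ : P ⟶ Z, χ ≫ f = φ := by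
  choose χ hχ using h
  have hc : ∀ x y, pullback.fst (𝒰.f x) (𝒰.f y) ≫ χ x = pullback.snd (𝒰.f x) (𝒰.f y) ≫ χ y := fun x y => by
    rw [← cancel_mono f.left, Category.assoc, Category.assoc, hχ, hχ, pullback.condition_assoc]
  let g := Scheme.Cover.glueMorphisms 𝒰 χ hc
  have hg : g ≫ f.left = φ.left := by
    refine Scheme.Cover.hom_ext 𝒰 _ _ fun j => ?_
    rw [← Category.assoc, Scheme.Cover.ι_glueMorphisms, hχ]
  exact ⟨Over.homMk g (by rw [← Over.w f, reassoc_of% hg, Over.w φ]), Over.OverMorphism.ext hg⟩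

theorem whiskerRight_appTop_injective {A : Type u} [CommRing A] (str : Spec (CommRingCat.of A) ⟶ S)
    {N M : Type} [AddCommMonoid N] [AddCommMonoid M] (f : N →+ M) (hf : Function.Injective f) :
    Function.Injective (AMonS.map S f ▷ Over.mk str).left.appTop := by
  have e : (AMonS.map S f ▷ Over.mk str).left =
      (specMA str M).inv ≫ Spec.map (maMap A f) ≫ (specMA str N).hom := by
    rw [← specMA_whiskerRight, Iso.inv_hom_id_assoc]
  rw [e, Scheme.Hom.comp_appTop, Scheme.Hom.comp_appTop]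
  haveI : IsIso (specMA str M).inv.appTop := inferInstanceAs (IsIso (Scheme.Γ.map (specMA str M).inv.op))
  haveI : IsIso (specMA str N).hom.appTop := inferInstanceAs (IsIso (Scheme.Γ.map (specMA str N).hom.op))
  exact ((ConcreteCategory.isIso_iff_bijective (specMA str M).inv.appTop).1 inferInstance).1.comp
    ((specMap_appTop_injective _ (maMap_injective f hf)).comp
      ((ConcreteCategory.isIso_iff_bijective (specMA str N).hom.appTop).1 inferInstance).1)

theorem whiskerRight_lift {Z Y : Over S} (f : Z ⟶ Y) [IsClosedImmersion f.left] {N M : Type} [AddCommMonoid N]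
    [AddCommMonoid M] (g : N →+ M) (hg : Function.Injective g) {T : Over S} (φ : AMonS S N ⊗ T ⟶ Y)
    (ψ : AMonS S M ⊗ T ⟶ Z) (w : (AMonS.map S g ▷ T) ≫ φ = ψ ≫ f) : ∃ χ, χ ≫ f = φ := by
  haveI : Mono f.left := inferInstance
  refine exists_lift_cover f φ (T.left.affineCover.pullback₁ (snd (AMonS S N) T).left) fun j => ?_
  let str' : Spec _ ⟶ S := T.left.affineCover.f j ≫ T.hom
  let t : Over.mk str' ⟶ T := Over.homMk (T.left.affineCover.f j)
  haveI : IsAffine (AMonS S N ⊗ Over.mk str').left := IsAffine.of_isIso (specMA str' N).inv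
  have w' : (AMonS.map S g ▷ Over.mk str') ≫ (AMonS S N ◁ t) ≫ φ = ((AMonS S M ◁ t) ≫ ψ) ≫ f :=
    ((whisker_exchange_assoc (AMonS.map S g) t φ).symm.trans (congrArg ((AMonS S M ◁ t) ≫ ·) w)).trans
      (Category.assoc _ _ _).symm
  obtain ⟨χ, hχ⟩ := exists_lift_closed_affine f (AMonS.map S g ▷ Over.mk str')
    (whiskerRight_appTop_injective str' g hg) ((AMonS S N ◁ t) ≫ φ) ((AMonS S M ◁ t) ≫ ψ) w'
  have hP : IsPullback (AMonS S N ◁ t).left (snd (AMonS S N) (Over.mk str')).left (snd (AMonS S N) T).left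
      (T.left.affineCover.f j) := isPullback_whiskerLeft (AMonS S N) t
  refine ⟨hP.isoPullback.inv ≫ χ.left, ?_⟩
  change (hP.isoPullback.inv ≫ χ.left) ≫ f.left = pullback.fst (snd (AMonS S N) T).left (T.left.affineCover.f j) ≫ φ.left
  exact ((Category.assoc _ _ _).trans (congrArg (hP.isoPullback.inv ≫ ·) (congrArg CommaMorphism.left hχ))).trans
    ((Category.assoc _ _ _).symm.trans (congrArg (· ≫ φ.left) hP.isoPullback_inv_fst))

theorem isPullback_attr_closed {M : Type} [AddCommMonoid M] (N : AddSubmonoid M) {Y Z : Over S}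
    (aY : MonAct (AMonS S M) Y) (aZ : MonAct (AMonS S M) Z) (f : Z ⟶ Y) [IsClosedImmersion f.left]
    (hf : MonAct.IsEquivariant aZ aY f) :
    IsPullback (MonAct.eqvHom.postcomp (subAct S M N) f hf) (attrToX aZ N) (attrToX aY N) (yoneda.map f) := by
  haveI := mono_of_closedImmersion f
  refine isPullback_evalAt η[AMonS S N] f hf fun T φ z hz => ?_
  refine whiskerRight_lift f N.subtype Subtype.val_injective φ.1 ((AMonS S M ◁ z) ≫ aZ.act) ?_
  refine (key_evalAt (AMonS.map S N.subtype) aY φ).trans ?_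
  have hz' : (MonAct.eqvHom.evalAt ((MonAct.regular (AMonS S N)).restrict (AMonS.map S N.subtype)) aY
      η[AMonS S N]).app (op T) φ = z ≫ f := hz
  rw [hz', whiskerLeft_comp_assoc, Category.assoc]
  unfold MonAct.IsEquivariant at hf
  rw [hf]

theorem isEquivariant_of_restrict {M Z : Type} [AddCommMonoid M] [AddCommMonoid Z] (f : M →+ Z)
    (hf : Function.Injective f) {B X T : Over S} [IsSeparated X.hom] (ρ : MonAct (AMonS S M) B)
    (a : MonAct (AMonS S M) X) {φ : B ⊗ T ⟶ X}
    (h : MonAct.IsEquivariant ((ρ.restrict (AMonS.map S f)).prod (MonAct.trivial (AMonS S Z) T))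
      (a.restrict (AMonS.map S f)) φ) :
    MonAct.IsEquivariant (ρ.prod (MonAct.trivial (AMonS S M) T)) a φ := by
  unfold MonAct.IsEquivariant at h ⊢
  refine whiskerRight_cancel f hf ?_
  have e : ((ρ.restrict (AMonS.map S f)).prod (MonAct.trivial (AMonS S Z) T)).act =
      (AMonS.map S f ▷ (B ⊗ T)) ≫ (ρ.prod (MonAct.trivial (AMonS S M) T)).act := by
    refine hom_ext_lift₂ fun T' g z => ?_
    rw [← lift_comp_fst_snd z, MonAct.lift_prod_act, lift_whiskerRight_assoc, MonAct.lift_prod_act,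
      MonAct.lift_restrict_act, MonAct.lift_trivial_act, MonAct.lift_trivial_act]
  rw [e, MonAct.restrict_act, Category.assoc] at h
  rw [h, whisker_exchange_assoc]

theorem attrComap_bijective {M Z : Type} [AddCommMonoid M] [AddCommMonoid Z] (f : M →+ Z)
    (hf : Function.Injective f) (Y : AddSubmonoid Z) (hY : Y ≤ AddMonoidHom.mrange f) {X : Over S}
    [IsSeparated X.hom] (a : MonAct (AMonS S M) X) (T : (Over S)ᵒᵖ) :
    Function.Bijective ((attrComap a f Y).app T) := by
  let g : Y.comap f →+ Y := (f.comp (Y.comap f).subtype).codRestrict Y (fun x => x.2)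
  have hg : Function.Bijective g := by
    refine ⟨fun x y h => Subtype.ext (hf (congrArg (fun (z : Y) => (z : Z)) h)), fun y => ?_⟩
    obtain ⟨m, hm⟩ := hY y.2
    exact ⟨⟨m, by show f m ∈ Y; rw [hm]; exact y.2⟩, Subtype.ext hm⟩
  let ge := AddEquiv.ofBijective g hg
  have hid : ∀ (L : Type) [AddCommMonoid L], AMonS.map S (AddMonoidHom.id L) = 𝟙 _ := fun L _ => by
    have h1 : AMon.map (ULift.{u} ℤ) (AddMonoidHom.id L) = 𝟙 _ := by
      refine Over.OverMorphism.ext ?_
      rw [AMon.map_left]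
      refine (congrArg Spec.map ?_).trans (Spec.map_id _)
      exact CommRingCat.hom_ext (MonoidAlgebra.ringHom_ext (fun r => by simp) fun m => by simp)
    rw [AMonS.map, h1, CategoryTheory.Functor.map_id]
  let e : AMonS S Y ≅ AMonS S (Y.comap f) :=
    { hom := AMonS.map S g
      inv := AMonS.map S ge.symm.toAddMonoidHom
      hom_inv_id := by
        rw [← AMonS.map_comp, show g.comp ge.symm.toAddMonoidHom = AddMonoidHom.id _ from
          AddMonoidHom.ext fun y => ge.apply_symm_apply y, hid]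
      inv_hom_id := by
        rw [← AMonS.map_comp, show ge.symm.toAddMonoidHom.comp g = AddMonoidHom.id _ from
          AddMonoidHom.ext fun y => ge.symm_apply_apply y, hid] }
  constructor
  · intro φ φ' h
    refine Subtype.ext ?_
    have h' := congrArg Subtype.val h
    rw [attrComap_app_coe, attrComap_app_coe] at h'
    exact (cancel_epi (whiskerRightIso e (unop T)).hom).1 h'
  · intro ψ
    have heq : MonAct.IsEquivariant (subAct S Z Y)
        ((subAct S M (Y.comap f)).restrict (AMonS.map S f)) e.hom := by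
      show MonAct.IsEquivariant _ (((MonAct.regular (AMonS S (Y.comap f))).restrict _).restrict _) (AMonS.map S g)
      rw [MonAct.restrict_restrict]
      exact MonAct.isEquivariant_restrict_regular _ _ _ (by rw [← AMonS.map_comp, ← AMonS.map_comp]; rfl)
    let φ := (MonAct.eqvHom.precomp (a.restrict (AMonS.map S f)) e.inv (isEquivariant_inv e heq)).app T ψ
    refine ⟨⟨φ.1, isEquivariant_of_restrict f hf _ a φ.2⟩, Subtype.ext ?_⟩
    show (e.hom ▷ unop T) ≫ (e.inv ▷ unop T) ≫ ψ.1 = ψ.1
    rw [hom_inv_whiskerRight_assoc]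

end Groth.MiscGeom.Mag

end
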