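import Groth.Agent.MiscGeom.MagnetUnram
import Groth.Agent.MiscGeom.MagnetClosed
import Groth.Agent.AlgGrp1.ClosedFunctor

/-!
# The attractor of an `S`-affine scheme is a closed subscheme
-/

universe u

open CategoryTheory CategoryTheory.Limits MonoidalCategory CartesianMonoidalCategory MonObj AlgebraicGeometry Opposite
open Magnet

noncomputable section

namespace Groth.MiscGeom.Mag

variable {S : Scheme.{u}}

/-- `A[M] → C[M]` -/
abbrev maBase {A C : CommRingCat.{u}} (φ : A ⟶ C) (M : Type) [AddCommMonoid M] : MA A M ⟶ MA C M :=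
  CommRingCat.ofHom (MonoidAlgebra.mapRingHom (Multiplicative M) φ.hom)

theorem maConst_maBase {A C : CommRingCat.{u}} (φ : A ⟶ C) (M : Type) [AddCommMonoid M] :
    maConst A M ≫ maBase φ M = φ ≫ maConst C M :=
  CommRingCat.hom_ext (RingHom.ext fun a => by simp [maConst, maBase])

/-- factoring a ring map through `C[N] → C[M]` -/
theorem exists_comp_maMap_iff {B : CommRingCat.{u}} (C : CommRingCat.{u}) {N M : Type} [AddCommMonoid N] [AddCommMonoid M]
    (f : N →+ M) (hf : Function.Injective f) (τ : B ⟶ MA C M) :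
    (∃ ψ : B ⟶ MA C N, ψ ≫ maMap C f = τ) ↔
      ∀ (b : B) (m : Multiplicative M), m ∉ Set.range (AddMonoidHom.toMultiplicative f) → (τ.hom b).coeff m = 0 := by
  have key : ∀ z : MonoidAlgebra C (Multiplicative M), (∃ y, (maMap C f).hom y = z) ↔
      ∀ m, m ∉ Set.range (AddMonoidHom.toMultiplicative f) → z.coeff m = 0 := fun z => by
    refine Iff.trans ⟨?_, ?_⟩
      (Finsupp.mem_range_mapDomain_iff (AddMonoidHom.toMultiplicative f) (fun _ _ h => hf h) z.coeff)
    · rintro ⟨y, rfl⟩; exact ⟨y.coeff, rfl⟩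
    · rintro ⟨y, hy⟩; exact ⟨.ofCoeff y, congrArg MonoidAlgebra.ofCoeff hy⟩
  constructor
  · rintro ⟨ψ, rfl⟩ b
    exact (key _).1 ⟨ψ.hom b, rfl⟩
  · intro h
    choose y hy using fun b => (key (τ.hom b)).2 (h b)
    have hinj := maMap_injective (A := C) f hf
    refine ⟨CommRingCat.ofHom
      { toFun := y
        map_one' := hinj (by rw [hy, map_one, map_one])
        map_mul' := fun a b => hinj (by rw [hy, map_mul, map_mul, hy, hy])
        map_zero' := hinj (by rw [hy, map_zero, map_zero])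
        map_add' := fun a b => hinj (by rw [hy, map_add, map_add, hy, hy]) }, ?_⟩
    exact CommRingCat.hom_ext (RingHom.ext hy)

/-- the affine computation: factoring through `C[N]` is cut out by an ideal -/
theorem exists_factor_ideal {N M : Type} [AddCommMonoid N] [AddCommMonoid M] (f : N →+ M) (hf : Function.Injective f)
    {A : CommRingCat.{u}} (str : Spec A ⟶ S) {X : Scheme.{u}} (p : X ⟶ S) [IsAffineHom p] (o : Spec (MA A M) ⟶ X)
    (ho : o ≫ p = Spec.map (maConst A M) ≫ str) :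
    ∃ J : Ideal A, ∀ (C : CommRingCat.{u}) (φ : A ⟶ C),
      (∃ χ : Spec (MA C N) ⟶ X, χ ≫ p = Spec.map (maConst C N) ≫ Spec.map φ ≫ str ∧
          Spec.map (maMap C f) ≫ χ = Spec.map (maBase φ M) ≫ o) ↔ J ≤ RingHom.ker φ.hom := by
  haveI : IsAffine (pullback p str) := isAffine_of_isAffineHom (pullback.snd p str)
  let e := (pullback p str).isoSpec
  let ω : Γ(pullback p str, ⊤) ⟶ MA A M := Spec.preimage (pullback.lift o (Spec.map (maConst A M)) ho ≫ e.hom)
  have hω : Spec.map ω ≫ e.inv = pullback.lift o (Spec.map (maConst A M)) ho := by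
    rw [Spec.map_preimage, Category.assoc, e.hom_inv_id, Category.comp_id]
  let γ : A ⟶ Γ(pullback p str, ⊤) := Spec.preimage (e.inv ≫ pullback.snd p str)
  have hγω : γ ≫ ω = maConst A M := by
    refine Spec.map_injective ?_
    rw [Spec.map_comp, Spec.map_preimage (e.inv ≫ pullback.snd p str), reassoc_of% hω]
    exact pullback.lift_snd _ _ _
  refine ⟨Ideal.span (Set.range fun q : Γ(pullback p str, ⊤) × {m // m ∉ Set.range (AddMonoidHom.toMultiplicative f)} =>
    (ω.hom q.1).coeff q.2.1), fun C φ => ?_⟩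
  have hker : Ideal.span (Set.range fun q : Γ(pullback p str, ⊤) × {m // m ∉ Set.range (AddMonoidHom.toMultiplicative f)} =>
      (ω.hom q.1).coeff q.2.1) ≤ RingHom.ker φ.hom ↔ ∃ ψ, ψ ≫ maMap C f = ω ≫ maBase φ M := by
    rw [exists_comp_maMap_iff C f hf, Ideal.span_le, Set.range_subset_iff, Prod.forall]
    refine forall_congr' fun b => Subtype.forall.trans (forall₂_congr fun m _ => ?_)
    rw [SetLike.mem_coe, RingHom.mem_ker]
    exact iff_of_eq (congrArg (· = 0) (MonoidAlgebra.coeff_mapRingHom φ.hom (ω.hom b) m).symm)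
  rw [hker]
  constructor
  · rintro ⟨χ, hχp, hχ⟩
    have hw : χ ≫ p = (Spec.map (maConst C N) ≫ Spec.map φ) ≫ str := hχp.trans (Category.assoc _ _ _).symm
    obtain ⟨l, l1, l2⟩ : ∃ l : Spec (MA C N) ⟶ pullback p str, l ≫ pullback.fst p str = χ ∧
        l ≫ pullback.snd p str = Spec.map (maConst C N) ≫ Spec.map φ :=
      ⟨pullback.lift χ _ hw, pullback.lift_fst _ _ _, pullback.lift_snd _ _ _⟩
    refine ⟨Spec.preimage (l ≫ e.hom), Spec.map_injective ?_⟩
    rw [← cancel_mono e.inv, Spec.map_comp, Spec.map_comp, Spec.map_preimage, Category.assoc, Category.assoc,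
      Category.assoc, e.hom_inv_id, Category.comp_id, hω]
    refine pullback.hom_ext ?_ ?_
    · rw [Category.assoc, l1, Category.assoc, pullback.lift_fst, hχ]
    · rw [Category.assoc, l2, Category.assoc, pullback.lift_snd, ← Spec.map_comp, ← Spec.map_comp,
        ← Spec.map_comp, Category.assoc, maConst_naturality, maConst_maBase]
  · rintro ⟨ψ, hψ⟩
    refine ⟨Spec.map ψ ≫ e.inv ≫ pullback.fst p str, ?_, ?_⟩
    · have h2 : γ ≫ ψ = φ ≫ maConst C N := by
        refine CommRingCat.hom_ext (RingHom.ext fun a => maMap_injective f hf ?_)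
        have h3 : (γ ≫ ψ) ≫ maMap C f = (φ ≫ maConst C N) ≫ maMap C f := by
          rw [Category.assoc, hψ, reassoc_of% hγω, maConst_maBase, Category.assoc, maConst_naturality]
        exact DFunLike.congr_fun (congrArg CommRingCat.Hom.hom h3) a
      rw [Category.assoc, Category.assoc, pullback.condition, ← reassoc_of% (Spec.map_preimage (e.inv ≫ pullback.snd p str)),
        ← Spec.map_comp_assoc, h2, Spec.map_comp_assoc]
    · rw [← Spec.map_comp_assoc, hψ, Spec.map_comp_assoc, reassoc_of% hω, pullback.lift_fst]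

/-- morphisms out of `B ⊗ T` glue along an open cover of `T` -/
theorem exists_glue {B X T : Over S} (𝒰 : Scheme.OpenCover.{u} T.left)
    (φ : ∀ j, B ⊗ Over.mk (𝒰.f j ≫ T.hom) ⟶ X)
    (h : ∀ (j k) (W : Over S) (p : W ⟶ B ⊗ Over.mk (𝒰.f j ≫ T.hom)) (q : W ⟶ B ⊗ Over.mk (𝒰.f k ≫ T.hom)),
      p ≫ (B ◁ (Over.homMk (𝒰.f j) : Over.mk (𝒰.f j ≫ T.hom) ⟶ T)) =
        q ≫ (B ◁ (Over.homMk (𝒰.f k) : Over.mk (𝒰.f k ≫ T.hom) ⟶ T)) → p ≫ φ j = q ≫ φ k) :
    ∃ χ : B ⊗ T ⟶ X, ∀ j, (B ◁ (Over.homMk (𝒰.f j) : Over.mk (𝒰.f j ≫ T.hom) ⟶ T)) ≫ χ = φ j := by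
  let t := fun j => (Over.homMk (𝒰.f j) : Over.mk (𝒰.f j ≫ T.hom) ⟶ T)
  have hP : ∀ j, IsPullback (B ◁ t j).left (snd B (Over.mk (𝒰.f j ≫ T.hom))).left (snd B T).left (𝒰.f j) := fun j =>
    isPullback_whiskerLeft B (t j)
  let c : Scheme.OpenCover.{u} (B ⊗ T).left := 𝒰.pullback₁ (snd B T).left
  let g : ∀ j, c.X j ⟶ X.left := fun j => (hP j).isoPullback.inv ≫ (φ j).left
  have hfst : ∀ j, (hP j).isoPullback.inv ≫ (B ◁ t j).left = pullback.fst (snd B T).left (𝒰.f j) := fun j =>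
    (hP j).isoPullback_inv_fst
  have hc : ∀ j, (hP j).isoPullback.inv ≫ (B ◁ t j).left = c.f j := hfst
  have hg : ∀ x y : 𝒰.I₀, pullback.fst (c.f x) (c.f y) ≫ g x = pullback.snd (c.f x) (c.f y) ≫ g y := fun x y => by
    let W : Over S := Over.mk (pullback.fst (c.f x) (c.f y) ≫ c.f x ≫ (B ⊗ T).hom)
    let p : W ⟶ B ⊗ Over.mk (𝒰.f x ≫ T.hom) := Over.homMk (pullback.fst (c.f x) (c.f y) ≫ (hP x).isoPullback.inv)
      (((Category.assoc _ _ _).trans (congrArg (pullback.fst (c.f x) (c.f y) ≫ ·)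
        ((congrArg ((hP x).isoPullback.inv ≫ ·) (Over.w (B ◁ t x)).symm).trans
          ((Category.assoc _ _ _).symm.trans (congrArg (· ≫ (B ⊗ T).hom) (hc x)))))))
    let q : W ⟶ B ⊗ Over.mk (𝒰.f y ≫ T.hom) := Over.homMk (pullback.snd (c.f x) (c.f y) ≫ (hP y).isoPullback.inv)
      (((Category.assoc _ _ _).trans (congrArg (pullback.snd (c.f x) (c.f y) ≫ ·)
        ((congrArg ((hP y).isoPullback.inv ≫ ·) (Over.w (B ◁ t y)).symm).trans
          ((Category.assoc _ _ _).symm.trans (congrArg (· ≫ (B ⊗ T).hom) (hc y)))))).trans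
        (pullback.condition_assoc _).symm)
    have e : p ≫ (B ◁ t x) = q ≫ (B ◁ t y) := by
      refine Over.OverMorphism.ext ?_
      show (pullback.fst (c.f x) (c.f y) ≫ (hP x).isoPullback.inv) ≫ (B ◁ t x).left =
        (pullback.snd (c.f x) (c.f y) ≫ (hP y).isoPullback.inv) ≫ (B ◁ t y).left
      exact ((Category.assoc _ _ _).trans (congrArg (pullback.fst (c.f x) (c.f y) ≫ ·) (hc x))).trans
        (pullback.condition.trans ((Category.assoc _ _ _).trans (congrArg (pullback.snd (c.f x) (c.f y) ≫ ·) (hc y))).symm)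
    have := congrArg CommaMorphism.left (h x y W p q e)
    exact ((Category.assoc _ _ _).symm.trans this).trans (Category.assoc _ _ _)
  let χ0 : (B ⊗ T).left ⟶ X.left := Scheme.Cover.glueMorphisms c g hg
  have hχ0 : ∀ j, (B ◁ t j).left ≫ χ0 = (φ j).left := fun j => by
    rw [← (hP j).isoPullback_hom_fst, Category.assoc]
    exact (congrArg ((hP j).isoPullback.hom ≫ ·) (Scheme.Cover.ι_glueMorphisms c g hg j)).trans
      (Iso.hom_inv_id_assoc _ _)
  have hw : χ0 ≫ X.hom = (B ⊗ T).hom := by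
    refine Scheme.Cover.hom_ext c _ _ fun j => ?_
    rw [← Category.assoc, Scheme.Cover.ι_glueMorphisms, Category.assoc, Over.w (φ j), ← Over.w (B ◁ t j)]
    exact (Category.assoc _ _ _).symm.trans (congrArg (· ≫ (B ⊗ T).hom) (hc j))
  exact ⟨Over.homMk χ0 hw, fun j => Over.OverMorphism.ext (hχ0 j)⟩

variable {M : Type} [AddCommMonoid M] (N : AddSubmonoid M) {X : Over S} (a : MonAct (AMonS S M) X)

/-- the orbit map of `x` extends to `A(N)_S` -/
def Good {T : Over S} (x : T ⟶ X) : Prop :=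
  ∃ χ : AMonS S N ⊗ T ⟶ X, (AMonS.map S N.subtype ▷ T) ≫ χ = (AMonS S M ◁ x) ≫ a.act

theorem Good.comp {T T' : Over S} {x : T ⟶ X} (h : Good N a x) (t : T' ⟶ T) : Good N a (t ≫ x) := by
  obtain ⟨χ, hχ⟩ := h
  exact ⟨(AMonS S N ◁ t) ≫ χ, by rw [← whisker_exchange_assoc, hχ, whiskerLeft_comp_assoc]⟩

theorem attrToX_injective [IsSeparated X.hom] {T : (Over S)ᵒᵖ} : Function.Injective ((attrToX a N).app T) := by
  intro φ φ' h
  refine Subtype.ext (whiskerRight_cancel N.subtype Subtype.val_injective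
    ((key_evalAt (AMonS.map S N.subtype) a φ).trans (Eq.trans ?_ (key_evalAt (AMonS.map S N.subtype) a φ').symm)))
  exact congrArg (fun z => (AMonS S M ◁ z) ≫ a.act) h

theorem good_iff [IsSeparated X.hom] {T : Over S} (x : T ⟶ X) :
    Good N a x ↔ ∃ φ, (attrToX a N).app (op T) φ = x := by
  refine ⟨fun ⟨χ, hχ⟩ => ?_, fun ⟨φ, hφ⟩ => ⟨φ.1, (key_evalAt (AMonS.map S N.subtype) a φ).trans
    (congrArg (fun z => (AMonS S M ◁ z) ≫ a.act) hφ)⟩⟩
  let jN := AMonS.map S N.subtype
  have hχ' : ∀ {W : Over S} (m : W ⟶ AMonS S M) (t : W ⟶ T), lift (m ≫ jN) t ≫ χ = lift m (t ≫ x) ≫ a.act :=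
    fun {W} m t => by
      rw [← lift_whiskerRight_assoc, hχ, lift_whiskerLeft_assoc]
  have heq : MonAct.IsEquivariant ((subAct S M N).prod (MonAct.trivial (AMonS S M) T)) a χ := by
    unfold MonAct.IsEquivariant
    let e : AMonS S M ⊗ (AMonS S N ⊗ T) ≅ AMonS S N ⊗ (AMonS S M ⊗ T) :=
      { hom := lift (snd _ _ ≫ fst _ _) (lift (fst _ _) (snd _ _ ≫ snd _ _))
        inv := lift (snd _ _ ≫ fst _ _) (lift (fst _ _) (snd _ _ ≫ snd _ _))
        hom_inv_id := hom_ext_lift₂ fun W p q => by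
          rw [← lift_comp_fst_snd q]; simp
        inv_hom_id := hom_ext_lift₂ fun W p q => by
          rw [← lift_comp_fst_snd q]; simp }
    have he : ∀ {W : Over S} (n : W ⟶ AMonS S N) (m' : W ⟶ AMonS S M) (t : W ⟶ T),
        lift n (lift m' t) ≫ e.inv = lift m' (lift n t) := fun {W} n m' t => by simp [e]
    clear_value e
    rw [← cancel_epi e.inv]
    refine whiskerRight_cancel N.subtype Subtype.val_injective (hom_ext_lift₂ fun W m q => ?_)
    rw [← lift_comp_fst_snd q, lift_whiskerRight_assoc, lift_whiskerRight_assoc]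
    rw [reassoc_of% he, reassoc_of% he, MonAct.lift_prod_act_assoc, MonAct.lift_trivial_act, lift_whiskerLeft_assoc]
    generalize q ≫ fst (AMonS S M) T = m'
    generalize q ≫ snd (AMonS S M) T = t
    have e2 : lift m' (m ≫ jN) ≫ (subAct S M N).act = (m' * m) ≫ jN := by
      rw [subAct, MonAct.lift_restrict_act, MonAct.lift_regular_act, MonObj.mul_comp]
    rw [e2, hχ', hχ', MonAct.lift_mul_act]
  refine ⟨⟨χ, heq⟩, ?_⟩
  show lift (toUnit T ≫ η[AMonS S N]) (𝟙 T) ≫ χ = x
  rw [← Hom.one_def, ← MonObj.one_comp jN, hχ', a.lift_one_act, Category.id_comp]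

theorem good_local [IsSeparated X.hom] {T : Over S} (x : T ⟶ X) (𝒰 : Scheme.OpenCover.{u} T.left)
    (h : ∀ j, Good N a ((Over.homMk (𝒰.f j) : Over.mk (𝒰.f j ≫ T.hom) ⟶ T) ≫ x)) : Good N a x := by
  choose φ hφ using h
  obtain ⟨χ, hχ⟩ := exists_glue 𝒰 φ fun j k W p q hpq => by
    have hn : p ≫ fst _ _ = q ≫ fst _ _ := by
      have := congrArg (· ≫ fst (AMonS S N) T) hpq
      simpa using this
    have ht : (p ≫ snd _ _) ≫ (Over.homMk (𝒰.f j) : Over.mk (𝒰.f j ≫ T.hom) ⟶ T) =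
        (q ≫ snd _ _) ≫ (Over.homMk (𝒰.f k) : Over.mk (𝒰.f k ≫ T.hom) ⟶ T) := by
      have := congrArg (· ≫ snd (AMonS S N) T) hpq
      simpa using this
    have e : (AMonS S N ◁ (p ≫ snd _ _)) ≫ φ j = (AMonS S N ◁ (q ≫ snd _ _)) ≫ φ k := by
      refine whiskerRight_cancel N.subtype Subtype.val_injective ?_
      have ht' := congrArg (fun z => (AMonS S M ◁ (z ≫ x)) ≫ a.act) ht
      simp only [Category.assoc] at ht'
      rw [← whisker_exchange_assoc, hφ, ← whisker_exchange_assoc, hφ, ← whiskerLeft_comp_assoc,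
        ← whiskerLeft_comp_assoc, Category.assoc, Category.assoc]
      exact ht' 
    have e2 : ∀ {Q : Over S} (r : W ⟶ AMonS S N ⊗ Q) , r = lift (r ≫ fst _ _) (𝟙 W) ≫ (AMonS S N ◁ (r ≫ snd _ _)) :=
      fun {Q} r => by rw [lift_whiskerLeft, Category.id_comp, lift_comp_fst_snd]
    rw [e2 p, e2 q, Category.assoc, Category.assoc, e, hn]
  refine ⟨χ, whiskerLeft_cover_ext 𝒰 fun j => ?_⟩
  rw [whisker_exchange_assoc, hχ, hφ, whiskerLeft_comp_assoc]

theorem good_affine_iff {A : Type u} [CommRing A] (str : Spec (CommRingCat.of A) ⟶ S) (x : Over.mk str ⟶ X) :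
    Good N a x ↔ ∃ χ : Spec (MA A N) ⟶ X.left, χ ≫ X.hom = Spec.map (maConst A N) ≫ str ∧
      Spec.map (maMap A N.subtype) ≫ χ = (specMA str M).hom ≫ ((AMonS S M ◁ x) ≫ a.act).left := by
  have hs : (specMA str N).hom ≫ (AMonS S N ⊗ Over.mk str).hom = Spec.map (maConst A N) ≫ str := by
    rw [← Over.w (snd (AMonS S N) (Over.mk str)), ← Category.assoc, specMA_snd]
    rfl
  constructor
  · rintro ⟨χ, hχ⟩
    refine ⟨(specMA str N).hom ≫ χ.left, by rw [Category.assoc, Over.w χ, hs], ?_⟩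
    rw [← hχ, ← reassoc_of% (specMA_whiskerRight str N.subtype)]
    rfl
  · rintro ⟨χ, h1, h2⟩
    refine ⟨Over.homMk ((specMA str N).inv ≫ χ) (by rw [Category.assoc, h1, ← hs, Iso.inv_hom_id_assoc]), ?_⟩
    refine Over.OverMorphism.ext ((cancel_epi (specMA str M).hom).1 ?_)
    show (specMA str M).hom ≫ (AMonS.map S N.subtype ▷ Over.mk str).left ≫ (specMA str N).inv ≫ χ = _
    rw [reassoc_of% (specMA_whiskerRight str N.subtype), Iso.hom_inv_id_assoc, h2]

theorem exists_representableBy_attr [IsAffineHom X.hom] :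
    ∃ (Z : Over S) (i : Z ⟶ X) (e : (attr a N).RepresentableBy Z), IsClosedImmersion i.left ∧
      ∀ (T : Over S) (z : T ⟶ Z), (attrToX a N).app (op T) (e.homEquiv z) = z ≫ i := by
  let P : ∀ {T : Scheme.{u}}, (T ⟶ X.left) → Prop := fun f =>
    Good N a (Over.homMk f : Over.mk (f ≫ X.hom) ⟶ X)
  have hP : ∀ {T : Over S} (x : T ⟶ X), Good N a x ↔ P x.left := fun {T} x => by
    have e : x.left ≫ X.hom = T.hom := Over.w x
    constructor <;> intro h
    · let u : Over.mk (x.left ≫ X.hom) ⟶ T := Over.homMk (𝟙 T.left) ((Category.id_comp _).trans e.symm)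
      have hu : u ≫ x = (Over.homMk x.left : Over.mk (x.left ≫ X.hom) ⟶ X) := Over.OverMorphism.ext (Category.id_comp x.left)
      exact (congrArg (Good N a) hu).mp (h.comp N a u)
    · let u : T ⟶ Over.mk (x.left ≫ X.hom) := Over.homMk (𝟙 T.left) ((Category.id_comp _).trans e)
      have hu : u ≫ (Over.homMk x.left : Over.mk (x.left ≫ X.hom) ⟶ X) = x := Over.OverMorphism.ext (Category.id_comp x.left)
      exact (congrArg (Good N a) hu).mp (Good.comp N a h u)
  obtain ⟨Z, i, hi, hZ⟩ := Groth.AlgGrp1.exists_closed_of_affine_ideals (X := X.left) P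
    (fun {T' T} g f h => (hP ((Over.homMk g : Over.mk (g ≫ f ≫ X.hom) ⟶ Over.mk (f ≫ X.hom)) ≫ Over.homMk f)).1
      (h.comp N a _))
    (fun {T} f 𝒰 h => good_local N a _ 𝒰 fun j => (hP _).2 (h j))
    (fun U => by
      let str : Spec Γ(X.left, U) ⟶ S := U.2.fromSpec ≫ X.hom
      let x : Over.mk str ⟶ X := Over.homMk U.2.fromSpec
      let o := (specMA str M).hom ≫ ((AMonS S M ◁ x) ≫ a.act).left
      have ho : o ≫ X.hom = Spec.map (maConst Γ(X.left, U) M) ≫ str := by
        rw [Category.assoc, Over.w, ← Over.w (snd (AMonS S M) (Over.mk str)), ← Category.assoc, specMA_snd]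
        rfl
      obtain ⟨J, hJ⟩ := exists_factor_ideal N.subtype Subtype.val_injective str X.hom o ho
      refine ⟨J, fun C φ => ?_⟩
      let t : Over.mk (Spec.map φ ≫ str) ⟶ Over.mk str := Over.homMk (Spec.map φ) rfl
      have hlhs : P (Spec.map φ ≫ U.2.fromSpec) ↔ Good N a (t ≫ x) := ((hP (t ≫ x))).symm
      rw [hlhs, good_affine_iff N a (A := C) (Spec.map φ ≫ str) (t ≫ x), ← hJ C φ]
      have e : (specMA (A := C) (Spec.map φ ≫ str) M).hom ≫ ((AMonS S M ◁ (t ≫ x)) ≫ a.act).left =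
          Spec.map (maBase φ M) ≫ o := by
        rw [whiskerLeft_comp, Category.assoc, Over.comp_left]
        exact (Category.assoc _ _ _).symm.trans ((congrArg (· ≫ ((AMonS S M ◁ x) ≫ a.act).left)
          (specMA_whiskerLeft (A' := C) str M φ.hom)).trans (Category.assoc _ _ _))
      rw [e])
  let Z' : Over S := Over.mk (i ≫ X.hom)
  let i' : Z' ⟶ X := Over.homMk i
  haveI : IsClosedImmersion i'.left := hi
  haveI := mono_of_closedImmersion i'
  have key : ∀ (T : Over S) (z : T ⟶ Z'), ∃ φ, (attrToX a N).app (op T) φ = z ≫ i' := fun T z =>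
    (good_iff N a _).1 ((hP (z ≫ i')).2 ((hZ _).2 ⟨z.left, rfl⟩))
  choose F hF using key
  have hbij : ∀ T, Function.Bijective (F T) := fun T => by
    refine ⟨fun z z' h => (cancel_mono i').1 (by rw [← hF, ← hF, h]), fun φ => ?_⟩
    obtain ⟨z, hz⟩ := (hZ _).1 ((hP _).1 ((good_iff N a _).2 ⟨φ, rfl⟩))
    let x : T ⟶ X := (attrToX a N).app (op T) φ
    let z' : T ⟶ Z' := Over.homMk z (by rw [← Over.w x, ← hz]; exact (Category.assoc _ _ _).symm)
    exact ⟨z', attrToX_injective N a (by rw [hF]; exact Over.OverMorphism.ext hz)⟩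
  refine ⟨Z', i', { homEquiv := fun {T} => Equiv.ofBijective (F T) (hbij T), homEquiv_comp := fun {T T'} t z => ?_ },
    hi, hF⟩
  refine attrToX_injective N a ((hF T (t ≫ z)).trans ?_)
  rw [Category.assoc, ← hF T' z]
  exact (ConcreteCategory.congr_hom ((attrToX a N).naturality t.op) (F T' z)).symm

end Groth.MiscGeom.Mag

end
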