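import Groth.Agent.MiscGeom.AdeqBasic
import Mathlib.RingTheory.MvPolynomial.Basic
import Mathlib.RingTheory.TensorProduct.Free
import Mathlib.RingTheory.Ideal.Quotient.Operations
import Mathlib.LinearAlgebra.FreeModule.Finite.Basic
import Mathlib.Algebra.TrivSqZeroExt.Basic

/-!
# The universal element of a linearly adequate functor; maps to `underline` extend
-/

universe u

open CategoryTheory CategoryTheory.Limits Opposite TensorProduct

noncomputable section

namespace Groth.MiscGeom.Adq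

open Adeq

variable {A : Type u} [CommRing A]

/-- A presentation by finite free modules with chosen bases. -/
structure LinPres (L : MVF A) extends Pres L where
  n : ℕ
  b : Module.Basis (Fin n) A M
  κ : Type (u + 1)
  c : Module.Basis κ A N

theorem exists_linPres {P : MVF A} {M N : ModuleCat.{u + 1} A} (p : Pres P) (hM : p.M = M) (hN : p.N = N)
    [Module.Finite A M] [Module.Free A M] [Module.Free A N] :
    ∃ q : LinPres P, q.toPres = p := by
  subst hM hN
  let b := Module.Free.chooseBasis A p.M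
  exact ⟨{ p with
    n := Fintype.card (Module.Free.ChooseBasisIndex A p.M)
    b := b.reindex (Fintype.equivFin _)
    κ := Module.Free.ChooseBasisIndex A p.N
    c := Module.Free.chooseBasis A p.N }, rfl⟩

theorem nonempty_linPres {L : MVF A} (h : linAdequate A L) : Nonempty (LinPres L) := by
  obtain ⟨M, N, φ, _, _, _, _, ⟨e⟩⟩ := h
  obtain ⟨p, hM, hN⟩ := pres_of_iso e
  obtain ⟨q, -⟩ := exists_linPres p hM hN
  exact ⟨q⟩

namespace LinPres

variable {L : MVF A} (P : LinPres L)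

/-- coefficient of the `i`-th basis vector's image at `j` -/
def coef (j : P.κ) (i : Fin P.n) : A := P.c.repr (P.φ.hom (P.b i)) j

/-- the equations of `L` -/
def rel : Ideal (MvPolynomial (Fin P.n) A) :=
  Ideal.span (Set.range fun j => ∑ i, MvPolynomial.C (P.coef j i) * MvPolynomial.X i)

/-- the coordinate ring of `L` -/
abbrev B₀ : Alg A := algOf A (MvPolynomial (Fin P.n) A ⧸ P.rel)

/-- the coordinates -/
def x (i : Fin P.n) : P.B₀ := Ideal.Quotient.mk P.rel (MvPolynomial.X i)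

theorem x_rel (j : P.κ) : ∑ i, P.coef j i • P.x i = 0 := by
  have h : Ideal.Quotient.mk P.rel (∑ i, MvPolynomial.C (P.coef j i) * MvPolynomial.X i) = 0 :=
    Ideal.Quotient.eq_zero_iff_mem.2 (Ideal.subset_span ⟨j, rfl⟩)
  rw [map_sum] at h
  refine Eq.trans (Finset.sum_congr rfl fun i _ => ?_) h
  rw [map_mul]
  exact Algebra.smul_def (P.coef j i) (P.x i)

/-- coordinates of an element -/
def coord (B : Alg A) (l : L.obj (pt B)) (i : Fin P.n) : B :=
  (P.b.baseChange (B : Type u)).repr (T P.M B (ap P.ι B l)) i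

theorem ι_eq_sum (B : Alg A) (l : L.obj (pt B)) :
    T P.M B (ap P.ι B l) = ∑ i, P.coord B l i ⊗ₜ[A] P.b i := by
  refine Eq.trans ((P.b.baseChange (B : Type u)).sum_repr _).symm ?_
  refine Finset.sum_congr rfl fun i _ => ?_
  rw [Module.Basis.baseChange_apply, TensorProduct.smul_tmul']
  simp [coord]

theorem coord_rel (B : Alg A) (l : L.obj (pt B)) (j : P.κ) : ∑ i, P.coef j i • P.coord B l i = 0 := by
  have h : P.φ.hom.baseChange (B : Type u) (T P.M B (ap P.ι B l)) = 0 :=
    (P.exact B).apply_apply_eq_zero l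
  rw [P.ι_eq_sum B l, map_sum] at h
  have h' := congrArg (fun z => (P.c.baseChange (B : Type u)).repr z j) h
  simp only [LinearMap.baseChange_tmul, map_sum, Module.Basis.baseChange_repr_tmul, Finsupp.coe_finsetSum,
    Finset.sum_apply, map_zero, Finsupp.coe_zero, Pi.zero_apply] at h'
  exact h'

theorem exists_X₀ : ∃ l : L.obj (pt P.B₀), T P.M P.B₀ (ap P.ι P.B₀ l) = ∑ i, P.x i ⊗ₜ[A] P.b i := by
  have h : P.φ.hom.baseChange (P.B₀ : Type u) (∑ i, P.x i ⊗ₜ[A] P.b i) = 0 := by
    refine (P.c.baseChange (P.B₀ : Type u)).repr.injective (Finsupp.ext fun j => ?_)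
    simp only [map_sum, LinearMap.baseChange_tmul, map_zero, Finsupp.coe_finsetSum, Finset.sum_apply,
      Module.Basis.baseChange_repr_tmul, Finsupp.coe_zero, Pi.zero_apply]
    exact P.x_rel j
  obtain ⟨l, hl⟩ := (P.exact P.B₀ ((T P.M P.B₀).symm (∑ i, P.x i ⊗ₜ[A] P.b i))).1 h
  exact ⟨l, congrArg (T P.M P.B₀) hl⟩

/-- the universal element -/
def X₀ : L.obj (pt P.B₀) := P.exists_X₀.choose

theorem ι_X₀ : T P.M P.B₀ (ap P.ι P.B₀ P.X₀) = ∑ i, P.x i ⊗ₜ[A] P.b i := P.exists_X₀.choose_spec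

/-- the map classifying an element -/
def ev (B : Alg A) (l : L.obj (pt B)) : P.B₀ ⟶ B :=
  CommAlgCat.ofHom (Ideal.Quotient.liftₐ P.rel (MvPolynomial.aeval (P.coord B l)) (by
    intro a ha
    have : P.rel ≤ RingHom.ker (MvPolynomial.aeval (R := A) (P.coord B l)) := by
      rw [LinPres.rel, Ideal.span_le]
      rintro _ ⟨j, rfl⟩
      simp only [SetLike.mem_coe, RingHom.mem_ker, map_sum, map_mul, MvPolynomial.aeval_X, MvPolynomial.aeval_C]
      refine Eq.trans (Finset.sum_congr rfl fun i _ => ?_) (P.coord_rel B l j)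
      rw [Algebra.smul_def]
    exact this ha))

theorem ev_x (B : Alg A) (l : L.obj (pt B)) (i : Fin P.n) : (P.ev B l).hom (P.x i) = P.coord B l i :=
  MvPolynomial.aeval_X _ _

theorem hom_ext₀ {B : Alg A} {g g' : P.B₀ ⟶ B} (h : ∀ i, g.hom (P.x i) = g'.hom (P.x i)) : g = g' := by
  refine CommAlgCat.hom_ext (Ideal.Quotient.algHom_ext _ (MvPolynomial.algHom_ext h))

theorem ι_tr (B : Alg A) (g : P.B₀ ⟶ B) :
    T P.M B (ap P.ι B (tr L g P.X₀)) = ∑ i, g.hom (P.x i) ⊗ₜ[A] P.b i := by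
  rw [ap_tr, T_tr, ι_X₀, map_sum]
  rfl

theorem tr_ev (B : Alg A) (l : L.obj (pt B)) : tr L (P.ev B l) P.X₀ = l := by
  refine P.inj B ((T P.M B).injective ?_)
  rw [P.ι_tr, P.ι_eq_sum B l]
  exact Finset.sum_congr rfl fun i _ => congrArg (· ⊗ₜ[A] P.b i) (P.ev_x B l i)

theorem ev_tr (B : Alg A) (g : P.B₀ ⟶ B) : P.ev B (tr L g P.X₀) = g := by
  refine P.hom_ext₀ fun i => ?_
  rw [ev_x, coord, P.ι_tr]
  simp only [map_sum, Finsupp.coe_finsetSum, Finset.sum_apply, Module.Basis.baseChange_repr_tmul,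
    Module.Basis.repr_self_apply, ite_smul, one_smul, zero_smul]
  simp [Finset.sum_ite_eq']

theorem ev_comp {B B' : Alg A} (l : L.obj (pt B)) (g : B ⟶ B') : P.ev B l ≫ g = P.ev B' (tr L g l) := by
  conv_rhs => rw [← P.tr_ev B l, tr_comp, ev_tr]

end LinPres

theorem eps_mul_inl (R : Type u) [CommRing R] (b : R) :
    (TrivSqZeroExt.inr 1 : TrivSqZeroExt R R) * TrivSqZeroExt.inl b = TrivSqZeroExt.inr b := by
  ext <;> simp

theorem snd_mul_inr' (R : Type u) [CommRing R] (z : TrivSqZeroExt R R) (v : R) :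
    (z * TrivSqZeroExt.inr v).snd = z.fst * v := by
  simp

/-- `B[ε]` -/
abbrev Dual' (B : Alg A) : Alg A := algOf A (TrivSqZeroExt (B : Type u) (B : Type u))

/-- `B → B[ε]` -/
def dinl (B : Alg A) : B ⟶ Dual' B :=
  CommAlgCat.ofHom (TrivSqZeroExt.inlAlgHom A (B : Type u) (B : Type u))

/-- Every map from a linearly adequate functor to `U M` comes from the ambient free module. -/
theorem LinPres.exists_extend {L : MVF A} (P : LinPres L) (M : ModuleCat.{u + 1} A) (φ : L ⟶ U M) :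
    ∃ g : P.M ⟶ M, P.ι ≫ (underline A).map g = φ := by
  classical
  let y : (P.B₀ : Type u) ⊗[A] M := T M P.B₀ (ap φ P.B₀ P.X₀)
  let D := Dual' P.B₀
  let ε : D := TrivSqZeroExt.inr 1
  let l : L.obj (pt D) := ε • tr L (dinl P.B₀) P.X₀
  let ψ : P.B₀ ⟶ D := P.ev D l
  have hinl : ∀ b : P.B₀, (dinl P.B₀).hom b = TrivSqZeroExt.inl b := fun b => rfl
  have hψx : ∀ i, ψ.hom (P.x i) = TrivSqZeroExt.inr (P.x i) := by
    intro i
    rw [show ψ.hom (P.x i) = P.coord D l i from P.ev_x D l i, LinPres.coord]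
    show (P.b.baseChange (D : Type u)).repr (T P.M D (ap P.ι D (ε • tr L (dinl P.B₀) P.X₀))) i = _
    rw [map_smul, map_smul, P.ι_tr]
    simp only [map_smul, map_sum, Finsupp.smul_apply, Finsupp.coe_finsetSum, Finset.sum_apply,
      Module.Basis.baseChange_repr_tmul, Module.Basis.repr_self_apply, ite_smul, one_smul, zero_smul]
    simp [hinl, ε]
    exact eps_mul_inl (P.B₀ : Type u) (P.x i)
  -- the image of `ψ` has linear nilpotent part
  let V : Submodule A P.B₀ := Submodule.span A (Set.range P.x)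
  have hψ : ∀ p : P.B₀, (∃ a : A, (ψ.hom p).fst = algebraMap A P.B₀ a) ∧ (ψ.hom p).snd ∈ V := by
    intro p
    obtain ⟨p, rfl⟩ := Ideal.Quotient.mk_surjective p
    induction p using MvPolynomial.induction_on with
    | C a =>
      rw [show ψ.hom (Ideal.Quotient.mk P.rel (MvPolynomial.C a)) = TrivSqZeroExt.inl (algebraMap A P.B₀ a) from
        ψ.hom.commutes a]
      exact ⟨⟨a, TrivSqZeroExt.fst_inl _ _⟩, by rw [TrivSqZeroExt.snd_inl]; exact V.zero_mem⟩
    | add p q hp hq =>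
      obtain ⟨⟨a, ha⟩, hp⟩ := hp
      obtain ⟨⟨a', ha'⟩, hq⟩ := hq
      rw [map_add, map_add]
      exact ⟨⟨a + a', by rw [TrivSqZeroExt.fst_add, ha, ha', map_add]⟩,
        by rw [TrivSqZeroExt.snd_add]; exact V.add_mem hp hq⟩
    | mul_X p i hp =>
      obtain ⟨⟨a, ha⟩, hp⟩ := hp
      rw [map_mul, map_mul, show (Ideal.Quotient.mk P.rel) (MvPolynomial.X i) = P.x i from rfl, hψx]
      refine ⟨⟨0, by rw [TrivSqZeroExt.fst_mul, TrivSqZeroExt.fst_inr, mul_zero, map_zero]⟩, ?_⟩
      rw [snd_mul_inr' (P.B₀ : Type u), ha, ← Algebra.smul_def]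
      exact V.smul_mem _ (Submodule.subset_span ⟨i, rfl⟩)
  have h1 : ψ.hom.toLinearMap.rTensor M y = ε • (dinl P.B₀).hom.toLinearMap.rTensor M y := by
    rw [← T_tr, ← ap_tr, P.tr_ev, map_smul, map_smul, ap_tr, T_tr]
  have h2 : ∀ z : (P.B₀ : Type u) ⊗[A] M, ε • (dinl P.B₀).hom.toLinearMap.rTensor M z =
      ((TrivSqZeroExt.inrHom (P.B₀ : Type u) (P.B₀ : Type u)).restrictScalars A).rTensor M z := by
    intro z
    induction z using TensorProduct.induction_on with
    | zero => simp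
    | tmul b m =>
      simp only [LinearMap.rTensor_tmul, TensorProduct.smul_tmul', AlgHom.toLinearMap_apply, hinl, smul_eq_mul,
        LinearMap.coe_restrictScalars, TrivSqZeroExt.inrHom_apply, ε]
      exact congrArg (· ⊗ₜ[A] m) (eps_mul_inl (P.B₀ : Type u) b)
    | add a b ha hb => simp only [map_add, smul_add, ha, hb]
  let s : (D : Type u) →ₗ[A] (P.B₀ : Type u) :=
    ((TrivSqZeroExt.sndHom (P.B₀ : Type u) (P.B₀ : Type u)).restrictScalars A)
  have h3 : y ∈ LinearMap.range (V.subtype.rTensor M) := by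
    have h4 : (s.rTensor M) (ψ.hom.toLinearMap.rTensor M y) = y := by
      rw [h1, h2, ← LinearMap.rTensor_comp_apply]
      have : s ∘ₗ ((TrivSqZeroExt.inrHom (P.B₀ : Type u) (P.B₀ : Type u)).restrictScalars A) = LinearMap.id :=
        LinearMap.ext fun b => rfl
      rw [this, LinearMap.rTensor_id, LinearMap.id_apply]
    rw [← h4, ← LinearMap.rTensor_comp_apply]
    have : s ∘ₗ ψ.hom.toLinearMap = V.subtype ∘ₗ (s ∘ₗ ψ.hom.toLinearMap).codRestrict V (fun p => (hψ p).2) :=
      LinearMap.ext fun p => rfl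
    rw [this, LinearMap.rTensor_comp_apply]
    exact ⟨_, rfl⟩
  have h5 : ∃ m : Fin P.n → M, y = ∑ i, P.x i ⊗ₜ[A] m i := by
    obtain ⟨z, hz⟩ := h3
    rw [← hz]
    clear hz
    induction z using TensorProduct.induction_on with
    | zero => exact ⟨0, by simp⟩
    | tmul v m =>
      obtain ⟨c, hc⟩ := (Submodule.mem_span_range_iff_exists_fun A).1 v.2
      refine ⟨fun i => c i • m, ?_⟩
      simp only [LinearMap.rTensor_tmul, Submodule.subtype_apply, ← hc, TensorProduct.sum_tmul, smul_tmul]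
    | add a b ha hb =>
      obtain ⟨m, hm⟩ := ha
      obtain ⟨m', hm'⟩ := hb
      exact ⟨m + m', by simp [map_add, hm, hm', TensorProduct.tmul_add, Finset.sum_add_distrib]⟩
  obtain ⟨m, hm⟩ := h5
  refine ⟨ModuleCat.ofHom (P.b.constr A m), hom_ext' fun B z => (T M B).injective ?_⟩
  conv_rhs => rw [← P.tr_ev B z, ap_tr, T_tr, show T M P.B₀ (ap φ P.B₀ P.X₀) = _ from hm]
  rw [ap_comp, T_map, P.ι_eq_sum B z]
  simp only [map_sum, LinearMap.baseChange_tmul, ModuleCat.hom_ofHom, Module.Basis.constr_basis,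
    LinearMap.rTensor_tmul, AlgHom.toLinearMap_apply, P.ev_x]

end Groth.MiscGeom.Adq

end
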