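import Groth.Agent.MiscGeom.AdeqLin
import Groth.Agent.MiscGeom.AdeqUniv
import Mathlib.LinearAlgebra.DirectSum.TensorProduct
import Mathlib.Algebra.Category.ModuleCat.Kernels

/-!
# Images, kernels and cokernels of maps of adequate functors
-/

universe u

open CategoryTheory CategoryTheory.Limits Opposite TensorProduct

noncomputable section

namespace Groth.MiscGeom.Adq

open Adeq

variable {A : Type u} [CommRing A]

open scoped DirectSum

theorem exists_finset_lof {ι : Type (u + 1)} [DecidableEq ι] (P : ι → Type (u + 1)) [∀ i, AddCommGroup (P i)]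
    [∀ i, Module A (P i)] (B : Type u) [CommRing B] [Algebra A B] (p : B ⊗[A] (⨁ i, P i)) :
    ∃ (s : Finset ι), p = ∑ i ∈ s, (DirectSum.lof A ι P i).lTensor B ((DirectSum.component A ι P i).lTensor B p) := by
  classical
  suffices h : ∃ s : Finset ι, ∀ t : Finset ι, s ⊆ t →
      p = ∑ i ∈ t, (DirectSum.lof A ι P i).lTensor B ((DirectSum.component A ι P i).lTensor B p) by
    obtain ⟨s, hs⟩ := h
    exact ⟨s, hs s subset_rfl⟩
  induction p using TensorProduct.induction_on with
  | zero => exact ⟨∅, fun t _ => by simp⟩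
  | tmul b x =>
    refine ⟨DFinsupp.support x, fun t ht => ?_⟩
    simp only [LinearMap.lTensor_tmul]
    rw [← TensorProduct.tmul_sum]
    congr 1
    conv_lhs => rw [← DirectSum.sum_support_of x]
    refine Finset.sum_subset ht fun i _ hi => ?_
    rw [show x i = 0 by simpa using hi]
    simp
  | add a b ha hb =>
    obtain ⟨s, hs⟩ := ha
    obtain ⟨s', hs'⟩ := hb
    refine ⟨s ∪ s', fun t ht => ?_⟩
    simp only [map_add, Finset.sum_add_distrib]
    rw [← hs t (Finset.union_subset_left ht), ← hs' t (Finset.union_subset_right ht)]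

/-- The image of a map from an adequate functor to `U M` is the kernel of some `U h`. -/
theorem exists_image {G : MVF A} (hG : adequate A G) {M : ModuleCat.{u + 1} A} (f : G ⟶ U M) :
    ∃ (N : ModuleCat.{u + 1} A) (h : M ⟶ N), ∀ B, Function.Exact (ap f B) (ap ((underline A).map h) B) := by
  classical
  obtain ⟨PG⟩ := nonempty_pres hG
  let ι := Σ B : Alg A, G.obj (pt B)
  have hlin : ∀ i : ι, ∃ (L : MVF A) (_ : LinPres L) (k : L ⟶ G), i.2 ∈ Set.range (ap k i.1) := by
    rintro ⟨B, ξ⟩
    obtain ⟨L, k, hL, hξ⟩ := PG.exists_lin B ξ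
    obtain ⟨q⟩ := nonempty_linPres hL
    exact ⟨L, q, k, hξ⟩
  choose L P k hk using hlin
  have hext : ∀ i, ∃ g : (P i).M ⟶ M, (P i).ι ≫ (underline A).map g = k i ≫ f :=
    fun i => (P i).exists_extend M (k i ≫ f)
  choose g hg using hext
  let DP := ⨁ i, ((P i).M : Type (u + 1))
  let DN := ⨁ i, ((P i).N : Type (u + 1))
  let Φ : DP →ₗ[A] DN :=
    DirectSum.toModule A ι DN fun i => DirectSum.lof A ι (fun i => ((P i).N : Type (u + 1))) i ∘ₗ (P i).φ.hom
  let g' : DP →ₗ[A] M := DirectSum.toModule A ι M fun i => (g i).hom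
  let R : Submodule A (M × DN) := LinearMap.range (g'.prod Φ)
  refine ⟨ModuleCat.of A ((M × DN) ⧸ R), ModuleCat.ofHom (R.mkQ ∘ₗ LinearMap.inl A M DN), fun B y => ?_⟩
  have hex : Function.Exact ((g'.prod Φ).lTensor (B : Type u)) (R.mkQ.lTensor (B : Type u)) :=
    lTensor_exact (B : Type u) (LinearMap.exact_map_mkQ_range (g'.prod Φ)) (Submodule.mkQ_surjective R)
  constructor
  · intro hy
    have hy' : R.mkQ.lTensor (B : Type u) ((LinearMap.inl A M DN).lTensor (B : Type u) (T M B y)) = 0 := by
      rw [← LinearMap.lTensor_comp_apply]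
      exact hy
    obtain ⟨p, hp⟩ := (hex _).1 hy'
    have hΦ : Φ.lTensor (B : Type u) p = 0 := by
      have := congrArg ((LinearMap.snd A M DN).lTensor (B : Type u)) hp
      rw [← LinearMap.lTensor_comp_apply, ← LinearMap.lTensor_comp_apply, LinearMap.snd_prod,
        LinearMap.snd_comp_inl, LinearMap.lTensor_zero, LinearMap.zero_apply] at this
      exact this
    have hg' : g'.lTensor (B : Type u) p = T M B y := by
      have := congrArg ((LinearMap.fst A M DN).lTensor (B : Type u)) hp
      rw [← LinearMap.lTensor_comp_apply, ← LinearMap.lTensor_comp_apply, LinearMap.fst_prod,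
        LinearMap.fst_comp_inl, LinearMap.lTensor_id, LinearMap.id_apply] at this
      exact this
    obtain ⟨s, hs⟩ := exists_finset_lof (fun i => ((P i).M : Type (u + 1))) (B : Type u) p
    let pi := fun i => (DirectSum.component A ι (fun i => ((P i).M : Type (u + 1))) i).lTensor (B : Type u) p
    have hmem : ∀ i, ∃ l, ap (P i).ι B l = (T (P i).M B).symm (pi i) := fun i => by
      refine ((P i).exact B _).1 ?_
      show (P i).φ.hom.lTensor (B : Type u) (pi i) = 0
      have : (P i).φ.hom ∘ₗ DirectSum.component A ι (fun i => ((P i).M : Type (u + 1))) i =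
          DirectSum.component A ι (fun i => ((P i).N : Type (u + 1))) i ∘ₗ Φ := by
        refine DirectSum.linearMap_ext _ fun j => LinearMap.ext fun x => ?_
        simp only [LinearMap.comp_apply, Φ, DirectSum.toModule_lof]
        by_cases hij : j = i
        · subst hij
          rw [DirectSum.component.lof_self, DirectSum.component.lof_self]
        · rw [DirectSum.component.of, DirectSum.component.of, dif_neg hij, dif_neg hij, map_zero]
      rw [← LinearMap.lTensor_comp_apply, this, LinearMap.lTensor_comp_apply, hΦ, map_zero]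
    choose l hl using hmem
    refine ⟨∑ i ∈ s, ap (k i) B (l i), (T M B).injective ?_⟩
    rw [← hg', hs, map_sum, map_sum, map_sum]
    refine Finset.sum_congr rfl fun i _ => ?_
    rw [← ap_comp, ← hg i, ap_comp, hl, T_map, LinearEquiv.apply_symm_apply, ← LinearMap.lTensor_comp_apply]
    have : g' ∘ₗ DirectSum.lof A ι (fun i => ((P i).M : Type (u + 1))) i = (g i).hom :=
      LinearMap.ext fun x => DirectSum.toModule_lof (φ := fun i => (g i).hom) (M := fun i => ((P i).M : Type (u + 1))) A i x
    rw [this]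
    rfl
  · rintro ⟨x, rfl⟩
    obtain ⟨l, hl⟩ := hk ⟨B, x⟩
    let i : ι := ⟨B, x⟩
    show (R.mkQ ∘ₗ LinearMap.inl A M DN).lTensor (B : Type u) (T M B (ap f B x)) = 0
    rw [LinearMap.lTensor_comp_apply]
    refine (hex _).2 ⟨(DirectSum.lof A ι (fun i => ((P i).M : Type (u + 1))) i).lTensor (B : Type u)
      (T (P i).M B (ap (P i).ι B l)), ?_⟩
    have e1 : (g'.prod Φ) ∘ₗ DirectSum.lof A ι (fun i => ((P i).M : Type (u + 1))) i =
        LinearMap.inl A M DN ∘ₗ (g i).hom +
        LinearMap.inr A M DN ∘ₗ DirectSum.lof A ι (fun i => ((P i).N : Type (u + 1))) i ∘ₗ (P i).φ.hom := by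
      refine LinearMap.ext fun z => Prod.ext ?_ ?_
      · simp only [LinearMap.comp_apply, LinearMap.prod_apply, Function.prod_apply, LinearMap.add_apply,
          LinearMap.inl_apply, LinearMap.inr_apply, Prod.fst_add, add_zero]
        exact DirectSum.toModule_lof (M := fun i => ((P i).M : Type (u + 1))) (φ := fun i => (g i).hom) A i z
      · simp only [LinearMap.comp_apply, LinearMap.prod_apply, Function.prod_apply, LinearMap.add_apply,
          LinearMap.inl_apply, LinearMap.inr_apply, Prod.snd_add, zero_add]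
        exact DirectSum.toModule_lof (M := fun i => ((P i).M : Type (u + 1)))
          (φ := fun i => DirectSum.lof A ι (fun i => ((P i).N : Type (u + 1))) i ∘ₗ (P i).φ.hom) A i z
    rw [← LinearMap.lTensor_comp_apply, e1, LinearMap.lTensor_add, LinearMap.add_apply]
    simp only [LinearMap.lTensor_comp_apply]
    have e2 : (P i).φ.hom.lTensor (B : Type u) (T (P i).M B (ap (P i).ι B l)) = 0 :=
      ((P i).exact B).apply_apply_eq_zero l
    have e3 : (g i).hom.lTensor (B : Type u) (T (P i).M B (ap (P i).ι B l)) = T M B (ap f B x) := by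
      rw [show x = ap (k i) B l from hl.symm, ← ap_comp, ← hg i]
      rfl
    rw [e2, e3, map_zero, map_zero, add_zero]

/-- Transport of element-wise exact presentations to adequacy. -/
theorem adequate_of_exact {F : MVF A} {M N : ModuleCat.{u + 1} A} (ι : F ⟶ U M) (φ : M ⟶ N)
    (inj : ∀ B, Function.Injective (ap ι B)) (ex : ∀ B, Function.Exact (ap ι B) (ap ((underline A).map φ) B)) :
    adequate A F :=
  adequate_of_pres ⟨M, N, φ, ι, inj, ex⟩

theorem adequate_U (M : ModuleCat.{u + 1} A) : adequate A (U M) := by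
  refine adequate_of_exact (𝟙 (U M)) (0 : M ⟶ M) (fun B => fun x y h => h) fun B x => ?_
  rw [Functor.map_zero, ap_zero]
  exact iff_of_true rfl ⟨x, rfl⟩

/-- The cokernel of a map from an adequate functor into `U M` is adequate. -/
theorem adequate_image_cokernel {G : MVF A} (hG : adequate A G) {M : ModuleCat.{u + 1} A} (f : G ⟶ U M)
    {Q : MVF A} (q : U M ⟶ Q) (hq : ∀ B, Function.Surjective (ap q B))
    (hfq : ∀ B, Function.Exact (ap f B) (ap q B)) : adequate A Q := by
  obtain ⟨N, h, hh⟩ := exists_image hG f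
  let π : N ⟶ cokernel h := cokernel.π h
  have hex : Function.Exact h.hom π.hom :=
    (ShortComplex.ShortExact.moduleCat_exact_iff_function_exact
      (ShortComplex.mk h π (cokernel.condition h))).1 (ShortComplex.exact_cokernel h)
  have hπ : Function.Surjective π.hom := (ModuleCat.epi_iff_surjective π).1 inferInstance
  have hU : ∀ B, Function.Exact (ap ((underline A).map h) B) (ap ((underline A).map π) B) :=
    fun B => lTensor_exact (B : Type u) hex hπ
  have : Epi q := epi_of_surj q hq
  let S := ShortComplex.mk f q (hom_ext' fun B x => (hfq B).apply_apply_eq_zero x)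
  have hS : S.Exact := by
    rw [ShortComplex.exact_iff_epi_kernel_lift]
    refine epi_of_surj _ fun B y => ?_
    obtain ⟨x, hx⟩ := (hfq B _).1 ((kernel_exact q B).apply_apply_eq_zero y)
    refine ⟨x, inj_of_mono (kernel.ι q) B ?_⟩
    rw [← ap_comp, kernel.lift_ι]
    exact hx
  obtain ⟨j, hj⟩ := CokernelCofork.IsColimit.desc' hS.gIsCokernel ((underline A).map h)
    (hom_ext' fun B x => (hh B).apply_apply_eq_zero x)
  have hj' : ∀ B (x : (U M).obj (pt B)), ap j B (ap q B x) = ap ((underline A).map h) B x := fun B x => by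
    rw [← ap_comp]
    exact LinearMap.congr_fun (congrArg (fun k => ap k B) hj) x
  refine adequate_of_exact j π (fun B => ?_) (fun B y => ?_)
  · rw [injective_iff_map_eq_zero]
    intro z hz
    obtain ⟨x, rfl⟩ := hq B z
    rw [hj'] at hz
    obtain ⟨w, rfl⟩ := (hh B x).1 hz
    exact (hfq B).apply_apply_eq_zero w
  · refine (hU B y).trans ⟨?_, ?_⟩
    · rintro ⟨x, rfl⟩
      exact ⟨ap q B x, hj' B x⟩
    · rintro ⟨z, rfl⟩
      obtain ⟨x, rfl⟩ := hq B z
      exact ⟨x, (hj' B x).symm⟩

/-- The image of a map from an adequate functor into `U M` is adequate. -/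
theorem adequate_image {G : MVF A} (hG : adequate A G) {M : ModuleCat.{u + 1} A} (f : G ⟶ U M)
    {I : MVF A} (i : I ⟶ U M) (hi : ∀ B, Function.Injective (ap i B))
    (hfi : ∀ B, Set.range (ap i B) = Set.range (ap f B)) : adequate A I := by
  obtain ⟨N, h, hh⟩ := exists_image hG f
  exact adequate_of_exact i h hi fun B y => by rw [hh B y, hfi B]

theorem adequate_cokernel {F G : MVF A} (φ : F ⟶ G) (hF : adequate A F) (hG : adequate A G) :
    adequate A (cokernel φ) := by
  obtain ⟨P⟩ := nonempty_pres hG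
  obtain ⟨N, h, hh⟩ := exists_image hF (φ ≫ P.ι)
  let π := cokernel.π φ
  obtain ⟨j, hj⟩ := CokernelCofork.IsColimit.desc' (cokernelIsCokernel φ) (P.ι ≫ (underline A).map h)
    (hom_ext' fun B x => (hh B).apply_apply_eq_zero x)
  have hj' : ∀ B (x : G.obj (pt B)), ap j B (ap π B x) = ap ((underline A).map h) B (ap P.ι B x) := fun B x => by
    rw [← ap_comp]
    exact LinearMap.congr_fun (congrArg (fun k => ap k B) hj) x
  refine adequate_image hG (P.ι ≫ (underline A).map h) j (fun B => ?_) (fun B => ?_)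
  · rw [injective_iff_map_eq_zero]
    intro z hz
    obtain ⟨x, rfl⟩ := surj_of_epi π B z
    rw [hj'] at hz
    obtain ⟨w, hw⟩ := (hh B _).1 hz
    rw [← P.inj B hw]
    exact (cokernel_exact φ B).apply_apply_eq_zero w
  · ext y
    constructor
    · rintro ⟨z, rfl⟩
      obtain ⟨x, rfl⟩ := surj_of_epi π B z
      exact ⟨x, (hj' B x).symm⟩
    · rintro ⟨x, rfl⟩
      exact ⟨ap π B x, hj' B x⟩

theorem adequate_kernel {F G : MVF A} (φ : F ⟶ G) (hF : adequate A F) (hG : adequate A G) :
    adequate A (kernel φ) := by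
  obtain ⟨P⟩ := nonempty_pres hF
  obtain ⟨Q⟩ := nonempty_pres hG
  let M₁ : ModuleCat.{u + 1} A := ModuleCat.of A (Q.M × P.M)
  let a : Q.M ⟶ M₁ := ModuleCat.ofHom (LinearMap.inl A Q.M P.M)
  let b : P.M ⟶ M₁ := ModuleCat.ofHom (LinearMap.inr A Q.M P.M)
  let f : F ⟶ U M₁ := P.ι ≫ (underline A).map b - φ ≫ Q.ι ≫ (underline A).map a
  obtain ⟨N, h, hh⟩ := exists_image hF f
  let p₁ : M₁ ⟶ Q.M := ModuleCat.ofHom (LinearMap.fst A Q.M P.M)
  let p₂ : M₁ ⟶ P.M := ModuleCat.ofHom (LinearMap.snd A Q.M P.M)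
  have hap : a ≫ p₂ = 0 ∧ b ≫ p₂ = 𝟙 _ := ⟨ModuleCat.hom_ext (LinearMap.snd_comp_inl _ _ _), ModuleCat.hom_ext (LinearMap.snd_comp_inr _ _ _)⟩
  have ha₁ : a ≫ p₁ = 𝟙 _ := ModuleCat.hom_ext (LinearMap.fst_comp_inl _ _ _)
  have huinj : ∀ B, Function.Injective (ap ((underline A).map (a ≫ h)) B) := by
    intro B
    rw [injective_iff_map_eq_zero]
    intro z hz
    rw [Functor.map_comp, ap_comp] at hz
    obtain ⟨w, hw⟩ := (hh B _).1 hz
    have h2 : f ≫ (underline A).map p₂ = P.ι := by
      simp only [f, Preadditive.sub_comp, Category.assoc, ← Functor.map_comp, hap.1, hap.2, Functor.map_zero,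
        comp_zero, sub_zero, CategoryTheory.Functor.map_id, Category.comp_id]
    have h3 : ap P.ι B w = 0 := by
      rw [← h2, ap_comp, hw, ← ap_comp, ← Functor.map_comp, hap.1, Functor.map_zero, ap_zero]
    have hw0 : w = 0 := P.inj B (h3.trans (map_zero _).symm)
    have h4 : ap ((underline A).map a) B z = 0 := by rw [← hw, hw0, map_zero]
    have h5 := congrArg (ap ((underline A).map p₁) B) h4
    rwa [← ap_comp, ← Functor.map_comp, ha₁, CategoryTheory.Functor.map_id, map_zero] at h5
  have hcomm : ∀ B (x : F.obj (pt B)),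
      ap ((underline A).map (b ≫ h)) B (ap P.ι B x) = ap ((underline A).map (a ≫ h)) B (ap Q.ι B (ap φ B x)) := by
    intro B x
    have := (hh B).apply_apply_eq_zero x
    simp only [f, ap_sub, map_sub, ap_comp, sub_eq_zero] at this
    simp only [Functor.map_comp, ap_comp, this]
  let θ : P.M ⟶ ModuleCat.of A (P.N × N) := ModuleCat.ofHom (P.φ.hom.prod (b ≫ h).hom)
  refine adequate_of_exact (kernel.ι φ ≫ P.ι) θ (fun B => (P.inj B).comp (inj_of_mono (kernel.ι φ) B)) fun B y => ?_
  have e1 : θ ≫ ModuleCat.ofHom (LinearMap.fst A P.N N) = P.φ := ModuleCat.hom_ext (LinearMap.fst_prod _ _)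
  have e2 : θ ≫ ModuleCat.ofHom (LinearMap.snd A P.N N) = b ≫ h := ModuleCat.hom_ext (LinearMap.snd_prod _ _)
  constructor
  · intro hy
    have hy1 : ap ((underline A).map P.φ) B y = 0 := by rw [← e1, Functor.map_comp, ap_comp, hy, map_zero]
    obtain ⟨x, rfl⟩ := (P.exact B y).1 hy1
    have hy2 : ap ((underline A).map (b ≫ h)) B (ap P.ι B x) = 0 := by
      rw [← e2, Functor.map_comp, ap_comp, hy, map_zero]
    rw [hcomm] at hy2
    have hx : ap φ B x = 0 := Q.inj B (((huinj B) (hy2.trans (map_zero _).symm)).trans (map_zero _).symm)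
    obtain ⟨w, rfl⟩ := (kernel_exact φ B x).1 hx
    exact ⟨w, rfl⟩
  · rintro ⟨w, rfl⟩
    rw [ap_comp]
    have hx := (kernel_exact φ B).apply_apply_eq_zero w
    have h1 : ap ((underline A).map P.φ) B (ap P.ι B (ap (kernel.ι φ) B w)) = 0 := (P.exact B).apply_apply_eq_zero _
    have h2 : ap ((underline A).map (b ≫ h)) B (ap P.ι B (ap (kernel.ι φ) B w)) = 0 := by
      rw [hcomm, hx, map_zero, map_zero]
    have hθ : θ = P.φ ≫ ModuleCat.ofHom (LinearMap.inl A P.N N) + (b ≫ h) ≫ ModuleCat.ofHom (LinearMap.inr A P.N N) :=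
      ModuleCat.hom_ext (LinearMap.ext fun z => by simp [θ])
    rw [hθ, Functor.map_add, ap_add, Functor.map_comp _ P.φ, ap_comp, h1, map_zero,
      Functor.map_comp _ (b ≫ h), ap_comp, h2, map_zero, add_zero]

end Groth.MiscGeom.Adq

end
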