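import Groth.Agent.MiscGeom.AdeqGlobal
import Mathlib.AlgebraicGeometry.Cover.Open

/-!
# Adequate modules and pullback; locality
-/

universe u v

open CategoryTheory CategoryTheory.Limits AlgebraicGeometry Opposite

noncomputable section

namespace Groth.MiscGeom.Adq

open Adeq

section Pull

variable {K : Precoverage Scheme.{u}} [BigSite.OSh K] {S T : Scheme.{u}} (f : T ⟶ S) (M : BigSite.Mod K S)
  {R : CommRingCat.{u}} (b : Spec R ⟶ T)

/-- the two readings of `Spec B → T → S` -/
def pullCmp (B : Alg R) : (specOver (b ≫ f)).obj (op B) ≅ (Over.map f).obj ((specOver b).obj (op B)) :=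
  Over.isoMk (Iso.refl _) (by
    show 𝟙 _ ≫ (Spec.map (CommRingCat.ofHom (algebraMap R B)) ≫ b) ≫ f = Spec.map (CommRingCat.ofHom (algebraMap R B)) ≫ b ≫ f
    rw [Category.id_comp, Category.assoc])

theorem toSect_pullCmp (B : Alg R) (x : B) :
    (BigSite.ORing K S).obj.map (pullCmp f b B).hom.op (toSect K b B x) = toSect K (b ≫ f) B x := by
  refine ULift.ext _ _ ?_
  show (Scheme.Hom.appTop (𝟙 (Spec (CommRingCat.of B)))) ((Scheme.ΓSpecIso (CommRingCat.of B)).inv x) = _
  rw [Scheme.Hom.id_appTop]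
  rfl

theorem exists_pullHom :
    ∃ η : (toMVF K b).obj ((BigSite.pullMod K f).obj M) ⟶ (toMVF K (b ≫ f)).obj M,
      ∀ B, Function.Bijective (ap η B) := by
  let θ : ∀ B : Alg R, ((toMVF K b).obj ((BigSite.pullMod K f).obj M)).obj (pt B) →ₗ[(B : Type u)]
      ((toMVF K (b ≫ f)).obj M).obj (pt B) := fun B =>
    { toFun := fun x => M.val.presheaf.map (pullCmp f b B).hom.op x
      map_add' := fun x y => map_add (M.val.presheaf.map (pullCmp f b B).hom.op).hom x y
      map_smul' := fun r x => by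
        refine (M.val.map_smul (pullCmp f b B).hom.op (toSect K b B r) x).trans ?_
        rw [toSect_pullCmp]
        rfl }
  refine ⟨mkHom θ fun {B B'} g x => ?_, fun B => ?_⟩
  · show M.val.presheaf.map (pullCmp f b B').hom.op (M.val.presheaf.map ((Over.map f).map ((specOver b).map g.op)).op x) =
      M.val.presheaf.map ((specOver (b ≫ f)).map g.op).op (M.val.presheaf.map (pullCmp f b B).hom.op x)
    rw [← ConcreteCategory.comp_apply, ← ConcreteCategory.comp_apply, ← Functor.map_comp, ← Functor.map_comp,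
      ← op_comp, ← op_comp]
    congr 3
  · exact ConcreteCategory.bijective_of_isIso (M.val.presheaf.map (pullCmp f b B).hom.op)

theorem adequate_pull_iff :
    adequate R ((toMVF K b).obj ((BigSite.pullMod K f).obj M)) ↔ adequate R ((toMVF K (b ≫ f)).obj M) := by
  obtain ⟨η, hη⟩ := exists_pullHom f M b
  have := isIso_of_bij η hη
  exact ⟨(adequate R).prop_of_iso (asIso η), (adequate R).prop_of_iso (asIso η).symm⟩

end Pull

variable {P : MorphismProperty Scheme.{u}} (hP : GoodProp P) {S : Scheme.{u}}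
include hP

/-- the affine opens cover -/
theorem affineCover_mem (X : Scheme.{u}) :
    Presieve.ofArrows (fun i => X.affineCover.X i) X.affineCover.f ∈ (Scheme.precoverage P).coverings X :=
  (Scheme.ofArrows_mem_precoverage_iff P).2 ⟨fun x => ⟨X.affineCover.idx x, X.affineCover.covers x⟩,
    fun i => hP.openImm _ (inferInstanceAs (IsOpenImmersion (X.affineCover.f i)))⟩

variable [BigSite.OSh (Scheme.precoverage P)]

theorem adequateMod_pull {T : Scheme.{u}} (f : T ⟶ S) (M : BigSite.Mod (Scheme.precoverage P) S)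
    (hM : adequateMod (Scheme.precoverage P) S M) :
    adequateMod (Scheme.precoverage P) T ((BigSite.pullMod (Scheme.precoverage P) f).obj M) := by
  refine ⟨T.affineCover.I₀, fun i => _, T.affineCover.f, affineCover_mem hP T, fun i => ?_⟩
  exact (adequate_pull_iff f M (T.affineCover.f i)).2 (adequate_toMVF hP _ M hM)

theorem adequateMod_local (M : BigSite.Mod (Scheme.precoverage P) S) {ι : Type u} (T : ι → Scheme.{u})
    (f : ∀ i, T i ⟶ S) (hcov : Presieve.ofArrows T f ∈ (Scheme.precoverage P).coverings S)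
    (h : ∀ i, adequateMod (Scheme.precoverage P) (T i) ((BigSite.pullMod (Scheme.precoverage P) (f i)).obj M)) :
    adequateMod (Scheme.precoverage P) S M := by
  choose κ R a ha hadq using h
  refine ⟨Σ i, κ i, fun x => R x.1 x.2, fun x => a x.1 x.2 ≫ f x.1, ?_, fun x =>
    (adequate_pull_iff (f x.1) M (a x.1 x.2)).1 (hadq x.1 x.2)⟩
  haveI := hP.comp
  obtain ⟨hs, hp⟩ := (Scheme.ofArrows_mem_precoverage_iff P).1 hcov
  refine (Scheme.ofArrows_mem_precoverage_iff P).2 ⟨fun x => ?_, fun y =>
    P.comp_mem _ _ (((Scheme.ofArrows_mem_precoverage_iff P).1 (ha y.1)).2 y.2) (hp y.1)⟩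
  obtain ⟨i, y, rfl⟩ := hs x
  obtain ⟨j, z, rfl⟩ := ((Scheme.ofArrows_mem_precoverage_iff P).1 (ha i)).1 y
  exact ⟨⟨i, j⟩, z, rfl⟩

end Groth.MiscGeom.Adq

end
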