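import Groth.Agent.MiscGeom.CechVanish
import Groth.Agent.MiscGeom.AdeqPull
import Mathlib.AlgebraicGeometry.AffineScheme

/-!
# Vanishing of cohomology of Čech acyclic sheaves on affine schemes
-/

universe u

open CategoryTheory CategoryTheory.Limits AlgebraicGeometry Opposite Abelian

noncomputable section

namespace Groth.MiscGeom.Adq.Cech

open Adeq

variable {P : MorphismProperty Scheme.{u}} {S : Scheme.{u}}

theorem surjective_of_iso {F G : (Over S)ᵒᵖ ⥤ AddCommGrpCat.{u + 1}} (φ : F ⟶ G) {U U' : Over S} (e : U ≅ U')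
    (h : Function.Surjective (φ.app (op U'))) : Function.Surjective (φ.app (op U)) := fun y => by
  obtain ⟨x, hx⟩ := h (G.map e.inv.op y)
  refine ⟨F.map e.hom.op x, ?_⟩
  refine (ConcreteCategory.congr_hom (φ.naturality e.hom.op) x).trans ?_
  show G.map e.hom.op (φ.app (op U') x) = y
  rw [hx, ← ConcreteCategory.comp_apply, ← Functor.map_comp, ← op_comp, e.hom_inv_id, op_id, G.map_id]
  rfl

theorem specMap_algebraMap_self (B : Type u) [CommRing B] :
    Spec.map (CommRingCat.ofHom (algebraMap B B)) = 𝟙 (Spec (CommRingCat.of B)) := by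
  rw [Algebra.algebraMap_self, CommRingCat.ofHom_id, Spec.map_id]

/-- an object over `S` isomorphic to a base object -/
def baseCmp' {B : CommRingCat.{u}} (g : Spec B ⟶ S) :
    Over.mk g ≅ (specOver g).obj (op (base (B : Type u))) :=
  Over.isoMk (Iso.refl (Spec B))
    ((Category.id_comp _).trans ((congrArg (· ≫ g) (specMap_algebraMap_self (B : Type u))).trans (Category.id_comp g)))

/-- an affine object as a base object -/
def baseCmp {R : CommRingCat.{u}} (a : Spec R ⟶ S) (D : Alg R) :
    (specOver a).obj (op D) ≅ (specOver (R := CommRingCat.of D) (bB D ≫ a)).obj (op (base (D : Type u))) :=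
  baseCmp' (B := CommRingCat.of D) (bB D ≫ a)

variable [HasSheafify (QuotSh.J (Scheme.precoverage P) S) AddCommGrpCat.{u + 1}]
  [(QuotSh.J (Scheme.precoverage P) S).WEqualsLocallyBijective AddCommGrpCat.{u + 1}]

theorem cechAcyclic_quotient (hP : GoodProp P) (hPp : StableProd P)
    (C : ShortComplex (BigSite.Ab (Scheme.precoverage P) S)) (hC : C.ShortExact)
    (h₁ : CechAcyclic P C.X₁.obj) (h₂ : CechAcyclic P C.X₂.obj) : CechAcyclic P C.X₃.obj := by
  intro R a V hPV hsV n
  exact isExact_quotient (Functor.whiskerLeft (opOp (Alg R) ⋙ (specOver a).op) C.f.hom)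
    (Functor.whiskerLeft (opOp (Alg R) ⋙ (specOver a).op) C.g.hom) (fun D => (ab_leftExact C hC _).1)
    (fun D => (ab_leftExact C hC _).2)
    (fun D => surjective_of_iso C.g.hom (baseCmp a D) (sections_surjective hP hPp C hC h₁ (CommRingCat.of D) _))
    (h₁ R a V hPV hsV (n + 1)) (h₂ R a V hPV hsV n)

/-- vanishing of higher cohomology on affine schemes -/
theorem subsingleton_H (hP : GoodProp P) (hPp : StableProd P) [IsAffine S] :
    ∀ (q : ℕ) (F : BigSite.Ab (Scheme.precoverage P) S), CechAcyclic P F.obj →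
      Subsingleton (BigSite.H (Scheme.precoverage P) S F (q + 1)) := by
  intro q
  induction q with
  | zero =>
    intro F hF
    let i := Injective.ι F
    let C := ShortComplex.mk i (cokernel.π i) (cokernel.condition i)
    have hC : C.ShortExact := { exact := ShortComplex.exact_cokernel _ }
    refine subsingleton_of_forall_eq 0 fun x => ?_
    haveI : Injective C.X₂ := inferInstanceAs (Injective (Injective.under F))
    obtain ⟨x₃, rfl⟩ := Ext.covariant_sequence_exact₁ _ hC x (Ext.eq_zero_of_injective _) (zero_add 1)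
    let hT : IsTerminal (Over.mk (𝟙 S)) := Over.mkIdTerminal
    let e : Over.mk (𝟙 S) ≅ (specOver S.isoSpec.inv).obj (op (base Γ(S, ⊤))) :=
      (Over.isoMk S.isoSpec (Iso.hom_inv_id _) : Over.mk (𝟙 S) ≅ Over.mk S.isoSpec.inv) ≪≫ baseCmp' S.isoSpec.inv
    obtain ⟨y, hy⟩ := surjective_of_iso C.g.hom e (sections_surjective hP hPp C hC hF _ _) (Sheaf.H.equiv₀ C.X₃ hT x₃)
    have hx : x₃ = Sheaf.H.map C.g 0 ((Sheaf.H.equiv₀ C.X₂ hT).symm y) := by
      rw [Sheaf.H.equiv₀_symm_naturality]
      exact ((Sheaf.H.equiv₀ C.X₃ hT).eq_symm_apply).2 hy.symm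
    rw [hx, Sheaf.H.map_apply, Ext.comp_assoc_of_second_deg_zero, hC.comp_extClass, Ext.comp_zero]
  | succ q ih =>
    intro F hF
    let i := Injective.ι F
    let C := ShortComplex.mk i (cokernel.π i) (cokernel.condition i)
    have hC : C.ShortExact := { exact := ShortComplex.exact_cokernel _ }
    haveI : Injective C.X₂ := inferInstanceAs (Injective (Injective.under F))
    haveI := ih C.X₃ (cechAcyclic_quotient hP hPp C hC hF (cechAcyclic_injective _))
    refine subsingleton_of_forall_eq 0 fun x => ?_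
    obtain ⟨x₃, rfl⟩ := Ext.covariant_sequence_exact₁ _ hC x (Ext.eq_zero_of_injective _) (n₀ := q + 1) rfl
    rw [Subsingleton.elim x₃ 0, Ext.zero_comp]

omit [HasSheafify (QuotSh.J (Scheme.precoverage P) S) AddCommGrpCat.{u + 1}]
  [(QuotSh.J (Scheme.precoverage P) S).WEqualsLocallyBijective AddCommGrpCat.{u + 1}] in
theorem cechAcyclic_pull {T : Scheme.{u}} (f : T ⟶ S) (G : (Over S)ᵒᵖ ⥤ AddCommGrpCat.{u + 1}) (h : CechAcyclic P G) :
    CechAcyclic P ((Over.map f).op ⋙ G) := by
  intro R a V hPV hsV n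
  let s : affF a ((Over.map f).op ⋙ G) ⟶ affF (a ≫ f) G :=
    { app := fun D => G.map (pullCmp f a D).hom.op
      naturality := fun D D' g => by
        show G.map ((Over.map f).map ((specOver a).map g.op)).op ≫ G.map (pullCmp f a D').hom.op =
          G.map (pullCmp f a D).hom.op ≫ G.map ((specOver (a ≫ f)).map g.op).op
        rw [← G.map_comp, ← G.map_comp, ← op_comp, ← op_comp]
        congr 2 }
  haveI : ∀ D, IsIso (s.app D) := fun D => inferInstanceAs (IsIso (G.map (pullCmp f a D).hom.op))
  haveI : IsIso s := NatIso.isIso_of_isIso_app s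
  exact isExact_retract s (inv s) (fun D x => ConcreteCategory.congr_hom (congrArg (fun t => t.app D) (IsIso.hom_inv_id s)) x)
    (h R (a ≫ f) V hPV hsV n)

end Groth.MiscGeom.Adq.Cech

end

namespace Groth.MiscGeom.Adq.Cech

open Adeq CategoryTheory AlgebraicGeometry Opposite

variable {P : MorphismProperty Scheme.{u}} {S : Scheme.{u}} [BigSite.OSh (Scheme.precoverage P)]

theorem faithfullyFlat_of_cover (hP : GoodProp P) {R : CommRingCat.{u}} (V : Alg R) (hV : P (bB V))
    (hs : ∀ x : PrimeSpectrum R, x ∈ Set.range (PrimeSpectrum.comap (algebraMap R V))) :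
    Module.FaithfullyFlat R V := by
  rw [← RingHom.faithfullyFlat_algebraMap_iff, RingHom.FaithfullyFlat.iff_flat_and_comap_surjective]
  exact ⟨(HasRingHomProperty.Spec_iff (P := @Flat)).1 (hP.le _ hV).1, hs⟩

theorem cechAcyclic_adequate (hP : GoodProp P) (M : BigSite.Mod (Scheme.precoverage P) S)
    (hM : adequateMod (Scheme.precoverage P) S M) : CechAcyclic P M.val.presheaf := by
  intro R a V hV hs n
  haveI := faithfullyFlat_of_cover hP V hV hs
  exact isExact_adequate (V : Type u) n (adequate_toMVF hP a M hM)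

theorem subsingleton_HU [∀ T : Scheme.{u}, HasSheafify (QuotSh.J (Scheme.precoverage P) T) AddCommGrpCat.{u + 1}]
    [∀ T : Scheme.{u}, (QuotSh.J (Scheme.precoverage P) T).WEqualsLocallyBijective AddCommGrpCat.{u + 1}]
    (hP : GoodProp P) (hPp : StableProd P) (F : BigSite.Ab (Scheme.precoverage P) S) (hF : CechAcyclic P F.obj)
    (U : Over S) [IsAffine U.left] (q : ℕ) (hq : 0 < q) :
    Subsingleton (BigSite.HU (Scheme.precoverage P) F q U) := by
  obtain ⟨q, rfl⟩ := Nat.exists_eq_succ_of_ne_zero hq.ne'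
  exact subsingleton_H hP hPp q _ (cechAcyclic_pull U.hom F.obj hF)

end Groth.MiscGeom.Adq.Cech
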