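import Groth.Agent.MiscGeom.AdeqBasic
import Mathlib.RingTheory.RingHom.Flat
import Mathlib.RingTheory.Flat.Basic
import Mathlib.RingTheory.TensorProduct.Basic
import Mathlib.LinearAlgebra.TensorProduct.Tower

/-!
# Adequate functors commute with flat base change
-/

universe u

open CategoryTheory CategoryTheory.Limits Opposite TensorProduct
open scoped ChangeOfRings

noncomputable section

namespace Groth.MiscGeom.Adq

open Adeq

variable {A : Type u} [CommRing A]

theorem bc_apply (F : MVF A) {B B' : Alg A} (f : B ⟶ B') (b' : B') (x : F.obj (pt B)) :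
    (F.bc f) (b' ⊗ₜ[(B : Type u), f.hom.toRingHom] x) = b' • tr F f x := by
  have h1 : (F.bc f) ((1 : B') ⊗ₜ[(B : Type u), f.hom.toRingHom] x) = tr F f x := by
    have := ModuleCat.extendRestrictScalarsAdj_homEquiv_apply.{u + 1} (f := f.hom.toRingHom) (F.bc f) x
    rw [MVF.bc, Equiv.apply_symm_apply] at this
    exact this.symm
  let z : (ModuleCat.extendScalars.{u, u, u + 1} f.hom.toRingHom).obj (F.obj (pt B)) :=
    (1 : B') ⊗ₜ[(B : Type u), f.hom.toRingHom] x
  have h3 : (F.bc f).hom (b' • z) = b' • (F.bc f).hom z := map_smul (F.bc f).hom b' z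
  have h2 : b' • z = b' ⊗ₜ[(B : Type u), f.hom.toRingHom] x :=
    (ModuleCat.ExtendScalars.smul_tmul f.hom.toRingHom b' (1 : B') x).trans (by rw [mul_one])
  rw [h2] at h3
  exact h3.trans (congrArg (b' • ·) h1)

/-- the linearised transition map -/
abbrev algOfHom {B B' : Alg A} (f : B ⟶ B') : Algebra (B : Type u) (B' : Type u) := f.hom.toRingHom.toAlgebra

theorem bc_bijective_iff (F : MVF A) {B B' : Alg A} (f : B ⟶ B') :
    letI := algOfHom f
    letI : Module (B : Type u) (F.obj (pt B')) := Module.compHom _ f.hom.toRingHom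
    ∀ (L : (B' : Type u) ⊗[(B : Type u)] (F.obj (pt B)) →+ F.obj (pt B')),
      (∀ b' x, L (b' ⊗ₜ x) = b' • tr F f x) → Function.Bijective L → IsIso (F.bc f) := by
  intro L hL hbij
  have he : ∀ z, (F.bc f) z = L z := by
    intro z
    induction z using TensorProduct.induction_on with
    | zero => exact (map_zero (F.bc f).hom).trans (map_zero L).symm
    | tmul b x => exact (bc_apply F f b x).trans (hL b x).symm
    | add p q hp hq =>
      exact (map_add (F.bc f).hom p q).trans ((congrArg₂ (· + ·) hp hq).trans (map_add L p q).symm)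
  rw [ConcreteCategory.isIso_iff_bijective]
  have : (ConcreteCategory.hom (F.bc f) : _ → _) = L := funext he
  rw [this]
  exact hbij

theorem exists_bcMap (F : MVF A) {B B' : Alg A} (f : B ⟶ B') :
    letI := algOfHom f
    ∃ L : (B' : Type u) ⊗[(B : Type u)] (F.obj (pt B)) →+ F.obj (pt B'), ∀ b' x, L (b' ⊗ₜ x) = b' • tr F f x := by
  letI := algOfHom f
  letI : Module (B : Type u) (F.obj (pt B')) := Module.compHom _ f.hom.toRingHom
  haveI : IsScalarTower (B : Type u) (B' : Type u) (F.obj (pt B')) :=
    ⟨fun b b' x => by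
      show (f.hom b * b') • x = f.hom b • (b' • x)
      rw [mul_smul]⟩
  let g : F.obj (pt B) →ₗ[(B : Type u)] F.obj (pt B') :=
    { toFun := tr F f, map_add' := map_add (tr F f), map_smul' := fun b x => tr_smul F f b x }
  exact ⟨(g.liftBaseChange (B' : Type u)).toAddMonoidHom, fun b' x => rfl⟩

theorem bcMap_U_bijective (M : ModuleCat.{u + 1} A) {B B' : Alg A} (f : B ⟶ B') :
    letI := algOfHom f
    ∀ L : (B' : Type u) ⊗[(B : Type u)] ((U M).obj (pt B)) →+ (U M).obj (pt B'),
      (∀ b' x, L (b' ⊗ₜ x) = b' • tr (U M) f x) → Function.Bijective L := by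
  intro L hL
  letI := algOfHom f
  haveI : IsScalarTower A (B : Type u) (B' : Type u) :=
    IsScalarTower.of_algebraMap_eq fun a => (f.hom.commutes a).symm
  let e : (B' : Type u) ⊗[(B : Type u)] ((B : Type u) ⊗[A] M) ≃ₗ[(B' : Type u)] (B' : Type u) ⊗[A] M :=
    TensorProduct.AlgebraTensorModule.cancelBaseChange A (B : Type u) (B' : Type u) (B' : Type u) M
  let e' := ((TensorProduct.AlgebraTensorModule.congr (LinearEquiv.refl (B' : Type u) (B' : Type u)) (T M B)).trans e).trans
    (T M B').symm
  have : ∀ z, L z = e' z := by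
    intro z
    induction z using TensorProduct.induction_on with
    | zero => simp
    | tmul b' x =>
      rw [hL]
      refine (T M B').injective ?_
      rw [map_smul, T_tr]
      show _ = T M B' ((T M B').symm (e (b' ⊗ₜ (T M B x))))
      rw [LinearEquiv.apply_symm_apply]
      induction T M B x using TensorProduct.induction_on with
      | zero => simp
      | tmul b m =>
        rw [LinearMap.rTensor_tmul, TensorProduct.smul_tmul']
        refine Eq.trans ?_ (TensorProduct.AlgebraTensorModule.cancelBaseChange_tmul A (B : Type u) (B' : Type u) b' m b).symm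
        exact congrArg (· ⊗ₜ[A] m) (mul_comm _ _)
      | add p q hp hq => simp only [map_add, smul_add, TensorProduct.tmul_add, hp, hq]
    | add p q hp hq => simp only [map_add, hp, hq]
  rw [show (L : _ → _) = e' from funext this]
  exact e'.bijective

theorem isIso_bc {F : MVF A} (hF : adequate A F) {B B' : Alg A} (f : B ⟶ B') (hf : f.hom.toRingHom.Flat) :
    IsIso (F.bc f) := by
  obtain ⟨P⟩ := nonempty_pres hF
  letI := algOfHom f
  haveI : Module.Flat (B : Type u) (B' : Type u) := hf
  obtain ⟨L, hL⟩ := exists_bcMap F f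
  obtain ⟨LM, hLM⟩ := exists_bcMap (U P.M) f
  obtain ⟨LN, hLN⟩ := exists_bcMap (U P.N) f
  refine bc_bijective_iff F f L hL ?_
  let i := (ap P.ι B).lTensor (B' : Type u)
  let h := (ap ((underline A).map P.φ) B).lTensor (B' : Type u)
  have hi : Function.Injective i := Module.Flat.lTensor_preserves_injective_linearMap _ (P.inj B)
  have hex : Function.Exact i h := Module.Flat.lTensor_exact (B' : Type u) (P.exact B)
  have c1 : ∀ z, LM (i z) = ap P.ι B' (L z) := by
    intro z
    induction z using TensorProduct.induction_on with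
    | zero => simp
    | tmul b x => rw [hL, map_smul, ap_tr]; exact hLM b (ap P.ι B x)
    | add p q hp hq => simp only [map_add, hp, hq]
  have c2 : ∀ z, LN (h z) = ap ((underline A).map P.φ) B' (LM z) := by
    intro z
    induction z using TensorProduct.induction_on with
    | zero => simp
    | tmul b x => rw [hLM, map_smul, ap_tr]; exact hLN b (ap ((underline A).map P.φ) B x)
    | add p q hp hq => simp only [map_add, hp, hq]
  have hbM := bcMap_U_bijective P.M f LM hLM
  have hbN := bcMap_U_bijective P.N f LN hLN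
  constructor
  · intro x y hxy
    refine hi (hbM.1 ?_)
    rw [c1, c1, hxy]
  · intro y
    obtain ⟨z, hz⟩ := hbM.2 (ap P.ι B' y)
    have : h z = 0 := hbN.1 (by rw [c2, hz, (P.exact B').apply_apply_eq_zero, map_zero])
    obtain ⟨x, rfl⟩ := (hex z).1 this
    exact ⟨x, P.inj B' (by rw [← c1, hz])⟩

end Groth.MiscGeom.Adq

end
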