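import Groth.Agent.MiscGeom.AdeqOps
import Groth.Agent.MiscGeom.AdeqBC
import Mathlib.RingTheory.RingHom.FaithfullyFlat
import Mathlib.RingTheory.Flat.FaithfullyFlat.Algebra
import Mathlib.LinearAlgebra.DFinsupp
import Mathlib.RingTheory.Ideal.Quotient.Operations

/-!
# Faithfully flat descent for adequate functors (degrees zero and one), single maps and finite families
-/

universe u v

open CategoryTheory CategoryTheory.Limits Opposite TensorProduct

noncomputable section

namespace Groth.MiscGeom.Adq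

open Adeq

/-! ### the Amitsur homotopy -/

section Homotopy

variable {B B' : Type u} [CommRing B] [CommRing B'] [Algebra B B']

/-- next differential: `z ↦ 1 ⊗ z - (1 ⊗ d) z` -/
def amNext {V : Type v} [AddCommGroup V] [Module B V] (d : V →ₗ[B] B' ⊗[B] V) :
    B' ⊗[B] V →ₗ[B] B' ⊗[B] (B' ⊗[B] V) :=
  TensorProduct.mk B B' (B' ⊗[B] V) 1 - d.lTensor B'

theorem amNext_comp {V : Type v} [AddCommGroup V] [Module B V] (d : V →ₗ[B] B' ⊗[B] V)
    (hd : amNext d ∘ₗ d = 0) : amNext (amNext d) ∘ₗ amNext d = 0 := by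
  refine LinearMap.ext fun z => ?_
  have h : (amNext d).lTensor B' (d.lTensor B' z) = 0 := by
    rw [← LinearMap.lTensor_comp_apply, hd, LinearMap.lTensor_zero, LinearMap.zero_apply]
  simp only [LinearMap.comp_apply, LinearMap.zero_apply]
  show TensorProduct.mk B B' (B' ⊗[B] (B' ⊗[B] V)) 1 (TensorProduct.mk B B' (B' ⊗[B] V) 1 z - d.lTensor B' z) -
    (amNext d).lTensor B' (TensorProduct.mk B B' (B' ⊗[B] V) 1 z - d.lTensor B' z) = 0
  simp only [LinearMap.sub_apply, map_sub, TensorProduct.mk_apply, LinearMap.lTensor_tmul, h]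
  rw [show amNext d z = (1 : B') ⊗ₜ[B] z - d.lTensor B' z from rfl, tmul_sub]
  abel

theorem amNext_exact [Module.FaithfullyFlat B B'] {V : Type v} [AddCommGroup V] [Module B V] (d : V →ₗ[B] B' ⊗[B] V)
    (hd : amNext d ∘ₗ d = 0) : Function.Exact d (amNext d) := by
  refine Module.FaithfullyFlat.lTensor_reflects_exact B B' d (amNext d) fun z => ⟨fun hz => ?_, ?_⟩
  · -- contraction of the first two factors
    let s : B' ⊗[B] (B' ⊗[B] V) →ₗ[B] B' ⊗[B] V :=
      (LinearMap.rTensor V (LinearMap.mul' B B')) ∘ₗ (TensorProduct.assoc B B' B' V).symm.toLinearMap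
    let s' : B' ⊗[B] (B' ⊗[B] (B' ⊗[B] V)) →ₗ[B] B' ⊗[B] (B' ⊗[B] V) :=
      (LinearMap.rTensor (B' ⊗[B] V) (LinearMap.mul' B B')) ∘ₗ (TensorProduct.assoc B B' B' (B' ⊗[B] V)).symm.toLinearMap
    have h1 : ∀ (a : B') (w : B' ⊗[B] V), s' (a ⊗ₜ[B] d.lTensor B' w) = d.lTensor B' (s (a ⊗ₜ[B] w)) := fun a w => by
      induction w using TensorProduct.induction_on with
      | zero => simp
      | add w w' hw hw' => simp only [map_add, tmul_add, hw, hw']
      | tmul x v => simp [s, s']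
    have h0 : ∀ (a : B') (w : B' ⊗[B] V), s' (a ⊗ₜ[B] ((1 : B') ⊗ₜ[B] w)) = a ⊗ₜ[B] w := fun a w => by simp [s']
    clear_value s s'
    have key : s' ∘ₗ (amNext d).lTensor B' = LinearMap.id - d.lTensor B' ∘ₗ s := by
      refine TensorProduct.ext' fun a y => ?_
      rw [LinearMap.comp_apply, LinearMap.lTensor_tmul, LinearMap.sub_apply, LinearMap.comp_apply, LinearMap.id_apply,
        show amNext d y = (1 : B') ⊗ₜ[B] y - d.lTensor B' y from rfl, tmul_sub, map_sub, h1, h0]
    refine ⟨s z, ?_⟩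
    have := LinearMap.congr_fun key z
    rw [LinearMap.comp_apply, hz, map_zero, LinearMap.sub_apply, LinearMap.id_apply, eq_comm, sub_eq_zero] at this
    exact this.symm
  · rintro ⟨w, rfl⟩
    rw [← LinearMap.lTensor_comp_apply, hd, LinearMap.lTensor_zero, LinearMap.zero_apply]

theorem amNext_mk_comp (V : Type v) [AddCommGroup V] [Module B V] :
    amNext (TensorProduct.mk B B' V 1) ∘ₗ TensorProduct.mk B B' V 1 = 0 := by
  refine LinearMap.ext fun v => ?_
  simp [amNext]

end Homotopy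

/-! ### coordinates in `B' ⊗_A M` -/

section Coord

variable {A B B' : Type u} [CommRing A] [CommRing B] [CommRing B'] [Algebra A B] [Algebra A B'] [Algebra B B']
  [IsScalarTower A B B'] (M : Type (u + 1)) [AddCommGroup M] [Module A M]

/-- `B' ⊗_B (B ⊗_A M) ≅ B' ⊗_A M` -/
def am1 : B' ⊗[B] (B ⊗[A] M) ≃ₗ[B] B' ⊗[A] M :=
  (AlgebraTensorModule.cancelBaseChange A B B B' M)

theorem am1_tmul (x : B') (b : B) (m : M) : am1 (A := A) M (x ⊗ₜ[B] (b ⊗ₜ[A] m)) = (b • x) ⊗ₜ[A] m :=
  AlgebraTensorModule.cancelBaseChange_tmul A B B x m b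

/-- one more tensor factor -/
def amUp {C : Type u} [CommRing C] [Algebra A C] [Algebra B C] [IsScalarTower A B C]
    {V : Type (u + 1)} [AddCommGroup V] [Module B V] (e : V ≃ₗ[B] C ⊗[A] M) :
    B' ⊗[B] V ≃ₗ[B] (B' ⊗[B] C) ⊗[A] M :=
  (e.lTensor B').trans (AlgebraTensorModule.assoc A B B B' C M).symm

theorem amUp_tmul {C : Type u} [CommRing C] [Algebra A C] [Algebra B C] [IsScalarTower A B C]
    {V : Type (u + 1)} [AddCommGroup V] [Module B V] (e : V ≃ₗ[B] C ⊗[A] M) (x : B') (v : V) (c : C) (m : M)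
    (hv : e v = c ⊗ₜ[A] m) : amUp (A := A) M e (x ⊗ₜ[B] v) = (x ⊗ₜ[B] c) ⊗ₜ[A] m := by
  show (AlgebraTensorModule.assoc A B B B' C M).symm (e.toLinearMap.lTensor B' (x ⊗ₜ[B] v)) = _
  rw [LinearMap.lTensor_tmul, LinearEquiv.coe_coe, hv, AlgebraTensorModule.assoc_symm_tmul]

end Coord

/-! ### adequate functors: one faithfully flat map -/

variable {A : Type u} [CommRing A]

theorem U_ext_tmul {M : ModuleCat.{u + 1} A} {B : Alg A} {Z : Type*} [AddCommMonoid Z] (φ ψ : (U M).obj (pt B) →+ Z)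
    (h : ∀ (b : B) (m : M), φ ((T M B).symm (b ⊗ₜ[A] m)) = ψ ((T M B).symm (b ⊗ₜ[A] m))) : φ = ψ := by
  refine AddMonoidHom.ext fun x => ?_
  obtain ⟨y, rfl⟩ := (T M B).symm.surjective x
  induction y using TensorProduct.induction_on with
  | zero => simp
  | add y y' hy hy' => simp only [map_add, hy, hy']
  | tmul b m => exact h b m

section Single

variable {B B' : Alg A} (f : B ⟶ B')

theorem tower_of_hom : letI := algOfHom f; IsScalarTower A (B : Type u) (B' : Type u) := by
  letI := algOfHom f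
  exact IsScalarTower.of_algebraMap_eq fun a => (f.hom.commutes a).symm

theorem U_sep (hf : f.hom.toRingHom.FaithfullyFlat) (M : ModuleCat.{u + 1} A) (x : (U M).obj (pt B))
    (hx : tr (U M) f x = 0) : x = 0 := by
  letI := algOfHom f
  haveI := tower_of_hom f
  haveI : Module.FaithfullyFlat (B : Type u) (B' : Type u) := hf
  have h : ∀ y : (B : Type u) ⊗[A] M, am1 (B' := (B' : Type u)) M ((1 : B') ⊗ₜ[(B : Type u)] y) = f.hom.toLinearMap.rTensor M y := fun y => by
    induction y using TensorProduct.induction_on with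
    | zero => simp
    | add y y' hy hy' => simp only [tmul_add, map_add, hy, hy']
    | tmul b m =>
      rw [am1_tmul, LinearMap.rTensor_tmul, Algebra.smul_def, mul_one]
      rfl
  refine (T M B).injective ?_
  rw [map_zero]
  refine Module.FaithfullyFlat.tensorProduct_mk_injective (A := (B : Type u)) (B := (B' : Type u)) _ ?_
  refine (am1 (A := A) M).injective ?_
  show am1 M ((1 : B') ⊗ₜ[(B : Type u)] T M B x) = am1 M ((1 : B') ⊗ₜ[(B : Type u)] 0)
  rw [h, tmul_zero, map_zero]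
  exact hx

/-- degree zero and one for `U M` -/
theorem U_descent (hf : f.hom.toRingHom.FaithfullyFlat) (M : ModuleCat.{u + 1} A) :
    (∀ y : (U M).obj (pt B'), (∀ (C : Alg A) (p q : B' ⟶ C), f ≫ p = f ≫ q → tr (U M) p y = tr (U M) q y) →
      ∃ x, tr (U M) f x = y) ∧
    (∀ δ : ∀ (C : Alg A) (p q : B' ⟶ C), f ≫ p = f ≫ q → (U M).obj (pt C),
      (∀ (C C' : Alg A) (h : C ⟶ C') (p q : B' ⟶ C) (e : f ≫ p = f ≫ q) (e' : f ≫ (p ≫ h) = f ≫ (q ≫ h)),
        tr (U M) h (δ C p q e) = δ C' (p ≫ h) (q ≫ h) e') →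
      (∀ (C : Alg A) (p q r : B' ⟶ C) (e₁ : f ≫ p = f ≫ q) (e₂ : f ≫ q = f ≫ r),
        δ C p r (e₁.trans e₂) = δ C p q e₁ + δ C q r e₂) →
      ∃ b : (U M).obj (pt B'), ∀ (C : Alg A) (p q : B' ⟶ C) (e : f ≫ p = f ≫ q),
        δ C p q e = tr (U M) q b - tr (U M) p b) := by
  letI := algOfHom f
  haveI := tower_of_hom f
  haveI : Module.FaithfullyFlat (B : Type u) (B' : Type u) := hf
  let N := (B : Type u) ⊗[A] M
  let d₀ : N →ₗ[(B : Type u)] (B' : Type u) ⊗[(B : Type u)] N := TensorProduct.mk _ _ _ 1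
  let e₁ : (B' : Type u) ⊗[(B : Type u)] N ≃ₗ[(B : Type u)] (B' : Type u) ⊗[A] M := am1 M
  let e₂ := amUp (B' := (B' : Type u)) M e₁
  let e₃ := amUp (B' := (B' : Type u)) M e₂
  let C₂ : Alg A := algOf A ((B' : Type u) ⊗[(B : Type u)] (B' : Type u))
  let C₃ : Alg A := algOf A ((B' : Type u) ⊗[(B : Type u)] ((B' : Type u) ⊗[(B : Type u)] (B' : Type u)))
  let iL : B' ⟶ C₂ := CommAlgCat.ofHom
    ((Algebra.TensorProduct.includeLeft : (B' : Type u) →ₐ[(B : Type u)] (B' : Type u) ⊗[(B : Type u)] (B' : Type u)).restrictScalars A)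
  let iR : B' ⟶ C₂ := CommAlgCat.ofHom
    ((Algebra.TensorProduct.includeRight : (B' : Type u) →ₐ[(B : Type u)] (B' : Type u) ⊗[(B : Type u)] (B' : Type u)).restrictScalars A)
  let g₂₃ : C₂ ⟶ C₃ := CommAlgCat.ofHom
    ((Algebra.TensorProduct.includeRight : ((B' : Type u) ⊗[(B : Type u)] (B' : Type u)) →ₐ[(B : Type u)] _).restrictScalars A)
  let g₁₃ : C₂ ⟶ C₃ := CommAlgCat.ofHom ((Algebra.TensorProduct.map (AlgHom.id (B : Type u) (B' : Type u))
    (Algebra.TensorProduct.includeRight : (B' : Type u) →ₐ[(B : Type u)] _)).restrictScalars A)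
  let g₁₂ : C₂ ⟶ C₃ := CommAlgCat.ofHom ((Algebra.TensorProduct.map (AlgHom.id (B : Type u) (B' : Type u))
    (Algebra.TensorProduct.includeLeft : (B' : Type u) →ₐ[(B : Type u)] _)).restrictScalars A)
  have hL : f ≫ iL = f ≫ iR := CommAlgCat.hom_ext (AlgHom.ext fun b => by
    show (algebraMap (B : Type u) (B' : Type u) b) ⊗ₜ[(B : Type u)] (1 : B') =
      (1 : B') ⊗ₜ[(B : Type u)] (algebraMap (B : Type u) (B' : Type u) b)
    rw [Algebra.algebraMap_eq_smul_one, TensorProduct.smul_tmul])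
  have hfac : ∀ (C : Alg A) (p q : B' ⟶ C), f ≫ p = f ≫ q → ∃ φ : C₂ ⟶ C, iL ≫ φ = p ∧ iR ≫ φ = q :=
    fun C p q e => by
      letI := algOfHom (f ≫ p)
      haveI := tower_of_hom (f ≫ p)
      let p' : (B' : Type u) →ₐ[(B : Type u)] C := { p.hom.toRingHom with commutes' := fun b => rfl }
      let q' : (B' : Type u) →ₐ[(B : Type u)] C :=
        { q.hom.toRingHom with commutes' := fun b => (DFunLike.congr_fun (congrArg CommAlgCat.Hom.hom e) b).symm }
      refine ⟨CommAlgCat.ofHom ((Algebra.TensorProduct.lift p' q' fun _ _ => mul_comm _ _).restrictScalars A), ?_, ?_⟩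
      · refine CommAlgCat.hom_ext (AlgHom.ext fun x => ?_)
        show Algebra.TensorProduct.lift p' q' (fun _ _ => mul_comm _ _) (x ⊗ₜ 1) = _
        rw [Algebra.TensorProduct.lift_tmul, map_one, mul_one]
        rfl
      · refine CommAlgCat.hom_ext (AlgHom.ext fun x => ?_)
        show Algebra.TensorProduct.lift p' q' (fun _ _ => mul_comm _ _) (1 ⊗ₜ x) = _
        rw [Algebra.TensorProduct.lift_tmul, map_one, one_mul]
        rfl
  -- the differentials in coordinates
  have hR : ∀ y, e₂ ((1 : B') ⊗ₜ[(B : Type u)] y) = iR.hom.toLinearMap.rTensor M (e₁ y) := fun y => by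
    induction y using TensorProduct.induction_on with
    | zero => simp
    | add y y' hy hy' => simp only [tmul_add, map_add, hy, hy']
    | tmul x n =>
      induction n using TensorProduct.induction_on with
      | zero => simp
      | add n n' hn hn' => simp only [tmul_add, map_add, hn, hn']
      | tmul b m =>
        rw [amUp_tmul M e₁ 1 _ (b • x) m (am1_tmul M x b m), am1_tmul, LinearMap.rTensor_tmul]
        rfl
  have hLft : ∀ y, e₂ (d₀.lTensor (B' : Type u) y) = iL.hom.toLinearMap.rTensor M (e₁ y) := fun y => by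
    induction y using TensorProduct.induction_on with
    | zero => simp
    | add y y' hy hy' => simp only [map_add, hy, hy']
    | tmul x n =>
      induction n using TensorProduct.induction_on with
      | zero => simp
      | add n n' hn hn' => simp only [tmul_add, map_add, hn, hn']
      | tmul b m =>
        rw [LinearMap.lTensor_tmul, TensorProduct.mk_apply, amUp_tmul M e₁ x _ (b • 1) m (am1_tmul M 1 b m), am1_tmul,
          LinearMap.rTensor_tmul]
        show _ = ((b • x) ⊗ₜ[(B : Type u)] (1 : B')) ⊗ₜ[A] m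
        rw [TensorProduct.smul_tmul]
  have h23 : ∀ z, e₃ ((1 : B') ⊗ₜ[(B : Type u)] z) = g₂₃.hom.toLinearMap.rTensor M (e₂ z) := fun z => by
    induction z using TensorProduct.induction_on with
    | zero => simp
    | add z z' hz hz' => simp only [tmul_add, map_add, hz, hz']
    | tmul x y =>
      induction y using TensorProduct.induction_on with
      | zero => simp
      | add y y' hy hy' => simp only [tmul_add, map_add, hy, hy']
      | tmul x' n =>
        induction n using TensorProduct.induction_on with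
        | zero => simp
        | add n n' hn hn' => simp only [tmul_add, map_add, hn, hn']
        | tmul b m =>
          have h := amUp_tmul M e₁ x _ (b • x') m (am1_tmul M x' b m)
          rw [amUp_tmul M e₂ 1 _ _ m h, h, LinearMap.rTensor_tmul]
          rfl
  have h13 : ∀ z, e₃ ((TensorProduct.mk (B : Type u) (B' : Type u) _ 1).lTensor (B' : Type u) z) =
      g₁₃.hom.toLinearMap.rTensor M (e₂ z) := fun z => by
    induction z using TensorProduct.induction_on with
    | zero => simp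
    | add z z' hz hz' => simp only [map_add, hz, hz']
    | tmul x y =>
      induction y using TensorProduct.induction_on with
      | zero => simp
      | add y y' hy hy' => simp only [tmul_add, map_add, hy, hy']
      | tmul x' n =>
        induction n using TensorProduct.induction_on with
        | zero => simp
        | add n n' hn hn' => simp only [tmul_add, map_add, hn, hn']
        | tmul b m =>
          have h := amUp_tmul M e₁ x _ (b • x') m (am1_tmul M x' b m)
          have h' := amUp_tmul M e₁ (1 : (B' : Type u)) _ (b • x') m (am1_tmul M x' b m)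
          rw [LinearMap.lTensor_tmul, TensorProduct.mk_apply, amUp_tmul M e₂ x _ _ m h', h, LinearMap.rTensor_tmul]
          rfl
  have h12 : ∀ z, e₃ ((d₀.lTensor (B' : Type u)).lTensor (B' : Type u) z) =
      g₁₂.hom.toLinearMap.rTensor M (e₂ z) := fun z => by
    induction z using TensorProduct.induction_on with
    | zero => simp
    | add z z' hz hz' => simp only [map_add, hz, hz']
    | tmul x y =>
      induction y using TensorProduct.induction_on with
      | zero => simp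
      | add y y' hy hy' => simp only [tmul_add, map_add, hy, hy']
      | tmul x' n =>
        induction n using TensorProduct.induction_on with
        | zero => simp
        | add n n' hn hn' => simp only [tmul_add, map_add, hn, hn']
        | tmul b m =>
          have h := amUp_tmul M e₁ x _ (b • x') m (am1_tmul M x' b m)
          have h' := amUp_tmul M e₁ x' _ (b • (1 : B')) m (am1_tmul M (1 : B') b m)
          rw [LinearMap.lTensor_tmul, LinearMap.lTensor_tmul, TensorProduct.mk_apply, amUp_tmul M e₂ x _ _ m h', h,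
            LinearMap.rTensor_tmul]
          show _ = (x ⊗ₜ[(B : Type u)] ((b • x') ⊗ₜ[(B : Type u)] (1 : B'))) ⊗ₜ[A] m
          rw [TensorProduct.smul_tmul b x' (1 : B')]
  refine ⟨fun y hy => ?_, fun δ hnat hcoc => ?_⟩
  · have hz : amNext d₀ (e₁.symm (T M B' y)) = 0 := by
      refine e₂.injective ?_
      rw [show amNext d₀ (e₁.symm (T M B' y)) =
        (1 : B') ⊗ₜ[(B : Type u)] e₁.symm (T M B' y) - d₀.lTensor (B' : Type u) (e₁.symm (T M B' y)) from rfl,
        map_sub, map_zero, sub_eq_zero, hR, hLft, e₁.apply_symm_apply]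
      exact (hy C₂ iL iR hL).symm
    obtain ⟨n, hn⟩ := (amNext_exact d₀ (amNext_mk_comp N) _).1 hz
    refine ⟨(T M B).symm n, (T M B').injective ?_⟩
    have h1 : ∀ w : N, e₁ ((1 : (B' : Type u)) ⊗ₜ[(B : Type u)] w) = f.hom.toLinearMap.rTensor M w := fun w => by
      induction w using TensorProduct.induction_on with
      | zero => simp
      | add a a' ha ha' => simp only [tmul_add, map_add, ha, ha']
      | tmul b m =>
        rw [LinearMap.rTensor_tmul]
        show am1 M ((1 : B') ⊗ₜ[(B : Type u)] (b ⊗ₜ[A] m)) = _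
        rw [am1_tmul, Algebra.smul_def, mul_one]
        rfl
    rw [T_tr, (T M B).apply_symm_apply, ← e₁.apply_symm_apply (T M B' y), ← hn, ← h1]
    rfl
  · let z := e₂.symm (T M C₂ (δ C₂ iL iR hL))
    have hjoin : ∀ x : (B' : Type u), g₂₃.hom (iL.hom x) = g₁₂.hom (iR.hom x) ∧ g₁₂.hom (iL.hom x) = g₁₃.hom (iL.hom x) ∧
        g₁₃.hom (iR.hom x) = g₂₃.hom (iR.hom x) := fun x => ⟨rfl, rfl, rfl⟩
    have ej1 : iL ≫ g₁₂ = iL ≫ g₁₃ := CommAlgCat.hom_ext (AlgHom.ext fun x => (hjoin x).2.1)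
    have ej2 : iL ≫ g₂₃ = iR ≫ g₁₂ := CommAlgCat.hom_ext (AlgHom.ext fun x => (hjoin x).1)
    have ej3 : iR ≫ g₁₃ = iR ≫ g₂₃ := CommAlgCat.hom_ext (AlgHom.ext fun x => (hjoin x).2.2)
    have hpost : ∀ {C : Alg A} (g : C₂ ⟶ C), f ≫ (iL ≫ g) = f ≫ (iR ≫ g) := fun g => by
      rw [← Category.assoc, hL, Category.assoc]
    have hz : amNext (amNext d₀) z = 0 := by
      refine e₃.injective ?_
      rw [show amNext (amNext d₀) z =
        (1 : B') ⊗ₜ[(B : Type u)] z - (TensorProduct.mk (B : Type u) (B' : Type u) _ 1 - d₀.lTensor (B' : Type u)).lTensor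
          (B' : Type u) z from rfl, LinearMap.lTensor_sub, LinearMap.sub_apply, map_sub, map_sub, map_zero, h23, h13, h12,
        e₂.apply_symm_apply, sub_eq_zero]
      have t₂₃ := hnat C₂ C₃ g₂₃ iL iR hL (hpost _)
      have t₁₃ := hnat C₂ C₃ g₁₃ iL iR hL (hpost _)
      have t₁₂ := hnat C₂ C₃ g₁₂ iL iR hL (hpost _)
      have e₁₂ : f ≫ (iL ≫ g₁₂) = f ≫ (iR ≫ g₁₂) := hpost _
      have e₂₃ : f ≫ (iR ≫ g₁₂) = f ≫ (iR ≫ g₂₃) := by rw [← ej2]; exact hpost _
      have c := hcoc C₃ (iL ≫ g₁₂) (iR ≫ g₁₂) (iR ≫ g₂₃) e₁₂ e₂₃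
      have d13 : δ C₃ (iL ≫ g₁₃) (iR ≫ g₁₃) (hpost _) = δ C₃ (iL ≫ g₁₂) (iR ≫ g₂₃) (e₁₂.trans e₂₃) := by
        congr 1 <;> first | exact ej1.symm | exact ej3
      have d23 : δ C₃ (iL ≫ g₂₃) (iR ≫ g₂₃) (hpost _) = δ C₃ (iR ≫ g₁₂) (iR ≫ g₂₃) e₂₃ := by
        congr 1 <;> exact ej2
      show T M C₃ (tr (U M) g₂₃ (δ C₂ iL iR hL)) =
        T M C₃ (tr (U M) g₁₃ (δ C₂ iL iR hL)) - T M C₃ (tr (U M) g₁₂ (δ C₂ iL iR hL))
      rw [t₂₃, t₁₃, t₁₂, d13, d23, c, map_add]
      abel
    obtain ⟨w, hw⟩ := (amNext_exact (amNext d₀) (amNext_comp d₀ (amNext_mk_comp N)) _).1 hz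
    refine ⟨(T M B').symm (e₁ w), fun C p q e => ?_⟩
    obtain ⟨φ, rfl, rfl⟩ := hfac C p q e
    have h0 : δ C₂ iL iR hL = tr (U M) iR ((T M B').symm (e₁ w)) - tr (U M) iL ((T M B').symm (e₁ w)) := by
      refine (T M C₂).injective ?_
      rw [map_sub, T_tr, T_tr, (T M B').apply_symm_apply, ← e₂.apply_symm_apply (T M C₂ (δ C₂ iL iR hL)), ← hR, ← hLft,
        ← map_sub]
      exact congrArg e₂ hw.symm
    rw [← hnat C₂ C φ iL iR hL e, h0, map_sub, tr_comp, tr_comp]

end Single

theorem sep_single {F : MVF A} (hF : adequate A F) {B B' : Alg A} (f : B ⟶ B') (hf : f.hom.toRingHom.FaithfullyFlat)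
    (x : F.obj (pt B)) (hx : tr F f x = 0) : x = 0 := by
  obtain ⟨P⟩ := nonempty_pres hF
  refine P.inj B ?_
  rw [map_zero]
  refine U_sep f hf P.M _ ?_
  rw [← ap_tr, hx, map_zero]

theorem glue_single {F : MVF A} (hF : adequate A F) {B B' : Alg A} (f : B ⟶ B') (hf : f.hom.toRingHom.FaithfullyFlat)
    (y : F.obj (pt B')) (hy : ∀ (C : Alg A) (p q : B' ⟶ C), f ≫ p = f ≫ q → tr F p y = tr F q y) :
    ∃ x, tr F f x = y := by
  obtain ⟨P⟩ := nonempty_pres hF
  obtain ⟨x, hx⟩ := (U_descent f hf P.M).1 (ap P.ι B' y) fun C p q e => by rw [← ap_tr, ← ap_tr, hy C p q e]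
  have h : ap ((underline A).map P.φ) B x = 0 := by
    refine U_sep f hf P.N _ ?_
    rw [← ap_tr, hx]
    exact (P.exact B').apply_apply_eq_zero y
  obtain ⟨x', rfl⟩ := (P.exact B x).1 h
  exact ⟨x', P.inj B' (by rw [ap_tr, hx])⟩

theorem coboundary_single {F : MVF A} (hF : adequate A F) {B B' : Alg A} (f : B ⟶ B')
    (hf : f.hom.toRingHom.FaithfullyFlat)
    (δ : ∀ (C : Alg A) (p q : B' ⟶ C), f ≫ p = f ≫ q → F.obj (pt C))
    (hnat : ∀ (C C' : Alg A) (h : C ⟶ C') (p q : B' ⟶ C) (e : f ≫ p = f ≫ q) (e' : f ≫ (p ≫ h) = f ≫ (q ≫ h)),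
      tr F h (δ C p q e) = δ C' (p ≫ h) (q ≫ h) e')
    (hcoc : ∀ (C : Alg A) (p q r : B' ⟶ C) (e₁ : f ≫ p = f ≫ q) (e₂ : f ≫ q = f ≫ r),
      δ C p r (e₁.trans e₂) = δ C p q e₁ + δ C q r e₂) :
    ∃ b : F.obj (pt B'), ∀ (C : Alg A) (p q : B' ⟶ C) (e : f ≫ p = f ≫ q), δ C p q e = tr F q b - tr F p b := by
  obtain ⟨P⟩ := nonempty_pres hF
  obtain ⟨b, hb⟩ := (U_descent f hf P.M).2 (fun C p q e => ap P.ι C (δ C p q e))
    (fun C C' h p q e e' => (ap_tr P.ι h _).symm.trans (congrArg (ap P.ι C') (hnat C C' h p q e e')))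
    (fun C p q r e₁ e₂ => (congrArg (ap P.ι C) (hcoc C p q r e₁ e₂)).trans (map_add _ _ _))
  obtain ⟨y, hy⟩ := (U_descent f hf P.N).1 (ap ((underline A).map P.φ) B' b) fun C p q e => by
    have h : ap ((underline A).map P.φ) C (tr (U P.M) q b - tr (U P.M) p b) = 0 := by
      rw [← hb C p q e]
      exact (P.exact C).apply_apply_eq_zero _
    rw [map_sub, sub_eq_zero, ap_tr, ap_tr] at h
    exact h.symm
  obtain ⟨Q, h, hh⟩ := exists_image (adequate_U P.M) ((underline A).map P.φ)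
  obtain ⟨x, hx⟩ := (hh B y).1 <| by
    refine U_sep f hf Q _ ?_
    rw [← ap_tr, hy]
    exact (hh B').apply_apply_eq_zero b
  obtain ⟨b', hb'⟩ := (P.exact B' (b - tr (U P.M) f x)).1 (by rw [map_sub, ap_tr, hx, hy, sub_self])
  refine ⟨b', fun C p q e => P.inj C ?_⟩
  rw [map_sub, ap_tr, ap_tr, hb', map_sub, map_sub, tr_comp, tr_comp, e, hb C p q e]
  abel

/-! ### finite families -/

section Family

/-- the quotient by `1 - e` -/
abbrev idemQuot (C : Alg A) (e : C) : Alg A := algOf A ((C : Type u) ⧸ Ideal.span {1 - e})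

/-- projection to the part cut out by `e` -/
def idemProj (C : Alg A) (e : C) : C ⟶ idemQuot C e := CommAlgCat.ofHom (Ideal.Quotient.mkₐ A _)

theorem idemProj_self (C : Alg A) (e : C) : (idemProj C e).hom e = 1 := by
  show Ideal.Quotient.mk _ e = Ideal.Quotient.mk _ 1
  rw [eq_comm, Ideal.Quotient.eq, Ideal.mem_span_singleton]

theorem smul_eq_zero_of_idemProj {C : Alg A} {e : C} (he : e * e = e) (M : ModuleCat.{u + 1} A)
    (x : (U M).obj (pt C)) (hx : tr (U M) (idemProj C e) x = 0) : e • x = 0 := by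
  let μ : ((C : Type u) ⧸ Ideal.span {1 - e}) →ₗ[A] C :=
    ((Submodule.liftQ (Ideal.span {1 - e}) (LinearMap.mul (C : Type u) C e) (by
      rw [Ideal.span, Submodule.span_le, Set.singleton_subset_iff]
      show e * (1 - e) = 0
      rw [mul_sub, mul_one, he, sub_self])).restrictScalars A)
  have hcomp : ∀ y : (C : Type u) ⊗[A] M, μ.rTensor M ((idemProj C e).hom.toLinearMap.rTensor M y) = e • y := fun y => by
    induction y using TensorProduct.induction_on with
    | zero => simp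
    | add y y' hy hy' => simp only [map_add, smul_add, hy, hy']
    | tmul c m =>
      rw [LinearMap.rTensor_tmul, LinearMap.rTensor_tmul, TensorProduct.smul_tmul']
      rfl
  refine (T M C).injective ?_
  rw [map_smul, map_zero, ← hcomp]
  exact (congrArg (μ.rTensor M) hx).trans (map_zero _)

variable {σ : Type*} [Fintype σ] [DecidableEq σ]

theorem pieces_bijective {F : MVF A} (hF : adequate A F) (C : Alg A) (e : σ → C) (he : ∀ i, e i * e i = e i)
    (ho : ∀ i j, i ≠ j → e i * e j = 0) (hs : ∑ i, e i = 1) :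
    (∀ x : F.obj (pt C), (∀ i, tr F (idemProj C (e i)) x = 0) → x = 0) ∧
      ∀ y : ∀ i, F.obj (pt (idemQuot C (e i))), ∃ x, ∀ i, tr F (idemProj C (e i)) x = y i := by
  have hU : ∀ (M : ModuleCat.{u + 1} A) (x : (U M).obj (pt C)), (∀ i, tr (U M) (idemProj C (e i)) x = 0) → x = 0 :=
    fun M x hx => by
      rw [← one_smul (C : Type u) x, ← hs, Finset.sum_smul]
      exact Finset.sum_eq_zero fun i _ => smul_eq_zero_of_idemProj (he i) M x (hx i)
  obtain ⟨P⟩ := nonempty_pres hF
  refine ⟨fun x hx => P.inj C (by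
    rw [map_zero]
    exact hU _ _ fun i => by rw [← ap_tr, hx i, map_zero]), fun y => ?_⟩
  have hl : ∀ i, ∃ w, tr (U P.M) (idemProj C (e i)) w = ap P.ι (idemQuot C (e i)) (y i) := fun i => by
    obtain ⟨w, hw⟩ := LinearMap.rTensor_surjective P.M (g := (idemProj C (e i)).hom.toLinearMap)
      Ideal.Quotient.mk_surjective (T P.M (idemQuot C (e i)) (ap P.ι (idemQuot C (e i)) (y i)))
    exact ⟨(T P.M C).symm w, hw⟩
  choose w hw using hl
  have hz : ∀ i, tr (U P.M) (idemProj C (e i)) (∑ j, e j • w j) = ap P.ι (idemQuot C (e i)) (y i) := fun i => by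
    rw [map_sum, Finset.sum_eq_single i]
    · rw [tr_smul, idemProj_self, one_smul, hw]
    · intro j _ hj
      rw [tr_smul]
      have : (idemProj C (e i)).hom (e j) = 0 := by
        have h0 : (idemProj C (e i)).hom (e i * e j) = 0 := by rw [ho i j (Ne.symm hj), map_zero]
        rwa [map_mul, idemProj_self, one_mul] at h0
      rw [this, zero_smul]
    · exact fun h => absurd (Finset.mem_univ i) h
  obtain ⟨x, hx⟩ := (P.exact C (∑ j, e j • w j)).1 (hU _ _ fun i => by
    rw [← ap_tr, hz i]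
    exact (P.exact _).apply_apply_eq_zero _)
  exact ⟨x, fun i => P.inj _ (by rw [ap_tr, hx, hz])⟩

variable {κ : Type u} [Fintype κ] [DecidableEq κ] {B : Alg A} (Bk : κ → Alg A)

/-- the finite product of algebras -/
abbrev prodAlg : Alg A := algOf A (∀ k, (Bk k : Type u))

/-- projection from the product -/
def prodProj (k : κ) : prodAlg Bk ⟶ Bk k := CommAlgCat.ofHom (Pi.evalAlgHom A (fun k => (Bk k : Type u)) k)

variable (f : ∀ k, B ⟶ Bk k)

/-- map to the product -/
def prodLift : B ⟶ prodAlg Bk := CommAlgCat.ofHom (Pi.algHom A (fun k => (Bk k : Type u)) fun k => (f k).hom)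

theorem prodLift_proj (k : κ) : prodLift Bk f ≫ prodProj Bk k = f k := rfl

/-- the idempotents of the product -/
abbrev prodIdem (k : κ) : prodAlg Bk := Pi.single k 1

theorem prodLift_ff (hflat : ∀ k, (f k).hom.toRingHom.Flat)
    (hsurj : ∀ P : PrimeSpectrum B, ∃ k, P ∈ Set.range (PrimeSpectrum.comap (f k).hom.toRingHom)) :
    (prodLift Bk f).hom.toRingHom.FaithfullyFlat := by
  rw [RingHom.FaithfullyFlat.iff_flat_and_comap_surjective]
  constructor
  · letI : ∀ k, Algebra (B : Type u) (Bk k : Type u) := fun k => algOfHom (f k)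
    haveI : ∀ k, Module.Flat (B : Type u) (Bk k : Type u) := hflat
    have h : Module.Flat (B : Type u) (∀ k, (Bk k : Type u)) :=
      Module.Flat.of_linearEquiv (DFinsupp.linearEquivFunOnFintype (R := (B : Type u))
        (M := fun k => (Bk k : Type u))).symm
    have e : (prodLift Bk f).hom.toRingHom = algebraMap (B : Type u) (∀ k, (Bk k : Type u)) := rfl
    rw [e, RingHom.flat_algebraMap_iff]
    exact h
  · intro P
    obtain ⟨k, Q, rfl⟩ := hsurj P
    exact ⟨PrimeSpectrum.comap (prodProj Bk k).hom.toRingHom Q, rfl⟩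

variable {Bk} in
theorem prod_piece {C : Alg A} (p : prodAlg Bk ⟶ C) (k : κ) {D : Alg A} (h : C ⟶ D)
    (hk : h.hom (p.hom (prodIdem Bk k)) = 1) : ∃ pk : Bk k ⟶ D, p ≫ h = prodProj Bk k ≫ pk := by
  let g := (p ≫ h).hom
  have key : ∀ x : prodAlg Bk, g x = g (Pi.single k (x k)) := fun x => by
    have h1 : g x = g x * g (prodIdem Bk k) := by
      rw [show g (prodIdem Bk k) = 1 from hk, mul_one]
    rw [h1, ← map_mul]
    congr 1
    ext j
    by_cases hj : j = k
    · subst hj; simp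
    · simp [hj]
  refine ⟨CommAlgCat.ofHom
    { toFun := fun b => g (Pi.single k b)
      map_one' := hk
      map_mul' := fun a b => by rw [← map_mul, ← Pi.single_mul]
      map_zero' := by rw [Pi.single_zero, map_zero]
      map_add' := fun a b => by rw [← map_add, ← Pi.single_add]
      commutes' := fun r => by
        rw [← g.commutes r, key (algebraMap A (prodAlg Bk) r)]
        rfl }, CommAlgCat.hom_ext (AlgHom.ext key)⟩

theorem prod_complete {C : Alg A} (p q : prodAlg Bk ⟶ C) :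
    (∀ i : κ × κ, (p.hom (prodIdem Bk i.1) * q.hom (prodIdem Bk i.2)) * (p.hom (prodIdem Bk i.1) * q.hom (prodIdem Bk i.2)) =
      p.hom (prodIdem Bk i.1) * q.hom (prodIdem Bk i.2)) ∧
    (∀ i j : κ × κ, i ≠ j → (p.hom (prodIdem Bk i.1) * q.hom (prodIdem Bk i.2)) *
      (p.hom (prodIdem Bk j.1) * q.hom (prodIdem Bk j.2)) = 0) ∧
    ∑ i : κ × κ, p.hom (prodIdem Bk i.1) * q.hom (prodIdem Bk i.2) = 1 := by
  have h1 : ∀ k, prodIdem Bk k * prodIdem Bk k = prodIdem Bk k := fun k => by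
    rw [← Pi.single_mul, one_mul]
  have h0 : ∀ k l, k ≠ l → prodIdem Bk k * prodIdem Bk l = 0 := fun k l hkl => by
    ext j
    by_cases hj : j = k
    · subst hj; simp [hkl]; rfl
    · simp [hj]; rfl
  have hs : ∑ k, prodIdem Bk k = 1 := Finset.univ_sum_single (1 : prodAlg Bk)
  refine ⟨fun i => ?_, fun i j hij => ?_, ?_⟩
  · rw [mul_mul_mul_comm, ← map_mul, ← map_mul, h1, h1]
  · rw [mul_mul_mul_comm, ← map_mul, ← map_mul]
    by_cases h : i.1 = j.1
    · rw [h0 i.2 j.2 fun h' => hij (Prod.ext h h'), map_zero, mul_zero]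
    · rw [h0 _ _ h, map_zero, zero_mul]
  · rw [Fintype.sum_prod_type]
    dsimp only
    rw [← Finset.sum_mul_sum, ← map_sum, ← map_sum, hs, map_one, map_one, mul_one]

theorem idemProj_mul {C : Alg A} (a b : C) (ha : a * a = a) (hb : b * b = b) :
    (idemProj C (a * b)).hom a = 1 ∧ (idemProj C (a * b)).hom b = 1 := by
  constructor
  · have h : (idemProj C (a * b)).hom (a * (a * b)) = (idemProj C (a * b)).hom a := by
      rw [map_mul, idemProj_self, mul_one]
    rw [← h, ← mul_assoc, ha, idemProj_self]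
  · have h : (idemProj C (a * b)).hom ((a * b) * b) = (idemProj C (a * b)).hom b := by
      rw [map_mul, idemProj_self, one_mul]
    rw [← h, mul_assoc, hb, idemProj_self]

theorem prod_pieces {C : Alg A} (p q : prodAlg Bk ⟶ C) (i : κ × κ) :
    ∃ (pk : Bk i.1 ⟶ idemQuot C (p.hom (prodIdem Bk i.1) * q.hom (prodIdem Bk i.2)))
      (ql : Bk i.2 ⟶ idemQuot C (p.hom (prodIdem Bk i.1) * q.hom (prodIdem Bk i.2))),
      p ≫ idemProj C _ = prodProj Bk i.1 ≫ pk ∧ q ≫ idemProj C _ = prodProj Bk i.2 ≫ ql := by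
  have h1 : ∀ k, prodIdem Bk k * prodIdem Bk k = prodIdem Bk k := fun k => by
    rw [← Pi.single_mul, one_mul]
  have h := idemProj_mul (p.hom (prodIdem Bk i.1)) (q.hom (prodIdem Bk i.2)) (by rw [← map_mul, h1]) (by rw [← map_mul, h1])
  obtain ⟨pk, hpk⟩ := prod_piece p i.1 _ h.1
  obtain ⟨ql, hql⟩ := prod_piece q i.2 _ h.2
  exact ⟨pk, ql, hpk, hql⟩

theorem sep_family {F : MVF A} (hF : adequate A F) (hflat : ∀ k, (f k).hom.toRingHom.Flat)
    (hsurj : ∀ P : PrimeSpectrum B, ∃ k, P ∈ Set.range (PrimeSpectrum.comap (f k).hom.toRingHom))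
    (x : F.obj (pt B)) (hx : ∀ k, tr F (f k) x = 0) : x = 0 := by
  refine sep_single hF _ (prodLift_ff Bk f hflat hsurj) x ?_
  obtain ⟨h1, h2, h3⟩ := prod_complete Bk (𝟙 (prodAlg Bk)) (𝟙 (prodAlg Bk))
  refine (pieces_bijective hF _ _ h1 h2 h3).1 _ fun i => ?_
  obtain ⟨pk, ql, hp, hq⟩ := prod_pieces Bk (𝟙 (prodAlg Bk)) (𝟙 (prodAlg Bk)) i
  rw [tr_comp, tr_congr F (show prodLift Bk f ≫ idemProj (prodAlg Bk) _ = f i.1 ≫ pk by
    rw [← prodLift_proj Bk f, Category.assoc, ← hp, Category.id_comp]), ← tr_comp, hx, map_zero]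

/-- an element of the value at the product with prescribed components -/
theorem exists_prod_elt {F : MVF A} (hF : adequate A F) (y : ∀ k, F.obj (pt (Bk k))) :
    ∃ z : F.obj (pt (prodAlg Bk)), ∀ k, tr F (prodProj Bk k) z = y k := by
  have he : ∀ k, prodIdem Bk k * prodIdem Bk k = prodIdem Bk k := fun k => by rw [← Pi.single_mul, one_mul]
  have h0 : ∀ k l, k ≠ l → prodIdem Bk k * prodIdem Bk l = 0 := fun k l hkl => by
    ext j
    by_cases hj : j = k
    · subst hj; simp [hkl]; rfl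
    · simp [hj]; rfl
  have hk : ∀ k, ∃ j : Bk k ⟶ idemQuot (prodAlg Bk) (prodIdem Bk k), idemProj (prodAlg Bk) (prodIdem Bk k) = prodProj Bk k ≫ j :=
    fun k => by
      obtain ⟨j, hj⟩ := prod_piece (𝟙 (prodAlg Bk)) k (idemProj _ _) (idemProj_self _ (prodIdem Bk k))
      exact ⟨j, (Category.id_comp _).symm.trans hj⟩
  choose j hj using hk
  obtain ⟨z, hz⟩ := (pieces_bijective hF (prodAlg Bk) (prodIdem Bk) he h0
    (Finset.univ_sum_single (1 : prodAlg Bk))).2 fun k => tr F (j k) (y k)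
  refine ⟨z, fun k => ?_⟩
  have hl : ∃ l : idemQuot (prodAlg Bk) (prodIdem Bk k) ⟶ Bk k, idemProj _ _ ≫ l = prodProj Bk k ∧ j k ≫ l = 𝟙 _ := by
    refine ⟨CommAlgCat.ofHom (Ideal.Quotient.liftₐ _ (prodProj Bk k).hom fun a ha => ?_), rfl, ?_⟩
    · rw [Ideal.mem_span_singleton] at ha
      obtain ⟨c, rfl⟩ := ha
      show ((1 - prodIdem Bk k) * c) k = 0
      simp
      rw [show (1 : prodAlg Bk) k = 1 from rfl, sub_self, zero_mul]
    · refine CommAlgCat.hom_ext (AlgHom.ext fun b => ?_)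
      have := DFunLike.congr_fun (congrArg CommAlgCat.Hom.hom (hj k)) (Pi.single k b)
      simp only [CommAlgCat.hom_comp, AlgHom.comp_apply, prodProj, CommAlgCat.hom_ofHom, Pi.evalAlgHom_apply,
        Pi.single_eq_same] at this
      simp only [CommAlgCat.hom_comp, AlgHom.comp_apply, CommAlgCat.hom_ofHom]
      rw [← this]
      exact Pi.single_eq_same (M := fun k => (Bk k : Type u)) k b
  obtain ⟨l, hl1, hl2⟩ := hl
  rw [← tr_congr F hl1, ← tr_comp, hz, tr_comp, tr_congr F hl2, tr_id]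

theorem glue_family {F : MVF A} (hF : adequate A F) (hflat : ∀ k, (f k).hom.toRingHom.Flat)
    (hsurj : ∀ P : PrimeSpectrum B, ∃ k, P ∈ Set.range (PrimeSpectrum.comap (f k).hom.toRingHom))
    (y : ∀ k, F.obj (pt (Bk k)))
    (hy : ∀ (k l : κ) (C : Alg A) (p : Bk k ⟶ C) (q : Bk l ⟶ C), f k ≫ p = f l ≫ q → tr F p (y k) = tr F q (y l)) :
    ∃ x, ∀ k, tr F (f k) x = y k := by
  obtain ⟨z, hz⟩ := exists_prod_elt Bk hF y
  obtain ⟨x, hx⟩ := glue_single hF _ (prodLift_ff Bk f hflat hsurj) z fun C p q e => by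
    obtain ⟨h1, h2, h3⟩ := prod_complete Bk p q
    rw [← sub_eq_zero]
    refine (pieces_bijective hF C _ h1 h2 h3).1 _ fun i => ?_
    obtain ⟨pk, ql, hp, hq⟩ := prod_pieces Bk p q i
    rw [map_sub, sub_eq_zero, tr_comp, tr_comp, tr_congr F hp, tr_congr F hq, ← tr_comp, ← tr_comp, hz, hz]
    refine hy _ _ _ _ _ ?_
    rw [← prodLift_proj Bk f, ← prodLift_proj Bk f, Category.assoc, Category.assoc, ← hp, ← hq, ← Category.assoc, e,
      Category.assoc]
  exact ⟨x, fun k => by rw [← hz k, ← hx, tr_comp, prodLift_proj]⟩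

/-- the difference of local choices of a lift is the difference of values of one family -/
theorem coboundary_family {F G : MVF A} (hF : adequate A F) (ι : F ⟶ G) (hι : ∀ C, Function.Injective (ap ι C))
    (hflat : ∀ k, (f k).hom.toRingHom.Flat)
    (hsurj : ∀ P : PrimeSpectrum B, ∃ k, P ∈ Set.range (PrimeSpectrum.comap (f k).hom.toRingHom))
    (s : G.obj (pt (prodAlg Bk)))
    (hs : ∀ (C : Alg A) (p q : prodAlg Bk ⟶ C), prodLift Bk f ≫ p = prodLift Bk f ≫ q →
      tr G q s - tr G p s ∈ Set.range (ap ι C)) :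
    ∃ b : F.obj (pt (prodAlg Bk)), ∀ (C : Alg A) (p q : prodAlg Bk ⟶ C), prodLift Bk f ≫ p = prodLift Bk f ≫ q →
      tr G p (s - ap ι (prodAlg Bk) b) = tr G q (s - ap ι (prodAlg Bk) b) := by
  choose δ hδ using hs
  obtain ⟨b, hb⟩ := coboundary_single hF _ (prodLift_ff Bk f hflat hsurj) δ
    (fun C C' h p q e e' => hι C' (by rw [ap_tr, hδ, hδ, map_sub, tr_comp, tr_comp]))
    (fun C p q r e₁ e₂ => hι C (by rw [map_add, hδ, hδ, hδ]; abel))
  refine ⟨b, fun C p q e => ?_⟩
  have h := hδ C p q e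
  rw [hb C p q e, map_sub, ap_tr, ap_tr] at h
  rw [map_sub, map_sub]
  linear_combination (norm := abel) h

end Family

end Groth.MiscGeom.Adq

end
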