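import Groth.Agent.MiscGeom.AdeqOps
import Mathlib.LinearAlgebra.DFinsupp
import Mathlib.CategoryTheory.Limits.Constructions.LimitsOfProductsAndEqualizers

/-!
# Direct sums and colimits of adequate functors
-/

universe u

open CategoryTheory CategoryTheory.Limits Opposite TensorProduct

noncomputable section

namespace Groth.MiscGeom.Adq

open Adeq

variable {A : Type u} [CommRing A]

instance hasColimitsMVF : HasColimitsOfSize.{u + 1, u + 1} (MVF A) :=
  ⟨fun _ _ => PresheafOfModules.hasColimitsOfShape _ _⟩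

instance evalColimits (B : Alg A) :
    PreservesColimitsOfSize.{u + 1, u + 1} (PresheafOfModules.evaluation.{u + 1} (ringOf A) (pt B)) :=
  ⟨fun {J} _ => (PresheafOfModules.evaluation_preservesColimitsOfShape.{u + 1} (ringOf A) J (pt B) :
    PreservesColimitsOfShape J (PresheafOfModules.evaluation.{u + 1} (ringOf A) (pt B)))⟩

/-- a cocone component, with codomain the cocone point -/
abbrev cinj {J : Type (u + 1)} [Category.{u + 1} J] {D : J ⥤ MVF A} (c : Cocone D) (j : J) : D.obj j ⟶ c.pt :=
  c.ι.app j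

/-- colimit cocones are value-wise jointly surjective -/
theorem iSup_range_eq_top {J : Type (u + 1)} [Category.{u + 1} J] {D : J ⥤ MVF A} {c : Cocone D}
    (hc : IsColimit c) (B : Alg A) : ⨆ j, LinearMap.range (ap (cinj c j) B) = ⊤ := by
  let ev := PresheafOfModules.evaluation.{u + 1} (ringOf A) (pt B)
  let hB := isColimitOfPreserves ev hc
  let S : Submodule (B : Type u) (c.pt.obj (pt B)) := ⨆ j, LinearMap.range (ap (cinj c j) B)
  let q : c.pt.obj (pt B) ⟶ ModuleCat.of (B : Type u) ((c.pt.obj (pt B) : Type (u + 1)) ⧸ S) :=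
    ModuleCat.ofHom S.mkQ
  have : q = 0 := by
    refine hB.hom_ext fun j => ?_
    refine ModuleCat.hom_ext (LinearMap.ext fun x => ?_)
    show S.mkQ (ap (c.ι.app j) B x) = 0
    exact (Submodule.Quotient.mk_eq_zero S).2
      ((le_iSup (fun j => LinearMap.range (ap (cinj c j) B)) j) ⟨x, rfl⟩)
  rw [eq_top_iff]
  intro x _
  exact (Submodule.Quotient.mk_eq_zero S).1 (LinearMap.congr_fun (congrArg ModuleCat.Hom.hom this) x)

theorem exists_sum_eq {ι : Type (u + 1)} {F : ι → MVF A} {c : Cofan F} (hc : IsColimit c) (B : Alg A)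
    (z : c.pt.obj (pt B)) : ∃ (s : Finset ι) (x : ∀ i, (F i).obj (pt B)), z = ∑ i ∈ s, ap (c.inj i) B (x i) := by
  classical
  have h := iSup_range_eq_top hc B
  have hz : z ∈ ⨆ j : Discrete ι, LinearMap.range (ap (cinj c j) B) := by rw [h]; trivial
  obtain ⟨f, hf, hsum⟩ := (Submodule.mem_iSup_iff_exists_finsupp _ z).1 hz
  have hx : ∀ i : ι, ∃ x, ap (c.inj i) B x = f ⟨i⟩ := fun i => hf ⟨i⟩
  choose x hx using hx
  refine ⟨f.support.image Discrete.as, x, ?_⟩
  rw [← hsum, Finsupp.sum, Finset.sum_image fun a _ b _ h => Discrete.ext h]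
  exact Finset.sum_congr rfl fun j _ => (hx j.as).symm

open scoped DirectSum

theorem adequate_coproduct {ι : Type (u + 1)} {F : ι → MVF A} (hF : ∀ i, adequate A (F i)) {c : Cofan F}
    (hc : IsColimit c) : adequate A c.pt := by
  classical
  let P := fun i => (nonempty_pres (hF i)).some
  let DM := ⨁ i, ((P i).M : Type (u + 1))
  let DN := ⨁ i, ((P i).N : Type (u + 1))
  let M : ModuleCat.{u + 1} A := ModuleCat.of A DM
  let N : ModuleCat.{u + 1} A := ModuleCat.of A DN
  let PM := fun i => ((P i).M : Type (u + 1))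
  let PN := fun i => ((P i).N : Type (u + 1))
  let incl := fun i => (ModuleCat.ofHom (DirectSum.lof A ι (fun i => ((P i).M : Type (u + 1))) i) : (P i).M ⟶ M)
  let proj := fun i => (ModuleCat.ofHom (DirectSum.component A ι (fun i => ((P i).M : Type (u + 1))) i) : M ⟶ (P i).M)
  let inclN := fun i => (ModuleCat.ofHom (DirectSum.lof A ι (fun i => ((P i).N : Type (u + 1))) i) : (P i).N ⟶ N)
  let projN := fun i => (ModuleCat.ofHom (DirectSum.component A ι (fun i => ((P i).N : Type (u + 1))) i) : N ⟶ (P i).N)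
  let Φ : M ⟶ N := ModuleCat.ofHom
    (DirectSum.toModule A ι DN fun i => DirectSum.lof A ι (fun i => ((P i).N : Type (u + 1))) i ∘ₗ (P i).φ.hom)
  have hincl : ∀ i, incl i ≫ Φ = (P i).φ ≫ inclN i := fun i => ModuleCat.hom_ext (LinearMap.ext fun x =>
    DirectSum.toModule_lof (M := fun i => ((P i).M : Type (u + 1)))
      (φ := fun i => DirectSum.lof A ι (fun i => ((P i).N : Type (u + 1))) i ∘ₗ (P i).φ.hom) A i x)
  have hself : ∀ i, incl i ≫ proj i = 𝟙 _ := fun i => ModuleCat.hom_ext (LinearMap.ext fun x => by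
    show DirectSum.component A ι PM i (DirectSum.lof A ι PM i x) = x
    rw [DirectSum.component.lof_self])
  have hne : ∀ i j, j ≠ i → incl j ≫ proj i = 0 := fun i j h => ModuleCat.hom_ext (LinearMap.ext fun x => by
    show DirectSum.component A ι PM i (DirectSum.lof A ι PM j x) = 0
    rw [DirectSum.component.of, dif_neg h])
  have hproj : ∀ i, Φ ≫ projN i = proj i ≫ (P i).φ := fun i => by
    refine ModuleCat.hom_ext (DirectSum.linearMap_ext _ fun j => LinearMap.ext fun x => ?_)
    show DirectSum.component A ι PN i (DirectSum.toModule A ι DN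
        (fun i => DirectSum.lof A ι PN i ∘ₗ (P i).φ.hom) (DirectSum.lof A ι PM j x)) =
      (P i).φ.hom (DirectSum.component A ι PM i (DirectSum.lof A ι PM j x))
    rw [DirectSum.toModule_lof, LinearMap.comp_apply]
    by_cases h : j = i
    · subst h
      rw [DirectSum.component.lof_self, DirectSum.component.lof_self]
    · rw [DirectSum.component.of, DirectSum.component.of, dif_neg h, dif_neg h, map_zero]
  let Ψ : c.pt ⟶ U M := Cofan.IsColimit.desc hc fun i => (P i).ι ≫ (underline A).map (incl i)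
  have hΨ : ∀ i B x, ap Ψ B (ap (c.inj i) B x) = ap ((underline A).map (incl i)) B (ap (P i).ι B x) := fun i B x => by
    rw [← ap_comp, Cofan.IsColimit.fac, ap_comp]
  refine adequate_of_exact Ψ Φ (fun B => ?_) (fun B y => ⟨fun hy => ?_, ?_⟩)
  · rw [injective_iff_map_eq_zero]
    intro z hz
    obtain ⟨s, x, rfl⟩ := exists_sum_eq hc B z
    refine Finset.sum_eq_zero fun i hi => ?_
    have h := congrArg (ap ((underline A).map (proj i)) B) hz
    rw [map_zero, map_sum, map_sum] at h
    rw [Finset.sum_eq_single i] at h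
    · rw [hΨ, ← ap_comp, ← Functor.map_comp, hself, CategoryTheory.Functor.map_id] at h
      rw [(P i).inj B (h.trans (map_zero _).symm), map_zero]
    · intro j _ hj
      rw [hΨ, ← ap_comp, ← Functor.map_comp, hne i j hj, Functor.map_zero, ap_zero]
    · exact fun h => (h hi).elim
  · obtain ⟨s, hs⟩ := exists_finset_lof (fun i => ((P i).M : Type (u + 1))) (B : Type u) (T M B y)
    have hx : ∀ i, ∃ x, ap (P i).ι B x = ap ((underline A).map (proj i)) B y := fun i => by
      refine ((P i).exact B _).1 ?_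
      rw [← ap_comp, ← Functor.map_comp, ← hproj i, Functor.map_comp, ap_comp, hy, map_zero]
    choose x hx using hx
    refine ⟨∑ i ∈ s, ap (c.inj i) B (x i), (T M B).injective ?_⟩
    refine Eq.trans ?_ hs.symm
    rw [map_sum, map_sum]
    refine Finset.sum_congr rfl fun i _ => ?_
    rw [hΨ, hx, T_map, T_map]
    rfl
  · rintro ⟨z, rfl⟩
    obtain ⟨s, x, rfl⟩ := exists_sum_eq hc B z
    rw [map_sum, map_sum]
    refine Finset.sum_eq_zero fun i _ => ?_
    rw [hΨ, ← ap_comp, ← Functor.map_comp, hincl, Functor.map_comp, ap_comp, (P i).exact B |>.apply_apply_eq_zero,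
      map_zero]

theorem adequate_sigma {ι : Type (u + 1)} (F : ι → MVF A) (hF : ∀ i, adequate A (F i)) : adequate A (∐ F) :=
  adequate_coproduct hF (coproductIsCoproduct F)

theorem adequate_colimit' {J : Type (u + 1)} [SmallCategory J] (D : J ⥤ MVF A)
    (hD : ∀ j, adequate A (D.obj j)) : adequate A (colimit D) := by
  let c := colimitCoconeOfCoequalizerAndCoproduct D
  refine (adequate A).prop_of_iso (colimit.isoColimitCocone c).symm ?_
  let hcoeq := Preadditive.isColimitCokernelCoforkOfCofork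
    (coequalizerIsCoequalizer
      (Sigma.desc fun f : Σ p : J × J, p.1 ⟶ p.2 => D.map f.2 ≫ colimit.ι (Discrete.functor D.obj) ⟨f.1.2⟩)
      (Sigma.desc fun f => colimit.ι (Discrete.functor D.obj) ⟨f.1.1⟩))
  exact (adequate A).prop_of_iso ((cokernelIsCokernel _).coconePointUniqueUpToIso hcoeq)
    (adequate_cokernel _ (adequate_sigma _ fun f : Σ p : J × J, p.1 ⟶ p.2 => hD f.1.1) (adequate_sigma _ hD))

theorem adequate_biprod {F G : MVF A} (hF : adequate A F) (hG : adequate A G) {K : MVF A} (i : F ⟶ K) (j : G ⟶ K)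
    (hinj : ∀ B x y, ap i B x + ap j B y = 0 → x = 0 ∧ y = 0)
    (hsurj : ∀ B z, ∃ x y, z = ap i B x + ap j B y) : adequate A K := by
  obtain ⟨P⟩ := nonempty_pres hF
  obtain ⟨Q⟩ := nonempty_pres hG
  let G2 : ULift.{u + 1} Bool → MVF A := fun b => bif b.down then F else G
  let π : ∐ G2 ⟶ K := Sigma.desc fun b => match b with
    | ⟨true⟩ => i
    | ⟨false⟩ => j
  have hb : adequate A (∐ G2) := adequate_sigma _ fun b => match b with
    | ⟨true⟩ => hF
    | ⟨false⟩ => hG
  let t : ULift.{u + 1} Bool := ⟨true⟩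
  let f : ULift.{u + 1} Bool := ⟨false⟩
  have hdec : ∀ B z, ∃ (x : F.obj (pt B)) (y : G.obj (pt B)),
      z = ap (Sigma.ι G2 t) B x + ap (Sigma.ι G2 f) B y := by
    intro B z
    obtain ⟨s, w, rfl⟩ := exists_sum_eq (coproductIsCoproduct G2) B z
    classical
    induction s using Finset.induction_on with
    | empty => exact ⟨0, 0, by simp⟩
    | insert a s ha ih =>
      obtain ⟨x, y, hxy⟩ := ih
      rw [Finset.sum_insert ha, hxy]
      rcases a with ⟨a⟩
      cases a
      · let a : G.obj (pt B) := w ⟨false⟩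
        exact ⟨x, a + y, by rw [map_add]; exact add_left_comm _ _ _⟩
      · let a : F.obj (pt B) := w ⟨true⟩
        exact ⟨a + x, y, by rw [map_add, add_assoc]; rfl⟩
  have hπ1 : ∀ B x, ap π B (ap (Sigma.ι G2 t) B x) = ap i B x := fun B x => by
    rw [← ap_comp, Sigma.ι_desc]
  have hπ2 : ∀ B x, ap π B (ap (Sigma.ι G2 f) B x) = ap j B x := fun B x => by
    rw [← ap_comp, Sigma.ι_desc]
  have : IsIso π := by
    refine isIso_of_bij π fun B => ⟨?_, fun z => ?_⟩
    · rw [injective_iff_map_eq_zero]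
      intro z hz
      obtain ⟨x, y, rfl⟩ := hdec B z
      rw [map_add, hπ1, hπ2] at hz
      obtain ⟨hx, hy⟩ := hinj B x y hz
      rw [hx, hy, map_zero, map_zero, add_zero]
    · obtain ⟨x, y, rfl⟩ := hsurj B z
      exact ⟨ap (Sigma.ι G2 t) B x + ap (Sigma.ι G2 f) B y, by rw [map_add, hπ1, hπ2]⟩
  exact (adequate A).prop_of_iso (asIso π) hb

end Groth.MiscGeom.Adq

end
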