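import Groth.Agent.MiscGeom.AdeqChange
import Groth.Agent.MiscGeom.AdeqSum

/-!
# Descent of adequacy along finite families of algebras
-/

universe u

open CategoryTheory CategoryTheory.Limits Opposite TensorProduct

noncomputable section

namespace Groth.MiscGeom.Adq

open Adeq

variable {A : Type u} [CommRing A]

attribute [local instance] Abelian.hasFiniteBiproducts

theorem adequate_biproduct {ι : Type (u + 1)} [Finite ι] (F : ι → MVF A) (hF : ∀ i, adequate A (F i)) :
    adequate A (⨁ F) :=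
  (adequate A).prop_of_iso (biproduct.isoCoproduct F).symm (adequate_sigma F hF)

theorem biproduct_ap_ext {ι : Type (u + 1)} [Finite ι] {F : ι → MVF A} (B : Alg A) {x y : (⨁ F).obj (pt B)}
    (h : ∀ i, ap (biproduct.π F i) B x = ap (biproduct.π F i) B y) : x = y := by
  classical
  cases nonempty_fintype ι
  have key : ∀ z : (⨁ F).obj (pt B), z = ∑ i, ap (biproduct.ι F i) B (ap (biproduct.π F i) B z) := fun z => by
    have h1 : ap (∑ i, biproduct.π F i ≫ biproduct.ι F i) B z = z := by
      rw [show (∑ i, biproduct.π F i ≫ biproduct.ι F i) = 𝟙 (⨁ F) from biproduct.hom_ext _ _ fun j => by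
        rw [Preadditive.sum_comp, Finset.sum_eq_single j, Category.assoc, biproduct.ι_π_self, Category.comp_id,
          Category.id_comp]
        · intro i _ hi
          rw [Category.assoc, biproduct.ι_π_ne _ hi, comp_zero]
        · exact fun hj => absurd (Finset.mem_univ j) hj]
      rfl
    refine h1.symm.trans ?_
    exact map_sum (AddMonoidHom.mk' (fun f : ⨁ F ⟶ ⨁ F => ap f B z) fun f g => ap_add f g B z) _ _
  rw [key x, key y]
  exact Finset.sum_congr rfl fun i _ => by rw [h i]

/-- the underlying ring map -/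
abbrev rh {X Y : Alg A} (f : X ⟶ Y) : (X : Type u) →+* (Y : Type u) := f.hom.toRingHom

theorem rh_commutes {X Y : Alg A} (f : X ⟶ Y) (a : A) : rh f (algebraMap A X a) = algebraMap A Y a := f.hom.commutes a

/-- a map out of the base change from a map out of each factor -/
def bcLift (R : Type u) [CommRing R] [Algebra A R] (Z C : Alg A) (q' : R →ₐ[A] C) (p : Z ⟶ C) :
    R ⊗[A] (Z : Type u) →ₐ[A] C :=
  Algebra.TensorProduct.lift q' p.hom fun _ _ => mul_comm _ _

theorem exists_bcLift (R : Type u) [CommRing R] [Algebra A R] (Z C : Alg A) (q' : R →ₐ[A] C) (p : Z ⟶ C) :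
    ∃ φ : (Alg.restr A R).obj ((Alg.baseChange A R).obj Z) ⟶ C,
      ∀ (r : R) (z : Z), rh φ (r ⊗ₜ[A] z) = q' r * p.hom z := by
  have h : ∀ a : A, (bcLift R Z C q' p).toRingHom (algebraMap A R a ⊗ₜ[A] (1 : Z)) = algebraMap A C a := fun a => by
    show bcLift R Z C q' p (algebraMap A R a ⊗ₜ[A] (1 : Z)) = _
    rw [bcLift, Algebra.TensorProduct.lift_tmul, map_one, mul_one]
    exact q'.commutes a
  have h' : ∀ r z, (bcLift R Z C q' p).toRingHom (r ⊗ₜ[A] z) = q' r * p.hom z := fun r z => by
    show bcLift R Z C q' p (r ⊗ₜ[A] z) = _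
    rw [bcLift, Algebra.TensorProduct.lift_tmul]
  generalize (bcLift R Z C q' p).toRingHom = g at h h'
  letI : Algebra A (R ⊗[A] (Z : Type u)) :=
    ((algebraMap R (R ⊗[A] (Z : Type u))).comp (algebraMap A R)).toAlgebra
  exact ⟨CommAlgCat.ofHom { g with commutes' := h }, h'⟩

variable {κ : Type u} (R : κ → Type u) [∀ k, CommRing (R k)] [∀ k, Algebra A (R k)]

/-- a map out of `R l ⊗ (R k ⊗ B)` from a pair of compatible maps -/
theorem exists_pair_lift {B C : Alg A} (k l : κ)
    (p : (Alg.restr A (R k)).obj ((Alg.baseChange A (R k)).obj B) ⟶ C)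
    (q : (Alg.restr A (R l)).obj ((Alg.baseChange A (R l)).obj B) ⟶ C)
    (e : Alg.unit A (R k) B ≫ p = Alg.unit A (R l) B ≫ q) :
    ∃ φ : (Alg.restr A (R l)).obj ((Alg.baseChange A (R l)).obj ((Alg.restr A (R k)).obj ((Alg.baseChange A (R k)).obj B))) ⟶ C,
      Alg.unit A (R l) ((Alg.restr A (R k)).obj ((Alg.baseChange A (R k)).obj B)) ≫ φ = p ∧
      (Alg.restr A (R l)).map ((Alg.baseChange A (R l)).map (Alg.unit A (R k) B)) ≫ φ = q := by
  let qr : R l ⊗[A] (B : Type u) →+* (C : Type u) := rh q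
  let q' : R l →ₐ[A] C :=
    { qr.comp Algebra.TensorProduct.includeLeftRingHom with commutes' := fun a => rh_commutes q a }
  obtain ⟨φ, hφ⟩ := exists_bcLift (R l) _ C q' p
  refine ⟨φ, CommAlgCat.hom_ext (DFunLike.ext _ _ fun z => ?_), CommAlgCat.hom_ext (DFunLike.ext _ _ fun z => ?_)⟩
  · refine (hφ 1 z).trans ?_
    rw [map_one, one_mul]
  · have hb : ∀ b : B, p.hom ((Alg.unit A (R k) B).hom b) = qr ((1 : R l) ⊗ₜ[A] b) := fun b =>
      DFunLike.congr_fun (congrArg CommAlgCat.Hom.hom e) b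
    let g : R l ⊗[A] (B : Type u) →+* (C : Type u) :=
      RingHom.comp (rh φ) (rh ((Alg.baseChange A (R l)).map (Alg.unit A (R k) B)))
    have key : g = qr := by
      refine RingHom.ext fun z => ?_
      induction z using TensorProduct.induction_on with
      | zero => rw [map_zero, map_zero]
      | add z z' hz hz' => rw [map_add, map_add, hz, hz']
      | tmul r b =>
        refine (hφ r ((Alg.unit A (R k) B).hom b)).trans ?_
        rw [hb]
        show qr (r ⊗ₜ[A] (1 : B)) * qr ((1 : R l) ⊗ₜ[A] b) = _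
        rw [← map_mul, Algebra.TensorProduct.tmul_mul_tmul, mul_one, one_mul]
    exact DFunLike.congr_fun key z

theorem adequate_descent_family [Finite κ] (F : MVF A)
    (h : ∀ k, adequate (R k) ((Adeq.restr A (R k)).obj F))
    (hsep : ∀ (B : Alg A) (x : F.obj (pt B)), (∀ k, tr F (Alg.unit A (R k) B) x = 0) → x = 0)
    (hglue : ∀ (B : Alg A) (y : ∀ k, F.obj (pt ((Alg.restr A (R k)).obj ((Alg.baseChange A (R k)).obj B)))),
      (∀ (k l : κ) (C : Alg A) (p : (Alg.restr A (R k)).obj ((Alg.baseChange A (R k)).obj B) ⟶ C)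
        (q : (Alg.restr A (R l)).obj ((Alg.baseChange A (R l)).obj B) ⟶ C),
        Alg.unit A (R k) B ≫ p = Alg.unit A (R l) B ≫ q → tr F p (y k) = tr F q (y l)) →
      ∃ x, ∀ k, tr F (Alg.unit A (R k) B) x = y k) :
    adequate A F := by
  let G : ULift.{u + 1} κ → MVF A := fun k => (Adeq.push A (R k.down)).obj ((Adeq.restr A (R k.down)).obj F)
  let D : ULift.{u + 1} (κ × κ) → MVF A := fun kl =>
    (Adeq.push A (R kl.down.1)).obj ((Adeq.restr A (R kl.down.1)).obj (G ⟨kl.down.2⟩))
  let η : F ⟶ ⨁ G := biproduct.lift fun k => pushUnit A (R k.down) F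
  let d₁ : ∀ kl, G ⟨kl.down.1⟩ ⟶ D kl := fun kl =>
    (Adeq.push A (R kl.down.1)).map ((Adeq.restr A (R kl.down.1)).map (pushUnit A (R kl.down.2) F))
  let d₀ : ∀ kl, G ⟨kl.down.2⟩ ⟶ D kl := fun kl => pushUnit A (R kl.down.1) (G ⟨kl.down.2⟩)
  let δ : (⨁ G) ⟶ ⨁ D := biproduct.lift fun kl => biproduct.π G _ ≫ d₁ kl - biproduct.π G _ ≫ d₀ kl
  have hG : ∀ k, adequate A (G k) := fun k => adequate_push A (R k.down) (h k.down)
  have hker : adequate A (kernel δ) := adequate_kernel δ (adequate_biproduct G hG)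
    (adequate_biproduct D fun kl => adequate_push A _ (adequate_restr A _ (hG _)))
  have hη : ∀ B x k, ap (biproduct.π G k) B (ap η B x) = tr F (Alg.unit A (R k.down) B) x := fun B x k => by
    rw [← ap_comp, biproduct.lift_π]
    rfl
  have hδ : ∀ B y kl, ap (biproduct.π D kl) B (ap δ B y) =
      tr F (Alg.unit A (R kl.down.2) ((Alg.restr A (R kl.down.1)).obj ((Alg.baseChange A (R kl.down.1)).obj B)))
        (ap (biproduct.π G ⟨kl.down.1⟩) B y) -
      tr F ((Alg.restr A (R kl.down.2)).map ((Alg.baseChange A (R kl.down.2)).map (Alg.unit A (R kl.down.1) B)))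
        (ap (biproduct.π G ⟨kl.down.2⟩) B y) := fun B y kl => by
    rw [← ap_comp, biproduct.lift_π, ap_sub]
    rfl
  obtain ⟨e, -⟩ := isIso_kernelLift η δ (fun B => by
      refine (injective_iff_map_eq_zero _).2 fun x hx => hsep B x fun k => ?_
      have := hη B x ⟨k⟩
      rw [hx, map_zero] at this
      exact this.symm) fun B y => by
    constructor
    · intro hy
      obtain ⟨x, hx⟩ := hglue B (fun k => ap (biproduct.π G ⟨k⟩) B y) fun k l C p q e => by
        obtain ⟨φ, hp, hq⟩ := exists_pair_lift R k l p q e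
        have h0 := hδ B y ⟨(k, l)⟩
        rw [hy, map_zero] at h0
        replace h0 := sub_eq_zero.1 h0.symm
        rw [← tr_congr F hp, ← tr_congr F hq, ← tr_comp, ← tr_comp]
        exact congrArg (tr F φ) h0
      exact ⟨x, biproduct_ap_ext B fun k => (hη B x k).trans (hx k.down)⟩
    · rintro ⟨x, rfl⟩
      refine biproduct_ap_ext B fun kl => ?_
      rw [hδ, map_zero, hη, hη]
      refine sub_eq_zero.2 ?_
      exact (tr_comp F _ _ x).trans ((tr_congr F (unit_naturality A (R kl.down.2) (Alg.unit A (R kl.down.1) B)) x).trans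
        (tr_comp F _ _ x).symm)
  exact (adequate A).prop_of_iso e.symm hker

end Groth.MiscGeom.Adq

end
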