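import Groth.Agent.MiscGeom.AdeqExt
import Mathlib.CategoryTheory.Limits.Shapes.BinaryBiproducts

/-!
# An extension of adequate functors is adequate
-/

universe u

open CategoryTheory CategoryTheory.Limits Opposite

noncomputable section

namespace Groth.MiscGeom.Adq

open Adeq

variable {A : Type u} [CommRing A]

theorem biprod_fst_inl {F G : MVF A} (B : Alg A) (x : F.obj (pt B)) :
    ap (biprod.fst : F ⊞ G ⟶ F) B (ap biprod.inl B x) = x ∧ ap (biprod.snd : F ⊞ G ⟶ G) B (ap biprod.inl B x) = 0 := by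
  constructor
  · rw [← ap_comp, biprod.inl_fst]; rfl
  · rw [← ap_comp, biprod.inl_snd, ap_zero]

theorem biprod_snd_inr {F G : MVF A} (B : Alg A) (y : G.obj (pt B)) :
    ap (biprod.fst : F ⊞ G ⟶ F) B (ap biprod.inr B y) = 0 ∧ ap (biprod.snd : F ⊞ G ⟶ G) B (ap biprod.inr B y) = y := by
  constructor
  · rw [← ap_comp, biprod.inr_fst, ap_zero]
  · rw [← ap_comp, biprod.inr_snd]; rfl

theorem biprod_ext {F G : MVF A} (B : Alg A) (z : (F ⊞ G).obj (pt B)) :
    z = ap biprod.inl B (ap biprod.fst B z) + ap biprod.inr B (ap biprod.snd B z) := by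
  rw [← ap_comp, ← ap_comp, ← ap_add, biprod.total]; rfl

theorem adequate_biprod' {F G : MVF A} (hF : adequate A F) (hG : adequate A G) : adequate A (F ⊞ G) := by
  refine adequate_biprod hF hG biprod.inl biprod.inr (fun B x y h => ?_) fun B z => ⟨_, _, biprod_ext B z⟩
  have h1 := congrArg (ap (biprod.fst : F ⊞ G ⟶ F) B) h
  have h2 := congrArg (ap (biprod.snd : F ⊞ G ⟶ G) B) h
  rw [map_add, (biprod_fst_inl B x).1, (biprod_snd_inr B y).1, add_zero, map_zero] at h1
  rw [map_add, (biprod_fst_inl B x).2, (biprod_snd_inr B y).2, zero_add, map_zero] at h2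
  exact ⟨h1, h2⟩

theorem adequate_of_bij {K G : MVF A} (f : K ⟶ G) (hK : adequate A K) (h : ∀ B, Function.Bijective (ap f B)) :
    adequate A G := by
  have := isIso_of_bij f h
  exact (adequate A).prop_of_iso (asIso f) hK

set_option maxHeartbeats 800000 in
theorem adequate_ext_underline {G H : MVF A} {M : ModuleCat.{u + 1} A} (i : U M ⟶ G) (p : G ⟶ H)
    (hi : ∀ B, Function.Injective (ap i B)) (hp : ∀ B, Function.Surjective (ap p B))
    (hip : ∀ B, Function.Exact (ap i B) (ap p B)) (hH : adequate A H) : adequate A G := by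
  obtain ⟨PH⟩ := nonempty_pres hH
  let ι := Σ B : Alg A, H.obj (pt B)
  have hlin : ∀ j : ι, ∃ (L : MVF A) (_ : linAdequate A L) (t : L ⟶ G), j.2 ∈ Set.range (ap (t ≫ p) j.1) := by
    rintro ⟨B, ξ⟩
    obtain ⟨L, f, hL, l, hl⟩ := PH.exists_lin B ξ
    obtain ⟨q⟩ := nonempty_linPres hL
    let r : G ⊞ L ⟶ H := biprod.desc p (-f)
    have hr : ∀ B z, ap r B z = ap p B (ap biprod.fst B z) - ap f B (ap biprod.snd B z) := fun B z => by
      conv_lhs => rw [biprod_ext B z, map_add, ← ap_comp biprod.inl r, ← ap_comp biprod.inr r, biprod.inl_desc,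
        biprod.inr_desc]
      rw [sub_eq_add_neg]
      rfl
    have w : (i ≫ biprod.inl) ≫ r = 0 := hom_ext' fun B x => by
      rw [Category.assoc, biprod.inl_desc, ap_comp, (hip B).apply_apply_eq_zero, ap_zero]
    let i' : U M ⟶ kernel r := kernel.lift r (i ≫ biprod.inl) w
    have hι : ∀ B x, ap (kernel.ι r) B (ap i' B x) = ap biprod.inl B (ap i B x) := fun B x => by
      rw [← ap_comp, kernel.lift_ι, ap_comp]
    obtain ⟨s, hs⟩ := exists_section q i' (kernel.ι r ≫ biprod.snd) (fun B x y h => hi B (by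
        have h' := congrArg (fun z => ap (biprod.fst : G ⊞ L ⟶ G) B (ap (kernel.ι r) B z)) h
        simpa only [hι, (biprod_fst_inl B _).1] using h'))
      (fun B y => by
        obtain ⟨g, hg⟩ := hp B (ap f B y)
        obtain ⟨z, hz⟩ := (kernel_exact r B (ap biprod.inl B g + ap biprod.inr B y)).1 (by
          simp only [hr, map_add, (biprod_fst_inl B g).1, (biprod_snd_inr B y).1, (biprod_fst_inl B g).2,
            (biprod_snd_inr B y).2, map_zero, add_zero, zero_add, hg, sub_self])
        exact ⟨z, by rw [ap_comp, hz, map_add, (biprod_fst_inl B g).2, (biprod_snd_inr B y).2, zero_add]⟩)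
      (fun B z => by
        constructor
        · intro hz
          have h1 : ap biprod.snd B (ap (kernel.ι r) B z) = 0 := hz
          have h2 := (kernel_exact r B).apply_apply_eq_zero z
          rw [hr, h1, map_zero, sub_zero] at h2
          obtain ⟨x, hx⟩ := (hip B _).1 h2
          refine ⟨x, inj_of_mono (kernel.ι r) B ?_⟩
          conv_rhs => rw [biprod_ext B (ap (kernel.ι r) B z), h1, map_zero, add_zero]
          rw [hι, hx]
        · rintro ⟨x, rfl⟩
          rw [ap_comp, hι, (biprod_fst_inl B _).2])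
    refine ⟨L, hL, s ≫ kernel.ι r ≫ biprod.fst, l, ?_⟩
    have h2 := (kernel_exact r B).apply_apply_eq_zero (ap s B l)
    have h3 : ap biprod.snd B (ap (kernel.ι r) B (ap s B l)) = l :=
      LinearMap.congr_fun (congrArg (fun k => ap k B) hs) l
    rw [hr, sub_eq_zero, h3] at h2
    rw [ap_comp, ap_comp, ap_comp]
    exact h2.trans hl
  choose L hL t ht using hlin
  let C := ∐ L
  let t' : C ⟶ G := Sigma.desc t
  have hC : adequate A C := adequate_sigma _ fun j => adequate_of_linAdequate (hL j)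
  have hK : adequate A (kernel (t' ≫ p)) := adequate_kernel _ hC hH
  have : Mono i := mono_of_inj i hi
  let S := ShortComplex.mk i p (hom_ext' fun B x => (hip B).apply_apply_eq_zero x)
  have hS : S.Exact := by
    rw [ShortComplex.exact_iff_epi_kernel_lift]
    refine epi_of_surj _ fun B y => ?_
    obtain ⟨x, hx⟩ := (hip B _).1 ((kernel_exact p B).apply_apply_eq_zero y)
    refine ⟨x, inj_of_mono (kernel.ι p) B ?_⟩
    rw [← ap_comp, kernel.lift_ι]
    exact hx
  obtain ⟨κ, hκ⟩ := KernelFork.IsLimit.lift' hS.fIsKernel (kernel.ι (t' ≫ p) ≫ t')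
    (by rw [Category.assoc]; exact kernel.condition _)
  have hκ' : ∀ B z, ap i B (ap κ B z) = ap t' B (ap (kernel.ι (t' ≫ p)) B z) := fun B z => by
    rw [← ap_comp]
    exact LinearMap.congr_fun (congrArg (fun k => ap k B) hκ) z
  let ρ : kernel (t' ≫ p) ⟶ U M ⊞ C := biprod.lift κ (-kernel.ι (t' ≫ p))
  let π : U M ⊞ C ⟶ G := biprod.desc i t'
  have hπ : ∀ B z, ap π B z = ap i B (ap biprod.fst B z) + ap t' B (ap biprod.snd B z) := fun B z => by
    conv_lhs => rw [biprod_ext B z, map_add, ← ap_comp biprod.inl π, ← ap_comp biprod.inr π, biprod.inl_desc,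
      biprod.inr_desc]
  have hρπ : ρ ≫ π = 0 := hom_ext' fun B z => by
    rw [ap_comp, hπ, ← ap_comp ρ, ← ap_comp ρ, biprod.lift_fst, biprod.lift_snd, hκ']
    exact (congrArg (_ + ·) (map_neg (ap t' B) (ap (kernel.ι (t' ≫ p)) B z))).trans (add_neg_cancel _)
  refine adequate_of_bij (cokernel.desc ρ π hρπ)
    (adequate_cokernel ρ hK (adequate_biprod' (adequate_U M) hC)) fun B => ⟨?_, fun g => ?_⟩
  · rw [injective_iff_map_eq_zero]
    intro w hw
    obtain ⟨z, rfl⟩ := surj_of_epi (cokernel.π ρ) B w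
    rw [← ap_comp, cokernel.π_desc, hπ] at hw
    have h1 : ap (t' ≫ p) B (ap biprod.snd B z) = 0 := by
      have := congrArg (ap p B) hw
      rwa [map_add, (hip B).apply_apply_eq_zero, zero_add, map_zero] at this
    obtain ⟨k, hk⟩ := (kernel_exact (t' ≫ p) B _).1 h1
    have h2 : z = ap ρ B (-k) := by
      have e1 : ap biprod.fst B (ap ρ B (-k)) = ap biprod.fst B z := hi B (by
        rw [← ap_comp ρ, biprod.lift_fst, hκ', map_neg, map_neg, hk]
        exact (eq_neg_of_add_eq_zero_left hw).symm)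
      have e2 : ap biprod.snd B (ap ρ B (-k)) = ap biprod.snd B z := by
        rw [← ap_comp ρ, biprod.lift_snd, map_neg, ← hk]
        exact neg_neg _
      rw [biprod_ext B z, biprod_ext B (ap ρ B (-k)), e1, e2]
    rw [h2, (cokernel_exact ρ B).apply_apply_eq_zero]
  · obtain ⟨l, hl⟩ := ht ⟨B, ap p B g⟩
    let c : C.obj (pt B) := ap (Sigma.ι L ⟨B, ap p B g⟩) B l
    have hc : ap t' B c = ap (t ⟨B, ap p B g⟩) B l := by
      simp only [c]
      rw [← ap_comp, Sigma.ι_desc]
    obtain ⟨m, hm⟩ := (hip B (g - ap t' B c)).1 (by rw [map_sub, hc, sub_eq_zero]; exact hl.symm)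
    refine ⟨ap (cokernel.π ρ) B (ap biprod.inl B m + ap biprod.inr B c), ?_⟩
    rw [← ap_comp, cokernel.π_desc, hπ]
    simp only [map_add, (biprod_fst_inl B m).1, (biprod_snd_inr B c).1, (biprod_fst_inl B m).2,
      (biprod_snd_inr B c).2, map_zero, add_zero, zero_add, hm, sub_add_cancel]

theorem adequate_extension (S : ShortComplex (MVF A)) (hS : S.ShortExact) (h₁ : adequate A S.X₁)
    (h₃ : adequate A S.X₃) : adequate A S.X₂ := by
  obtain ⟨P⟩ := nonempty_pres h₁
  have := hS.mono_f
  have := hS.epi_g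
  let ρ : S.X₁ ⟶ U P.M ⊞ S.X₂ := biprod.lift P.ι (-S.f)
  let G' := cokernel ρ
  let i' : U P.M ⟶ G' := biprod.inl ≫ cokernel.π ρ
  let j : S.X₂ ⟶ G' := biprod.inr ≫ cokernel.π ρ
  let p' : G' ⟶ S.X₃ := cokernel.desc ρ (biprod.desc 0 S.g) (by
    rw [biprod.lift_desc, comp_zero, zero_add, Preadditive.neg_comp, S.zero, neg_zero])
  let r : G' ⟶ cokernel P.ι := cokernel.desc ρ (biprod.desc (cokernel.π P.ι) 0) (by
    rw [biprod.lift_desc, cokernel.condition, comp_zero, add_zero])
  have hi'p : i' ≫ p' = 0 := by simp [i', p']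
  have hjr : j ≫ r = 0 := by simp [j, r]
  have hjp : j ≫ p' = S.g := by simp [j, p']
  have hir : i' ≫ r = cokernel.π P.ι := by simp [i', r]
  have hdec : ∀ B w, ∃ m x, w = ap i' B m + ap j B x := fun B w => by
    obtain ⟨z, rfl⟩ := surj_of_epi (cokernel.π ρ) B w
    refine ⟨ap biprod.fst B z, ap biprod.snd B z, Eq.trans (congrArg (ap (cokernel.π ρ) B) (biprod_ext B z)) ?_⟩
    rw [map_add]; rfl
  have hker : ∀ B m x, ap i' B m + ap j B x = 0 → ∃ a, m = ap P.ι B a ∧ x = -ap S.f B a := fun B m x h => by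
    have : ap (cokernel.π ρ) B (ap biprod.inl B m + ap biprod.inr B x) = 0 := by rw [map_add]; exact h
    obtain ⟨a, ha⟩ := (cokernel_exact ρ B _).1 this
    refine ⟨a, ?_, ?_⟩
    · have h' := congrArg (ap biprod.fst B) ha
      rw [map_add, (biprod_fst_inl B m).1, (biprod_snd_inr B x).1, add_zero, ← ap_comp, biprod.lift_fst] at h'
      exact h'.symm
    · have h' := congrArg (ap biprod.snd B) ha
      rw [map_add, (biprod_fst_inl B m).2, (biprod_snd_inr B x).2, zero_add, ← ap_comp, biprod.lift_snd] at h'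
      exact h'.symm
  have hpush : ∀ B a, ap i' B (ap P.ι B a) = ap j B (ap S.f B a) := fun B a => by
    have h := (cokernel_exact ρ B).apply_apply_eq_zero a
    rw [biprod_ext B (ap ρ B a), ← ap_comp ρ, ← ap_comp ρ, biprod.lift_fst, biprod.lift_snd, map_add] at h
    rw [← sub_eq_zero, sub_eq_add_neg, ← map_neg]
    exact h
  have hpj : ∀ B x, ap p' B (ap j B x) = ap S.g B x := fun B x => by rw [← ap_comp, hjp]
  have hG' : adequate A G' := by
    refine adequate_ext_underline i' p' (fun B => ?_) (fun B y => ?_) (fun B w => ?_) h₃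
    · rw [injective_iff_map_eq_zero]
      intro m hm
      obtain ⟨a, rfl, ha⟩ := hker B m 0 (by rw [map_zero, add_zero]; exact hm)
      rw [inj_of_mono S.f B ((neg_eq_zero.1 ha.symm).trans (map_zero _).symm), map_zero]
    · obtain ⟨x, rfl⟩ := surj_of_epi S.g B y
      exact ⟨ap j B x, hpj B x⟩
    · constructor
      · intro hw
        obtain ⟨m, x, rfl⟩ := hdec B w
        rw [map_add, ← ap_comp, hi'p, ap_zero, zero_add, hpj] at hw
        obtain ⟨a, rfl⟩ := (exact_ap S hS.exact B x).1 hw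
        exact ⟨m + ap P.ι B a, by rw [map_add, hpush]⟩
      · rintro ⟨m, rfl⟩
        rw [← ap_comp, hi'p, ap_zero]
  let J : S.X₂ ⟶ kernel r := kernel.lift r j hjr
  have hJ : ∀ B x, ap (kernel.ι r) B (ap J B x) = ap j B x := fun B x => by rw [← ap_comp, kernel.lift_ι]
  have : IsIso J := by
    refine isIso_of_bij J fun B => ⟨?_, fun y => ?_⟩
    · rw [injective_iff_map_eq_zero]
      intro x hx
      obtain ⟨a, ha, rfl⟩ := hker B 0 x (by rw [map_zero, zero_add, ← hJ, hx, map_zero])
      rw [P.inj B (ha.symm.trans (map_zero _).symm), map_zero, neg_zero]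
    · obtain ⟨m, x, hmx⟩ := hdec B (ap (kernel.ι r) B y)
      have h := (kernel_exact r B).apply_apply_eq_zero y
      rw [hmx, map_add, ← ap_comp, hir, ← ap_comp j r, hjr, ap_zero, add_zero] at h
      obtain ⟨a, rfl⟩ := (cokernel_exact P.ι B m).1 h
      refine ⟨ap S.f B a + x, inj_of_mono (kernel.ι r) B ?_⟩
      rw [hJ, hmx, map_add, hpush]
  exact (adequate A).prop_of_iso (asIso J).symm
    (adequate_kernel r hG' (adequate_cokernel P.ι h₁ (adequate_U P.M)))

end Groth.MiscGeom.Adq

end
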