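import Groth.Agent.MiscGeom.AdeqSites
import Groth.Agent.MiscGeom.AdeqDescent
import Groth.Agent.MiscGeom.AdeqExt2
import Mathlib.AlgebraicGeometry.Pullbacks

/-!
# Adequate modules have adequate functors at every affine object
-/

universe u v

open CategoryTheory CategoryTheory.Limits AlgebraicGeometry Opposite TensorProduct

noncomputable section

namespace Groth.MiscGeom.Adq

open Adeq

section Compare

variable {K : Precoverage Scheme.{u}} [BigSite.OSh K] {S : Scheme.{u}}
  (P₀ : PresheafOfModules.{u + 1} (BigSite.ORing K S).obj)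
  {R R' : CommRingCat.{u}} [Algebra R R'] (a : Spec R ⟶ S) (a' : Spec R' ⟶ S)
  (h : Spec.map (CommRingCat.ofHom (algebraMap R R')) ≫ a = a')

/-- the two affine objects attached to an algebra over `R'` -/
def specCmp (B : Alg R') : (specOver a').obj (op B) ≅ (specOver a).obj (op ((Alg.restr R R').obj B)) :=
  Over.isoMk (Iso.refl _) (by
    show 𝟙 _ ≫ Spec.map (CommRingCat.ofHom ((algebraMap R' B).comp (algebraMap R R'))) ≫ a =
      Spec.map (CommRingCat.ofHom (algebraMap R' B)) ≫ a'
    rw [Category.id_comp, CommRingCat.ofHom_comp, Spec.map_comp, Category.assoc, h])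

theorem toSect_specCmp (B : Alg R') (b : B) :
    (BigSite.ORing K S).obj.map (specCmp a a' h B).hom.op (toSect K a ((Alg.restr R R').obj B) b) = toSect K a' B b := by
  refine ULift.ext _ _ ?_
  show (Scheme.Hom.appTop (𝟙 (Spec (CommRingCat.of B)))) ((Scheme.ΓSpecIso (CommRingCat.of B)).inv b) = _
  rw [Scheme.Hom.id_appTop]
  rfl

include h in
theorem exists_cmpHom :
    ∃ η : (Adeq.restr R R').obj ((toMVFPre K a).obj P₀) ⟶ (toMVFPre K a').obj P₀,
      ∀ B, Function.Bijective (ap η B) := by
  let θ : ∀ B : Alg R', ((Adeq.restr R R').obj ((toMVFPre K a).obj P₀)).obj (pt B) →ₗ[(B : Type u)]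
      ((toMVFPre K a').obj P₀).obj (pt B) := fun B =>
    { toFun := fun x => P₀.presheaf.map (specCmp a a' h B).hom.op x
      map_add' := fun x y => map_add (P₀.presheaf.map (specCmp a a' h B).hom.op).hom x y
      map_smul' := fun b x => by
        refine (P₀.map_smul (specCmp a a' h B).hom.op (toSect K a ((Alg.restr R R').obj B) b) x).trans ?_
        rw [toSect_specCmp]
        rfl }
  refine ⟨mkHom θ fun {B B'} g x => ?_, fun B => ?_⟩
  · show P₀.presheaf.map (specCmp a a' h B').hom.op (P₀.presheaf.map ((specOver a).map ((Alg.restr R R').map g).op).op x) =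
      P₀.presheaf.map ((specOver a').map g.op).op (P₀.presheaf.map (specCmp a a' h B).hom.op x)
    rw [← ConcreteCategory.comp_apply, ← ConcreteCategory.comp_apply, ← Functor.map_comp, ← Functor.map_comp,
      ← op_comp, ← op_comp]
    congr 3
  · exact ConcreteCategory.bijective_of_isIso (P₀.presheaf.map (specCmp a a' h B).hom.op)

include h in
theorem adequate_cmp (ha : adequate R ((toMVFPre K a).obj P₀)) : adequate R' ((toMVFPre K a').obj P₀) := by
  obtain ⟨η, hη⟩ := exists_cmpHom P₀ a a' h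
  exact adequate_of_bij η (adequate_restr _ _ ha) hη

include h in
theorem adequate_cmp' (ha : adequate R' ((toMVFPre K a').obj P₀)) :
    adequate R' ((Adeq.restr R R').obj ((toMVFPre K a).obj P₀)) := by
  obtain ⟨η, hη⟩ := exists_cmpHom P₀ a a' h
  have := isIso_of_bij η hη
  exact (adequate R').prop_of_iso (asIso η).symm ha

end Compare

variable {P : MorphismProperty Scheme.{u}} (hP : GoodProp P) {S : Scheme.{u}} {R : CommRingCat.{u}} (a : Spec R ⟶ S)

include hP in
/-- base change of a family of maps of affine schemes -/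
theorem family_bc {κ : Type v} (Rk : κ → Type u) [∀ k, CommRing (Rk k)] [∀ k, Algebra R (Rk k)]
    (hk : ∀ k, P (Spec.map (CommRingCat.ofHom (algebraMap R (Rk k)))))
    (hsurj : ∀ x : PrimeSpectrum R, ∃ k, x ∈ Set.range (PrimeSpectrum.comap (algebraMap R (Rk k)))) (B : Alg R) :
    (∀ k, P (specHom (Alg.unit R (Rk k) B))) ∧
      ∀ x : PrimeSpectrum B, ∃ k, x ∈ Set.range (PrimeSpectrum.comap (rh (Alg.unit R (Rk k) B))) := by
  haveI := hP.bc
  have hpb := fun k => isPullback_SpecMap_of_isPushout _ _ _ _ (CommRingCat.isPushout_tensorProduct R (Rk k) B)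
  refine ⟨fun k => MorphismProperty.of_isPullback (hpb k) (hk k), fun x => ?_⟩
  obtain ⟨k, y, hy⟩ := hsurj (PrimeSpectrum.comap (algebraMap R B) x)
  obtain ⟨z, -, hz⟩ := Scheme.Pullback.exists_preimage_pullback
    (f := Spec.map (CommRingCat.ofHom (algebraMap R (Rk k)))) (g := Spec.map (CommRingCat.ofHom (algebraMap R B))) y x hy
  refine ⟨k, (hpb k).isoPullback.inv z, ?_⟩
  have h2 := congrArg (fun φ => φ z) (hpb k).isoPullback_inv_snd
  exact h2.trans hz

variable [BigSite.OSh (Scheme.precoverage P)]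
  (P₀ : PresheafOfModules.{u + 1} (BigSite.ORing (Scheme.precoverage P) S).obj)

include hP in
/-- adequacy descends along a finite covering of an affine object -/
theorem adequate_of_affine_cover (hsh : Presheaf.IsSheaf (QuotSh.J (Scheme.precoverage P) S) P₀.presheaf)
    {κ : Type u} [Finite κ] (Rk : κ → CommRingCat.{u}) [∀ k, Algebra R (Rk k)]
    (hk : ∀ k, P (Spec.map (CommRingCat.ofHom (algebraMap R (Rk k)))))
    (hsurj : ∀ x : PrimeSpectrum R, ∃ k, x ∈ Set.range (PrimeSpectrum.comap (algebraMap R (Rk k))))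
    (h : ∀ k, adequate (Rk k) (FP (Spec.map (CommRingCat.ofHom (algebraMap R (Rk k))) ≫ a) P₀)) :
    adequate R (FP a P₀) :=
  adequate_descent_family (fun k => (Rk k : Type u)) (FP a P₀)
    (fun k => adequate_cmp' P₀ a _ rfl (h k))
    (fun B x hx => sect_sep a P₀ hP hsh _ (family_bc hP _ hk hsurj B).1 (family_bc hP _ hk hsurj B).2 x hx)
    (fun B y hy => sect_glue a P₀ hP hsh _ (family_bc hP _ hk hsurj B).1 (family_bc hP _ hk hsurj B).2 y hy)

omit P₀ in
include hP in
/-- pulling a covering family back to an affine object and refining it -/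
theorem exists_refinement_family {ι : Type v} (T : ι → Scheme.{u}) (t : ∀ i, T i ⟶ S)
    (hcov : Presieve.ofArrows T t ∈ (Scheme.precoverage P).coverings S) :
    ∃ (κ : Type u) (_ : Fintype κ) (Rk : κ → CommRingCat.{u}) (_ : ∀ k, Algebra R (Rk k)),
      (∀ k, P (Spec.map (CommRingCat.ofHom (algebraMap R (Rk k))))) ∧
      (∀ x : PrimeSpectrum R, ∃ k, x ∈ Set.range (PrimeSpectrum.comap (algebraMap R (Rk k)))) ∧
      ∀ k, ∃ (i : ι) (g : Spec (Rk k) ⟶ T i), g ≫ t i = Spec.map (CommRingCat.ofHom (algebraMap R (Rk k))) ≫ a := by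
  have hmem : Sieve.ofArrows (fun i => Over.mk (t i)) (fun i => (Over.homMk (t i) : Over.mk (t i) ⟶ Over.mk (𝟙 S))) ∈
      QuotSh.J (Scheme.precoverage P) S (Over.mk (𝟙 S)) := by
    rw [GrothendieckTopology.mem_over_iff, Sieve.overEquiv_ofArrows]
    exact Precoverage.generate_mem_toGrothendieck hcov
  let B₀ : Alg R := algOf R R
  let j : (specOver a).obj (op B₀) ⟶ Over.mk (𝟙 S) := Over.homMk ((specOver a).obj (op B₀)).hom
  obtain ⟨κ, hκ, Bk, f, hf, hsurj, hT⟩ :=
    exists_affine_refinement hP a ((QuotSh.J (Scheme.precoverage P) S).pullback_stable j hmem)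
  have he : ∀ k, (f k).hom.toRingHom = algebraMap R (Bk k) := fun k => RingHom.ext fun r => (f k).hom.commutes r
  refine ⟨κ, hκ, fun k => CommRingCat.of (Bk k), fun k => (Bk k).algebra, fun k => ?_, fun x => ?_, fun k => ?_⟩
  · have := hf k
    rwa [specHom, he] at this
  · obtain ⟨k, hk⟩ := hsurj x
    exact ⟨k, by rwa [he] at hk⟩
  · obtain ⟨_, g, _, ⟨i⟩, hg⟩ := hT k
    refine ⟨i, g.left, ?_⟩
    exact ((congrArg CommaMorphism.left hg).trans (Over.w ((specOver a).map (f k).op)))

include hP in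
theorem adequate_affine (hsh : Presheaf.IsSheaf (QuotSh.J (Scheme.precoverage P) S) P₀.presheaf)
    {ι : Type v} (Ri : ι → CommRingCat.{u}) (ai : ∀ i, Spec (Ri i) ⟶ S)
    (hcov : Presieve.ofArrows (fun i => Spec (Ri i)) ai ∈ (Scheme.precoverage P).coverings S)
    (h : ∀ i, adequate (Ri i) (FP (ai i) P₀)) :
    adequate R (FP a P₀) := by
  obtain ⟨κ, hκ, Rk, hR, hk, hsurj, hg⟩ := exists_refinement_family hP a _ ai hcov
  refine adequate_of_affine_cover hP a P₀ hsh Rk hk hsurj fun k => ?_
  obtain ⟨i, g, hg⟩ := hg k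
  letI : Algebra (Ri i) (Rk k) := (Spec.preimage g).hom.toAlgebra
  refine adequate_cmp P₀ (ai i) _ ?_ (h i)
  rw [← hg]
  exact congrArg (· ≫ ai i) (Spec.map_preimage g)

include hP in
theorem adequate_toMVF (M : BigSite.Mod (Scheme.precoverage P) S) (hM : adequateMod (Scheme.precoverage P) S M) :
    adequate R ((toMVF (Scheme.precoverage P) a).obj M) := by
  obtain ⟨ι, Ri, ai, hcov, h⟩ := hM
  exact adequate_affine hP a M.val M.isSheaf Ri ai hcov h

end Groth.MiscGeom.Adq

end
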