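import Groth.Agent.MiscGeom.MagnetUnram
import Groth.Prelude.Def_Magnet2

/-!
# Character values of points of `A(M)_S`
-/

set_option autoImplicit false
universe u

open CategoryTheory MonoidalCategory CartesianMonoidalCategory MonObj AlgebraicGeometry
open Magnet

noncomputable section

namespace Groth.MiscGeom.Mag

/-- Global sections as an algebra over `ULift ℤ`. -/
@[instance_reducible]
def algGam (X : Scheme.{u}) : Algebra (ULift.{u} ℤ) Γ(X, ⊤) :=
  ULift.algebra' ℤ Γ(X, ⊤)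

attribute [local instance] algGam

theorem ringHom_uliftInt_ext' {R : Type u} [CommRing R] (f g : (ULift.{u} ℤ) →+* R) : f = g := by
  ext ⟨n⟩
  exact RingHom.congr_fun (RingHom.ext_int (f.comp (ULift.ringEquiv.symm : ℤ ≃+* (ULift.{u} ℤ)).toRingHom)
    (g.comp (ULift.ringEquiv.symm : ℤ ≃+* (ULift.{u} ℤ)).toRingHom)) n

/-- The structure map of `S` over `Spec ℤ`. -/
abbrev toZs (S : Scheme.{u}) : S ⟶ Spec (CommRingCat.of (ULift.{u} ℤ)) := Limits.IsTerminal.from specULiftZIsTerminal S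

variable {S : Scheme.{u}} {M : Type} [AddCommMonoid M]

/-- `ℤ[M]` -/
abbrev ZM (M : Type) : Type u := MonoidAlgebra (ULift.{u} ℤ) (Multiplicative M)

/-- the scheme map to `Spec ℤ[M]` of a point -/
abbrev pvX {X : Over S} (x : X ⟶ AMonS S M) : X.left ⟶ Spec (CommRingCat.of (ZM.{u} M)) :=
  x.left ≫ Limits.pullback.fst (AMon (ULift.{u} ℤ) M).hom (toZs S)

/-- the monomial `m` of `ℤ[M]` -/
abbrev zm (m : Multiplicative M) : ZM.{u} M := MonoidAlgebra.single m 1

/-- the comorphism of a point of `A(M)_S` -/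
def pvAlg {X : Over S} (x : X ⟶ AMonS S M) : (ZM.{u} M) →ₐ[(ULift.{u} ℤ)] Γ(X.left, ⊤) where
  toRingHom := (pvX x).appTop.hom.comp
    (Scheme.ΓSpecIso (CommRingCat.of (ZM.{u} M))).inv.hom
  commutes' r := RingHom.congr_fun (ringHom_uliftInt_ext'
    (((pvX x).appTop.hom.comp
      (Scheme.ΓSpecIso (CommRingCat.of (ZM.{u} M))).inv.hom).comp (algebraMap (ULift.{u} ℤ) (ZM.{u} M)))
    (algebraMap (ULift.{u} ℤ) Γ(X.left, ⊤))) r

/-- the point with a given comorphism -/
def pvMk (X : Over S) (a : WithConv ((ZM.{u} M) →ₐ[(ULift.{u} ℤ)] Γ(X.left, ⊤))) : X ⟶ AMonS S M :=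
  (Over.mapPullbackAdj (toZs S)).homEquiv X (AMon (ULift.{u} ℤ) M)
    ((Over.homMk X.left.toSpecΓ (specULiftZIsTerminal.hom_ext _ _) : (Over.map (toZs S)).obj X ⟶
      (Spec (CommRingCat.of Γ(X.left, ⊤))).asOver (Spec (CommRingCat.of (ULift.{u} ℤ)))) ≫ Spec.mapMulEquiv a)

theorem pvMk_mul (X : Over S) (a b : WithConv ((ZM.{u} M) →ₐ[(ULift.{u} ℤ)] Γ(X.left, ⊤))) :
    pvMk X (a * b) = pvMk X a * pvMk X b := by
  simp only [pvMk, map_mul, MonObj.comp_mul, Adjunction.homEquiv_unit]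
  rw [Functor.map_mul, MonObj.comp_mul]

theorem pvFst_eq {X : Over S} (x : X ⟶ AMonS S M) :
    pvX x =
      (((Over.mapPullbackAdj (toZs S)).homEquiv X (AMon (ULift.{u} ℤ) M)).symm x).left := by
  simp [pvX, Adjunction.homEquiv_counit]
  rfl

theorem pvMk_left (X : Over S) (a : WithConv ((ZM.{u} M) →ₐ[(ULift.{u} ℤ)] Γ(X.left, ⊤))) :
    pvX (pvMk X a) =
      X.left.toSpecΓ ≫ Spec.map (CommRingCat.ofHom a.ofConv.toRingHom) := by
  rw [pvFst_eq, pvMk, Equiv.symm_apply_apply]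
  rfl

theorem pvAlg_pvMk (X : Over S) (a : WithConv ((ZM.{u} M) →ₐ[(ULift.{u} ℤ)] Γ(X.left, ⊤))) :
    pvAlg (pvMk X a) = a.ofConv := by
  apply AlgHom.coe_ringHom_injective
  show (pvX (pvMk X a)).appTop.hom.comp _ = _
  rw [pvMk_left, Scheme.Hom.comp_appTop, ← CommRingCat.hom_comp, Scheme.toSpecΓ_appTop,
    ← Category.assoc, ← Scheme.ΓSpecIso_inv_naturality, Category.assoc, Iso.inv_hom_id,
    Category.comp_id]
  rfl

theorem pvMk_pvAlg {X : Over S} (x : X ⟶ AMonS S M) : pvMk X (WithConv.toConv (pvAlg x)) = x := by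
  apply Over.OverMorphism.ext
  apply Limits.pullback.hom_ext
  · show pvX (pvMk X _) = pvX x
    rw [pvMk_left]
    show X.left.toSpecΓ ≫ Spec.map (_ ≫ _) = _
    rw [Spec.map_comp, ← Scheme.toSpecΓ_naturality_assoc, ← SpecMap_ΓSpecIso_hom,
      ← Spec.map_comp, Iso.inv_hom_id, Spec.map_id, Category.comp_id]
  · exact (Over.w (pvMk X _)).trans (Over.w x).symm

/-- character values of a point -/
def pv {X : Over S} (x : X ⟶ AMonS S M) : Multiplicative M →* Γ(X.left, ⊤) :=
  (pvAlg x).toMonoidHom.comp (MonoidAlgebra.of _ _)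

theorem pv_ext {X : Over S} {x y : X ⟶ AMonS S M} (h : ∀ m, pv x m = pv y m) : x = y := by
  rw [← pvMk_pvAlg x, ← pvMk_pvAlg y]
  congr 2
  apply MonoidAlgebra.algHom_ext'
  all_goals first
    | exact MonoidHom.ext h
    | exact AlgHom.coe_ringHom_injective (ringHom_uliftInt_ext' _ _)

theorem pv_mul {X : Over S} (x y : X ⟶ AMonS S M) (m : Multiplicative M) : pv (x * y) m = pv x m * pv y m := by
  have h : pvAlg (x * y) = (WithConv.toConv (pvAlg x) * WithConv.toConv (pvAlg y)).ofConv := by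
    conv_lhs => rw [← pvMk_pvAlg x, ← pvMk_pvAlg y, ← pvMk_mul, pvAlg_pvMk]
  show pvAlg (x * y) (zm m) = pvAlg x _ * pvAlg y _
  rw [h, AlgHom.convMul_def]
  simp

theorem pv_one {X : Over S} (m : Multiplicative M) : pv (1 : X ⟶ AMonS S M) m = 1 := by
  let e : X ⟶ AMonS S M := pvMk X (WithConv.toConv (MonoidAlgebra.lift (ULift.{u} ℤ) _ (Multiplicative M) 1))
  have he : ∀ m, pv e m = 1 := fun m => by
    show pvAlg e (zm m) = 1
    rw [pvAlg_pvMk]
    simp
  have h := pv_mul (1 : X ⟶ AMonS S M) e m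
  rw [show (1 : X ⟶ AMonS S M) * e = e from _root_.one_mul e, he m, _root_.mul_one] at h
  exact h.symm

theorem pv_comp {X Y : Over S} (g : Y ⟶ X) (x : X ⟶ AMonS S M) (m : Multiplicative M) :
    pv (g ≫ x) m = g.left.appTop (pv x m) := by
  simp only [pv, pvAlg, Over.comp_left, Category.assoc, Scheme.Hom.comp_appTop]
  rfl

/-- the point with given character values -/
def pvPt (X : Over S) (χ : Multiplicative M →* Γ(X.left, ⊤)) : X ⟶ AMonS S M :=
  pvMk X (WithConv.toConv (MonoidAlgebra.lift (ULift.{u} ℤ) _ (Multiplicative M) χ))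

theorem pv_pvPt (X : Over S) (χ : Multiplicative M →* Γ(X.left, ⊤)) (m : Multiplicative M) :
    pv (pvPt X χ) m = χ m := by
  show pvAlg (pvPt X χ) (zm m) = χ m
  rw [pvPt, pvAlg_pvMk]
  simp

theorem pv_map {N : Type} [AddCommMonoid N] (f : N →+ M) {X : Over S} (x : X ⟶ AMonS S M) (n : Multiplicative N) :
    pv (x ≫ AMonS.map S f) n = pv x (AddMonoidHom.toMultiplicative f n) := by
  have h : pvX (x ≫ AMonS.map S f) =
      pvX x ≫ Spec.map (CommRingCat.ofHom
        (MonoidAlgebra.mapDomainBialgHom (ULift.{u} ℤ) (AddMonoidHom.toMultiplicative f)).toAlgHom.toRingHom) := by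
    refine (Category.assoc _ _ _).trans (Eq.trans ?_ (Category.assoc _ _ _).symm)
    exact congrArg (x.left ≫ ·) (Limits.pullback.lift_fst _ _ _)
  show (pvX (x ≫ AMonS.map S f)).appTop.hom ((Scheme.ΓSpecIso _).inv.hom (zm n)) =
    (pvX x).appTop.hom ((Scheme.ΓSpecIso _).inv.hom (zm _))
  rw [h]
  rw [Scheme.Hom.comp_appTop]
  show (pvX x).appTop.hom _ = _
  congr 1
  refine (ConcreteCategory.congr_hom (Scheme.ΓSpecIso_inv_naturality (CommRingCat.ofHom
    (MonoidAlgebra.mapDomainBialgHom (ULift.{u} ℤ) (AddMonoidHom.toMultiplicative f)).toAlgHom.toRingHom))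
      (zm n)).symm.trans ?_
  show (Scheme.ΓSpecIso _).inv.hom _ = _
  congr 1
  exact MonoidAlgebra.mapDomain_single

/-- `Spec A[M]` over `S` -/
abbrev spMA {A : Type u} [CommRing A] (str : Spec (CommRingCat.of A) ⟶ S) (M : Type) [AddCommMonoid M] : Over S :=
  Over.mk (Spec.map (maConst A M) ≫ str)

/-- `Spec A[M] ≅ A(M)_S ×_S Spec A` over `S` -/
def specMAIso {A : Type u} [CommRing A] (str : Spec (CommRingCat.of A) ⟶ S) (M : Type) [AddCommMonoid M] :
    spMA str M ≅ AMonS S M ⊗ Over.mk str :=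
  Over.isoMk (specMA str M) (by
    show (specMA str M).hom ≫ _ = Spec.map (maConst A M) ≫ str
    rw [← Over.w (snd (AMonS S M) (Over.mk str)), ← Category.assoc, specMA_snd]
    rfl)

theorem pv_specMAIso {A : Type u} [CommRing A] (str : Spec (CommRingCat.of A) ⟶ S) (m : Multiplicative M) :
    pv ((specMAIso str M).hom ≫ fst _ _) m =
      (Scheme.ΓSpecIso (MA A M)).inv.hom (MonoidAlgebra.single m 1) := by
  have h : pvX ((specMAIso str M).hom ≫ fst (AMonS S M) (Over.mk str)) = Spec.map (maCoeff A M) := by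
    rw [← specMA_toAMon str M]
    exact Category.assoc _ _ _
  show (pvX ((specMAIso str M).hom ≫ fst (AMonS S M) (Over.mk str))).appTop.hom
    ((Scheme.ΓSpecIso _).inv.hom (zm m)) = _
  rw [h]
  refine (ConcreteCategory.congr_hom (Scheme.ΓSpecIso_inv_naturality (maCoeff A M))
    (zm m)).symm.trans ?_
  show (Scheme.ΓSpecIso _).inv.hom _ = _
  congr 1
  refine (MonoidAlgebra.mapRingHom_single _ _ _).trans ?_
  rw [map_one]

/-- a map to `A(M)_S ×_S Spec A` given by a ring map -/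
theorem specMAIso_lift {A : Type u} [CommRing A] (str : Spec (CommRingCat.of A) ⟶ S) {Q : CommRingCat.{u}}
    (φ : MA A M ⟶ Q) {W : Over S} (e : W.left ⟶ Spec Q) (w : W ⟶ spMA str M) (hw : w.left = e ≫ Spec.map φ)
    (p : W ⟶ AMonS S M) (t : W ⟶ Over.mk str) (ht : t.left = e ≫ Spec.map (maConst A M ≫ φ))
    (hp : ∀ m, pv p m = e.appTop ((Scheme.ΓSpecIso Q).inv.hom (φ.hom (MonoidAlgebra.single m 1)))) :
    w ≫ (specMAIso str M).hom = lift p t := by
  apply CartesianMonoidalCategory.hom_ext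
  · rw [Category.assoc, lift_fst]
    refine pv_ext fun m => ?_
    rw [pv_comp, pv_specMAIso, hp, hw, Scheme.Hom.comp_appTop]
    show e.appTop.hom _ = _
    congr 1
    exact (ConcreteCategory.congr_hom (Scheme.ΓSpecIso_inv_naturality φ) (MonoidAlgebra.single m 1)).symm
  · rw [Category.assoc, lift_snd]
    refine Over.OverMorphism.ext ?_
    rw [Over.comp_left, Over.comp_left, ht, hw]
    show (e ≫ Spec.map φ) ≫ (specMA str M).hom ≫ (snd (AMonS S M) (Over.mk str)).left = _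
    rw [specMA_snd, Category.assoc, Spec.map_comp]

end Groth.MiscGeom.Mag

end
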