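import Groth.Prelude.Def_Magnet2
import Mathlib.RingTheory.TensorProduct.MonoidAlgebra
import Mathlib.AlgebraicGeometry.Morphisms.Separated
import Mathlib.AlgebraicGeometry.Morphisms.ClosedImmersion

/-!
# `A(N)_S ×_S Spec A = Spec A[N]`, and cancellation along `A(N') → A(N)`
-/

universe u

open CategoryTheory CategoryTheory.Limits MonoidalCategory CartesianMonoidalCategory AlgebraicGeometry Opposite
open Magnet
open scoped AlgebraMonoidAlgebra

noncomputable section

namespace Groth.MiscGeom.Mag

/-- `A[N]` -/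
abbrev MA (A : Type u) [CommRing A] (N : Type) [AddCommMonoid N] : CommRingCat.{u} :=
  CommRingCat.of (MonoidAlgebra A (Multiplicative N))

/-- `ℤ[N] → A[N]` -/
def maCoeff (A : Type u) [CommRing A] (N : Type) [AddCommMonoid N] : MA (ULift.{u} ℤ) N ⟶ MA A N :=
  CommRingCat.ofHom (MonoidAlgebra.mapRingHom (Multiplicative N) ((Int.castRingHom A).comp ULift.ringEquiv.toRingHom))

/-- `A → A[N]` -/
def maConst (A : Type u) [CommRing A] (N : Type) [AddCommMonoid N] : CommRingCat.of A ⟶ MA A N :=
  CommRingCat.ofHom (algebraMap A (MonoidAlgebra A (Multiplicative N)))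

/-- `A[N] → A[M]` -/
def maMap (A : Type u) [CommRing A] {N M : Type} [AddCommMonoid N] [AddCommMonoid M] (f : N →+ M) : MA A N ⟶ MA A M :=
  CommRingCat.ofHom (MonoidAlgebra.mapDomainAlgHom A A (AddMonoidHom.toMultiplicative f)).toRingHom

theorem isPullback_maSpec (A : Type u) [CommRing A] (N : Type) [AddCommMonoid N] :
    IsPullback (Spec.map (maCoeff A N)) (Spec.map (maConst A N))
      (AMon (ULift.{u} ℤ) N).hom (Limits.IsTerminal.from specULiftZIsTerminal (Spec (CommRingCat.of A))) := by
  letI : Algebra (ULift.{u} ℤ) A :=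
    { smul := (· • ·)
      algebraMap := (Int.castRingHom A).comp (ULift.ringEquiv : ULift.{u} ℤ ≃+* ℤ).toRingHom
      commutes' := fun _ _ => mul_comm _ _
      smul_def' := fun r x => (zsmul_eq_mul x r.down : (r.down • x : A) = _) }
  have h := isPullback_SpecMap_of_isPushout _ _ _ _
    (CommRingCat.isPushout_of_isPushout (ULift.{u} ℤ) (MonoidAlgebra (ULift.{u} ℤ) (Multiplicative N)) A
      (MonoidAlgebra A (Multiplicative N)))
  rw [show (AMon (ULift.{u} ℤ) N).hom = Spec.map (CommRingCat.ofHom (algebraMap (ULift.{u} ℤ)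
      (MonoidAlgebra (ULift.{u} ℤ) (Multiplicative N)))) from specULiftZIsTerminal.hom_ext _ _,
    specULiftZIsTerminal.hom_ext (Limits.IsTerminal.from specULiftZIsTerminal (Spec (CommRingCat.of A)))
      (Spec.map (CommRingCat.ofHom (algebraMap (ULift.{u} ℤ) A)))]
  exact h

variable {S : Scheme.{u}}

/-- projection `A(N)_S ×_S T → A(N)_ℤ` -/
def toAMon (N : Type) [AddCommMonoid N] (T : Over S) : (AMonS S N ⊗ T).left ⟶ (AMon (ULift.{u} ℤ) N).left :=
  pullback.fst (AMonS S N).hom T.hom ≫
    pullback.fst (AMon (ULift.{u} ℤ) N).hom (Limits.IsTerminal.from specULiftZIsTerminal S)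

theorem isPullback_toAMon (N : Type) [AddCommMonoid N] (T : Over S) :
    IsPullback (toAMon N T) (snd (AMonS S N) T).left (AMon (ULift.{u} ℤ) N).hom
      (Limits.IsTerminal.from specULiftZIsTerminal T.left) := by
  rw [specULiftZIsTerminal.hom_ext (Limits.IsTerminal.from specULiftZIsTerminal T.left)
    (T.hom ≫ Limits.IsTerminal.from specULiftZIsTerminal S)]
  exact (IsPullback.of_hasPullback (AMonS S N).hom T.hom).paste_horiz
    (IsPullback.of_hasPullback (AMon (ULift.{u} ℤ) N).hom (Limits.IsTerminal.from specULiftZIsTerminal S))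

theorem toAMon_whiskerRight {N M : Type} [AddCommMonoid N] [AddCommMonoid M] (f : N →+ M) (T : Over S) :
    (AMonS.map S f ▷ T).left ≫ toAMon N T = toAMon M T ≫ (AMon.map (ULift.{u} ℤ) f).left := by
  simp only [toAMon, ← Category.assoc]
  rw [show (AMonS.map S f ▷ T).left ≫ pullback.fst (AMonS S N).hom T.hom =
      pullback.fst (AMonS S M).hom T.hom ≫ (AMonS.map S f).left from
    congrArg CommaMorphism.left (whiskerRight_fst (AMonS.map S f) T)]
  simp only [Category.assoc]
  congr 1
  exact pullback.lift_fst _ _ _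

theorem toAMon_whiskerLeft (N : Type) [AddCommMonoid N] {T T' : Over S} (t : T' ⟶ T) :
    (AMonS S N ◁ t).left ≫ toAMon N T = toAMon N T' := by
  simp only [toAMon, ← Category.assoc]
  rw [show (AMonS S N ◁ t).left ≫ pullback.fst (AMonS S N).hom T.hom = pullback.fst (AMonS S N).hom T'.hom from
    congrArg CommaMorphism.left (whiskerLeft_fst (AMonS S N) t)]

variable {A : Type u} [CommRing A] (str : Spec (CommRingCat.of A) ⟶ S)

/-- `Spec A[N] ≅ A(N)_S ×_S Spec A` -/
def specMA (N : Type) [AddCommMonoid N] : Spec (MA A N) ≅ (AMonS S N ⊗ Over.mk str).left :=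
  (isPullback_maSpec A N).isoIsPullback _ _ (isPullback_toAMon N (Over.mk str))

theorem specMA_toAMon (N : Type) [AddCommMonoid N] :
    (specMA str N).hom ≫ toAMon N (Over.mk str) = Spec.map (maCoeff A N) :=
  IsPullback.isoIsPullback_hom_fst _ _ _ _

theorem specMA_snd (N : Type) [AddCommMonoid N] :
    (specMA str N).hom ≫ (snd (AMonS S N) (Over.mk str)).left = Spec.map (maConst A N) :=
  IsPullback.isoIsPullback_hom_snd _ _ _ _

theorem maCoeff_naturality {N M : Type} [AddCommMonoid N] [AddCommMonoid M] (f : N →+ M) :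
    maCoeff A N ≫ maMap A f = maMap (ULift.{u} ℤ) f ≫ maCoeff A M := by
  refine CommRingCat.hom_ext (MonoidAlgebra.ringHom_ext (fun r => ?_) fun m => ?_) <;>
    simp [maCoeff, maMap]

theorem maConst_naturality {N M : Type} [AddCommMonoid N] [AddCommMonoid M] (f : N →+ M) :
    maConst A N ≫ maMap A f = maConst A M :=
  CommRingCat.hom_ext (MonoidAlgebra.mapDomainAlgHom A A (AddMonoidHom.toMultiplicative f)).comp_algebraMap

theorem specMA_whiskerRight {N M : Type} [AddCommMonoid N] [AddCommMonoid M] (f : N →+ M) :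
    (specMA str M).hom ≫ (AMonS.map S f ▷ Over.mk str).left = Spec.map (maMap A f) ≫ (specMA str N).hom := by
  refine (isPullback_toAMon N (Over.mk str)).hom_ext ?_ ?_
  · rw [Category.assoc, toAMon_whiskerRight, ← Category.assoc, specMA_toAMon, Category.assoc, specMA_toAMon]
    exact ((Spec.map_comp _ _).symm.trans (congrArg Spec.map (maCoeff_naturality (A := A) f).symm)).trans
      (Spec.map_comp _ _)
  · rw [Category.assoc, show (AMonS.map S f ▷ Over.mk str).left ≫ (snd (AMonS S N) (Over.mk str)).left =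
        (snd (AMonS S M) (Over.mk str)).left from congrArg CommaMorphism.left (whiskerRight_snd (AMonS.map S f) _),
      specMA_snd, Category.assoc, specMA_snd, ← Spec.map_comp, maConst_naturality]

theorem maMap_injective {N M : Type} [AddCommMonoid N] [AddCommMonoid M] (f : N →+ M) (hf : Function.Injective f) :
    Function.Injective (maMap A f).hom :=
  MonoidAlgebra.mapDomain_injective (f := AddMonoidHom.toMultiplicative f) hf

/-- maps from an affine scheme into a separated one agree if they do on a scheme with more functions -/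
theorem over_ext_of_injective {P P' X : Over S} [IsAffine P.left] [IsSeparated X.hom] (g : P' ⟶ P)
    (hg : Function.Injective g.left.appTop) {φ ψ : P ⟶ X} (h : g ≫ φ = g ≫ ψ) : φ = ψ := by
  let ι := equalizer.ι φ ψ
  have hk : (equalizer.lift g h).left ≫ ι.left = g.left := by
    rw [← Over.comp_left, equalizer.lift_ι]
  have hinj : Function.Injective ι.left.appTop := by
    rw [← hk, Scheme.Hom.comp_appTop] at hg
    exact fun a b hab => hg (congrArg (equalizer.lift g h).left.appTop hab)
  haveI : IsIso ι.left := IsClosedImmersion.isIso_of_injective_of_isAffine hinj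
  apply Over.OverMorphism.ext
  rw [← cancel_epi ι.left, ← Over.comp_left, ← Over.comp_left, equalizer.condition]

theorem specMap_appTop_injective {Q Q' : CommRingCat.{u}} (φ : Q ⟶ Q') (hφ : Function.Injective φ.hom) :
    Function.Injective (Spec.map φ).appTop := by
  have h : (Spec.map φ).appTop = (Scheme.ΓSpecIso Q).hom ≫ φ ≫ (Scheme.ΓSpecIso Q').inv := by
    rw [← Scheme.ΓSpecIso_naturality_assoc, Iso.hom_inv_id, Category.comp_id]
  rw [h]
  exact ((ConcreteCategory.isIso_iff_bijective (Scheme.ΓSpecIso Q').inv).1 inferInstance).1.comp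
    (hφ.comp ((ConcreteCategory.isIso_iff_bijective (Scheme.ΓSpecIso Q).hom).1 inferInstance).1)

theorem whiskerRight_cancel_affine {X : Over S} [IsSeparated X.hom] {N M : Type} [AddCommMonoid N] [AddCommMonoid M]
    (f : N →+ M) (hf : Function.Injective f) {φ ψ : AMonS S N ⊗ Over.mk str ⟶ X}
    (h : (AMonS.map S f ▷ Over.mk str) ≫ φ = (AMonS.map S f ▷ Over.mk str) ≫ ψ) : φ = ψ := by
  haveI : IsAffine (AMonS S N ⊗ Over.mk str).left := IsAffine.of_isIso (specMA str N).inv
  refine over_ext_of_injective (AMonS.map S f ▷ Over.mk str) ?_ h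
  have e : (AMonS.map S f ▷ Over.mk str).left =
      (specMA str M).inv ≫ Spec.map (maMap A f) ≫ (specMA str N).hom := by
    rw [← specMA_whiskerRight, Iso.inv_hom_id_assoc]
  rw [e, Scheme.Hom.comp_appTop, Scheme.Hom.comp_appTop]
  haveI : IsIso (specMA str M).inv.appTop := inferInstanceAs (IsIso (Scheme.Γ.map (specMA str M).inv.op))
  haveI : IsIso (specMA str N).hom.appTop := inferInstanceAs (IsIso (Scheme.Γ.map (specMA str N).hom.op))
  exact ((ConcreteCategory.isIso_iff_bijective (specMA str M).inv.appTop).1 inferInstance).1.comp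
    ((specMap_appTop_injective _ (maMap_injective f hf)).comp
      ((ConcreteCategory.isIso_iff_bijective (specMA str N).hom.appTop).1 inferInstance).1)

theorem isPullback_whiskerLeft (B : Over S) {T T' : Over S} (t : T' ⟶ T) :
    IsPullback (B ◁ t).left (snd B T').left (snd B T).left t.left := by
  have h1 : (B ◁ t).left ≫ pullback.fst B.hom T.hom = pullback.fst B.hom T'.hom :=
    congrArg CommaMorphism.left (whiskerLeft_fst B t)
  refine IsPullback.of_right (h₁₂ := pullback.fst B.hom T.hom) (v₁₃ := B.hom) (h₂₂ := T.hom) ?_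
    (congrArg CommaMorphism.left (whiskerLeft_snd B t)) (IsPullback.of_hasPullback B.hom T.hom)
  rw [h1, Over.w t]
  exact IsPullback.of_hasPullback B.hom T'.hom

theorem whiskerLeft_cover_ext {B X : Over S} {T : Over S} (𝒰 : Scheme.OpenCover.{u} T.left) {φ ψ : B ⊗ T ⟶ X}
    (h : ∀ j, (B ◁ (Over.homMk (𝒰.f j) : Over.mk (𝒰.f j ≫ T.hom) ⟶ T)) ≫ φ =
      (B ◁ (Over.homMk (𝒰.f j) : Over.mk (𝒰.f j ≫ T.hom) ⟶ T)) ≫ ψ) : φ = ψ := by
  refine Over.OverMorphism.ext (Scheme.Cover.hom_ext (𝒰.pullback₁ (snd B T).left) _ _ fun j => ?_)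
  let t : Over.mk (𝒰.f j ≫ T.hom) ⟶ T := Over.homMk (𝒰.f j)
  have hP : IsPullback (B ◁ t).left (snd B (Over.mk (𝒰.f j ≫ T.hom))).left (snd B T).left (𝒰.f j) :=
    isPullback_whiskerLeft B t
  have hj := congrArg CommaMorphism.left (h j)
  change pullback.fst (snd B T).left (𝒰.f j) ≫ φ.left = pullback.fst (snd B T).left (𝒰.f j) ≫ ψ.left
  rw [← hP.isoPullback_inv_fst, Category.assoc, Category.assoc]
  exact congrArg (hP.isoPullback.inv ≫ ·) hj

theorem whiskerRight_cancel {X : Over S} [IsSeparated X.hom] {N M : Type} [AddCommMonoid N] [AddCommMonoid M]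
    (f : N →+ M) (hf : Function.Injective f) {T : Over S} {φ ψ : AMonS S N ⊗ T ⟶ X}
    (h : (AMonS.map S f ▷ T) ≫ φ = (AMonS.map S f ▷ T) ≫ ψ) : φ = ψ := by
  refine whiskerLeft_cover_ext T.left.affineCover fun j => ?_
  refine whiskerRight_cancel_affine (T.left.affineCover.f j ≫ T.hom) f hf ?_
  let t : Over.mk (T.left.affineCover.f j ≫ T.hom) ⟶ T := Over.homMk (T.left.affineCover.f j)
  show (AMonS.map S f ▷ _) ≫ (AMonS S N ◁ t) ≫ φ = (AMonS.map S f ▷ _) ≫ (AMonS S N ◁ t) ≫ ψ
  exact ((whisker_exchange_assoc (AMonS.map S f) t φ).symm.trans (congrArg ((AMonS S M ◁ t) ≫ ·) h)).trans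
    (whisker_exchange_assoc (AMonS.map S f) t ψ)

end Groth.MiscGeom.Mag

end
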