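import Groth.Agent.MiscGeom.MagnetPts
import Groth.Agent.MiscGeom.MagnetRep

/-!
# The coaction of an action of `A(M)_S` on an `S`-affine scheme, over an affine base
-/

set_option autoImplicit false
universe u

open CategoryTheory CategoryTheory.Limits MonoidalCategory CartesianMonoidalCategory MonObj AlgebraicGeometry Opposite
open Magnet
open scoped AlgebraMonoidAlgebra

noncomputable section

namespace Groth.MiscGeom.Mag

variable {S : Scheme.{u}} {A : CommRingCat.{u}} (str : Spec A ⟶ S) (X : Over S) [IsAffineHom X.hom]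

/-- `Γ(X ×_S Spec A)` -/
abbrev gB : CommRingCat.{u} := Γ(pullback X.hom str, ⊤)

theorem isAffine_gP : IsAffine (pullback X.hom str) := isAffine_of_isAffineHom (pullback.snd X.hom str)

/-- `X ×_S Spec A ≅ Spec gB` -/
def gIso : pullback X.hom str ≅ Spec (gB str X) :=
  haveI := isAffine_gP str X
  (pullback X.hom str).isoSpec

/-- `A → gB` -/
def gGam : A ⟶ gB str X := Spec.preimage ((gIso str X).inv ≫ pullback.snd X.hom str)

theorem specMap_gGam : Spec.map (gGam str X) = (gIso str X).inv ≫ pullback.snd X.hom str := Spec.map_preimage _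

/-- the tautological point -/
def gX0 : Over.mk (Spec.map (gGam str X) ≫ str) ⟶ X :=
  Over.homMk ((gIso str X).inv ≫ pullback.fst X.hom str) (by
    show ((gIso str X).inv ≫ pullback.fst X.hom str) ≫ X.hom = Spec.map (gGam str X) ≫ str
    rw [Category.assoc, pullback.condition, specMap_gGam, Category.assoc])

theorem gHom_ext {Q : CommRingCat.{u}} {τ τ' : gB str X ⟶ Q} (h1 : gGam str X ≫ τ = gGam str X ≫ τ')
    (h2 : Spec.map τ ≫ (gX0 str X).left = Spec.map τ' ≫ (gX0 str X).left) : τ = τ' := by
  refine Spec.map_injective ((cancel_mono (gIso str X).inv).1 (pullback.hom_ext ?_ ?_))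
  · rw [Category.assoc, Category.assoc]
    exact h2
  · rw [Category.assoc, Category.assoc, ← specMap_gGam, ← Spec.map_comp, ← Spec.map_comp, h1]

theorem exists_gHom {Q : CommRingCat.{u}} (h : Spec Q ⟶ X.left) (c : A ⟶ Q) (w : h ≫ X.hom = Spec.map c ≫ str) :
    ∃ τ : gB str X ⟶ Q, gGam str X ≫ τ = c ∧ Spec.map τ ≫ (gX0 str X).left = h := by
  refine ⟨Spec.preimage (pullback.lift h (Spec.map c) w ≫ (gIso str X).hom), Spec.map_injective ?_, ?_⟩
  · rw [Spec.map_comp, Spec.map_preimage, specMap_gGam, Category.assoc, Iso.hom_inv_id_assoc, pullback.lift_snd]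
  · show Spec.map (Spec.preimage _) ≫ (gIso str X).inv ≫ pullback.fst X.hom str = h
    rw [Spec.map_preimage, Category.assoc, Iso.hom_inv_id_assoc, pullback.lift_fst]

theorem specMA_whiskerLeft' {M : Type} [AddCommMonoid M] {A₀ C : CommRingCat.{u}} (str₀ : Spec A₀ ⟶ S) (str₁ : Spec C ⟶ S)
    (φ : A₀ ⟶ C) (t : Over.mk str₁ ⟶ Over.mk str₀) (ht : t.left = Spec.map φ) :
    (specMA str₁ M).hom ≫ (AMonS S M ◁ t).left = Spec.map (maBase φ M) ≫ (specMA str₀ M).hom := by
  have e : str₁ = Spec.map φ ≫ str₀ := by rw [← ht]; exact (Over.w t).symm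
  subst e
  rw [show t = (Over.homMk (Spec.map φ) rfl : Over.mk (Spec.map φ ≫ str₀) ⟶ Over.mk str₀) from Over.OverMorphism.ext ht]
  exact specMA_whiskerLeft (A' := C) str₀ M φ.hom

variable {X} {M : Type} [AddCommMonoid M] (a : MonAct (AMonS S M) X)

/-- the orbit of the tautological point -/
abbrev gOrb : Spec (MA (gB str X) M) ⟶ X.left :=
  (specMA (Spec.map (gGam str X) ≫ str) M).hom ≫ ((AMonS S M ◁ gX0 str X) ≫ a.act).left

theorem exists_delta : ∃ τ : gB str X ⟶ MA (gB str X) M, gGam str X ≫ τ = gGam str X ≫ maConst (gB str X) M ∧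
    Spec.map τ ≫ (gX0 str X).left = gOrb str a := by
  refine exists_gHom str X _ _ ?_
  rw [Category.assoc, Over.w, ← Over.w (snd (AMonS S M) (Over.mk (Spec.map (gGam str X) ≫ str))), ← Category.assoc,
    specMA_snd, Spec.map_comp, Category.assoc]
  rfl

/-- the coaction `gB → gB[M]` -/
def gDelta : gB str X ⟶ MA (gB str X) M := (exists_delta str a).choose

theorem gGam_gDelta : gGam str X ≫ gDelta str a = gGam str X ≫ maConst (gB str X) M :=
  (exists_delta str a).choose_spec.1

theorem specMap_gDelta : Spec.map (gDelta str a) ≫ (gX0 str X).left = gOrb str a :=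
  (exists_delta str a).choose_spec.2

/-- orbit of a point through the tautological one -/
theorem orbit_eq {C : CommRingCat.{u}} (str₁ : Spec C ⟶ S) (φ : gB str X ⟶ C) (x : Over.mk str₁ ⟶ X)
    (hx : x.left = Spec.map φ ≫ (gX0 str X).left) :
    (specMA str₁ M).hom ≫ ((AMonS S M ◁ x) ≫ a.act).left =
      Spec.map (gDelta str a ≫ maBase φ M) ≫ (gX0 str X).left := by
  have hs : Spec.map φ ≫ Spec.map (gGam str X) ≫ str = str₁ := by
    have h := Over.w x
    rw [hx, Category.assoc, Over.w (gX0 str X)] at h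
    exact h
  let t : Over.mk str₁ ⟶ Over.mk (Spec.map (gGam str X) ≫ str) := Over.homMk (Spec.map φ) hs
  obtain rfl : x = t ≫ gX0 str X := Over.OverMorphism.ext hx
  rw [Spec.map_comp, Category.assoc, specMap_gDelta, whiskerLeft_comp, Category.assoc, Over.comp_left]
  exact (Category.assoc _ _ _).symm.trans ((congrArg (· ≫ ((AMonS S M ◁ gX0 str X) ≫ a.act).left)
    (specMA_whiskerLeft' (Spec.map (gGam str X) ≫ str) str₁ φ t rfl)).trans (Category.assoc _ _ _))

/-- `B[M] → B[M][M]`, `m ↦ m ⊗ m` -/
def maDiag (B : CommRingCat.{u}) (M : Type) [AddCommMonoid M] : MA B M ⟶ MA (MA B M) M :=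
  CommRingCat.ofHom (MonoidAlgebra.lift B (MA (MA B M) M) (Multiplicative M)
    { toFun := fun m => MonoidAlgebra.single m (MonoidAlgebra.single m 1)
      map_one' := rfl
      map_mul' := fun m n => by
        rw [MonoidAlgebra.single_mul_single, MonoidAlgebra.single_mul_single, _root_.one_mul] }).toRingHom

theorem maDiag_single (B : CommRingCat.{u}) (m : Multiplicative M) (b : B) :
    (maDiag B M).hom (MonoidAlgebra.single m b) = MonoidAlgebra.single m (MonoidAlgebra.single m b) := by
  show MonoidAlgebra.lift B (MA (MA B M) M) (Multiplicative M) _ (MonoidAlgebra.single m b) = _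
  rw [MonoidAlgebra.lift_single]
  simp [Algebra.smul_def, MonoidAlgebra.single_mul_single]

theorem maConst_maDiag (B : CommRingCat.{u}) :
    maConst B M ≫ maDiag B M = maConst B M ≫ maConst (MA B M) M :=
  CommRingCat.hom_ext (RingHom.ext fun b => (maDiag_single B 1 b).trans (by simp [maConst]))

theorem gDelta_coassoc :
    gDelta str a ≫ maBase (gDelta str a) M = gDelta str a ≫ maDiag (gB str X) M := by
  refine gHom_ext str X ?_ ?_
  · rw [reassoc_of% (gGam_gDelta str a), reassoc_of% (gGam_gDelta str a), maConst_maBase, maConst_maDiag,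
      reassoc_of% (gGam_gDelta str a)]
  let str0 : Spec (gB str X) ⟶ S := Spec.map (gGam str X) ≫ str
  let str1 : Spec (MA (gB str X) M) ⟶ S := Spec.map (maConst (gB str X) M) ≫ str0
  let u0 := specMAIso str0 M
  let u1 := specMAIso str1 M
  let y : Over.mk str1 ⟶ X := u0.hom ≫ (AMonS S M ◁ gX0 str X) ≫ a.act
  have hy : y.left = Spec.map (gDelta str a) ≫ (gX0 str X).left := (specMap_gDelta str a).symm
  let w : spMA str1 M ⟶ spMA str0 M := Over.homMk (Spec.map (maDiag (gB str X) M)) (by
    show Spec.map _ ≫ Spec.map (maConst _ M) ≫ str0 = Spec.map (maConst _ M) ≫ Spec.map (maConst _ M) ≫ str0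
    exact (Spec.map_comp_assoc _ _ _).symm.trans ((congrArg (fun q => Spec.map q ≫ str0)
      (maConst_maDiag (M := M) (gB str X))).trans (Spec.map_comp_assoc _ _ _)))
  have key : u1.hom ≫ (AMonS S M ◁ y) ≫ a.act = w ≫ u0.hom ≫ (AMonS S M ◁ gX0 str X) ≫ a.act := by
    let p1 := u1.hom ≫ fst _ _
    let t1 := u1.hom ≫ snd _ _
    let p0 := u0.hom ≫ fst _ _
    let t0 := u0.hom ≫ snd _ _
    have ht1 : t1.left = Spec.map (maConst (MA (gB str X) M) M) := specMA_snd str1 M
    have ht0 : t0.left = Spec.map (maConst (gB str X) M) := specMA_snd str0 M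
    have hl : w ≫ u0.hom = lift (p1 * (t1 ≫ p0)) (t1 ≫ t0) := by
      refine specMAIso_lift str0 (maDiag (gB str X) M) (𝟙 _) w (Category.id_comp _).symm _ _ ?_ fun m => ?_
      · rw [Over.comp_left, ht1, ht0]
        exact (Spec.map_comp _ _).symm.trans ((congrArg Spec.map (maConst_maDiag (gB str X)).symm).trans
          (Category.id_comp _).symm)
      · rw [pv_mul, pv_comp t1 p0, maDiag_single]
        have q1 : pv p1 m = (Scheme.ΓSpecIso (MA (MA (gB str X) M) M)).inv.hom (MonoidAlgebra.single m 1) :=
          pv_specMAIso (A := MA (gB str X) M) str1 m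
        have q0 : pv p0 m = (Scheme.ΓSpecIso (MA (gB str X) M)).inv.hom (MonoidAlgebra.single m 1) :=
          pv_specMAIso (A := gB str X) str0 m
        have q2 : (Spec.map (maConst (MA (gB str X) M) M)).appTop.hom
            ((Scheme.ΓSpecIso (MA (gB str X) M)).inv.hom (MonoidAlgebra.single m 1)) =
            (Scheme.ΓSpecIso (MA (MA (gB str X) M) M)).inv.hom
              ((maConst (MA (gB str X) M) M).hom (MonoidAlgebra.single m 1)) :=
          (ConcreteCategory.congr_hom (Scheme.ΓSpecIso_inv_naturality (maConst (MA (gB str X) M) M))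
            (MonoidAlgebra.single m 1)).symm
        rw [q1, q0, ht1]
        erw [q2, ← map_mul]
        rw [Scheme.Hom.id_appTop]
        show _ = (Scheme.ΓSpecIso _).inv.hom _
        congr 1
        simp [maConst, MonoidAlgebra.single_mul_single]
    have e1 : u1.hom = lift p1 t1 := (lift_comp_fst_snd _).symm
    have e0 : u0.hom = lift p0 t0 := (lift_comp_fst_snd _).symm
    rw [e1, lift_whiskerLeft_assoc, reassoc_of% hl, lift_whiskerLeft_assoc, MonAct.lift_mul_act]
    congr 2
    show t1 ≫ u0.hom ≫ (AMonS S M ◁ gX0 str X) ≫ a.act = _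
    rw [e0, lift_whiskerLeft_assoc, comp_lift_assoc]
    simp only [Category.assoc, t1, p0]
  have h : (specMA str1 M).hom ≫ ((AMonS S M ◁ y) ≫ a.act).left = Spec.map (maDiag (gB str X) M) ≫ gOrb str a :=
    congrArg CommaMorphism.left key
  rw [orbit_eq str a str1 (gDelta str a) y hy] at h
  rw [h, ← specMap_gDelta, Spec.map_comp, Category.assoc]

/-- the components of the coaction are homogeneous -/
theorem gDelta_coeff (b : gB str X) (m : Multiplicative M) :
    (gDelta str a).hom (((gDelta str a).hom b).coeff m) = MonoidAlgebra.single m (((gDelta str a).hom b).coeff m) := by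
  have h := congrArg (fun φ : gB str X ⟶ MA (MA (gB str X) M) M => (φ.hom b).coeff m) (gDelta_coassoc str a)
  refine ((MonoidAlgebra.coeff_mapRingHom _ _ m).symm.trans h).trans ?_
  have key : ∀ z : MA (gB str X) M, ((maDiag (gB str X) M).hom z).coeff m = MonoidAlgebra.single m (z.coeff m) := fun z => by
    induction z using MonoidAlgebra.induction_linear with
    | zero => simp
    | add z z' hz hz' => simp [map_add, hz, hz', MonoidAlgebra.single_add]
    | single n c =>
      rw [maDiag_single]
      by_cases hn : n = m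
      · subst hn; simp
      · simp [Finsupp.single_eq_of_ne (Ne.symm hn), hn]
  exact key _

end Groth.MiscGeom.Mag

end
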