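import Groth.Agent.MiscGeom.MagnetBase
import Mathlib.AlgebraicGeometry.Morphisms.FormallyUnramified

/-!
# Attractors of formally unramified maps
-/

universe u

open CategoryTheory CategoryTheory.Limits MonoidalCategory CartesianMonoidalCategory AlgebraicGeometry Opposite
open Magnet

noncomputable section

namespace Groth.MiscGeom.Mag

theorem isNilpotent_ker_specMap {Q Q' : CommRingCat.{u}} (φ : Q ⟶ Q') (hI : RingHom.ker φ.hom ^ 2 = ⊥) :
    IsNilpotent (Spec.map φ).ker := by
  refine ⟨2, Scheme.IdealSheafData.ext_of_isAffine ?_⟩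
  rw [Scheme.IdealSheafData.ideal_pow, Pi.pow_apply, Scheme.Hom.ker_apply]
  show RingHom.ker (Spec.map φ).appTop.hom ^ 2 = ⊥
  rw [eq_bot_iff, pow_two, Ideal.mul_le]
  intro x hx y hy
  have hmem : ∀ z, z ∈ RingHom.ker (Spec.map φ).appTop.hom → (Scheme.ΓSpecIso Q).hom z ∈ RingHom.ker φ.hom := by
    intro z hz
    have h := ConcreteCategory.congr_hom (Scheme.ΓSpecIso_naturality φ) z
    rw [RingHom.mem_ker] at hz ⊢
    refine h.symm.trans ?_
    show (Scheme.ΓSpecIso Q').hom.hom ((Spec.map φ).appTop.hom z) = 0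
    rw [hz, map_zero]
  have h2 : (Scheme.ΓSpecIso Q).hom x * (Scheme.ΓSpecIso Q).hom y ∈ RingHom.ker φ.hom ^ 2 := by
    rw [pow_two]
    exact Ideal.mul_mem_mul (hmem x hx) (hmem y hy)
  rw [hI, Ideal.mem_bot, ← map_mul] at h2
  exact Ideal.mem_bot.2 (((ConcreteCategory.isIso_iff_bijective (Scheme.ΓSpecIso Q).hom).1 inferInstance).1
    (h2.trans (map_zero _).symm))

theorem mapRingHom_ker_sq {A A' : Type u} [CommRing A] [CommRing A'] (g : A →+* A') (hg : RingHom.ker g ^ 2 = ⊥)
    (N : Type) [CommMonoid N] : RingHom.ker (MonoidAlgebra.mapRingHom N g) ^ 2 = ⊥ := by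
  rw [eq_bot_iff, pow_two, Ideal.mul_le]
  intro x hx y hy
  rw [Ideal.mem_bot, MonoidAlgebra.mul_def]
  have hc : ∀ (z : MonoidAlgebra A N), z ∈ RingHom.ker (MonoidAlgebra.mapRingHom N g) → ∀ m, z.coeff m ∈ RingHom.ker g := by
    intro z hz m
    rw [RingHom.mem_ker] at hz ⊢
    simpa using congrArg (fun w : MonoidAlgebra A' N => w.coeff m) hz
  refine Finset.sum_eq_zero fun a _ => Finset.sum_eq_zero fun b _ => ?_
  have h : x.coeff a * y.coeff b ∈ RingHom.ker g ^ 2 := by
    rw [pow_two]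
    exact Ideal.mul_mem_mul (hc x hx a) (hc y hy b)
  rw [hg, Ideal.mem_bot] at h
  dsimp only
  rw [h, MonoidAlgebra.single_zero]

variable {S : Scheme.{u}} {A A' : Type u} [CommRing A] [CommRing A'] (str : Spec (CommRingCat.of A) ⟶ S)

theorem specMA_whiskerLeft (N : Type) [AddCommMonoid N] (g : A →+* A') :
    (specMA (Spec.map (CommRingCat.ofHom g) ≫ str) N).hom ≫
        (AMonS S N ◁ (Over.homMk (Spec.map (CommRingCat.ofHom g)) rfl :
          Over.mk (Spec.map (CommRingCat.ofHom g) ≫ str) ⟶ Over.mk str)).left =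
      Spec.map (CommRingCat.ofHom (MonoidAlgebra.mapRingHom (Multiplicative N) g)) ≫ (specMA str N).hom := by
  refine (isPullback_toAMon N (Over.mk str)).hom_ext ?_ ?_
  · rw [Category.assoc, toAMon_whiskerLeft, specMA_toAMon, Category.assoc, specMA_toAMon]
    refine (congrArg Spec.map ?_).trans (Spec.map_comp _ _)
    refine CommRingCat.hom_ext (MonoidAlgebra.ringHom_ext (fun r => ?_) fun m => ?_) <;> simp [maCoeff]
  · rw [Category.assoc, show (AMonS S N ◁ (Over.homMk (Spec.map (CommRingCat.ofHom g)) rfl :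
          Over.mk (Spec.map (CommRingCat.ofHom g) ≫ str) ⟶ Over.mk str)).left ≫ (snd (AMonS S N) (Over.mk str)).left =
        (snd (AMonS S N) (Over.mk (Spec.map (CommRingCat.ofHom g) ≫ str))).left ≫ Spec.map (CommRingCat.ofHom g) from
      congrArg CommaMorphism.left (whiskerLeft_snd (AMonS S N) _), ← Category.assoc, specMA_snd, Category.assoc,
      specMA_snd, ← Spec.map_comp, ← Spec.map_comp]
    congr 1
    refine CommRingCat.hom_ext (RingHom.ext fun a => ?_)
    simp [maConst]

theorem mapRingHom_surjective (g : A →+* A') (hs : Function.Surjective g) (N : Type) [CommMonoid N] :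
    Function.Surjective (MonoidAlgebra.mapRingHom N g) := by
  intro z
  induction z using MonoidAlgebra.induction_linear with
  | zero => exact ⟨0, map_zero _⟩
  | add x y hx hy =>
    obtain ⟨a, ha⟩ := hx
    obtain ⟨b, hb⟩ := hy
    exact ⟨a + b, by rw [map_add, ha, hb]⟩
  | single m r =>
    obtain ⟨a, rfl⟩ := hs r
    exact ⟨MonoidAlgebra.single m a, by simp⟩

theorem eq_of_unramified (N : Type) [AddCommMonoid N] (g : A →+* A') (hs : Function.Surjective g)
    (hg : RingHom.ker g ^ 2 = ⊥) {X Y : Over S} (f : X ⟶ Y) [FormallyUnramified f.left]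
    {φ ψ : AMonS S N ⊗ Over.mk str ⟶ X}
    (htop : (AMonS S N ◁ (Over.homMk (Spec.map (CommRingCat.ofHom g)) rfl :
        Over.mk (Spec.map (CommRingCat.ofHom g) ≫ str) ⟶ Over.mk str)) ≫ φ =
      (AMonS S N ◁ (Over.homMk (Spec.map (CommRingCat.ofHom g)) rfl :
        Over.mk (Spec.map (CommRingCat.ofHom g) ≫ str) ⟶ Over.mk str)) ≫ ψ)
    (hbot : φ ≫ f = ψ ≫ f) : φ = ψ := by
  let G := CommRingCat.ofHom (MonoidAlgebra.mapRingHom (Multiplicative N) g)
  haveI : IsClosedImmersion (Spec.map G) := IsClosedImmersion.spec_of_surjective G (mapRingHom_surjective g hs _)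
  apply Over.OverMorphism.ext
  rw [← cancel_epi (specMA str N).hom]
  refine FormallyUnramified.hom_ext (Spec.map G)
    (isNilpotent_ker_specMap G (mapRingHom_ker_sq g hg _)) f.left ?_ ?_
  · rw [← Category.assoc, ← specMA_whiskerLeft, ← Category.assoc, ← specMA_whiskerLeft, Category.assoc, Category.assoc]
    exact congrArg ((specMA (Spec.map (CommRingCat.ofHom g) ≫ str) N).hom ≫ ·) (congrArg CommaMorphism.left htop)
  · rw [Category.assoc, Category.assoc]
    exact congrArg ((specMA str N).hom ≫ ·) (congrArg CommaMorphism.left hbot)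

end Groth.MiscGeom.Mag

end
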