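import Groth.Prelude.Def_Adeq
import Mathlib.Algebra.Category.ModuleCat.Presheaf.Abelian
import Mathlib.Algebra.Homology.ShortComplex.ModuleCat
import Mathlib.Algebra.Homology.ShortComplex.ExactFunctor
import Mathlib.Algebra.Category.Grp.Abelian
import Mathlib.Algebra.Category.Grp.Colimits
import Mathlib.Algebra.Category.ModuleCat.Presheaf.EpiMono
import Mathlib.CategoryTheory.Limits.Preserves.Finite
import Mathlib.LinearAlgebra.TensorProduct.RightExactness

/-!
# Element-wise description of kernels, cokernels and adequate functors in `Adeq.MVF`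
-/

universe u

open CategoryTheory CategoryTheory.Limits Opposite TensorProduct

noncomputable section

namespace Groth.MiscGeom.Adq

open Adeq

variable {A : Type u} [CommRing A]

/-- the functor of a module -/
abbrev U (M : ModuleCat.{u + 1} A) : MVF A := (underline A).obj M

/-- component of a morphism at an algebra, as a linear map -/
abbrev ap {F G : MVF A} (f : F ⟶ G) (B : Alg A) : F.obj (pt B) →ₗ[(B : Type u)] G.obj (pt B) :=
  (f.app (pt B)).hom

/-- transition map along a map of algebras, as an additive map -/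
abbrev tr (F : MVF A) {B B' : Alg A} (g : B ⟶ B') : F.obj (pt B) →+ F.obj (pt B') :=
  AddMonoidHom.mk' (fun x => F.map (ptHom g) x) (fun x y => map_add (F.map (ptHom g)).hom x y)

theorem tr_smul (F : MVF A) {B B' : Alg A} (g : B ⟶ B') (b : B) (x : F.obj (pt B)) :
    tr F g (b • x) = g.hom b • tr F g x :=
  F.map_smul (ptHom g) b x

theorem tr_comp (F : MVF A) {B B' B'' : Alg A} (g : B ⟶ B') (h : B' ⟶ B'') (x : F.obj (pt B)) :
    tr F h (tr F g x) = tr F (g ≫ h) x :=
  (F.map_comp_apply (ptHom g) (ptHom h) x).symm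

theorem tr_congr (F : MVF A) {B B' : Alg A} {g h : B ⟶ B'} (e : g = h) (x : F.obj (pt B)) :
    tr F g x = tr F h x := by subst e; rfl

theorem tr_id (F : MVF A) (B : Alg A) (x : F.obj (pt B)) : tr F (𝟙 B) x = x := by
  show F.map (𝟙 (pt B)) x = x
  rw [F.map_id]
  rfl

theorem ap_tr {F G : MVF A} (f : F ⟶ G) {B B' : Alg A} (g : B ⟶ B') (x : F.obj (pt B)) :
    ap f B' (tr F g x) = tr G g (ap f B x) :=
  PresheafOfModules.naturality_apply f (ptHom g) x

theorem ap_comp {F G H : MVF A} (f : F ⟶ G) (g : G ⟶ H) (B : Alg A) (x : F.obj (pt B)) :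
    ap (f ≫ g) B x = ap g B (ap f B x) := rfl

theorem ap_zero {F G : MVF A} (B : Alg A) (x : F.obj (pt B)) : ap (0 : F ⟶ G) B x = 0 := rfl

theorem ap_add {F G : MVF A} (f g : F ⟶ G) (B : Alg A) (x : F.obj (pt B)) :
    ap (f + g) B x = ap f B x + ap g B x := rfl

theorem ap_sub {F G : MVF A} (f g : F ⟶ G) (B : Alg A) (x : F.obj (pt B)) :
    ap (f - g) B x = ap f B x - ap g B x := rfl

theorem hom_ext' {F G : MVF A} {f g : F ⟶ G} (h : ∀ (B : Alg A) (x : F.obj (pt B)), ap f B x = ap g B x) :
    f = g := by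
  refine PresheafOfModules.hom_ext fun X => ?_
  obtain ⟨⟨B⟩⟩ := X
  exact ModuleCat.hom_ext (LinearMap.ext (h B))

theorem mono_of_inj {F G : MVF A} (f : F ⟶ G) (h : ∀ B, Function.Injective (ap f B)) : Mono f :=
  PresheafOfModules.mono_of_injective (fun X => h X.unop.unop)

theorem inj_of_mono {F G : MVF A} (f : F ⟶ G) [Mono f] (B : Alg A) : Function.Injective (ap f B) :=
  PresheafOfModules.injective_of_mono f (pt B)

theorem epi_of_surj {F G : MVF A} (f : F ⟶ G) (h : ∀ B, Function.Surjective (ap f B)) : Epi f :=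
  PresheafOfModules.epi_of_surjective (fun X => h X.unop.unop)

theorem surj_of_epi {F G : MVF A} (f : F ⟶ G) [Epi f] (B : Alg A) : Function.Surjective (ap f B) :=
  PresheafOfModules.surjective_of_epi f (pt B)

theorem isIso_of_bij {F G : MVF A} (f : F ⟶ G) (h : ∀ B, Function.Bijective (ap f B)) : IsIso f := by
  have := mono_of_inj f (fun B => (h B).1)
  have := epi_of_surj f (fun B => (h B).2)
  exact isIso_of_mono_of_epi f

theorem ap_bijective {F G : MVF A} (e : F ≅ G) (B : Alg A) : Function.Bijective (ap e.hom B) :=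
  ⟨inj_of_mono e.hom B, surj_of_epi e.hom B⟩

instance evalAdditive (B : Alg A) : (PresheafOfModules.evaluation.{u + 1} (ringOf A) (pt B)).Additive where
  map_add := rfl

instance evalFiniteColimits (B : Alg A) :
    PreservesFiniteColimits (PresheafOfModules.evaluation.{u + 1} (ringOf A) (pt B)) :=
  ⟨fun _ _ _ => PresheafOfModules.evaluation_preservesColimitsOfShape _ _ _⟩

instance evalFiniteLimits (B : Alg A) :
    PreservesFiniteLimits (PresheafOfModules.evaluation.{u + 1} (ringOf A) (pt B)) :=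
  PresheafOfModules.evaluation_preservesFiniteLimits _ _

instance evalHomology (B : Alg A) :
    (PresheafOfModules.evaluation.{u + 1} (ringOf A) (pt B)).PreservesHomology :=
  Functor.preservesHomology_of_preservesEpis_and_kernels _

/-- exactness in `MVF` is value-wise -/
theorem exact_ap (S : ShortComplex (MVF A)) (hS : S.Exact) (B : Alg A) :
    Function.Exact (ap S.f B) (ap S.g B) :=
  (ShortComplex.ShortExact.moduleCat_exact_iff_function_exact _).1 (hS.map (PresheafOfModules.evaluation (ringOf A) (pt B)))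

theorem kernel_exact {F G : MVF A} (f : F ⟶ G) (B : Alg A) :
    Function.Exact (ap (kernel.ι f) B) (ap f B) :=
  exact_ap (ShortComplex.mk _ _ (kernel.condition f)) (ShortComplex.exact_kernel f) B

theorem cokernel_exact {F G : MVF A} (f : F ⟶ G) (B : Alg A) :
    Function.Exact (ap f B) (ap (cokernel.π f) B) :=
  exact_ap (ShortComplex.mk _ _ (cokernel.condition f)) (ShortComplex.exact_cokernel f) B

/-- lifting a value-wise exact mono to an isomorphism with the kernel -/
theorem isIso_kernelLift {K F G : MVF A} (i : K ⟶ F) (f : F ⟶ G) (hi : ∀ B, Function.Injective (ap i B))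
    (he : ∀ B, Function.Exact (ap i B) (ap f B)) :
    ∃ e : K ≅ kernel f, e.hom ≫ kernel.ι f = i := by
  have w : i ≫ f = 0 := hom_ext' fun B x => (he B).apply_apply_eq_zero x
  have : IsIso (kernel.lift f i w) := by
    refine isIso_of_bij _ fun B => ⟨fun x y h => hi B ?_, fun y => ?_⟩
    · have h' := congrArg (ap (kernel.ι f) B) h
      rwa [← ap_comp, ← ap_comp, kernel.lift_ι] at h'
    · obtain ⟨x, hx⟩ := ((he B) _).1 ((kernel_exact f B).apply_apply_eq_zero y)
      refine ⟨x, inj_of_mono (kernel.ι f) B ?_⟩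
      rw [← ap_comp, kernel.lift_ι, hx]
  exact ⟨asIso (kernel.lift f i w), kernel.lift_ι _ _ _⟩

/-! ### values of `underline` -/

/-- the value of `U M` at `B` is `B ⊗ M` -/
def T (M : ModuleCat.{u + 1} A) (B : Alg A) : (U M).obj (pt B) ≃ₗ[(B : Type u)] (B : Type u) ⊗[A] M :=
  LinearEquiv.refl _ _

theorem T_map {M N : ModuleCat.{u + 1} A} (h : M ⟶ N) (B : Alg A) (x : (U M).obj (pt B)) :
    T N B (ap ((underline A).map h) B x) = h.hom.baseChange (B : Type u) (T M B x) := rfl

theorem T_tr (M : ModuleCat.{u + 1} A) {B B' : Alg A} (g : B ⟶ B') (x : (U M).obj (pt B)) :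
    T M B' (tr (U M) g x) = g.hom.toLinearMap.rTensor M (T M B x) := rfl

theorem exact_U (S : ShortComplex (ModuleCat.{u + 1} A)) (hS : Function.Exact S.f.hom S.g.hom)
    (hg : Function.Surjective S.g.hom) (B : Alg A) :
    Function.Exact (ap ((underline A).map S.f) B) (ap ((underline A).map S.g) B) ∧
      Function.Surjective (ap ((underline A).map S.g) B) :=
  ⟨lTensor_exact (B : Type u) hS hg, LinearMap.lTensor_surjective (B : Type u) hg⟩

/-! ### presentations -/

/-- `F` is presented as the kernel of `U φ`, element-wise -/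
structure Pres (F : MVF A) where
  M : ModuleCat.{u + 1} A
  N : ModuleCat.{u + 1} A
  φ : M ⟶ N
  ι : F ⟶ U M
  inj : ∀ B, Function.Injective (ap ι B)
  exact : ∀ B, Function.Exact (ap ι B) (ap ((underline A).map φ) B)

theorem Pres.comp_zero {F : MVF A} (P : Pres F) : P.ι ≫ (underline A).map P.φ = 0 :=
  hom_ext' fun B x => (P.exact B).apply_apply_eq_zero x

theorem adequate_of_pres {F : MVF A} (P : Pres F) : adequate A F := by
  obtain ⟨e, -⟩ := isIso_kernelLift P.ι ((underline A).map P.φ) P.inj P.exact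
  exact ⟨P.M, P.N, P.φ, ⟨e⟩⟩

theorem pres_of_iso {F : MVF A} {M N : ModuleCat.{u + 1} A} {φ : M ⟶ N}
    (e : F ≅ kernel ((underline A).map φ)) : ∃ P : Pres F, P.M = M ∧ P.N = N := by
  refine ⟨⟨M, N, φ, e.hom ≫ kernel.ι _, fun B => ?_, fun B => ?_⟩, rfl, rfl⟩
  · exact (inj_of_mono (kernel.ι ((underline A).map φ)) B).comp (ap_bijective e B).1
  · intro y
    refine ((kernel_exact _ B) y).trans ⟨?_, ?_⟩
    · rintro ⟨x, rfl⟩
      obtain ⟨x, rfl⟩ := (ap_bijective e B).2 x
      exact ⟨x, rfl⟩
    · rintro ⟨x, rfl⟩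
      exact ⟨_, rfl⟩

theorem nonempty_pres {F : MVF A} (h : adequate A F) : Nonempty (Pres F) := by
  obtain ⟨M, N, φ, ⟨e⟩⟩ := h
  obtain ⟨P, -, -⟩ := pres_of_iso e
  exact ⟨P⟩

theorem linAdequate_kernel (P P' : ModuleCat.{u + 1} A) (φ : P ⟶ P') [Module.Finite A P] [Module.Free A P]
    [Module.Finite A P'] [Module.Free A P'] : linAdequate A (kernel ((underline A).map φ)) :=
  ⟨P, P', φ, inferInstance, inferInstance, inferInstance, inferInstance, ⟨Iso.refl _⟩⟩

theorem adequate_of_linAdequate {F : MVF A} (h : linAdequate A F) : adequate A F := by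
  obtain ⟨M, N, φ, -, -, -, -, e⟩ := h
  exact ⟨M, N, φ, e⟩

end Groth.MiscGeom.Adq

end
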