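import Groth.Agent.MiscGeom.CechCohom
import Groth.Agent.SiteCohomology.AcyclicResolution
import Groth.Agent.SiteCohomology.BigZariskiCohomology
import Groth.Prelude.Def_Adeq2

/-!
# Zariski cohomology of restrictions of Čech acyclic sheaves
-/

universe u v w

open CategoryTheory CategoryTheory.Limits AlgebraicGeometry Opposite

noncomputable section

set_option maxHeartbeats 1000000
set_option synthInstance.maxHeartbeats 400000

namespace Groth.MiscGeom.Adq.Cech

open Adeq

section Cycles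

variable {𝒜 : Type u} [Category.{v} 𝒜] [Abelian 𝒜] {F : 𝒜} (I : InjectiveResolution F)

theorem exact_of_factor {ℬ : Type*} [Category ℬ] [Abelian ℬ] (D : ShortComplex ℬ) (hD : D.Exact) {A C : ℬ}
    (e : A ⟶ D.X₁) (m : D.X₃ ⟶ C) (he : Epi e) (hm : Mono m) (f : A ⟶ D.X₂) (g : D.X₂ ⟶ C) (hf : e ≫ D.f = f)
    (hg : D.g ≫ m = g) (w : f ≫ g = 0) : (ShortComplex.mk f g w).Exact := by
  subst hf hg
  let D' : ShortComplex ℬ := ShortComplex.mk (e ≫ D.f) D.g (by rw [Category.assoc, D.zero, comp_zero])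
  let φ : D' ⟶ D := { τ₁ := e, τ₂ := 𝟙 _, τ₃ := 𝟙 _, comm₁₂ := by simp [D'], comm₂₃ := by simp [D'] }
  haveI : Epi φ.τ₁ := ‹Epi e›
  haveI : IsIso φ.τ₂ := inferInstanceAs (IsIso (𝟙 _))
  haveI : Mono φ.τ₃ := inferInstanceAs (Mono (𝟙 _))
  have h₁ := (ShortComplex.exact_iff_of_epi_of_isIso_of_mono φ).2 hD
  let ψ : D' ⟶ ShortComplex.mk (e ≫ D.f) (D.g ≫ m) w :=
    { τ₁ := 𝟙 _, τ₂ := 𝟙 _, τ₃ := m, comm₁₂ := by simp [D'], comm₂₃ := by simp [D'] }
  haveI : Epi ψ.τ₁ := inferInstanceAs (Epi (𝟙 _))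
  haveI : IsIso ψ.τ₂ := inferInstanceAs (IsIso (𝟙 _))
  haveI : Mono ψ.τ₃ := ‹Mono m›
  exact (ShortComplex.exact_iff_of_epi_of_isIso_of_mono ψ).1 h₁

/-- `0 → Z^n → I^n → Z^{n+1} → 0` -/
def cycSC (n : ℕ) : ShortComplex 𝒜 :=
  ShortComplex.mk (kernel.ι (I.cocomplex.d n (n + 1)))
    (kernel.lift (I.cocomplex.d (n + 1) (n + 2)) (I.cocomplex.d n (n + 1)) (I.cocomplex.d_comp_d _ _ _))
    (by rw [← cancel_mono (kernel.ι (I.cocomplex.d (n + 1) (n + 2))), Category.assoc, kernel.lift_ι, zero_comp,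
      kernel.condition])

theorem cycSC_shortExact (n : ℕ) : (cycSC I n).ShortExact := by
  haveI : Mono (cycSC I n).f := inferInstanceAs (Mono (kernel.ι (I.cocomplex.d n (n + 1))))
  haveI : Epi (cycSC I n).g := (ShortComplex.exact_iff_epi_kernel_lift _).1 (I.exact_succ n)
  let φ : cycSC I n ⟶ ShortComplex.mk _ _ (kernel.condition (I.cocomplex.d n (n + 1))) :=
    { τ₁ := 𝟙 _
      τ₂ := 𝟙 _
      τ₃ := kernel.ι (I.cocomplex.d (n + 1) (n + 2))
      comm₁₂ := by simp [cycSC]
      comm₂₃ := by simp [cycSC] }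
  haveI : Epi φ.τ₁ := inferInstanceAs (Epi (𝟙 _))
  haveI : IsIso φ.τ₂ := inferInstanceAs (IsIso (𝟙 _))
  haveI : Mono φ.τ₃ := inferInstanceAs (Mono (kernel.ι _))
  exact { exact := (ShortComplex.exact_iff_of_epi_of_isIso_of_mono φ).2 (ShortComplex.exact_kernel _) }

theorem isResolution_injectiveResolution :
    Groth.SiteCohomology.AcyclicRes.IsResolution I.cocomplex.X (fun n => I.cocomplex.d n (n + 1)) (I.ι.f 0) where
  mono := inferInstance
  zero₀ := I.ι_f_zero_comp_complex_d
  exact₀ := I.exact₀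
  zero := fun n => I.cocomplex.d_comp_d _ _ _
  exact := fun n => I.exact_succ n

theorem isResolution_map {ℬ : Type*} [Category ℬ] [Abelian ℬ] (G : 𝒜 ⥤ ℬ) [G.Additive] [PreservesFiniteLimits G]
    (h : ∀ n, Epi (G.map (cycSC I n).g)) :
    Groth.SiteCohomology.AcyclicRes.IsResolution (fun n => G.obj (I.cocomplex.X n))
      (fun n => G.map (I.cocomplex.d n (n + 1))) (G.map (I.ι.f 0)) where
  mono := preserves_mono_of_preservesLimit G (I.ι.f 0)
  zero₀ := by rw [← G.map_comp, I.ι_f_zero_comp_complex_d, G.map_zero]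
  exact₀ := I.exact₀.map_of_mono_of_preservesKernel G inferInstance inferInstance
  zero := fun n => by rw [← G.map_comp, HomologicalComplex.d_comp_d, G.map_zero]
  exact := fun n => by
    haveI := h n
    haveI := (cycSC_shortExact I (n + 1)).mono_f
    haveI : Mono (G.map (kernel.ι (I.cocomplex.d (n + 2) (n + 3)))) := preserves_mono_of_preservesLimit G _
    have hk : ((cycSC I (n + 1)).map G).Exact :=
      (cycSC_shortExact I (n + 1)).exact.map_of_mono_of_preservesKernel G inferInstance inferInstance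
    exact exact_of_factor ((cycSC I (n + 1)).map G) hk (G.map (cycSC I n).g)
      (G.map (kernel.ι (I.cocomplex.d (n + 2) (n + 3)))) (h n) ‹_› _ _
      ((G.map_comp _ _).symm.trans (congrArg G.map (kernel.lift_ι _ _ _)))
      ((G.map_comp _ _).symm.trans (congrArg G.map (kernel.lift_ι _ _ _))) _

end Cycles

variable {P : MorphismProperty Scheme.{u}} {S : Scheme.{u}}
  [HasSheafify (QuotSh.J (Scheme.precoverage P) S) AddCommGrpCat.{u + 1}]
  [(QuotSh.J (Scheme.precoverage P) S).WEqualsLocallyBijective AddCommGrpCat.{u + 1}]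

omit [(QuotSh.J (Scheme.precoverage P) S).WEqualsLocallyBijective AddCommGrpCat.{u + 1}]
  [HasSheafify (QuotSh.J (Scheme.precoverage P) S) AddCommGrpCat.{u + 1}] in
theorem cechAcyclic_of_iso {F G : BigSite.Ab (Scheme.precoverage P) S} (e : F ≅ G) (h : CechAcyclic P F.obj) :
    CechAcyclic P G.obj := fun R a V hV hs n => by
  let E := (sheafToPresheaf _ _).mapIso e
  exact isExact_retract (Functor.whiskerLeft (opOp (Alg R) ⋙ (specOver a).op) E.inv)
    (Functor.whiskerLeft (opOp (Alg R) ⋙ (specOver a).op) E.hom)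
    (fun C x => ConcreteCategory.congr_hom (congrArg (fun t => t.app (op ((specOver a).obj (op C)))) E.inv_hom_id) x)
    (h R a V hV hs n)

variable (hP : GoodProp P) (hPp : StableProd P)
include hP hPp

theorem cechAcyclic_cycles {F : BigSite.Ab (Scheme.precoverage P) S} (I : InjectiveResolution F)
    (hF : CechAcyclic P F.obj) : ∀ n, CechAcyclic P (kernel (I.cocomplex.d n (n + 1))).obj
  | 0 => cechAcyclic_of_iso (IsLimit.conePointUniqueUpToIso I.isLimitKernelFork (limit.isLimit _)) hF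
  | n + 1 => cechAcyclic_quotient hP hPp (cycSC I n) (cycSC_shortExact I n)
      (cechAcyclic_cycles I hF n) (cechAcyclic_injective (I.cocomplex.X n))

variable [BigSite.ZarCont (Scheme.precoverage P) S]

theorem epi_resZar_map (C : ShortComplex (BigSite.Ab (Scheme.precoverage P) S)) (hC : C.ShortExact)
    (h₁ : CechAcyclic P C.X₁.obj) : Epi ((BigSite.resZar (Scheme.precoverage P) S).map C.g) := by
  haveI : Sheaf.IsLocallySurjective ((BigSite.resZar (Scheme.precoverage P) S).map C.g) := by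
    refine ⟨fun {U} s => ?_⟩
    intro x hx
    obtain ⟨V, hV, hxV, hVU⟩ := exists_isAffineOpen_mem_and_subset (U := U) hx
    refine ⟨V, homOfLE hVU, ?_, hxV⟩
    let a : Spec Γ(S, V) ⟶ S := hV.fromSpec
    let e : (BigSite.zarIncl S).obj V ≅ (specOver a).obj (op (base Γ(S, V))) :=
      (Over.isoMk hV.isoSpec hV.isoSpec_hom_fromSpec : (BigSite.zarIncl S).obj V ≅ Over.mk a) ≪≫ baseCmp' a
    exact surjective_of_iso C.g.hom e (sections_surjective hP hPp C hC h₁ _ _) _
  exact Sheaf.epi_of_isLocallySurjective _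

theorem nonempty_resZar_equiv [HasExt.{u + 1} (BigSite.Ab (Scheme.precoverage P) S)]
    [EnoughInjectives (BigSite.Ab (Scheme.precoverage P) S)]
    (F : BigSite.Ab (Scheme.precoverage P) S) (hF : CechAcyclic P F.obj) (q : ℕ) :
    Nonempty (EtZar.H ((BigSite.resZar (Scheme.precoverage P) S).obj F) q ≃+
      BigSite.H (Scheme.precoverage P) S F q) := by
  haveI := Groth.SiteCohomology.preservesFiniteLimits_piZarPull S (Scheme.precoverage P)
  let G := BigSite.resZar (Scheme.precoverage P) S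
  let L := BigSite.piZarPull (Scheme.precoverage P) S
  let adj : L ⊣ G := BigSite.piZarAdj (Scheme.precoverage P) S
  haveI : PreservesFiniteLimits G := adj.rightAdjoint_preservesLimits.{0, 0}.preservesFiniteLimits
  let I : InjectiveResolution F := injectiveResolution F
  let X := (constantSheaf (Opens.grothendieckTopology S) AddCommGrpCat.{u + 1}).obj (AddCommGrpCat.of (ULift ℤ))
  let X' := (constantSheaf (QuotSh.J (Scheme.precoverage P) S) AddCommGrpCat.{u + 1}).obj (AddCommGrpCat.of (ULift ℤ))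
  let T : IsTerminal (Over.mk (⊤ : S.Opens).ι) :=
    IsTerminal.ofUniqueHom
      (fun d => (Groth.SiteCohomology.nonempty_hom_opens_over S ⊤ (Set.subset_univ _)).some)
      (fun d m => (Groth.SiteCohomology.subsingleton_hom_opens_over S ⊤).elim _ _)
  let i : constantSheaf (Opens.grothendieckTopology S) AddCommGrpCat.{u + 1} ⋙ L ≅
        constantSheaf (QuotSh.J (Scheme.precoverage P) S) AddCommGrpCat.{u + 1} :=
    ((constantSheafAdj (Opens.grothendieckTopology S) AddCommGrpCat.{u + 1}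
      (T := (⊤ : S.Opens)) isTerminalTop).comp adj).leftAdjointUniq
    ((constantSheafAdj (QuotSh.J (Scheme.precoverage P) S) AddCommGrpCat.{u + 1} T).ofNatIsoRight
      (NatIso.ofComponents (fun _ => Iso.refl _)))
  let eX : L.obj X ≅ X' := i.app (AddCommGrpCat.of (ULift ℤ))
  haveI : L.Additive := adj.left_adjoint_additive
  have hlin : ∀ (Z : BigSite.Ab (Scheme.precoverage P) S) (a b : X ⟶ G.obj Z),
      eX.inv ≫ (adj.homEquiv X Z).symm (a + b) =
        eX.inv ≫ (adj.homEquiv X Z).symm a + eX.inv ≫ (adj.homEquiv X Z).symm b := fun Z a b => by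
    rw [Adjunction.homEquiv_counit, Adjunction.homEquiv_counit, Adjunction.homEquiv_counit, L.map_add,
      Preadditive.add_comp, Preadditive.comp_add]
  let h : ∀ Z, (G ⋙ preadditiveCoyoneda.obj (op X)).obj Z ≅ (preadditiveCoyoneda.obj (op X')).obj Z := fun Z =>
    AddEquiv.toAddCommGrpIso
      { toFun := fun φ => eX.inv ≫ (adj.homEquiv X Z).symm φ
        invFun := fun ψ => adj.homEquiv X Z (eX.hom ≫ ψ)
        left_inv := fun φ => by simp
        right_inv := fun ψ => by simp
        map_add' := fun (a b : X ⟶ G.obj Z) => hlin Z a b }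
  let τ : G ⋙ preadditiveCoyoneda.obj (op X) ≅ preadditiveCoyoneda.obj (op X') :=
    NatIso.ofComponents h fun {Z Z'} φ => by
      ext (x : X ⟶ G.obj Z)
      show eX.inv ≫ (adj.homEquiv X Z').symm (x ≫ G.map φ) = (eX.inv ≫ (adj.homEquiv X Z).symm x) ≫ φ
      rw [adj.homEquiv_naturality_right_symm, Category.assoc]
  let K₁ := ((preadditiveCoyoneda.obj (op X)).mapHomologicalComplex (ComplexShape.up ℕ)).obj
    ((G.mapHomologicalComplex (ComplexShape.up ℕ)).obj I.cocomplex)
  let K₂ := ((preadditiveCoyoneda.obj (op X')).mapHomologicalComplex (ComplexShape.up ℕ)).obj I.cocomplex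
  let eK : K₁ ≅ K₂ := HomologicalComplex.Hom.isoOfComponents (fun n => τ.app (I.cocomplex.X n))
    fun p r _ => (τ.hom.naturality (I.cocomplex.d p r)).symm
  obtain ⟨e₁⟩ := Groth.SiteCohomology.AcyclicRes.nonempty_homology_equiv_ext X
    ((G.mapHomologicalComplex (ComplexShape.up ℕ)).obj I.cocomplex) (G.map (I.ι.f 0))
    (isResolution_map I G fun n => epi_resZar_map hP hPp (cycSC I n) (cycSC_shortExact I n)
      (cechAcyclic_cycles hP hPp I hF n)) q
    (fun n r _ => by
      haveI : Injective (((G.mapHomologicalComplex (ComplexShape.up ℕ)).obj I.cocomplex).X n) :=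
        @Groth.SiteCohomology.injective_map_of_adjunction _ _ _ _ _ _ _ _ adj _ (I.cocomplex.X n) (I.injective n)
      exact subsingleton_of_forall_eq 0 fun x => Abelian.Ext.eq_zero_of_injective x)
  obtain ⟨e₂⟩ := Groth.SiteCohomology.AcyclicRes.nonempty_homology_equiv_ext X' I.cocomplex (I.ι.f 0)
    (isResolution_injectiveResolution I) q
    (fun n r _ => subsingleton_of_forall_eq 0 fun x => Abelian.Ext.eq_zero_of_injective x)
  exact ⟨e₁.symm.trans
    (((HomologicalComplex.homologyFunctor _ _ q).mapIso eK).addCommGroupIsoToAddEquiv.trans e₂)⟩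

end Groth.MiscGeom.Adq.Cech

end
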