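import Groth.Agent.MiscGeom.AdeqExt
import Mathlib.LinearAlgebra.TensorProduct.Tower
import Mathlib.RingTheory.TensorProduct.Maps

/-!
# Change of ring for adequate functors; descent
-/

universe u

open CategoryTheory CategoryTheory.Limits Opposite TensorProduct

noncomputable section

namespace Groth.MiscGeom.Adq

open Adeq

variable (A A' : Type u) [CommRing A] [CommRing A'] [Algebra A A']

theorem ap_restr {F G : MVF A} (f : F ⟶ G) (B : Alg A') (x : F.obj (pt ((Alg.restr A A').obj B))) :
    ap ((Adeq.restr A A').map f) B x = ap f ((Alg.restr A A').obj B) x := rfl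

theorem ap_push {F G : MVF A'} (f : F ⟶ G) (B : Alg A) (x : F.obj (pt ((Alg.baseChange A A').obj B))) :
    ap ((Adeq.push A A').map f) B x = ap f ((Alg.baseChange A A').obj B) x := rfl

theorem tr_restr (F : MVF A) {B B' : Alg A'} (g : B ⟶ B') (x : F.obj (pt ((Alg.restr A A').obj B))) :
    tr ((Adeq.restr A A').obj F) g x = tr F ((Alg.restr A A').map g) x := rfl

theorem tr_push (F : MVF A') {B B' : Alg A} (g : B ⟶ B') (x : F.obj (pt ((Alg.baseChange A A').obj B))) :
    tr ((Adeq.push A A').obj F) g x = tr F ((Alg.baseChange A A').map g) x := rfl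

/-- base change of a module -/
abbrev bcMod (M : ModuleCat.{u + 1} A) : ModuleCat.{u + 1} A' := ModuleCat.of A' (A' ⊗[A] M)

def bcModMap {M N : ModuleCat.{u + 1} A} (h : M ⟶ N) : bcMod A A' M ⟶ bcMod A A' N :=
  ModuleCat.ofHom (h.hom.baseChange A')

theorem exists_restr_iso (M : ModuleCat.{u + 1} A) (B : Alg A') :
    ∃ θ : (U (bcMod A A' M)).obj (pt B) →ₗ[(B : Type u)] ((Adeq.restr A A').obj (U M)).obj (pt B),
      Function.Bijective θ ∧ ∀ (b : B) (a : A') (m : M),
        θ ((T (bcMod A A' M) B).symm (b ⊗ₜ[A'] (a ⊗ₜ[A] m))) =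
          (T M ((Alg.restr A A').obj B)).symm ((a • b : (B : Type u)) ⊗ₜ[A] m) := by
  let B₀ := ((Alg.restr A A').obj B)
  letI : Algebra A (B : Type u) := ((algebraMap A' B).comp (algebraMap A A')).toAlgebra
  haveI : IsScalarTower A A' (B : Type u) := IsScalarTower.of_algebraMap_eq fun _ => rfl
  let e : (B : Type u) ⊗[A'] (A' ⊗[A] M) ≃ₗ[(B : Type u)] (B : Type u) ⊗[A] M :=
    TensorProduct.AlgebraTensorModule.cancelBaseChange A A' (B : Type u) (B : Type u) M
  refine ⟨{ toFun := fun x => (T M B₀).symm (e (T (bcMod A A' M) B x))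
            map_add' := fun x y => by simp only [map_add]; rfl
            map_smul' := fun b x => ?_ }, ?_, fun b a m => ?_⟩
  · show (T M B₀).symm (e (T (bcMod A A' M) B (b • x))) = _
    rw [map_smul, map_smul]
    exact map_smul (T M B₀).symm b _
  · exact ((T M B₀).symm.bijective.comp (e.bijective.comp (T (bcMod A A' M) B).bijective))
  · show (T M B₀).symm (e (b ⊗ₜ[A'] (a ⊗ₜ[A] m))) = _
    exact congrArg (T M B₀).symm
      (TensorProduct.AlgebraTensorModule.cancelBaseChange_tmul A A' (B : Type u) b m a)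

theorem exists_restrHom (M : ModuleCat.{u + 1} A) :
    ∃ η : U (bcMod A A' M) ⟶ (Adeq.restr A A').obj (U M), (∀ B, Function.Bijective (ap η B)) ∧
      ∀ (B : Alg A') (b : B) (a : A') (m : M),
        ap η B ((T (bcMod A A' M) B).symm (b ⊗ₜ[A'] (a ⊗ₜ[A] m))) =
          (T M ((Alg.restr A A').obj B)).symm ((a • b : (B : Type u)) ⊗ₜ[A] m) := by
  choose θ hb hθ using exists_restr_iso A A' M
  refine ⟨mkHom θ fun {B B'} g x => ?_, hb, hθ⟩
  obtain ⟨x, rfl⟩ := (T (bcMod A A' M) B).symm.surjective x
  induction x using TensorProduct.induction_on with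
  | zero => simp only [map_zero]
  | tmul b y =>
    induction y using TensorProduct.induction_on with
    | zero => simp only [TensorProduct.tmul_zero, map_zero]
    | tmul a m =>
      rw [hθ, tr_restr]
      have h1 : tr (U (bcMod A A' M)) g ((T (bcMod A A' M) B).symm (b ⊗ₜ[A'] (a ⊗ₜ[A] m))) =
          (T (bcMod A A' M) B').symm (g.hom b ⊗ₜ[A'] (a ⊗ₜ[A] m)) := rfl
      rw [h1, hθ]
      rw [← map_smul g.hom a b]
      rfl
    | add p q hp hq => simp only [TensorProduct.tmul_add, map_add, hp, hq]
  | add p q hp hq => simp only [map_add, hp, hq]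

theorem adequate_restr {F : MVF A} (hF : adequate A F) : adequate A' ((Adeq.restr A A').obj F) := by
  obtain ⟨P⟩ := nonempty_pres hF
  obtain ⟨ηM, hM, hM'⟩ := exists_restrHom A A' P.M
  obtain ⟨ηN, hN, hN'⟩ := exists_restrHom A A' P.N
  have := isIso_of_bij ηM hM
  have hsq : ∀ (B : Alg A') x, ap ηN B (ap ((underline A').map (bcModMap A A' P.φ)) B x) =
      ap ((underline A).map P.φ) ((Alg.restr A A').obj B) (ap ηM B x) := by
    intro B x
    obtain ⟨x, rfl⟩ := (T (bcMod A A' P.M) B).symm.surjective x
    induction x using TensorProduct.induction_on with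
    | zero => simp only [map_zero]; exact (map_zero _).symm
    | tmul b y =>
      induction y using TensorProduct.induction_on with
      | zero => simp only [TensorProduct.tmul_zero, map_zero]; exact (map_zero _).symm
      | tmul a m =>
        rw [hM']
        exact hN' B b a (P.φ.hom m)
      | add p q hp hq => simp only [TensorProduct.tmul_add, map_add, hp, hq]; exact (map_add _ _ _).symm
    | add p q hp hq => simp only [map_add, hp, hq]; exact (map_add _ _ _).symm
  have hinv : ∀ B y, ap ηM B (ap (inv ηM) B y) = y := fun B y => by rw [← ap_comp, IsIso.inv_hom_id]; rfl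
  refine adequate_of_exact ((Adeq.restr A A').map P.ι ≫ inv ηM) (bcModMap A A' P.φ) (fun B x y h => ?_) fun B y => ?_
  · have h' := congrArg (ap ηM B) h
    rw [ap_comp, ap_comp, hinv, hinv] at h'
    exact P.inj _ h'
  · constructor
    · intro hy
      have h1 : ap ((underline A).map P.φ) ((Alg.restr A A').obj B) (ap ηM B y) = 0 := by
        rw [← hsq, hy, map_zero]; rfl
      obtain ⟨x, hx⟩ := (P.exact _ _).1 h1
      exact ⟨x, (hM B).1 ((hinv B (ap P.ι ((Alg.restr A A').obj B) x)).trans hx)⟩
    · rintro ⟨x, rfl⟩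
      refine (hN B).1 ((hsq B _).trans ?_)
      exact ((congrArg _ (hinv B (ap P.ι ((Alg.restr A A').obj B) x))).trans ((P.exact _).apply_apply_eq_zero x)).trans (map_zero _).symm

/-- restriction of a module along `A → A'` -/
abbrev resMod (M : ModuleCat.{u + 1} A') : ModuleCat.{u + 1} A :=
  letI : Module A M := Module.compHom M (algebraMap A A')
  ModuleCat.of A M

def resModMap {M N : ModuleCat.{u + 1} A'} (h : M ⟶ N) : resMod A A' M ⟶ resMod A A' N :=
  letI : Module A M := Module.compHom M (algebraMap A A')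
  letI : Module A N := Module.compHom N (algebraMap A A')
  ModuleCat.ofHom { toFun := h.hom, map_add' := map_add h.hom, map_smul' := fun a x => h.hom.map_smul (algebraMap A A' a) x }

theorem exists_push_iso (M : ModuleCat.{u + 1} A') (B : Alg A) :
    ∃ θ : (U (resMod A A' M)).obj (pt B) →ₗ[(B : Type u)] ((Adeq.push A A').obj (U M)).obj (pt B),
      Function.Bijective θ ∧ ∀ (b : B) (m : M),
        θ ((T (resMod A A' M) B).symm (b ⊗ₜ[A] (m : resMod A A' M))) =
          (T M ((Alg.baseChange A A').obj B)).symm (((1 : A') ⊗ₜ[A] b) ⊗ₜ[A'] m) := by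
  letI : Module A M := Module.compHom M (algebraMap A A')
  haveI : IsScalarTower A A' M := ⟨fun a a' m => by
    rw [Algebra.smul_def, mul_smul]
    rfl⟩
  haveI : SMulCommClass A A' M := ⟨fun a a' m => smul_comm (algebraMap A A' a) a' m⟩
  let e : (B : Type u) ⊗[A] M ≃+ (A' ⊗[A] (B : Type u)) ⊗[A'] M :=
    ((TensorProduct.comm A (B : Type u) M).toAddEquiv.trans
      (TensorProduct.AlgebraTensorModule.cancelBaseChange A A' A' M (B : Type u)).symm.toAddEquiv).trans
      (TensorProduct.comm A' M (A' ⊗[A] (B : Type u))).toAddEquiv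
  have he : ∀ (b : B) (m : M), e (b ⊗ₜ[A] m) = ((1 : A') ⊗ₜ[A] b) ⊗ₜ[A'] m := fun b m => by
    simp [e]
  refine ⟨{ toFun := fun x => (T M ((Alg.baseChange A A').obj B)).symm (e (T (resMod A A' M) B x))
            map_add' := fun x y => by simp only [map_add]; rfl
            map_smul' := fun c x => ?_ }, ?_, fun b m => ?_⟩
  · refine Eq.trans ?_ (map_smul (T M ((Alg.baseChange A A').obj B)).symm
      ((1 : A') ⊗ₜ[A] c : A' ⊗[A] (B : Type u)) (e (T (resMod A A' M) B x)))
    show (T M ((Alg.baseChange A A').obj B)).symm (e (T (resMod A A' M) B (c • x))) = _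
    rw [map_smul]
    congr 1
    induction T (resMod A A' M) B x using TensorProduct.induction_on with
    | zero => simp
    | tmul b m =>
      rw [TensorProduct.smul_tmul', smul_eq_mul]
      show e ((c * b) ⊗ₜ[A] m) = _ • e (b ⊗ₜ[A] m)
      rw [he, he, TensorProduct.smul_tmul', smul_eq_mul, Algebra.TensorProduct.tmul_mul_tmul, one_mul]
    | add p q hp hq => simp only [smul_add, map_add, hp, hq]
  · exact ((T M ((Alg.baseChange A A').obj B)).symm.bijective.comp (e.bijective.comp (T (resMod A A' M) B).bijective))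
  · exact congrArg (T M ((Alg.baseChange A A').obj B)).symm (he b m)

theorem exists_pushHom (M : ModuleCat.{u + 1} A') :
    ∃ η : U (resMod A A' M) ⟶ (Adeq.push A A').obj (U M), (∀ B, Function.Bijective (ap η B)) ∧
      ∀ (B : Alg A) (b : B) (m : M),
        ap η B ((T (resMod A A' M) B).symm (b ⊗ₜ[A] (m : resMod A A' M))) =
          (T M ((Alg.baseChange A A').obj B)).symm (((1 : A') ⊗ₜ[A] b) ⊗ₜ[A'] m) := by
  choose θ hb hθ using exists_push_iso A A' M
  refine ⟨mkHom θ fun {B B'} g x => ?_, hb, hθ⟩
  obtain ⟨x, rfl⟩ := (T (resMod A A' M) B).symm.surjective x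
  induction x using TensorProduct.induction_on with
  | zero => simp only [map_zero]
  | tmul b m =>
    rw [hθ, tr_push]
    have h1 : tr (U (resMod A A' M)) g ((T (resMod A A' M) B).symm (b ⊗ₜ[A] m)) =
        (T (resMod A A' M) B').symm (g.hom b ⊗ₜ[A] m) := rfl
    rw [h1]
    exact hθ B' (g.hom b) m
  | add p q hp hq => simp only [map_add, hp, hq]

theorem adequate_push {F : MVF A'} (hF : adequate A' F) : adequate A ((Adeq.push A A').obj F) := by
  obtain ⟨P⟩ := nonempty_pres hF
  obtain ⟨ηM, hM, hM'⟩ := exists_pushHom A A' P.M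
  obtain ⟨ηN, hN, hN'⟩ := exists_pushHom A A' P.N
  have := isIso_of_bij ηM hM
  have hsq : ∀ (B : Alg A) x, ap ηN B (ap ((underline A).map (resModMap A A' P.φ)) B x) =
      ap ((underline A').map P.φ) ((Alg.baseChange A A').obj B) (ap ηM B x) := by
    intro B x
    obtain ⟨x, rfl⟩ := (T (resMod A A' P.M) B).symm.surjective x
    induction x using TensorProduct.induction_on with
    | zero => simp only [map_zero]; exact (map_zero _).symm
    | tmul b m =>
      rw [hM']
      exact hN' B b (P.φ.hom m)
    | add p q hp hq => simp only [map_add, hp, hq]; exact (map_add _ _ _).symm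
  have hinv : ∀ B y, ap ηM B (ap (inv ηM) B y) = y := fun B y => by rw [← ap_comp, IsIso.inv_hom_id]; rfl
  refine adequate_of_exact ((Adeq.push A A').map P.ι ≫ inv ηM) (resModMap A A' P.φ) (fun B x y h => ?_) fun B y => ?_
  · have h' := congrArg (ap ηM B) h
    rw [ap_comp, ap_comp, hinv, hinv] at h'
    exact P.inj _ h'
  · constructor
    · intro hy
      have h1 : ap ((underline A').map P.φ) ((Alg.baseChange A A').obj B) (ap ηM B y) = 0 := by
        rw [← hsq, hy, map_zero]; rfl
      obtain ⟨x, hx⟩ := (P.exact _ _).1 h1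
      exact ⟨x, (hM B).1 ((hinv B (ap P.ι ((Alg.baseChange A A').obj B) x)).trans hx)⟩
    · rintro ⟨x, rfl⟩
      refine (hN B).1 ((hsq B _).trans ?_)
      exact ((congrArg _ (hinv B (ap P.ι ((Alg.baseChange A A').obj B) x))).trans ((P.exact _).apply_apply_eq_zero x)).trans (map_zero _).symm

theorem unit_naturality {B B' : Alg A} (g : B ⟶ B') :
    g ≫ Alg.unit A A' B' = Alg.unit A A' B ≫ (Alg.restr A A').map ((Alg.baseChange A A').map g) := by
  refine CommAlgCat.hom_ext (DFunLike.ext _ _ fun b => ?_)
  exact (Algebra.TensorProduct.map_tmul (AlgHom.id A' A') g.hom (1 : A') b).symm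

/-- the natural map `F → push (restr F)` -/
def pushUnit (F : MVF A) : F ⟶ (Adeq.push A A').obj ((Adeq.restr A A').obj F) :=
  mkHom
    (fun B =>
      { toFun := fun x => (tr F (Alg.unit A A' B) x : F.obj (pt ((Alg.restr A A').obj ((Alg.baseChange A A').obj B))))
        map_add' := fun x y => map_add (tr F (Alg.unit A A' B)) x y
        map_smul' := fun b x => tr_smul F (Alg.unit A A' B) b x })
    (fun {B B'} g x => by
      show tr F (Alg.unit A A' B') (tr F g x) =
        tr F ((Alg.restr A A').map ((Alg.baseChange A A').map g)) (tr F (Alg.unit A A' B) x)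
      rw [tr_comp, tr_comp, unit_naturality])

set_option maxHeartbeats 1000000 in
theorem adequate_descent (F : MVF A) (h₁ : adequate A' ((Adeq.restr A A').obj F))
    (h₂ : ∀ B : Alg A, Function.Injective (F.map (ptHom (Alg.unit A A' B))) ∧
      ∀ y : F.obj (pt ((Alg.restr A A').obj ((Alg.baseChange A A').obj B))),
        F.map (ptHom (Alg.unit A A' ((Alg.restr A A').obj ((Alg.baseChange A A').obj B)))) y =
          F.map (ptHom ((Alg.restr A A').map ((Alg.baseChange A A').map (Alg.unit A A' B)))) y →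
        y ∈ Set.range (F.map (ptHom (Alg.unit A A' B)))) :
    adequate A F := by
  let G := (Adeq.push A A').obj ((Adeq.restr A A').obj F)
  let η := pushUnit A A' F
  let d₀ : G ⟶ (Adeq.push A A').obj ((Adeq.restr A A').obj G) := pushUnit A A' G
  let d₁ : G ⟶ (Adeq.push A A').obj ((Adeq.restr A A').obj G) := (Adeq.push A A').map ((Adeq.restr A A').map η)
  have hG : adequate A G := adequate_push A A' h₁
  have hker : adequate A (kernel (d₀ - d₁)) :=
    adequate_kernel _ hG (adequate_push A A' (adequate_restr A A' hG))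
  have hd₀ : ∀ B y, ap d₀ B y = tr F ((Alg.restr A A').map ((Alg.baseChange A A').map (Alg.unit A A' B))) y :=
    fun B y => rfl
  have hd₁ : ∀ B y, ap d₁ B y = tr F (Alg.unit A A' ((Alg.restr A A').obj ((Alg.baseChange A A').obj B))) y :=
    fun B y => rfl
  obtain ⟨e, -⟩ := isIso_kernelLift η (d₀ - d₁) (fun B => (h₂ B).1) fun B y => by
    constructor
    · intro hy
      rw [ap_sub, sub_eq_zero, hd₀, hd₁] at hy
      exact (h₂ B).2 y hy.symm
    · rintro ⟨x, rfl⟩
      rw [ap_sub, sub_eq_zero, hd₀, hd₁]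
      show tr F _ (tr F (Alg.unit A A' B) x) = tr F _ (tr F (Alg.unit A A' B) x)
      rw [tr_comp, tr_comp, unit_naturality]
  exact (adequate A).prop_of_iso e.symm hker

end Groth.MiscGeom.Adq

end
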