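import Groth.Agent.MiscGeom.AdeqInj
import Groth.Agent.MiscGeom.AdeqSum
import Groth.Agent.MiscGeom.AdeqExt2
import Mathlib.CategoryTheory.Adjunction.Comma
import Mathlib.CategoryTheory.Preadditive.Injective.Basic

/-!
# The coreflection into adequate functors; enough injective adequate functors
-/

universe u

open CategoryTheory CategoryTheory.Limits Opposite TensorProduct

noncomputable section

namespace Groth.MiscGeom.Adq

open Adeq

variable (A : Type u) [CommRing A]

/-- indices of a small set of linearly adequate functors meeting every isomorphism class -/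
abbrev LinIdx : Type (u + 1) := Σ n : ℕ, Σ m : ℕ, (FreeM A n ⟶ FreeM A m)

/-- the linearly adequate functor of an index -/
abbrev linRep (i : LinIdx A) : MVF A := kernel ((underline A).map i.2.2)

variable {A}

theorem exists_freeM_iso (M : ModuleCat.{u + 1} A) [Module.Finite A M] [Module.Free A M] :
    ∃ n, Nonempty (FreeM A n ≅ M) := by
  let b := Module.Free.chooseBasis A M
  exact ⟨Fintype.card (Module.Free.ChooseBasisIndex A M),
    ⟨((b.reindex ((Fintype.equivFin _).trans Equiv.ulift.{u + 1}.symm)).repr.symm).toModuleIso⟩⟩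

theorem exists_linRep {L : MVF A} (h : linAdequate A L) : ∃ i, Nonempty (linRep A i ≅ L) := by
  obtain ⟨M, N, φ, _, _, _, _, ⟨e⟩⟩ := h
  obtain ⟨n, ⟨a⟩⟩ := exists_freeM_iso M
  obtain ⟨m, ⟨b⟩⟩ := exists_freeM_iso N
  refine ⟨⟨n, m, a.hom ≫ φ ≫ b.inv⟩, ⟨kernel.mapIso _ _ ((underline A).mapIso a) ((underline A).mapIso b) ?_ ≪≫ e.symm⟩⟩
  simp only [Functor.mapIso_hom, ← Functor.map_comp]
  simp

theorem exists_linRep_hit {F : MVF A} (hF : adequate A F) (B : Alg A) (ξ : F.obj (pt B)) :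
    ∃ (i : LinIdx A) (f : linRep A i ⟶ F), ξ ∈ Set.range (ap f B) := by
  obtain ⟨P⟩ := nonempty_pres hF
  obtain ⟨L, f, hL, y, hy⟩ := P.exists_lin B ξ
  obtain ⟨i, ⟨e⟩⟩ := exists_linRep hL
  refine ⟨i, e.hom ≫ f, ap e.inv B y, ?_⟩
  rw [← ap_comp, Iso.inv_hom_id_assoc]
  exact hy

theorem adequate_linRep (i : LinIdx A) : adequate A (linRep A i) := ⟨_, _, _, ⟨Iso.refl _⟩⟩

/-- `Q(F) → F` -/
theorem exists_coreflection (F : MVF A) :
    ∃ (Q : MVF A) (π : Q ⟶ F), adequate A Q ∧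
      ∀ (G : MVF A), adequate A G → ∀ f : G ⟶ F, ∃! g : G ⟶ Q, g ≫ π = f := by
  classical
  let J₀ := Σ i : LinIdx A, (linRep A i ⟶ F)
  let L₀ : J₀ → MVF A := fun j => linRep A j.1
  let P₀ := ∐ L₀
  let π₀ : P₀ ⟶ F := Sigma.desc fun j => j.2
  have hP₀ : adequate A P₀ := adequate_sigma _ fun j => adequate_linRep j.1
  let J₁ := Σ i : LinIdx A, {g : linRep A i ⟶ P₀ // g ≫ π₀ = 0}
  let L₁ : J₁ → MVF A := fun j => linRep A j.1
  obtain ⟨r, hr'⟩ : ∃ r : ∐ L₁ ⟶ P₀, ∀ j, Sigma.ι L₁ j ≫ r = j.2.1 :=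
    ⟨Sigma.desc fun j => j.2.1, fun j => Sigma.ι_desc _ _⟩
  have hr : r ≫ π₀ = 0 := Sigma.hom_ext _ _ fun j => by
    rw [← Category.assoc, hr', comp_zero]
    exact j.2.2
  have hQ : adequate A (cokernel r) := adequate_cokernel r (adequate_sigma _ fun j => adequate_linRep j.1) hP₀
  let p := cokernel.π r
  let π : cokernel r ⟶ F := cokernel.desc r π₀ hr
  have hpπ : p ≫ π = π₀ := cokernel.π_desc _ _ _
  have huniq : ∀ (G : MVF A), adequate A G → ∀ g : G ⟶ cokernel r, g ≫ π = 0 → g = 0 := by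
    intro G hG g hg
    refine hom_ext' fun B y => ?_
    obtain ⟨x, hx⟩ := surj_of_epi p B (ap g B y)
    let d : P₀ ⊞ G ⟶ cokernel r := biprod.desc p (-g)
    let z : (P₀ ⊞ G).obj (pt B) :=
      ap (biprod.inl : P₀ ⟶ P₀ ⊞ G) B x + ap (biprod.inr : G ⟶ P₀ ⊞ G) B y
    have hz : ap d B z = 0 := by
      rw [map_add, ← ap_comp, ← ap_comp, biprod.inl_desc, biprod.inr_desc, hx]
      exact add_neg_cancel _
    obtain ⟨w, hw⟩ := (kernel_exact d B z).1 hz
    obtain ⟨i, h, l, hl⟩ := exists_linRep_hit (adequate_kernel d (adequate_biprod' hP₀ hG) hQ) B w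
    let q : linRep A i ⟶ P₀ := h ≫ kernel.ι d ≫ biprod.fst
    have hq : q ≫ π₀ = 0 := by
      have e : d ≫ π = biprod.fst ≫ π₀ := by
        apply biprod.hom_ext'
        · rw [biprod.inl_desc_assoc, biprod.inl_fst_assoc]; exact hpπ
        · rw [biprod.inr_desc_assoc, Preadditive.neg_comp, hg, neg_zero, biprod.inr_fst_assoc, zero_comp]
      simp only [q, Category.assoc, ← e, kernel.condition_assoc, zero_comp, comp_zero]
    have hqx : ap q B l = x := by
      show ap (h ≫ kernel.ι d ≫ biprod.fst) B l = x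
      rw [ap_comp, hl, ap_comp, hw, map_add, ← ap_comp, ← ap_comp, biprod.inl_fst, biprod.inr_fst, ap_zero, add_zero]
      rfl
    have hx0 : ap p B x = 0 := by
      have e : q = Sigma.ι L₁ ⟨i, q, hq⟩ ≫ r := (hr' ⟨i, q, hq⟩).symm
      rw [← hqx, e, ap_comp, ← ap_comp r p, show r ≫ p = 0 from cokernel.condition r, ap_zero]
    rw [ap_zero, ← hx]
    exact hx0
  refine ⟨cokernel r, π, hQ, fun G hG f => ?_⟩
  let J₂ := Σ i : LinIdx A, (linRep A i ⟶ G)
  let L₂ : J₂ → MVF A := fun j => linRep A j.1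
  let a : ∐ L₂ ⟶ G := Sigma.desc fun j => j.2
  have hL₂ : adequate A (∐ L₂) := adequate_sigma _ fun j => adequate_linRep j.1
  haveI : Epi a := epi_of_surj a fun B y => by
    obtain ⟨i, h, l, hl⟩ := exists_linRep_hit hG B y
    exact ⟨ap (Sigma.ι L₂ ⟨i, h⟩) B l, by rw [← ap_comp, Sigma.ι_desc]; exact hl⟩
  let b : ∐ L₂ ⟶ cokernel r := Sigma.desc fun j => Sigma.ι L₀ ⟨j.1, j.2 ≫ f⟩ ≫ p
  have hb : b ≫ π = a ≫ f := Sigma.hom_ext _ _ fun j => by
    rw [Sigma.ι_desc_assoc, Sigma.ι_desc_assoc, Category.assoc, hpπ, Sigma.ι_desc]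
  have hker : kernel.ι a ≫ b = 0 := huniq _ (adequate_kernel a hL₂ hG) _ (by
    rw [Category.assoc, hb, kernel.condition_assoc, zero_comp])
  let g : G ⟶ cokernel r := Abelian.epiDesc a b hker
  have hg : g ≫ π = f := (cancel_epi a).1 (by rw [← Category.assoc, Abelian.comp_epiDesc, hb])
  refine ⟨g, hg, fun g' hg' => sub_eq_zero.1 (huniq G hG _ ?_)⟩
  rw [Preadditive.sub_comp, hg', hg, sub_self]

variable (A)

theorem isLeftAdjoint_adequate_ι : (adequate A).ι.IsLeftAdjoint := by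
  rw [isLeftAdjoint_iff_hasTerminal_costructuredArrow]
  intro F
  obtain ⟨Q, π, hQ, huniv⟩ := exists_coreflection F
  let T : CostructuredArrow (adequate A).ι F := CostructuredArrow.mk (Y := (⟨Q, hQ⟩ : Adequate A)) π
  haveI : ∀ X : CostructuredArrow (adequate A).ι F, Nonempty (X ⟶ T) := fun X => by
    obtain ⟨g, hg, -⟩ := huniv X.left.obj X.left.property X.hom
    exact ⟨CostructuredArrow.homMk (ObjectProperty.homMk g) hg⟩
  haveI : ∀ X : CostructuredArrow (adequate A).ι F, Subsingleton (X ⟶ T) := fun X => ⟨fun g g' => by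
    obtain ⟨g₀, -, h₀⟩ := huniv X.left.obj X.left.property X.hom
    refine CostructuredArrow.hom_ext _ _ (ObjectProperty.hom_ext _ ?_)
    exact (h₀ _ (CostructuredArrow.w g)).trans (h₀ _ (CostructuredArrow.w g')).symm⟩
  exact (IsTerminal.ofUniqueHom (fun X => Classical.arbitrary (X ⟶ T)) fun X m => Subsingleton.elim _ _).hasTerminal

theorem mono_adequate_hom {F G : Adequate A} (f : F ⟶ G) [Mono f] : Mono ((adequate A).ι.map f) := by
  refine Preadditive.mono_of_kernel_zero ?_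
  let K : Adequate A := ⟨kernel f.hom, adequate_kernel f.hom F.property G.property⟩
  let k : K ⟶ F := ObjectProperty.homMk (kernel.ι f.hom)
  have h : k ≫ f = (ObjectProperty.homMk (0 : K.obj ⟶ F.obj) : K ⟶ F) ≫ f := by
    apply ObjectProperty.hom_ext
    show kernel.ι f.hom ≫ f.hom = (0 : K.obj ⟶ F.obj) ≫ f.hom
    rw [kernel.condition, zero_comp]
  exact congrArg (fun m : K ⟶ F => m.hom) ((cancel_mono f).1 h)

theorem enoughInjectives_adequate : EnoughInjectives (Adequate A) := by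
  haveI := isLeftAdjoint_adequate_ι A
  haveI : EnoughInjectives (MVF A) := enoughInjectives_mvf
  haveI : (adequate A).ι.PreservesMonomorphisms := ⟨fun f _ => mono_adequate_hom A f⟩
  exact EnoughInjectives.of_adjunction (Adjunction.ofIsLeftAdjoint (adequate A).ι)

end Groth.MiscGeom.Adq

end
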