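import Groth.Agent.MiscGeom.AdeqModOps
import Mathlib.AlgebraicGeometry.Limits

/-!
# Short exact sequences of sheaves of modules on affine objects
-/

universe u v

open CategoryTheory CategoryTheory.Limits AlgebraicGeometry Opposite

noncomputable section

namespace Groth.MiscGeom.Adq

open Adeq

section Presheaf

variable {K : Precoverage Scheme.{u}} [BigSite.OSh K] {S : Scheme.{u}}

instance evalORingAdditive (U : (Over S)ᵒᵖ) :
    (PresheafOfModules.evaluation.{u + 1} (BigSite.ORing K S).obj U).Additive where
  map_add := rfl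

theorem presheaf_exact_ap (T : ShortComplex (PresheafOfModules.{u + 1} (BigSite.ORing K S).obj)) (hT : T.Exact)
    (U : (Over S)ᵒᵖ) : Function.Exact (T.f.app U).hom (T.g.app U).hom := by
  haveI : PreservesFiniteColimits (PresheafOfModules.evaluation.{u + 1} (BigSite.ORing K S).obj U) := inferInstance
  haveI : PreservesFiniteLimits (PresheafOfModules.evaluation.{u + 1} (BigSite.ORing K S).obj U) :=
    PresheafOfModules.evaluation_preservesFiniteLimits _ _
  haveI : (PresheafOfModules.evaluation.{u + 1} (BigSite.ORing K S).obj U).PreservesHomology :=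
    Functor.preservesHomology_of_preservesEpis_and_kernels _
  exact (ShortComplex.ShortExact.moduleCat_exact_iff_function_exact _).1 (hT.map (PresheafOfModules.evaluation _ U))

end Presheaf

variable {P : MorphismProperty Scheme.{u}} (hP : GoodProp P) {S : Scheme.{u}} {R : CommRingCat.{u}} (a : Spec R ⟶ S)
  [BigSite.OSh (Scheme.precoverage P)]
  [HasSheafify (QuotSh.J (Scheme.precoverage P) S) AddCommGrpCat.{u + 1}]
  [(QuotSh.J (Scheme.precoverage P) S).WEqualsLocallyBijective AddCommGrpCat.{u + 1}]
include hP

theorem affine_local_lift {M N : BigSite.Mod (Scheme.precoverage P) S} (g : M ⟶ N) [Epi g] {B : Alg R}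
    (s : (FP a N.val).obj (pt B)) :
    ∃ (κ : Type u) (_ : Fintype κ) (Bk : κ → Alg R) (f : ∀ k, B ⟶ Bk k), (∀ k, P (specHom (f k))) ∧
      (∀ x : PrimeSpectrum B, ∃ k, x ∈ Set.range (PrimeSpectrum.comap (f k).hom.toRingHom)) ∧
      ∀ k, ∃ t : (FP a M.val).obj (pt (Bk k)),
        ap ((toMVFPre (Scheme.precoverage P) a).map g.val) (Bk k) t = tr (FP a N.val) (f k) s := by
  classical
  let α := 𝟙 (BigSite.ORing (Scheme.precoverage P) S).obj
  let adj := PresheafOfModules.sheafificationAdjunction α
  let L := PresheafOfModules.sheafification α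
  haveI : IsIso adj.counit := inferInstance
  let π : N.val ⟶ cokernel g.val := cokernel.π g.val
  have hepi : Epi (L.map g.val) := by
    have h : L.map g.val = adj.counit.app M ≫ g ≫ inv (adj.counit.app N) := by
      rw [← Category.assoc, ← adj.counit_naturality g, Category.assoc, IsIso.hom_inv_id, Category.comp_id]
      rfl
    rw [h]
    haveI h₁ : IsIso (adj.counit.app M) := NatIso.isIso_app_of_isIso adj.counit M
    haveI h₂ : IsIso (adj.counit.app N) := NatIso.isIso_app_of_isIso adj.counit N
    haveI h₃ : IsIso (inv (adj.counit.app N)) := IsIso.inv_isIso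
    exact @epi_comp _ _ _ _ _ _ (@IsIso.epi_of_iso _ _ _ _ _ h₁) _ (@epi_comp _ _ _ _ _ g inferInstance _ (@IsIso.epi_of_iso _ _ _ _ _ h₃))
  have hz : L.map π = 0 := by
    rw [← cancel_epi (L.map g.val), ← Functor.map_comp, comp_zero, cokernel.condition]
    exact L.map_zero _ _
  have hπ : π ≫ adj.unit.app (cokernel g.val) = 0 := by
    refine (adj.unit.naturality π).trans ?_
    rw [Functor.comp_map]
    refine (congrArg (fun z => adj.unit.app N.val ≫ z) ?_).trans comp_zero
    change (SheafOfModules.forget _ ⋙ PresheafOfModules.restrictScalars α).map (L.map π) = 0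
    rw [hz]
    exact Functor.map_zero _ _ _
  let U : (Over S)ᵒᵖ := op ((specOver a).obj (op B))
  let q : (cokernel g.val).presheaf.obj U := ((PresheafOfModules.toPresheaf _).map π).app U (toSec a N.val s)
  have hq : (CategoryTheory.toSheafify (QuotSh.J (Scheme.precoverage P) S) (cokernel g.val).presheaf).app U q =
      (CategoryTheory.toSheafify (QuotSh.J (Scheme.precoverage P) S) (cokernel g.val).presheaf).app U 0 := by
    refine Eq.trans ?_ (map_zero _).symm
    exact DFunLike.congr_fun (congrArg (fun φ => ((PresheafOfModules.toPresheaf _).map φ).app U |>.hom) hπ)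
      (toSec a N.val s)
  obtain ⟨κ, hκ, Bk, f, hf, hsurj, hT⟩ := exists_affine_refinement hP a
    (Presheaf.equalizerSieve_mem (QuotSh.J (Scheme.precoverage P) S) _ q 0 hq)
  refine ⟨κ, hκ, Bk, f, hf, hsurj, fun k => ?_⟩
  have h0 : ((PresheafOfModules.toPresheaf _).map π).app _ (N.val.presheaf.map ((specOver a).map (f k).op).op
      (toSec a N.val s)) = 0 :=
    (PresheafOfModules.naturality_apply π ((specOver a).map (f k).op).op (toSec a N.val s)).trans
      ((hT k).trans (map_zero _))
  exact (presheaf_exact_ap (ShortComplex.mk g.val π (cokernel.condition _)) (ShortComplex.exact_cokernel _) _ _).1 h0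

omit [HasSheafify (QuotSh.J (Scheme.precoverage P) S) AddCommGrpCat.{u + 1}]
  [(QuotSh.J (Scheme.precoverage P) S).WEqualsLocallyBijective AddCommGrpCat.{u + 1}] in
/-- glueing over a finite product of algebras -/
theorem exists_prod_sect (Q : PresheafOfModules.{u + 1} (BigSite.ORing (Scheme.precoverage P) S).obj)
    (hQ : Presheaf.IsSheaf (QuotSh.J (Scheme.precoverage P) S) Q.presheaf) {κ : Type u} [Fintype κ] [DecidableEq κ]
    (Bk : κ → Alg R) (y : ∀ k, (FP a Q).obj (pt (Bk k))) :
    ∃ z, ∀ k, tr (FP a Q) (prodProj Bk k) z = y k := by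
  refine sect_glue a Q hP hQ (prodProj Bk)
    (fun k => hP.openImm _ ?_) (fun x => ?_) y
    fun k l C p q e => ?_
  · change IsOpenImmersion (Spec.map (CommRingCat.ofHom (Pi.evalRingHom (fun k => (Bk k : Type u)) k)))
    infer_instance
  · obtain ⟨⟨k, y⟩, rfl⟩ := (PrimeSpectrum.sigmaToPi_bijective (fun k => (Bk k : Type u))).2 x
    exact ⟨k, y, rfl⟩
  · by_cases hkl : k = l
    · subst hkl
      have : p = q := CommAlgCat.hom_ext (AlgHom.ext fun b => by
        obtain ⟨z, rfl⟩ : ∃ z : prodAlg Bk, (prodProj Bk k).hom z = b := ⟨Pi.single k b, Pi.single_eq_same (M := fun k => (Bk k : Type u)) k b⟩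
        exact DFunLike.congr_fun (congrArg CommAlgCat.Hom.hom e) z)
      rw [this]
    · have h1 : (1 : C) = 0 := by
        have h2 := DFunLike.congr_fun (congrArg CommAlgCat.Hom.hom e) (prodIdem Bk k)
        have h3 : (prodProj Bk k).hom (prodIdem Bk k) = 1 := Pi.single_eq_same _ _
        have h4 : (prodProj Bk l).hom (prodIdem Bk k) = 0 := Pi.single_eq_of_ne (Ne.symm hkl) _
        change p.hom ((prodProj Bk k).hom (prodIdem Bk k)) = q.hom ((prodProj Bk l).hom (prodIdem Bk k)) at h2
        rwa [h3, h4, map_one, map_zero] at h2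
      refine ((one_smul (C : Type u) _).symm.trans ?_).trans (one_smul (C : Type u) _)
      rw [h1, zero_smul, zero_smul]

end Groth.MiscGeom.Adq

end
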