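import Groth.Agent.MiscGeom.AdeqSum

/-!
# Extensions of adequate functors
-/

universe u

open CategoryTheory CategoryTheory.Limits Opposite TensorProduct

noncomputable section

namespace Groth.MiscGeom.Adq

open Adeq

variable {A : Type u} [CommRing A]

/-- A morphism from natural linear components. -/
def mkHom {F G : MVF A} (f : ∀ B : Alg A, F.obj (pt B) →ₗ[(B : Type u)] G.obj (pt B))
    (nat : ∀ {B B' : Alg A} (g : B ⟶ B') (x : F.obj (pt B)), f B' (tr F g x) = tr G g (f B x)) : F ⟶ G :=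
  PresheafOfModules.homMk
    { app X := AddCommGrpCat.ofHom (f X.unop.unop).toAddMonoidHom
      naturality {X Y} h := by
        ext x
        exact nat h.unop.unop x }
    (fun X r m => (f X.unop.unop).map_smul r m)

@[simp] theorem ap_mkHom {F G : MVF A} (f : ∀ B : Alg A, F.obj (pt B) →ₗ[(B : Type u)] G.obj (pt B))
    (nat : ∀ {B B' : Alg A} (g : B ⟶ B') (x : F.obj (pt B)), f B' (tr F g x) = tr G g (f B x))
    (B : Alg A) (x : F.obj (pt B)) : ap (mkHom f nat) B x = f B x := rfl

variable (B : Alg A)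

/-- `B[ε] → B` -/
def dfst : Dual' B ⟶ B := CommAlgCat.ofHom (TrivSqZeroExt.fstHom A (B : Type u) (B : Type u))

/-- `ε` -/
def deps : Dual' B := TrivSqZeroExt.inr 1

/-- `B[ε₁, ε₂]` -/
abbrev Dual2 : Alg A := algOf A (TrivSqZeroExt (B : Type u) (Prod (B : Type u) (B : Type u)))

def dinl2 : B ⟶ Dual2 B :=
  CommAlgCat.ofHom (TrivSqZeroExt.inlAlgHom A (B : Type u) (Prod (B : Type u) (B : Type u)))

/-- the map `B[ε₁, ε₂] → B[ε]` induced by a linear map -/
def dproj (l : Prod (B : Type u) (B : Type u) →ₗ[(B : Type u)] (B : Type u)) : Dual2 B ⟶ Dual' B :=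
  CommAlgCat.ofHom ((TrivSqZeroExt.map l).restrictScalars A)

/-- multiplication of `ε` by `b` -/
def dscale (b : B) : Dual' B ⟶ Dual' B :=
  CommAlgCat.ofHom ((TrivSqZeroExt.map (LinearMap.lsmul (B : Type u) (B : Type u) b)).restrictScalars A)

variable {B}

theorem dinl_dfst : dinl B ≫ dfst B = 𝟙 B := by
  apply CommAlgCat.hom_ext; exact AlgHom.ext fun b => rfl

theorem dinl_dscale (b : B) : dinl B ≫ dscale B b = dinl B := by
  apply CommAlgCat.hom_ext
  exact AlgHom.ext fun c => TrivSqZeroExt.map_inl _ _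

theorem dinl2_dproj (l : Prod (B : Type u) (B : Type u) →ₗ[(B : Type u)] (B : Type u)) :
    dinl2 B ≫ dproj B l = dinl B := by
  apply CommAlgCat.hom_ext
  exact AlgHom.ext fun c => TrivSqZeroExt.map_inl _ _

/-- the map `B[ε] → B'[ε]` -/
def dmap {B B' : Alg A} (g : B ⟶ B') : Dual' B ⟶ Dual' B' :=
  CommAlgCat.ofHom
    { toFun := fun z => TrivSqZeroExt.inl (g.hom z.fst) + TrivSqZeroExt.inr (g.hom z.snd)
      map_one' := by ext <;> simp
      map_mul' := fun z w => by
        ext <;> simp [map_add, map_mul, mul_comm]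
      map_zero' := by ext <;> simp
      map_add' := fun z w => by ext <;> simp [map_add]
      commutes' := fun a => by
        show TrivSqZeroExt.inl (g.hom (algebraMap A B a)) + TrivSqZeroExt.inr (g.hom 0) =
          TrivSqZeroExt.inl (algebraMap A B' a)
        rw [map_zero, TrivSqZeroExt.inr_zero, add_zero, g.hom.commutes] }

theorem dmap_deps {B B' : Alg A} (g : B ⟶ B') : (dmap g).hom (deps B) = deps B' := by
  show TrivSqZeroExt.inl (g.hom 0) + TrivSqZeroExt.inr (g.hom 1) = TrivSqZeroExt.inr 1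
  rw [map_zero, map_one, TrivSqZeroExt.inl_zero, zero_add]

theorem dinl_dmap {B B' : Alg A} (g : B ⟶ B') : dinl B ≫ dmap g = g ≫ dinl B' := by
  apply CommAlgCat.hom_ext
  refine AlgHom.ext fun c => ?_
  show TrivSqZeroExt.inl (g.hom c) + TrivSqZeroExt.inr (g.hom 0) = TrivSqZeroExt.inl (g.hom c)
  rw [map_zero, TrivSqZeroExt.inr_zero, add_zero]

/-- `y ↦ ε y` -/
def emb (F : MVF A) (B : Alg A) : F.obj (pt B) →+ F.obj (pt (Dual' B)) :=
  AddMonoidHom.mk' (fun y => deps B • tr F (dinl B) y) (fun x y => by rw [map_add, smul_add])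

theorem emb_apply (F : MVF A) (B : Alg A) (y : F.obj (pt B)) : emb F B y = deps B • tr F (dinl B) y := rfl

theorem ap_emb {F G : MVF A} (f : F ⟶ G) (B : Alg A) (y : F.obj (pt B)) :
    ap f (Dual' B) (emb F B y) = emb G B (ap f B y) := by
  rw [emb_apply, emb_apply, map_smul, ap_tr]

theorem tr_dmap_emb (F : MVF A) {B B' : Alg A} (g : B ⟶ B') (y : F.obj (pt B)) :
    tr F (dmap g) (emb F B y) = emb F B' (tr F g y) := by
  rw [emb_apply, emb_apply, tr_smul, dmap_deps, tr_comp, tr_comp, dinl_dmap]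

theorem tr_dscale_emb (F : MVF A) (b : B) (y : F.obj (pt B)) :
    tr F (dscale B b) (emb F B y) = emb F B (b • y) := by
  rw [emb_apply, emb_apply, tr_smul, tr_comp, dinl_dscale, tr_smul, smul_smul]
  congr 1
  show TrivSqZeroExt.map (LinearMap.lsmul (B : Type u) (B : Type u) b) (TrivSqZeroExt.inr 1) =
    TrivSqZeroExt.inr 1 * TrivSqZeroExt.inl b
  rw [TrivSqZeroExt.map_inr, eps_mul_inl]
  simp

theorem tr_dfst_emb (F : MVF A) (y : F.obj (pt B)) : tr F (dfst B) (emb F B y) = 0 := by
  rw [emb_apply, tr_smul]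
  show (TrivSqZeroExt.fst (TrivSqZeroExt.inr (1 : B))) • _ = 0
  rw [TrivSqZeroExt.fst_inr, zero_smul]

theorem T_emb (M : ModuleCat.{u + 1} A) (B : Alg A) (y : (U M).obj (pt B)) :
    T M (Dual' B) (emb (U M) B y) =
      ((TrivSqZeroExt.inrHom (B : Type u) (B : Type u)).restrictScalars A).rTensor M (T M B y) := by
  rw [emb_apply, map_smul, T_tr]
  induction T M B y using TensorProduct.induction_on with
  | zero => simp
  | tmul b m =>
    simp only [LinearMap.rTensor_tmul, TensorProduct.smul_tmul', AlgHom.toLinearMap_apply, smul_eq_mul,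
      LinearMap.coe_restrictScalars, TrivSqZeroExt.inrHom_apply]
    exact congrArg (· ⊗ₜ[A] m) (eps_mul_inl (B : Type u) b)
  | add a b ha hb => simp only [map_add, smul_add, ha, hb]

theorem emb_U_injective (M : ModuleCat.{u + 1} A) (B : Alg A) : Function.Injective (emb (U M) B) := by
  intro x y h
  have h' := congrArg (T M (Dual' B)) h
  rw [T_emb, T_emb] at h'
  have h2 := congrArg
    (((TrivSqZeroExt.sndHom (B : Type u) (B : Type u)).restrictScalars A).rTensor M) h'
  rw [← LinearMap.rTensor_comp_apply, ← LinearMap.rTensor_comp_apply] at h2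
  have : ((TrivSqZeroExt.sndHom (B : Type u) (B : Type u)).restrictScalars A) ∘ₗ
      ((TrivSqZeroExt.inrHom (B : Type u) (B : Type u)).restrictScalars A) = LinearMap.id :=
    LinearMap.ext fun b => rfl
  rw [this, LinearMap.rTensor_id] at h2
  exact (T M B).injective h2

theorem emb_U_range (M : ModuleCat.{u + 1} A) (B : Alg A) (w : (U M).obj (pt (Dual' B)))
    (hw : tr (U M) (dfst B) w = 0) : ∃ y, emb (U M) B y = w := by
  let s := (TrivSqZeroExt.sndHom (B : Type u) (B : Type u)).restrictScalars A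
  let z := T M (Dual' B) w
  have hw' : (dfst B).hom.toLinearMap.rTensor M z = 0 := by rw [← T_tr, hw, map_zero]
  refine ⟨(T M B).symm (s.rTensor M z), (T M (Dual' B)).injective ?_⟩
  rw [T_emb, LinearEquiv.apply_symm_apply]
  have : ∀ z : (Dual' B : Type u) ⊗[A] M, z = (dinl B).hom.toLinearMap.rTensor M ((dfst B).hom.toLinearMap.rTensor M z) +
      ((TrivSqZeroExt.inrHom (B : Type u) (B : Type u)).restrictScalars A).rTensor M (s.rTensor M z) := by
    intro z
    induction z using TensorProduct.induction_on with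
    | zero => simp
    | tmul d m =>
      simp only [LinearMap.rTensor_tmul, ← TensorProduct.add_tmul]
      exact congrArg (· ⊗ₜ[A] m) (TrivSqZeroExt.inl_fst_add_inr_snd_eq d).symm
    | add a b ha hb =>
      simp only [map_add]
      conv_lhs => rw [ha, hb]
      abel
  conv_rhs => rw [show T M (Dual' B) w = z from rfl, this z, hw', map_zero, zero_add]

theorem U_dual2_injective (M : ModuleCat.{u + 1} A) (B : Alg A) (w : (U M).obj (pt (Dual2 B)))
    (h1 : tr (U M) (dproj B (LinearMap.fst _ _ _)) w = 0) (h2 : tr (U M) (dproj B (LinearMap.snd _ _ _)) w = 0) :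
    w = 0 := by
  let R := (B : Type u)
  let k1 : (Dual' B : Type u) →ₗ[A] (Dual2 B : Type u) :=
    ((TrivSqZeroExt.map (LinearMap.inl R R R)).restrictScalars A).toLinearMap
  let k2 : (Dual' B : Type u) →ₗ[A] (Dual2 B : Type u) :=
    ((TrivSqZeroExt.inrHom R (R × R) ∘ₗ LinearMap.inr R R R ∘ₗ TrivSqZeroExt.sndHom R R)).restrictScalars A
  let p1 := (dproj B (LinearMap.fst R R R)).hom.toLinearMap
  let p2 := (dproj B (LinearMap.snd R R R)).hom.toLinearMap
  have hid : k1 ∘ₗ p1 + k2 ∘ₗ p2 = LinearMap.id := by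
    refine LinearMap.ext fun d => ?_
    show TrivSqZeroExt.map (LinearMap.inl R R R) (TrivSqZeroExt.map (LinearMap.fst R R R) d) +
      TrivSqZeroExt.inr (LinearMap.inr R R R (TrivSqZeroExt.map (LinearMap.snd R R R) d).snd) = d
    refine TrivSqZeroExt.ext ?_ ?_
    · simp
    · simp
  refine (T M (Dual2 B)).injective ?_
  rw [map_zero, ← LinearMap.id_apply (R := A) (T M (Dual2 B) w), ← LinearMap.rTensor_id, ← hid, LinearMap.rTensor_add,
    LinearMap.add_apply, LinearMap.rTensor_comp_apply, LinearMap.rTensor_comp_apply, ← T_tr, ← T_tr, h1, h2,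
    map_zero, map_zero, map_zero, add_zero]

theorem exists_section {G L : MVF A} {M : ModuleCat.{u + 1} A} (P : LinPres L) (i : U M ⟶ G) (p : G ⟶ L)
    (hi : ∀ B, Function.Injective (ap i B)) (hp : ∀ B, Function.Surjective (ap p B))
    (hip : ∀ B, Function.Exact (ap i B) (ap p B)) : ∃ s : L ⟶ G, s ≫ p = 𝟙 L := by
  have embL : ∀ B, Function.Injective (emb L B) := fun B x y h => P.inj B (emb_U_injective P.M B (by
    rw [← ap_emb, ← ap_emb, h]))
  have embG : ∀ B, Function.Injective (emb G B) := by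
    intro B
    rw [injective_iff_map_eq_zero]
    intro y hy
    have h1 : ap p B y = 0 := embL B (by rw [← ap_emb, hy, map_zero, map_zero])
    obtain ⟨m, rfl⟩ := (hip B y).1 h1
    rw [← ap_emb] at hy
    rw [emb_U_injective M B ((hi _ (hy.trans (map_zero _).symm)).trans (map_zero _).symm), map_zero]
  have rangeG : ∀ B (w : G.obj (pt (Dual' B))), tr G (dfst B) w = 0 → ∃ y, emb G B y = w := by
    intro B w hw
    have h1 : tr (U P.M) (dfst B) (ap P.ι (Dual' B) (ap p (Dual' B) w)) = 0 := by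
      rw [← ap_tr, ← ap_tr, hw, map_zero, map_zero]
    obtain ⟨m, hm⟩ := emb_U_range P.M B _ h1
    have h2 : ap ((underline A).map P.φ) B m = 0 := emb_U_injective P.N B (by
      rw [← ap_emb, hm, (P.exact _).apply_apply_eq_zero, map_zero])
    obtain ⟨l, rfl⟩ := (P.exact B m).1 h2
    obtain ⟨y, rfl⟩ := hp B l
    have h3 : ap p (Dual' B) (w - emb G B y) = 0 := by
      rw [map_sub, ap_emb, sub_eq_zero]
      refine P.inj _ ?_
      rw [ap_emb, hm]
    obtain ⟨μ, hμ⟩ := (hip _ _).1 h3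
    have h4 : tr (U M) (dfst B) μ = 0 := hi B (by
      rw [ap_tr, hμ, map_sub, hw, tr_dfst_emb, sub_zero, map_zero])
    obtain ⟨m, rfl⟩ := emb_U_range M B μ h4
    exact ⟨ap i B m + y, by rw [map_add, ← ap_emb, hμ, sub_add_cancel]⟩
  have inj2 : ∀ B (w : G.obj (pt (Dual2 B))), tr G (dproj B (LinearMap.fst _ _ _)) w = 0 →
      tr G (dproj B (LinearMap.snd _ _ _)) w = 0 → w = 0 := by
    intro B w h1 h2
    have h3 : ap p (Dual2 B) w = 0 := P.inj _ ((U_dual2_injective P.M B _
      (by rw [← ap_tr, ← ap_tr, h1, map_zero, map_zero]) (by rw [← ap_tr, ← ap_tr, h2, map_zero, map_zero])).trans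
        (map_zero _).symm)
    obtain ⟨μ, rfl⟩ := (hip _ w).1 h3
    rw [U_dual2_injective M B μ (hi _ (by rw [ap_tr, h1, map_zero])) (hi _ (by rw [ap_tr, h2, map_zero])), map_zero]
  obtain ⟨y₀, hy₀⟩ := hp P.B₀ P.X₀
  let K : ∀ B : Alg A, L.obj (pt B) → G.obj (pt B) := fun B l => tr G (P.ev B l) y₀
  have hK : ∀ {B B' : Alg A} (g : B ⟶ B') l, tr G g (K B l) = K B' (tr L g l) := fun g l => by
    simp only [K]
    rw [tr_comp, P.ev_comp]
  have hpK : ∀ B l, ap p B (K B l) = l := fun B l => by simp only [K, ap_tr, hy₀, P.tr_ev]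
  have hw0 : tr G (dfst P.B₀) (K _ (emb L P.B₀ P.X₀) - K _ 0) = 0 := by
    rw [map_sub, hK, hK, tr_dfst_emb, map_zero, sub_self]
  obtain ⟨y', hy'⟩ := rangeG P.B₀ _ hw0
  let s : ∀ B : Alg A, L.obj (pt B) → G.obj (pt B) := fun B l => tr G (P.ev B l) y'
  have hs : ∀ {B B' : Alg A} (g : B ⟶ B') l, tr G g (s B l) = s B' (tr L g l) := fun g l => by
    simp only [s]
    rw [tr_comp, P.ev_comp]
  have hes : ∀ B l, emb G B (s B l) = K _ (emb L B l) - K _ 0 := fun B l => by
    rw [← tr_dmap_emb, hy', map_sub, hK, hK, tr_dmap_emb, map_zero, P.tr_ev]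
  have hsmul : ∀ (B : Alg A) (b : B) l, s B (b • l) = b • s B l := fun B b l => embG B (by
    rw [← tr_dscale_emb, hes, hes, map_sub, hK, hK, tr_dscale_emb, map_zero])
  have hadd : ∀ B l l', s B (l + l') = s B l + s B l' := by
    intro B l l'
    let e1 : Dual2 B := TrivSqZeroExt.inr (1, 0)
    let e2 : Dual2 B := TrivSqZeroExt.inr (0, 1)
    have hproj : ∀ (F : MVF A) (f : Prod (B : Type u) (B : Type u) →ₗ[(B : Type u)] (B : Type u)) (y y' : F.obj (pt B)),
        tr F (dproj B f) (e1 • tr F (dinl2 B) y + e2 • tr F (dinl2 B) y') =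
          emb F B (f (1, 0) • y + f (0, 1) • y') := by
      intro F f y y'
      rw [map_add, tr_smul, tr_smul, tr_comp, tr_comp, dinl2_dproj, map_add, emb_apply, emb_apply, tr_smul, tr_smul,
        smul_smul, smul_smul]
      congr 2
      · show TrivSqZeroExt.map f (TrivSqZeroExt.inr (1, 0)) = TrivSqZeroExt.inr 1 * TrivSqZeroExt.inl (f (1, 0))
        rw [TrivSqZeroExt.map_inr, eps_mul_inl]
      · show TrivSqZeroExt.map f (TrivSqZeroExt.inr (0, 1)) = TrivSqZeroExt.inr 1 * TrivSqZeroExt.inl (f (0, 1))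
        rw [TrivSqZeroExt.map_inr, eps_mul_inl]
    let W := K _ (e1 • tr L (dinl2 B) l + e2 • tr L (dinl2 B) l') - K _ 0 -
      (e1 • tr G (dinl2 B) (s B l) + e2 • tr G (dinl2 B) (s B l'))
    have hW : W = 0 := by
      refine inj2 B W ?_ ?_
      · simp only [W, map_sub, hK, hproj, map_zero]
        simp [hes]
      · simp only [W, map_sub, hK, hproj, map_zero]
        simp [hes]
    have hσ := congrArg (tr G (dproj B (LinearMap.fst _ _ _ + LinearMap.snd _ _ _))) hW
    simp only [W, map_sub, hK, hproj, map_zero] at hσ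
    simp only [LinearMap.add_apply, LinearMap.fst_apply, LinearMap.snd_apply, add_zero, zero_add, one_smul] at hσ
    refine embG B ?_
    rw [hes]
    exact sub_eq_zero.1 hσ
  refine ⟨mkHom (fun B => { toFun := s B, map_add' := hadd B, map_smul' := hsmul B }) (fun g x => (hs g x).symm),
    hom_ext' fun B l => ?_⟩
  show ap p B (s B l) = l
  refine embL B ?_
  rw [← ap_emb, hes, map_sub, hpK, hpK, sub_zero]

theorem splitting_of_linAdequate (S : ShortComplex (MVF A)) (hS : S.ShortExact) (M : ModuleCat.{u + 1} A)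
    (e : S.X₁ ≅ U M) (hL : linAdequate A S.X₃) : Nonempty S.Splitting ∧ adequate A S.X₂ := by
  obtain ⟨P⟩ := nonempty_linPres hL
  have := hS.mono_f
  have := hS.epi_g
  obtain ⟨s, hs⟩ := exists_section P (e.inv ≫ S.f) S.g (fun B => inj_of_mono _ B) (fun B => surj_of_epi _ B)
    (fun B y => by
      refine ((exact_ap S hS.exact B) y).trans ⟨?_, ?_⟩
      · rintro ⟨x, rfl⟩
        obtain ⟨m, rfl⟩ := surj_of_epi e.inv B x
        exact ⟨m, rfl⟩
      · rintro ⟨m, rfl⟩
        exact ⟨_, rfl⟩)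
  let sp := ShortComplex.Splitting.ofExactOfSection S hS.exact s hs hS.mono_f
  refine ⟨⟨sp⟩, adequate_biprod (F := S.X₁) (G := S.X₃) ((adequate A).prop_of_iso e.symm (adequate_U M))
    (adequate_of_linAdequate hL) S.f s (fun B x y h => ?_) fun B z => ?_⟩
  · have hy : y = 0 := by
      have h' := congrArg (ap S.g B) h
      rwa [map_add, (exact_ap S hS.exact B).apply_apply_eq_zero, zero_add, ← ap_comp, hs, map_zero] at h'
    rw [hy, map_zero, add_zero] at h
    exact ⟨inj_of_mono S.f B (h.trans (map_zero _).symm), hy⟩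
  · obtain ⟨x, hx⟩ := (exact_ap S hS.exact B (z - ap s B (ap S.g B z))).1 (by
      rw [map_sub, ← ap_comp s S.g, hs]
      exact sub_self _)
    exact ⟨x, ap S.g B z, (eq_add_of_sub_eq hx.symm)⟩

end Groth.MiscGeom.Adq

end
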