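import Groth.Agent.MiscGeom.AdeqBasic
import Mathlib.Algebra.Category.Ring.FilteredColimits
import Mathlib.Algebra.Category.Ring.Colimits
import Mathlib.Algebra.Category.Grp.FilteredColimits
import Mathlib.Algebra.Category.Grp.Colimits
import Mathlib.CategoryTheory.Limits.Types.Filtered
import Mathlib.CategoryTheory.Limits.ConcreteCategory.Basic
import Mathlib.LinearAlgebra.DirectSum.Finsupp
import Mathlib.LinearAlgebra.Finsupp.LinearCombination

/-!
# Adequate functors commute with filtered colimits of algebras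
-/

universe u

open CategoryTheory CategoryTheory.Limits Opposite TensorProduct

noncomputable section

namespace Groth.MiscGeom.Adq

open Adeq

variable {A : Type u} [CommRing A] {J : Type u} [SmallCategory J] [IsFiltered J] {D : J ⥤ Alg A}

/-- the underlying diagram of rings -/
abbrev ringDiag (D : J ⥤ Alg A) : J ⥤ CommRingCat.{u} := D ⋙ forget₂ (Alg A) CommRingCat.{u}

theorem isColimit_ring (c : Cocone D) (hc : IsColimit c) :
    Nonempty (IsColimit ((forget₂ (Alg A) CommRingCat.{u}).mapCocone c)) := by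
  let K := colimit.cocone (ringDiag D)
  let α : ∀ j, A →+* K.pt := fun j => (colimit.ι (ringDiag D) j).hom.comp (algebraMap A (D.obj j))
  have hα : ∀ i j (g : i ⟶ j), α i = α j := fun i j g => by
    refine RingHom.ext fun a => ?_
    show colimit.ι (ringDiag D) i (algebraMap A (D.obj i) a) = colimit.ι (ringDiag D) j (algebraMap A (D.obj j) a)
    rw [← colimit.w (ringDiag D) g, comp_apply]
    exact congrArg _ ((D.map g).hom.commutes a)
  obtain ⟨j₀⟩ := (IsFiltered.nonempty (C := J))
  have hα₀ : ∀ j, α j = α j₀ := fun j =>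
    (hα j _ (IsFiltered.leftToMax j j₀)).trans (hα j₀ _ (IsFiltered.rightToMax j j₀)).symm
  letI : Algebra A K.pt := (α j₀).toAlgebra
  let Kc : Cocone D :=
    { pt := algOf A K.pt
      ι :=
        { app := fun j => CommAlgCat.ofHom
            ({ (colimit.ι (ringDiag D) j).hom with
                commutes' := fun a => RingHom.congr_fun (hα₀ j) a } : (D.obj j) →ₐ[A] K.pt)
          naturality := fun i j g => by
            refine CommAlgCat.hom_ext (DFunLike.ext _ _ fun x => ?_)
            exact CategoryTheory.congr_fun (colimit.w (ringDiag D) g) x } }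
  let d := hc.desc Kc
  let h := colimit.desc (ringDiag D) ((forget₂ (Alg A) CommRingCat.{u}).mapCocone c)
  have e1 : (forget₂ (Alg A) CommRingCat.{u}).map d ≫ h = 𝟙 _ := by
    have hcomm : ∀ a : A, h ((forget₂ (Alg A) CommRingCat.{u}).map d (algebraMap A c.pt a)) = algebraMap A c.pt a := by
      intro a
      rw [show (forget₂ (Alg A) CommRingCat.{u}).map d (algebraMap A c.pt a) = algebraMap A K.pt a from d.hom.commutes a]
      show h (colimit.ι (ringDiag D) j₀ (algebraMap A (D.obj j₀) a)) = _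
      rw [← comp_apply, colimit.ι_desc]
      exact (c.ι.app j₀).hom.commutes a
    let e : c.pt ⟶ c.pt := CommAlgCat.ofHom
      ({ h.hom.comp ((forget₂ (Alg A) CommRingCat.{u}).map d).hom with commutes' := hcomm } : c.pt →ₐ[A] c.pt)
    have : e = 𝟙 _ := by
      refine hc.hom_ext fun j => ?_
      refine CommAlgCat.hom_ext (DFunLike.ext _ _ fun x => ?_)
      show h ((forget₂ (Alg A) CommRingCat.{u}).map d ((c.ι.app j).hom x)) = (c.ι.app j).hom x
      rw [show (forget₂ (Alg A) CommRingCat.{u}).map d ((c.ι.app j).hom x) = (c.ι.app j ≫ d).hom x from rfl,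
        hc.fac Kc j]
      show h (colimit.ι (ringDiag D) j x) = _
      rw [← comp_apply, colimit.ι_desc]
      rfl
    refine CommRingCat.hom_ext (RingHom.ext fun x => ?_)
    exact DFunLike.congr_fun (congrArg CommAlgCat.Hom.hom this) x
  have e2 : h ≫ (forget₂ (Alg A) CommRingCat.{u}).map d = 𝟙 _ := by
    refine colimit.hom_ext fun j => ?_
    rw [colimit.ι_desc_assoc, Category.comp_id, Functor.mapCocone_ι_app, ← Functor.map_comp, hc.fac Kc j]
    rfl
  exact ⟨(colimit.isColimit (ringDiag D)).ofIsoColimit (Cocone.ext ⟨h, _, e2, e1⟩ fun j => colimit.ι_desc _ j)⟩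

variable (c : Cocone D) (hc : IsColimit c)

include hc in
theorem exists_rep (x : c.pt) : ∃ j y, (c.ι.app j).hom y = x := by
  obtain ⟨h⟩ := isColimit_ring c hc
  exact Concrete.isColimit_exists_rep (ringDiag D) h x

include hc in
theorem eq_zero_rep {i : J} (x : D.obj i) (hx : (c.ι.app i).hom x = 0) :
    ∃ (k : J) (g : i ⟶ k), (D.map g).hom x = 0 := by
  obtain ⟨h⟩ := isColimit_ring c hc
  obtain ⟨k, g, g', hg⟩ := Concrete.isColimit_exists_of_rep_eq (ringDiag D) h (i := i) (j := i) x 0
    (hx.trans (map_zero (c.ι.app i).hom).symm)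
  exact ⟨k, g, hg.trans (map_zero (D.map g').hom)⟩

/-- transition map of `B ⊗ M` -/
abbrev tmap (M : Type (u + 1)) [AddCommGroup M] [Module A M] {B B' : Alg A} (g : B ⟶ B') :
    (B : Type u) ⊗[A] M →ₗ[A] (B' : Type u) ⊗[A] M := g.hom.toLinearMap.rTensor M

theorem tmap_comp (M : Type (u + 1)) [AddCommGroup M] [Module A M] {B B' B'' : Alg A} (g : B ⟶ B') (h : B' ⟶ B'')
    (x : (B : Type u) ⊗[A] M) : tmap M h (tmap M g x) = tmap M (g ≫ h) x := by
  simp only [tmap, ← LinearMap.rTensor_comp_apply]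
  rfl

theorem tmap_lTensor {M N : Type (u + 1)} [AddCommGroup M] [Module A M] [AddCommGroup N] [Module A N] (f : M →ₗ[A] N)
    {B B' : Alg A} (g : B ⟶ B') (x : (B : Type u) ⊗[A] M) :
    tmap N g (f.lTensor (B : Type u) x) = f.lTensor (B' : Type u) (tmap M g x) := by
  simp only [tmap, ← LinearMap.comp_apply, LinearMap.rTensor_comp_lTensor, LinearMap.lTensor_comp_rTensor]

include hc in
theorem tensor_exists_rep (M : Type (u + 1)) [AddCommGroup M] [Module A M] (x : (c.pt : Type u) ⊗[A] M) :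
    ∃ j y, tmap M (c.ι.app j) y = x := by
  induction x using TensorProduct.induction_on with
  | zero => exact ⟨(IsFiltered.nonempty (C := J)).some, 0, map_zero _⟩
  | tmul b m =>
    obtain ⟨j, y, rfl⟩ := exists_rep c hc b
    exact ⟨j, y ⊗ₜ m, rfl⟩
  | add a b ha hb =>
    obtain ⟨i, y, rfl⟩ := ha
    obtain ⟨j, z, rfl⟩ := hb
    refine ⟨IsFiltered.max i j,
      tmap M (D.map (IsFiltered.leftToMax i j)) y + tmap M (D.map (IsFiltered.rightToMax i j)) z, ?_⟩
    rw [map_add, tmap_comp, tmap_comp, c.w, c.w]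

include hc in
theorem finsupp_eq_zero_rep (M : Type (u + 1)) {i : J} (x : M →₀ (D.obj i : Type u))
    (hx : ∀ m, (c.ι.app i).hom (x m) = 0) : ∃ (k : J) (g : i ⟶ k), ∀ m, (D.map g).hom (x m) = 0 := by
  classical
  suffices h : ∀ s : Finset M, ∃ (k : J) (g : i ⟶ k), ∀ m ∈ s, (D.map g).hom (x m) = 0 by
    obtain ⟨k, g, hg⟩ := h x.support
    refine ⟨k, g, fun m => ?_⟩
    by_cases hm : m ∈ x.support
    · exact hg m hm
    · rw [Finsupp.notMem_support_iff.1 hm, map_zero]
  intro s
  induction s using Finset.induction_on with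
  | empty => exact ⟨i, 𝟙 i, by simp⟩
  | insert a s ha ih =>
    obtain ⟨k, g, hg⟩ := ih
    obtain ⟨l, g', hg'⟩ := eq_zero_rep c hc ((D.map g).hom (x a)) (by
      rw [show (c.ι.app k).hom ((D.map g).hom (x a)) = (D.map g ≫ c.ι.app k).hom (x a) from rfl, c.w]
      exact hx a)
    refine ⟨l, g ≫ g', fun m hm => ?_⟩
    rw [Functor.map_comp]
    show (D.map g').hom ((D.map g).hom (x m)) = 0
    rcases Finset.mem_insert.1 hm with rfl | hm
    · exact hg'
    · rw [hg m hm, map_zero]

include hc in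
theorem free_eq_zero_rep (M : Type (u + 1)) {k : J} (x : (D.obj k : Type u) ⊗[A] (M →₀ A))
    (hx : tmap (M →₀ A) (c.ι.app k) x = 0) : ∃ (l : J) (g : k ⟶ l), tmap (M →₀ A) (D.map g) x = 0 := by
  classical
  have hcoef : ∀ {B B' : Alg A} (g : B ⟶ B') (t : (B : Type u) ⊗[A] (M →₀ A)) (m : M),
      TensorProduct.finsuppScalarRight A A (B' : Type u) M (tmap (M →₀ A) g t) m =
        g.hom (TensorProduct.finsuppScalarRight A A (B : Type u) M t m) := by
    intro B B' g t m
    induction t using TensorProduct.induction_on with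
    | zero => simp
    | tmul b p =>
      simp only [tmap, LinearMap.rTensor_tmul, TensorProduct.finsuppScalarRight_apply_tmul_apply]
      exact (map_smul g.hom (p m) b).symm
    | add p q hp hq => simp only [map_add, Finsupp.add_apply, hp, hq]
  obtain ⟨l, g, hg⟩ := finsupp_eq_zero_rep c hc M (TensorProduct.finsuppScalarRight A A (D.obj k : Type u) M x)
    (fun m => (hcoef (c.ι.app k) x m).symm.trans
      (by rw [hx]; exact Finsupp.ext_iff.1 (map_zero (TensorProduct.finsuppScalarRight A A (c.pt : Type u) M)) m))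
  refine ⟨l, g, (TensorProduct.finsuppScalarRight A A (D.obj l : Type u) M).injective (Finsupp.ext fun m => ?_)⟩
  rw [hcoef, hg, map_zero]
  rfl

include hc in
theorem eq_zero_rep_of_presentation {K F M : Type (u + 1)} [AddCommGroup K] [Module A K] [AddCommGroup F] [Module A F]
    [AddCommGroup M] [Module A M] (ι : K →ₗ[A] F) (q : F →ₗ[A] M) (hex : Function.Exact ι q)
    (hq : Function.Surjective q)
    (hF : ∀ {k : J} (x : (D.obj k : Type u) ⊗[A] F), tmap F (c.ι.app k) x = 0 →
      ∃ (l : J) (g : k ⟶ l), tmap F (D.map g) x = 0)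
    {i : J} (x : (D.obj i : Type u) ⊗[A] M) (hx : tmap M (c.ι.app i) x = 0) :
    ∃ (k : J) (g : i ⟶ k), tmap M (D.map g) x = 0 := by
  obtain ⟨x', rfl⟩ := LinearMap.lTensor_surjective (D.obj i : Type u) hq x
  rw [tmap_lTensor] at hx
  obtain ⟨z, hz⟩ := (lTensor_exact (c.pt : Type u) hex hq _).1 hx
  obtain ⟨j, z', rfl⟩ := tensor_exists_rep c hc K z
  let k := IsFiltered.max i j
  let gi := IsFiltered.leftToMax i j
  let gj := IsFiltered.rightToMax i j
  obtain ⟨l, g, hg⟩ := hF (tmap F (D.map gi) x' - ι.lTensor (D.obj k : Type u) (tmap K (D.map gj) z')) (by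
    rw [map_sub, tmap_lTensor, tmap_comp, tmap_comp, c.w, c.w]; exact sub_eq_zero.2 hz.symm)
  refine ⟨l, gi ≫ g, ?_⟩
  have h3 : q.lTensor (D.obj k : Type u) (ι.lTensor (D.obj k : Type u) (tmap K (D.map gj) z')) = 0 :=
    (lTensor_exact (D.obj k : Type u) hex hq).apply_apply_eq_zero _
  have h5 : tmap M (D.map g) (q.lTensor (D.obj k : Type u)
      (tmap F (D.map gi) x' - ι.lTensor (D.obj k : Type u) (tmap K (D.map gj) z'))) = 0 := by
    rw [tmap_lTensor, hg, map_zero]
  rw [map_sub, h3, sub_zero, ← tmap_lTensor, tmap_comp, ← Functor.map_comp] at h5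
  exact h5

include hc in
theorem tensor_eq_zero_rep (M : Type (u + 1)) [AddCommGroup M] [Module A M] {i : J}
    (x : (D.obj i : Type u) ⊗[A] M) (hx : tmap M (c.ι.app i) x = 0) :
    ∃ (k : J) (g : i ⟶ k), tmap M (D.map g) x = 0 :=
  eq_zero_rep_of_presentation (K := (LinearMap.ker (Finsupp.linearCombination A (id : M → M)) : Submodule A (M →₀ A)))
    c hc (Submodule.subtype _)
    (Finsupp.linearCombination A (id : M → M)) (LinearMap.exact_subtype_ker_map (Finsupp.linearCombination A (id : M → M)))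
    (Finsupp.linearCombination_id_surjective A M) (fun x => free_eq_zero_rep c hc M x) x hx

include hc in
theorem isColimit_toAb {F : MVF A} (hF : adequate A F) : Nonempty (IsColimit (F.toAb.mapCocone c)) := by
  obtain ⟨P⟩ := nonempty_pres hF
  have hinj : ∀ (i : J) (x : F.obj (pt (D.obj i))), tr F (c.ι.app i) x = 0 →
      ∃ (k : J) (g : i ⟶ k), tr F (D.map g) x = 0 := by
    intro i x hx
    obtain ⟨k, g, hg⟩ := tensor_eq_zero_rep c hc P.M (T P.M (D.obj i) (ap P.ι (D.obj i) x)) (by
      rw [← T_tr, ← ap_tr, hx, map_zero, map_zero])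
    refine ⟨k, g, P.inj _ ((T P.M _).injective ?_)⟩
    rw [ap_tr, T_tr, map_zero, map_zero]
    exact hg
  have hsurj : ∀ x : F.obj (pt c.pt), ∃ (i : J) (y : F.obj (pt (D.obj i))), tr F (c.ι.app i) y = x := by
    intro x
    obtain ⟨i, m, hm⟩ := tensor_exists_rep c hc P.M (T P.M c.pt (ap P.ι c.pt x))
    let w := ap ((underline A).map P.φ) (D.obj i) ((T P.M (D.obj i)).symm m)
    have hw : tmap P.N (c.ι.app i) (T P.N (D.obj i) w) = 0 := by
      rw [← T_tr, ← ap_tr]
      have : tr (U P.M) (c.ι.app i) ((T P.M (D.obj i)).symm m) = ap P.ι c.pt x := by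
        refine (T P.M _).injective ?_
        rw [T_tr, LinearEquiv.apply_symm_apply]
        exact hm
      rw [this]
      exact (congrArg (T P.N c.pt) ((P.exact c.pt).apply_apply_eq_zero x)).trans (map_zero (T P.N c.pt))
    obtain ⟨k, g, hg⟩ := tensor_eq_zero_rep c hc P.N (T P.N (D.obj i) w) hw
    obtain ⟨y, hy⟩ := (P.exact (D.obj k) (tr (U P.M) (D.map g) ((T P.M (D.obj i)).symm m))).1 (by
      refine (T P.N _).injective ?_
      rw [ap_tr, T_tr, map_zero]
      exact hg)
    refine ⟨k, y, P.inj _ ((T P.M _).injective ?_)⟩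
    rw [ap_tr, hy, tr_comp, c.w, T_tr, LinearEquiv.apply_symm_apply]
    exact hm
  have wd : ∀ (s : Cocone (D ⋙ F.toAb)) {i j : J} (y : F.obj (pt (D.obj i))) (z : F.obj (pt (D.obj j))),
      tr F (c.ι.app i) y = tr F (c.ι.app j) z → s.ι.app i y = s.ι.app j z := by
    intro s i j y z h
    let gi := IsFiltered.leftToMax i j
    let gj := IsFiltered.rightToMax i j
    obtain ⟨k, g, hg⟩ := hinj _ (tr F (D.map gi) y - tr F (D.map gj) z) (by
      rw [map_sub, tr_comp, tr_comp, c.w, c.w]; exact sub_eq_zero.2 h)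
    rw [map_sub, sub_eq_zero, tr_comp, tr_comp, ← Functor.map_comp, ← Functor.map_comp] at hg
    refine (CategoryTheory.congr_fun (s.w (gi ≫ g)) y).symm.trans (Eq.trans ?_ (CategoryTheory.congr_fun (s.w (gj ≫ g)) z))
    exact congrArg (s.ι.app k) hg
  choose ι₀ y₀ hy₀ using hsurj
  refine ⟨{ desc := fun s => AddCommGrpCat.ofHom (AddMonoidHom.mk' (fun x => s.ι.app (ι₀ x) (y₀ x)) ?_)
            fac := fun s i => ?_, uniq := fun s m hm => ?_ }⟩
  · intro x x'
    let gi := IsFiltered.leftToMax (ι₀ x) (ι₀ x')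
    let gj := IsFiltered.rightToMax (ι₀ x) (ι₀ x')
    refine (wd s (y₀ (x + x')) (tr F (D.map gi) (y₀ x) + tr F (D.map gj) (y₀ x')) ?_).trans ?_
    · rw [map_add, tr_comp, tr_comp, c.w, c.w, hy₀]
      exact (congrArg₂ (fun a b => a + b) (hy₀ x).symm (hy₀ x').symm)
    · refine (map_add (s.ι.app _).hom _ _).trans ?_
      exact congrArg₂ (fun a b => a + b) (CategoryTheory.congr_fun (s.w gi) (y₀ x))
        (CategoryTheory.congr_fun (s.w gj) (y₀ x'))
  · refine AddCommGrpCat.hom_ext (DFunLike.ext _ _ fun y => ?_)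
    exact wd s _ _ (hy₀ (tr F (c.ι.app i) y))
  · refine AddCommGrpCat.hom_ext (DFunLike.ext _ _ fun x => ?_)
    refine Eq.trans ?_ (CategoryTheory.congr_fun (hm (ι₀ x)) (y₀ x))
    exact congrArg m (hy₀ x).symm

end Groth.MiscGeom.Adq

end
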