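import Groth.Agent.MiscGeom.OverTotal
import Groth.Agent.MiscGeom.AdeqGlobal
import Groth.Agent.MiscGeom.AdeqAmitsur
import Groth.Agent.MiscGeom.CechCohom
import Mathlib.AlgebraicGeometry.Sites.Fpqc

/-!
# Adequate modules are fpqc sheaves
-/

universe u v

open CategoryTheory CategoryTheory.Limits AlgebraicGeometry Opposite

noncomputable section

namespace Groth.MiscGeom.Adq

open Adeq Cech OverTotal

variable {P : MorphismProperty Scheme.{u}} (hP : GoodProp P) {S : Scheme.{u}} [BigSite.OSh (Scheme.precoverage P)]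
  (M : BigSite.Mod (Scheme.precoverage P) S) (hM : adequateMod (Scheme.precoverage P) S M)
include hP

omit hM in
theorem isSheaf_zariski_over :
    Presieve.IsSheaf (Scheme.zariskiTopology.over S) (M.val.presheaf ⋙ CategoryTheory.forget AddCommGrpCat.{u + 1}) := by
  have hle : Scheme.zariskiTopology.{u} ≤ (Scheme.precoverage P).toGrothendieck :=
    Precoverage.toGrothendieck_mono (Scheme.precoverage_mono fun X Y f hf => hP.openImm f hf)
  have hle' : Scheme.zariskiTopology.{u}.over S ≤ QuotSh.J (Scheme.precoverage P) S := fun U R hR => hle _ hR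
  refine Presieve.isSheaf_of_le _ hle' ?_
  exact (isSheaf_iff_isSheaf_of_type _ _).1
    ((Presheaf.isSheaf_iff_isSheaf_forget _ _ (CategoryTheory.forget AddCommGrpCat.{u + 1})).1 M.isSheaf)

include hM

theorem isSheafFor_affine_ff {R R' : CommRingCat.{u}} (f : R ⟶ R') (hf : Flat (Spec.map f))
    (hs : Surjective (Spec.map f)) :
    Presieve.IsSheafFor (total (M.val.presheaf ⋙ CategoryTheory.forget AddCommGrpCat.{u + 1}))
      (.singleton (Spec.map f)) := by
  rw [Presieve.isSheafFor_singleton]
  intro x hx
  let y : Presieve.FamilyOfElements (yoneda.obj S) (Presieve.singleton (Spec.map f)) :=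
    (Presieve.FamilyOfElements.singletonEquiv (yoneda.obj S) (Spec.map f)).symm x.1
  have hy : y.Compatible := by
    rw [Presieve.FamilyOfElements.compatible_singleton_iff]
    intro Z p₁ p₂ e
    simp only [y, Presieve.FamilyOfElements.singletonEquiv_symm_apply_self]
    exact congrArg Sigma.fst (hx p₁ p₂ e)
  obtain ⟨a, ha, -⟩ := GrothendieckTopology.Subcanonical.isSheaf_of_isRepresentable (J := Scheme.fpqcTopology.{u})
    (yoneda.obj S) |>.isSheafFor _ (Precoverage.generate_mem_toGrothendieck
      (Spec.map f).singleton_mem_fpqcPrecoverage) y hy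
  have ha' : Spec.map f ≫ a = x.1 := by
    have := ha (Spec.map f) Presieve.singleton.mk
    exact this.trans (Presieve.FamilyOfElements.singletonEquiv_symm_apply_self (P := yoneda.obj S) _ _)
  letI : Algebra R R' := f.hom.toAlgebra
  let B : Alg R := CommAlgCat.of R R'
  let fB : base (R : Type u) ⟶ B := CommAlgCat.ofHom (Algebra.ofId R R')
  have hff : fB.hom.toRingHom.FaithfullyFlat := by
    rw [RingHom.FaithfullyFlat.iff_flat_and_comap_surjective]
    exact ⟨(HasRingHomProperty.Spec_iff (P := @Flat) (φ := f)).1 hf, fun z => hs.surj z⟩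
  let F := (toMVF (Scheme.precoverage P) a).obj M
  have hF : adequate R F := adequate_toMVF hP a M hM
  have hB : (specOver a).obj (op B) = Over.mk (Spec.map f ≫ a) := rfl
  let x₂ : M.val.presheaf.obj (op ((specOver a).obj (op B))) := M.val.presheaf.map (reb ha').op x.2
  obtain ⟨t, ht⟩ := glue_single hF fB hff x₂ fun C p q e => by
    have hpq : specHom p ≫ Spec.map f = specHom q ≫ Spec.map f := by
      have h1 := congrArg specHom e
      rw [specHom_comp, specHom_comp] at h1
      exact h1
    have h2 := snd_of_eq _ (hx (specHom p) (specHom q) hpq)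
    have hq : ((specOver a).obj (op C)).hom = specHom q ≫ x.1 := by
      rw [← ha']
      exact (Over.w ((specOver a).map q.op)).symm
    let c : (specOver a).obj (op C) ⟶ Over.mk (specHom q ≫ x.1) := Over.homMk (𝟙 _) ((Category.id_comp _).trans hq.symm)
    have h3 := congrArg ((M.val.presheaf ⋙ CategoryTheory.forget AddCommGrpCat.{u + 1}).map c.op) h2
    refine Eq.trans ?_ (h3.trans ?_)
    · refine Eq.trans (map_map (M.val.presheaf ⋙ CategoryTheory.forget AddCommGrpCat.{u + 1}) _ _ _) (Eq.symm
        ((congrArg _ (map_map _ _ _ _)).trans ((map_map _ _ _ _).trans (map_eq _ ?_ _))))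
      exact (Category.id_comp _).trans (Category.comp_id _).symm
    · refine (map_map _ _ _ _).trans (Eq.trans ?_ (map_map _ _ _ _).symm)
      refine map_eq _ ?_ _
      exact (Category.id_comp _).trans (Category.comp_id _).symm
  let cb : Over.mk a ≅ (specOver a).obj (op (base (R : Type u))) := baseCmp' a
  refine ⟨⟨a, M.val.presheaf.map cb.hom.op t⟩, ?_, fun p hp => ?_⟩
  · refine total_ext _ ha'.symm ?_
    have h4 := congrArg ((M.val.presheaf ⋙ CategoryTheory.forget AddCommGrpCat.{u + 1}).map
      (Over.homMk (𝟙 _) ((Category.id_comp _).trans ha') : Over.mk x.1 ⟶ (specOver a).obj (op B)).op) ht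
    refine Eq.trans ?_ (h4.trans ?_)
    · refine (congrArg _ (map_map (M.val.presheaf ⋙ CategoryTheory.forget AddCommGrpCat.{u + 1}) cb.hom _ t)).trans ?_
      refine (map_map _ _ _ _).trans (Eq.symm ((map_map _ _ _ _).trans (map_eq _ ?_ _)))
      simp [cb, baseCmp', fB, specOver_map_left]
      rfl
    · refine (map_map (M.val.presheaf ⋙ CategoryTheory.forget AddCommGrpCat.{u + 1}) _ _ x.2).trans ?_
      exact (map_eq _ (g := 𝟙 _) (Category.id_comp _) _).trans (FunctorToTypes.map_id_apply _ _)
  · have hfst : p.1 = a := by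
      haveI : EffectiveEpi (Spec.map f) := inferInstance
      exact (cancel_epi (Spec.map f)).1 ((congrArg Sigma.fst hp).trans ha'.symm)
    refine total_ext _ hfst.symm ?_
    let t' : M.val.presheaf.obj (op ((specOver a).obj (op (base (R : Type u))))) :=
      M.val.presheaf.map cb.inv.op ((M.val.presheaf ⋙ CategoryTheory.forget AddCommGrpCat.{u + 1}).map (reb hfst.symm).op p.2)
    have hkey : t' = t := by
      refine sub_eq_zero.1 (sep_single hF fB hff ((show F.obj (pt (base (R : Type u))) from t') - t) ?_)
      refine (map_sub (tr F fB) t' t).trans (sub_eq_zero.2 (Eq.trans ?_ ht.symm))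
      have h5 := congrArg ((M.val.presheaf ⋙ CategoryTheory.forget AddCommGrpCat.{u + 1}).map (reb ha').op) (snd_of_eq _ hp)
      refine Eq.trans ?_ h5
      refine (map_map (M.val.presheaf ⋙ CategoryTheory.forget AddCommGrpCat.{u + 1}) cb.inv _ _).trans ?_
      refine (map_map _ _ _ _).trans (Eq.symm ((congrArg _ (map_map _ _ _ _)).trans ((map_map _ _ _ _).trans (map_eq _ ?_ _))))
      simp [cb, baseCmp', fB, specOver_map_left]
      rfl
    rw [← hkey]
    exact ((map_map (M.val.presheaf ⋙ CategoryTheory.forget AddCommGrpCat.{u + 1}) cb.inv cb.hom _).trans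
      ((map_eq _ (g := 𝟙 _) (congrArg CommaMorphism.left cb.hom_inv_id) _).trans (FunctorToTypes.map_id_apply _ _))).symm

theorem isSheaf_fpqc :
    Presheaf.IsSheaf (QuotSh.J Scheme.fpqcPrecoverage S)
      ((BigSite.toAbMod (Scheme.precoverage P) S).obj M).obj := by
  rw [Presheaf.isSheaf_iff_isSheaf_forget _ _ (CategoryTheory.forget AddCommGrpCat.{u + 1}), isSheaf_iff_isSheaf_of_type]
  refine isSheaf_over_of_total (J := Scheme.fpqcTopology.{u}) _ ?_
  rw [Scheme.fpqcTopology_eq_propQCTopology, isSheaf_type_propQCTopology_iff]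
  exact ⟨isSheaf_total (J := Scheme.zariskiTopology.{u}) _ (isSheaf_zariski_over hP M),
    fun f hf hs => isSheafFor_affine_ff hP M hM f hf hs⟩

end Groth.MiscGeom.Adq

end
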