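import Groth.Agent.MiscGeom.AdeqHigherMV
import Mathlib.CategoryTheory.Abelian.RightDerived
import Mathlib.Algebra.Homology.ShortComplex.PreservesHomology
import Mathlib.AlgebraicGeometry.Morphisms.QuasiSeparated

/-!
# Higher direct images of adequate modules
-/

universe u v

open CategoryTheory CategoryTheory.Limits AlgebraicGeometry Opposite

noncomputable section

namespace Groth.MiscGeom.Adq

open Adeq Cech

variable {P : MorphismProperty Scheme.{u}} {T : Scheme.{u}} [BigSite.OSh (Scheme.precoverage P)]
  {R : CommRingCat.{u}}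

section Push

variable {S : Scheme.{u}} (f : T ⟶ S) (a : Spec R ⟶ S)

/-- `(Y ×_R Spec B)` for `Y = Spec R ×_S T` against `Spec B ×_S T` -/
def pasteIso (B : Alg R) : (bFun (pullback.fst a f) (pullback.snd a f)).obj (op B) ≅
    (Over.pullback f).obj ((specOver a).obj (op B)) :=
  Over.isoMk (exists_paste (bB B) a f).choose (exists_paste (bB B) a f).choose_spec.2

theorem pasteIso_fst (B : Alg R) :
    (pasteIso f a B).hom.left ≫ pullback.fst ((specOver a).obj (op B)).hom f = pullback.snd (pullback.fst a f) (bB B) :=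
  (exists_paste (bB B) a f).choose_spec.1

theorem pasteIso_snd (B : Alg R) :
    (pasteIso f a B).hom.left ≫ pullback.snd ((specOver a).obj (op B)).hom f =
      pullback.fst (pullback.fst a f) (bB B) ≫ pullback.snd a f :=
  (exists_paste (bB B) a f).choose_spec.2

theorem pasteIso_nat {B B' : Alg R} (g : B ⟶ B') :
    (pasteIso f a B').hom ≫ (Over.pullback f).map ((specOver a).map g.op) =
      (bFun (pullback.fst a f) (pullback.snd a f)).map g.op ≫ (pasteIso f a B).hom := by
  refine Over.OverMorphism.ext (pullback.hom_ext ?_ ?_)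
  · show ((pasteIso f a B').hom.left ≫ pullback.lift _ _ _) ≫ pullback.fst _ _ =
      (bLift (pullback.fst a f) g ≫ (pasteIso f a B).hom.left) ≫ pullback.fst _ _
    rw [Category.assoc, pullback.lift_fst, Category.assoc]
    exact (((Category.assoc _ _ _).symm.trans (congrArg (· ≫ _) (pasteIso_fst f a B'))).trans
      (bLift_snd (pullback.fst a f) g).symm).trans (congrArg (bLift _ g ≫ ·) (pasteIso_fst f a B).symm)
  · show ((pasteIso f a B').hom.left ≫ pullback.lift _ _ _) ≫ pullback.snd _ _ =
      (bLift (pullback.fst a f) g ≫ (pasteIso f a B).hom.left) ≫ pullback.snd _ _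
    rw [Category.assoc, pullback.lift_snd, Category.assoc]
    exact (pasteIso_snd f a B').trans
      ((bLift_fst_assoc (pullback.fst a f) g _).symm.trans (congrArg (bLift _ g ≫ ·) (pasteIso_snd f a B).symm))

/-- sections of a pushforward -/
def pushApp (N : BigSite.Mod (Scheme.precoverage P) T) :
    (toMVF (Scheme.precoverage P) a).obj ((BigSite.pushMod (Scheme.precoverage P) f).obj N) ⟶
      (secMod (Scheme.precoverage P) (pullback.fst a f) (pullback.snd a f)).obj N :=
  mkHom
    (fun B =>
      { toFun := fun x => N.val.presheaf.map (pasteIso f a B).hom.op x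
        map_add' := fun x y => map_add (N.val.presheaf.map (pasteIso f a B).hom.op).hom x y
        map_smul' := fun b x => by
          refine (N.val.map_smul (pasteIso f a B).hom.op _ x).trans ?_
          refine congrArg (· • _) (ULift.ext _ _ ?_)
          show ((Scheme.ΓSpecIso (CommRingCat.of B)).inv ≫
              (pullback.fst (bB B ≫ a) f).appTop ≫ (pasteIso f a B).hom.left.appTop) b =
            ((Scheme.ΓSpecIso (CommRingCat.of B)).inv ≫ (pullback.snd (pullback.fst a f) (bB B)).appTop) b
          exact congrArg (fun z => ((Scheme.ΓSpecIso (CommRingCat.of B)).inv ≫ z) b)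
            ((Scheme.Hom.comp_appTop _ _).symm.trans (congrArg Scheme.Hom.appTop (pasteIso_fst f a B))) })
    fun {B B'} g x => by
      show N.val.presheaf.map (pasteIso f a B').hom.op
          (N.val.presheaf.map ((Over.pullback f).map ((specOver a).map g.op)).op x) =
        N.val.presheaf.map ((bFun (pullback.fst a f) (pullback.snd a f)).map g.op).op
          (N.val.presheaf.map (pasteIso f a B).hom.op x)
      rw [← ConcreteCategory.comp_apply, ← ConcreteCategory.comp_apply, ← Functor.map_comp, ← Functor.map_comp,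
        ← op_comp, ← op_comp, pasteIso_nat]

theorem pushApp_isIso (N : BigSite.Mod (Scheme.precoverage P) T) : IsIso (pushApp f a N) :=
  isIso_of_bij _ fun B => ConcreteCategory.bijective_of_isIso (N.val.presheaf.map (pasteIso f a B).hom.op)

/-- sections of a pushforward, naturally in the module -/
def pushFunIso : BigSite.pushMod (Scheme.precoverage P) f ⋙ toMVF (Scheme.precoverage P) a ≅
    secMod (Scheme.precoverage P) (pullback.fst a f) (pullback.snd a f) :=
  NatIso.ofComponents (fun N => haveI := pushApp_isIso f a N; asIso (pushApp f a N)) fun {N N'} φ =>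
    hom_ext' fun B x => by
      rw [ap_comp, ap_comp]
      exact (PresheafOfModules.naturality_apply φ.val (pasteIso f a B).hom.op x).symm

end Push

variable [HasSheafify (QuotSh.J (Scheme.precoverage P) T) AddCommGrpCat.{u + 1}]
  [(QuotSh.J (Scheme.precoverage P) T).WEqualsLocallyBijective AddCommGrpCat.{u + 1}]
  (hP : GoodProp P) (hPp : StableProd P) {M : BigSite.Mod (Scheme.precoverage P) T}
  (hM : adequateMod (Scheme.precoverage P) T M) (I : InjectiveResolution M)
include hP hPp hM

omit hPp in
theorem modAcyclic_adequate : ModAcyclic P M := cechAcyclic_adequate hP M hM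

variable {Y : Scheme.{u}} (q : Y ⟶ Spec R) (t : Y ⟶ T)

theorem goodOpen_affine {U : Y.Opens} (hU : IsAffineOpen U) : GoodOpen q t I.cocomplex U := by
  haveI : IsAffine U := hU
  intro n
  cases n with
  | zero =>
    obtain ⟨e⟩ := exists_homology₀_iso I (U.ι ≫ q) (U.ι ≫ t)
    exact (adequate R).prop_of_iso e (adequate_sectY_of_isAffine hP M hM (U.ι ≫ q) (U.ι ≫ t))
  | succ m =>
    have hA := adequate_sectY_of_isAffine hP M hM (U.ι ≫ q) (U.ι ≫ t)
    exact (adequate R).prop_of_iso ((isZero_kernel_of_mono (𝟙 _)).iso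
      (exact_secCx_affine I hP hPp (U.ι ≫ q) (U.ι ≫ t) (modAcyclic_adequate hP hM) m).isZero_homology)
      (adequate_kernel (𝟙 _) hA hA)

theorem goodOpen_basic_sup {W : Y.Opens} (hW : IsAffineOpen W) (s : Finset Γ(Y, W)) :
    ∀ r : Γ(Y, W), GoodOpen q t I.cocomplex ((s.sup fun x => Y.basicOpen x) ⊓ Y.basicOpen r) := by
  classical
  induction s using Finset.induction with
  | empty =>
    intro r
    rw [Finset.sup_empty, bot_inf_eq]
    exact goodOpen_affine hP hPp hM I q t (isAffineOpen_bot Y)
  | insert c s hc ih =>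
    intro r
    rw [Finset.sup_insert, inf_sup_right, sup_comm]
    refine goodOpen_sup q t I.cocomplex hP _ _ (ih r)
      (goodOpen_affine hP hPp hM I q t (by rw [← Scheme.basicOpen_mul]; exact hW.basicOpen _)) ?_
    have := ih (c * r)
    rw [Scheme.basicOpen_mul] at this
    rwa [inf_assoc, inf_left_comm (Y.basicOpen r), inf_idem]

theorem goodOpen_le_affine {W : Y.Opens} (hW : IsAffineOpen W) {S : Y.Opens} (hS : IsCompact (S : Set Y))
    (hSW : S ≤ W) : GoodOpen q t I.cocomplex S := by
  classical
  obtain ⟨s, hs⟩ := hS.elim_finite_subcover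
    (fun r : {r : Γ(Y, W) // Y.basicOpen r ≤ S} => (Y.basicOpen r.1 : Set Y)) (fun r => (Y.basicOpen r.1).2)
    (fun x hx => by
      obtain ⟨r, hr, hxr⟩ := hW.exists_basicOpen_le ⟨x, hx⟩ (hSW hx)
      exact Set.mem_iUnion.2 ⟨⟨r, hr⟩, hxr⟩)
  have e : S = ((s.image Subtype.val).sup fun x => Y.basicOpen x) ⊓ Y.basicOpen (1 : Γ(Y, W)) := by
    rw [Y.basicOpen_of_isUnit isUnit_one, Finset.sup_image]
    refine le_antisymm (le_inf (fun x hx => ?_) hSW) (inf_le_left.trans (Finset.sup_le fun r _ => r.2))
    obtain ⟨r, hr, hxr⟩ := Set.mem_iUnion₂.1 (hs hx)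
    exact (Finset.le_sup (f := fun r : {r : Γ(Y, W) // Y.basicOpen r ≤ S} => Y.basicOpen r.1) hr) hxr
  rw [e]
  exact goodOpen_basic_sup hP hPp hM I q t hW _ 1

theorem goodOpen_compact [QuasiSeparatedSpace Y] {S : Y.Opens} (hS : IsCompact (S : Set Y)) :
    GoodOpen q t I.cocomplex S := by
  refine compact_open_induction_on S hS (goodOpen_affine hP hPp hM I q t (isAffineOpen_bot Y)) fun S hS U hSgood => ?_
  exact goodOpen_sup q t I.cocomplex hP _ _ hSgood (goodOpen_affine hP hPp hM I q t U.2)
    (goodOpen_le_affine hP hPp hM I q t U.2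
      (QuasiSeparatedSpace.inter_isCompact _ _ S.2 hS U.1.2 U.2.isCompact) inf_le_right)

theorem adequate_homology_secCx [CompactSpace Y] [QuasiSeparatedSpace Y] (n : ℕ) :
    adequate R ((secCx q t I.cocomplex).homology n) := by
  have h := goodOpen_compact hP hPp hM I q t (S := (⊤ : Y.Opens)) isCompact_univ n
  let η := secRes (Scheme.precoverage P) q t ((⊤ : Y.Opens).ι ≫ q) ((⊤ : Y.Opens).ι ≫ t) (⊤ : Y.Opens).ι rfl rfl
  haveI : IsIso (⊤ : Y.Opens).ι := inferInstanceAs (IsIso Y.topIso.hom)
  haveI : ∀ N, IsIso (η.app N) := fun N => isIso_of_bij _ fun B => by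
    haveI := bHom_isIso q t ((⊤ : Y.Opens).ι ≫ q) ((⊤ : Y.Opens).ι ≫ t) (⊤ : Y.Opens).ι rfl rfl B
    exact ConcreteCategory.bijective_of_isIso
      (N.val.presheaf.map (bHom q t ((⊤ : Y.Opens).ι ≫ q) ((⊤ : Y.Opens).ι ≫ t) (⊤ : Y.Opens).ι rfl rfl B).op)
  haveI : IsIso η := NatIso.isIso_of_isIso_app η
  exact (adequate R).prop_of_iso ((HomologicalComplex.homologyFunctor _ _ n).mapIso
    ((NatIso.mapHomologicalComplex (asIso η) (ComplexShape.up ℕ)).app I.cocomplex)).symm h

theorem adequateMod_Rpush {S : Scheme.{u}} [HasSheafify (QuotSh.J (Scheme.precoverage P) S) AddCommGrpCat.{u + 1}]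
    [(QuotSh.J (Scheme.precoverage P) S).WEqualsLocallyBijective AddCommGrpCat.{u + 1}]
    [HasInjectiveResolutions (BigSite.Mod (Scheme.precoverage P) T)]
    (f : T ⟶ S) [QuasiCompact f] [QuasiSeparated f] (i : ℕ) :
    adequateMod (Scheme.precoverage P) S ((BigSite.RpushMod (Scheme.precoverage P) f i).obj M) := by
  obtain ⟨I⟩ := HasInjectiveResolution.out (Z := M)
  let G := SheafOfModules.forget (BigSite.ORing (Scheme.precoverage P) S)
  let α := 𝟙 (BigSite.ORing (Scheme.precoverage P) S).obj
  let L := PresheafOfModules.sheafification α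
  let adj := PresheafOfModules.sheafificationAdjunction α
  haveI : IsIso adj.counit := inferInstance
  let F := BigSite.pushMod (Scheme.precoverage P) f
  let X := (F.mapHomologicalComplex (ComplexShape.up ℕ)).obj I.cocomplex
  let X₀ := (G.mapHomologicalComplex (ComplexShape.up ℕ)).obj X
  let X₁ := (L.mapHomologicalComplex (ComplexShape.up ℕ)).obj X₀
  haveI : ∀ N, IsIso (adj.counit.app N) := fun N => NatIso.isIso_app_of_isIso adj.counit N
  let eX : X₁ ≅ X := HomologicalComplex.Hom.isoOfComponents (fun n => (asIso adj.counit).app (X.X n))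
    fun p q _ => (adj.counit.naturality (X.d p q)).symm
  haveI : PreservesFiniteLimits L := inferInstance
  haveI : PreservesColimitsOfSize.{0, 0} L := adj.leftAdjoint_preservesColimits
  haveI : PreservesFiniteColimits L := PreservesColimitsOfSize.preservesFiniteColimits L
  let eH : (BigSite.RpushMod (Scheme.precoverage P) f i).obj M ≅ L.obj (X₀.homology i) :=
    I.isoRightDerivedObj F i ≪≫ ((HomologicalComplex.homologyFunctor _ _ i).mapIso eX).symm ≪≫
      (X₀.sc i).mapHomologyIso L
  refine (adequateMod (Scheme.precoverage P) S).prop_of_iso eH.symm (adequateMod_sheafify hP _ fun R a => ?_)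
  let H := toMVFPre (Scheme.precoverage P) a
  haveI : PreservesFiniteLimits H := ⟨fun J _ _ => inferInstance⟩
  haveI : PreservesFiniteColimits H := ⟨fun J _ _ => inferInstance⟩
  haveI : CompactSpace (pullback a f : Scheme.{u}) := QuasiCompact.compactSpace_of_compactSpace (pullback.fst a f)
  haveI : QuasiSeparatedSpace (pullback a f : Scheme.{u}) := quasiSeparatedSpace_of_quasiSeparated (pullback.fst a f)
  let Z := secCx (pullback.fst a f) (pullback.snd a f) I.cocomplex
  let eZ : (H.mapHomologicalComplex (ComplexShape.up ℕ)).obj X₀ ≅ Z :=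
    HomologicalComplex.Hom.isoOfComponents (fun n => (pushFunIso f a).app (I.cocomplex.X n))
      fun p q _ => ((pushFunIso f a).hom.naturality (I.cocomplex.d p q)).symm
  exact (adequate R).prop_of_iso (((HomologicalComplex.homologyFunctor _ _ i).mapIso eZ).symm ≪≫
      (X₀.sc i).mapHomologyIso H)
    (adequate_homology_secCx hP hPp hM I (pullback.fst a f) (pullback.snd a f) i)

end Groth.MiscGeom.Adq

end
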