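import Groth.Agent.MiscGeom.AdeqSecFun
import Groth.Agent.MiscGeom.CechCohom
import Mathlib.CategoryTheory.Abelian.Injective.Resolution
import Mathlib.Algebra.Homology.Additive

/-!
# Homology of sections of an injective resolution over affine objects
-/

universe u v

open CategoryTheory CategoryTheory.Limits AlgebraicGeometry Opposite

noncomputable section

namespace Groth.MiscGeom.Adq

open Adeq Cech

variable {P : MorphismProperty Scheme.{u}} {T : Scheme.{u}} [BigSite.OSh (Scheme.precoverage P)]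
  [HasSheafify (QuotSh.J (Scheme.precoverage P) T) AddCommGrpCat.{u + 1}]
  [(QuotSh.J (Scheme.precoverage P) T).WEqualsLocallyBijective AddCommGrpCat.{u + 1}]

/-- a map of modules on sections -/
abbrev modApp {N N' : BigSite.Mod (Scheme.precoverage P) T} (φ : N ⟶ N') (U : Over T) :
    N.val.presheaf.obj (op U) ⟶ N'.val.presheaf.obj (op U) :=
  ((PresheafOfModules.toPresheaf _).map φ.val).app (op U)

omit [HasSheafify (QuotSh.J (Scheme.precoverage P) T) AddCommGrpCat.{u + 1}]
  [(QuotSh.J (Scheme.precoverage P) T).WEqualsLocallyBijective AddCommGrpCat.{u + 1}] in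
theorem modApp_comp {N N' N'' : BigSite.Mod (Scheme.precoverage P) T} (φ : N ⟶ N') (ψ : N' ⟶ N'') (χ : N ⟶ N'')
    (h : φ ≫ ψ = χ) (U : Over T) (x : N.val.presheaf.obj (op U)) :
    modApp ψ U (modApp φ U x) = modApp χ U x := by
  subst h
  rfl

/-- `0 → Z^n → I^n → Z^{n+1} → 0` -/
def cyclesSC (C : CochainComplex (BigSite.Mod (Scheme.precoverage P) T) ℕ) (n : ℕ) :
    ShortComplex (BigSite.Mod (Scheme.precoverage P) T) :=
  ShortComplex.mk (kernel.ι (C.d n (n + 1))) (kernel.lift (C.d (n + 1) (n + 2)) (C.d n (n + 1)) (C.d_comp_d _ _ _))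
    (by rw [← cancel_mono (kernel.ι (C.d (n + 1) (n + 2))), Category.assoc, kernel.lift_ι, zero_comp, kernel.condition])

variable {M : BigSite.Mod (Scheme.precoverage P) T} (I : InjectiveResolution M)

theorem cyclesSC_shortExact (n : ℕ) : (cyclesSC I.cocomplex n).ShortExact := by
  haveI : Mono (cyclesSC I.cocomplex n).f := inferInstanceAs (Mono (kernel.ι (I.cocomplex.d n (n + 1))))
  haveI : Epi (cyclesSC I.cocomplex n).g :=
    (ShortComplex.exact_iff_epi_kernel_lift _).1 (I.exact_succ n)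
  let φ : cyclesSC I.cocomplex n ⟶ ShortComplex.mk _ _ (kernel.condition (I.cocomplex.d n (n + 1))) :=
    { τ₁ := 𝟙 _
      τ₂ := 𝟙 _
      τ₃ := kernel.ι (I.cocomplex.d (n + 1) (n + 2))
      comm₁₂ := by simp [cyclesSC]
      comm₂₃ := by simp [cyclesSC] }
  haveI : Epi φ.τ₁ := inferInstanceAs (Epi (𝟙 _))
  haveI : IsIso φ.τ₂ := inferInstanceAs (IsIso (𝟙 _))
  haveI : Mono φ.τ₃ := inferInstanceAs (Mono (kernel.ι _))
  exact { exact := (ShortComplex.exact_iff_of_epi_of_isIso_of_mono φ).2 (ShortComplex.exact_kernel _) }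

/-- `M ≅ Z⁰` -/
def augIso : M ≅ kernel (I.cocomplex.d 0 1) :=
  IsLimit.conePointUniqueUpToIso I.isLimitKernelFork (limit.isLimit _)

variable (hP : GoodProp P) (hPp : StableProd P)
include hP hPp

theorem modAcyclic_cycles (hM : ModAcyclic P M) : ∀ n, ModAcyclic P (kernel (I.cocomplex.d n (n + 1)))
  | 0 => modAcyclic_of_iso (augIso I) hM
  | n + 1 => modAcyclic_quotient hP hPp (cyclesSC I.cocomplex n) (cyclesSC_shortExact I n)
      (modAcyclic_cycles hM n) (modAcyclic_injective (I.cocomplex.X n))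

variable {R : CommRingCat.{u}} {Y : Scheme.{u}} (q : Y ⟶ Spec R) (t : Y ⟶ T)

/-- the complex of sections over `Y ×_R Spec B` -/
abbrev secCx (C : CochainComplex (BigSite.Mod (Scheme.precoverage P) T) ℕ) : CochainComplex (MVF R) ℕ :=
  ((secMod (Scheme.precoverage P) q t).mapHomologicalComplex (ComplexShape.up ℕ)).obj C

theorem exact_secCx_affine [IsAffine Y] (hM : ModAcyclic P M) (n : ℕ) :
    (secCx q t I.cocomplex).ExactAt (n + 1) := by
  rw [HomologicalComplex.exactAt_iff' _ n (n + 1) (n + 2) (by simp) (by simp only [CochainComplex.next]; rfl)]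
  refine exact_of_ap _ fun B x => ⟨fun hx => ?_, ?_⟩
  · let U : Over T := (bFun q t).obj (op B)
    haveI : IsAffine U.left := inferInstanceAs (IsAffine (pullback q (bB B)))
    let x' : ((I.cocomplex.X (n + 1)).val.presheaf.obj (op U)) := x
    obtain ⟨z, hz⟩ := ((mod_leftExact _ (cyclesSC_shortExact I (n + 1)) (op U)).2 x').1 (by
      apply (mod_leftExact _ (cyclesSC_shortExact I (n + 2)) (op U)).1
      refine Eq.trans ?_ (map_zero _).symm
      exact (modApp_comp (cyclesSC I.cocomplex (n + 1)).g (kernel.ι (I.cocomplex.d (n + 2) (n + 3)))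
        (I.cocomplex.d (n + 1) (n + 2)) (kernel.lift_ι _ _ _) U x').trans hx)
    obtain ⟨y, hy⟩ := affine_sections_surjective hP hPp _ (cyclesSC_shortExact I n)
      (modAcyclic_cycles I hP hPp hM n) U z
    refine ⟨y, ?_⟩
    exact (((modApp_comp (cyclesSC I.cocomplex n).g (kernel.ι (I.cocomplex.d (n + 1) (n + 2)))
        (I.cocomplex.d n (n + 1)) (kernel.lift_ι _ _ _) U y).symm).trans
          (congrArg (modApp (kernel.ι (I.cocomplex.d (n + 1) (n + 2))) U) hy)).trans hz
  · rintro ⟨y, rfl⟩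
    show ap ((secMod (Scheme.precoverage P) q t).map (I.cocomplex.d (n + 1) (n + 2))) B
      (ap ((secMod (Scheme.precoverage P) q t).map (I.cocomplex.d n (n + 1))) B y) = 0
    rw [← ap_comp, ← Functor.map_comp, HomologicalComplex.d_comp_d, Functor.map_zero, ap_zero]

omit hP hPp in
theorem exists_homology₀_iso :
    Nonempty ((secMod (Scheme.precoverage P) q t).obj M ≅ (secCx q t I.cocomplex).homology 0) := by
  let Φ := secMod (Scheme.precoverage P) q t
  obtain ⟨e, -⟩ := isIso_kernelLift (Φ.map (kernel.ι (I.cocomplex.d 0 1))) (Φ.map (I.cocomplex.d 0 1))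
    (fun B => (mod_leftExact _ (cyclesSC_shortExact I 0) (op ((bFun q t).obj (op B)))).1) (fun B x => by
      refine ⟨fun hx => ((mod_leftExact _ (cyclesSC_shortExact I 0) (op ((bFun q t).obj (op B)))).2 x).1 ?_, ?_⟩
      · apply (mod_leftExact _ (cyclesSC_shortExact I 1) (op ((bFun q t).obj (op B)))).1
        refine Eq.trans ?_ (map_zero _).symm
        exact (modApp_comp (cyclesSC I.cocomplex 0).g (kernel.ι (I.cocomplex.d 1 2))
          (I.cocomplex.d 0 1) (kernel.lift_ι _ _ _) _ x).trans hx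
      · rintro ⟨y, rfl⟩
        rw [← ap_comp, ← Functor.map_comp, kernel.condition, Functor.map_zero, ap_zero])
  let C := secCx q t I.cocomplex
  exact ⟨Φ.mapIso (augIso I) ≪≫ e ≪≫
    IsLimit.conePointUniqueUpToIso (limit.isLimit (parallelPair (C.d 0 1) 0)) (C.cyclesIsKernel 0 1 (by simp)) ≪≫
    C.isoHomologyπ₀⟩

end Groth.MiscGeom.Adq

end
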