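import Groth.Agent.MiscGeom.AdeqHigherAff
import Mathlib.Algebra.Homology.HomologicalComplexAbelian
import Mathlib.Algebra.Homology.HomologySequence

/-!
# Mayer–Vietoris for sections of complexes of injective modules
-/

universe u v

open CategoryTheory CategoryTheory.Limits AlgebraicGeometry Opposite

noncomputable section

namespace Groth.MiscGeom.Adq

open Adeq Cech

variable {P : MorphismProperty Scheme.{u}} {T : Scheme.{u}} [BigSite.OSh (Scheme.precoverage P)]
  {R : CommRingCat.{u}} {Y : Scheme.{u}} (q : Y ⟶ Spec R) (t : Y ⟶ T)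

/-- sections over an open of `Y` -/
abbrev opnFun (U : Y.Opens) : BigSite.Mod (Scheme.precoverage P) T ⥤ MVF R :=
  secMod (Scheme.precoverage P) (U.ι ≫ q) (U.ι ≫ t)

/-- inclusion of opens after base change -/
abbrev opnHom {U U' : Y.Opens} (e : U' ≤ U) (B : Alg R) :
    (bFun (U'.ι ≫ q) (U'.ι ≫ t)).obj (op B) ⟶ (bFun (U.ι ≫ q) (U.ι ≫ t)).obj (op B) :=
  bHom (U.ι ≫ q) (U.ι ≫ t) (U'.ι ≫ q) (U'.ι ≫ t) (Y.homOfLE e) (Scheme.homOfLE_ι_assoc _ _ _)
    (Scheme.homOfLE_ι_assoc _ _ _) B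

theorem opnHom_fst {U U' : Y.Opens} (e : U' ≤ U) (B : Alg R) :
    (opnHom q t e B).left ≫ pullback.fst (U.ι ≫ q) (bB B) = pullback.fst (U'.ι ≫ q) (bB B) ≫ Y.homOfLE e :=
  bHomL_fst (U.ι ≫ q) (U'.ι ≫ q) (Y.homOfLE e) (Scheme.homOfLE_ι_assoc _ _ _) B

theorem opnHom_snd {U U' : Y.Opens} (e : U' ≤ U) (B : Alg R) :
    (opnHom q t e B).left ≫ pullback.snd (U.ι ≫ q) (bB B) = pullback.snd (U'.ι ≫ q) (bB B) :=
  bHomL_snd (U.ι ≫ q) (U'.ι ≫ q) (Y.homOfLE e) (Scheme.homOfLE_ι_assoc _ _ _) B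

theorem opnHom_comp {U U' U'' : Y.Opens} (e : U' ≤ U) (e' : U'' ≤ U') (B : Alg R) :
    opnHom q t e' B ≫ opnHom q t e B = opnHom q t (e'.trans e) B := by
  refine Over.OverMorphism.ext (pullback.hom_ext ?_ ?_)
  · refine (Category.assoc _ _ _).trans (Eq.trans ?_ (opnHom_fst q t (e'.trans e) B).symm)
    refine (congrArg (_ ≫ ·) (opnHom_fst q t e B)).trans ?_
    refine (Category.assoc _ _ _).symm.trans ((congrArg (· ≫ _) (opnHom_fst q t e' B)).trans ?_)
    exact (Category.assoc _ _ _).trans (congrArg (_ ≫ ·) (Scheme.homOfLE_homOfLE _ _ _))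
  · refine (Category.assoc _ _ _).trans (Eq.trans ?_ (opnHom_snd q t (e'.trans e) B).symm)
    exact (congrArg (_ ≫ ·) (opnHom_snd q t e B)).trans (opnHom_snd q t e' B)

theorem opnHom_isOpenImmersion {U U' : Y.Opens} (e : U' ≤ U) (B : Alg R) :
    IsOpenImmersion (opnHom q t e B).left :=
  MorphismProperty.of_isPullback (P := @IsOpenImmersion)
    (bHomL_isPullback (U.ι ≫ q) (U'.ι ≫ q) (Y.homOfLE e) (Scheme.homOfLE_ι_assoc _ _ _) B) inferInstance

theorem opnHom_mono {U U' : Y.Opens} (e : U' ≤ U) (B : Alg R) : Mono (opnHom q t e B) := by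
  haveI := opnHom_isOpenImmersion q t e B
  haveI : Mono ((Over.forget T).map (opnHom q t e B)) := inferInstanceAs (Mono (opnHom q t e B).left)
  exact (Over.forget T).mono_of_mono_map ‹_›

/-- restriction to a smaller open -/
def resF {U U' : Y.Opens} (e : U' ≤ U) : opnFun (P := P) q t U ⟶ opnFun q t U' :=
  secRes (Scheme.precoverage P) _ _ _ _ (Y.homOfLE e) (Scheme.homOfLE_ι_assoc _ _ _) (Scheme.homOfLE_ι_assoc _ _ _)

theorem resF_apply {U U' : Y.Opens} (e : U' ≤ U) (N : BigSite.Mod (Scheme.precoverage P) T) (B : Alg R)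
    (x : ((opnFun q t U).obj N).obj (pt B)) :
    secY (U'.ι ≫ q) (U'.ι ≫ t) N.val (ap ((resF q t e).app N) B x) =
      N.val.presheaf.map (opnHom q t e B).op (secY (U.ι ≫ q) (U.ι ≫ t) N.val x) := rfl

theorem resF_comp {U U' U'' : Y.Opens} (e : U' ≤ U) (e' : U'' ≤ U') :
    resF (P := P) q t e ≫ resF q t e' = resF q t (e'.trans e) := by
  ext N : 2
  refine hom_ext' fun B x => ?_
  show N.val.presheaf.map (opnHom q t e' B).op (N.val.presheaf.map (opnHom q t e B).op
    (secY (U.ι ≫ q) (U.ι ≫ t) N.val x)) = N.val.presheaf.map (opnHom q t (e'.trans e) B).op _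
  rw [← ConcreteCategory.comp_apply, ← Functor.map_comp, ← op_comp, opnHom_comp]
  rfl

section Glue

variable (hP : GoodProp P) (N : BigSite.Mod (Scheme.precoverage P) T) {U V : Y.Opens} (B : Alg R)
include hP

theorem opn_sheaf :
    (∀ x : N.val.presheaf.obj (op ((bFun ((U ⊔ V).ι ≫ q) ((U ⊔ V).ι ≫ t)).obj (op B))),
      N.val.presheaf.map (opnHom q t (le_sup_left : U ≤ U ⊔ V) B).op x = 0 →
      N.val.presheaf.map (opnHom q t (le_sup_right : V ≤ U ⊔ V) B).op x = 0 → x = 0) ∧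
    ∀ (y : N.val.presheaf.obj (op ((bFun (U.ι ≫ q) (U.ι ≫ t)).obj (op B))))
      (z : N.val.presheaf.obj (op ((bFun (V.ι ≫ q) (V.ι ≫ t)).obj (op B)))),
      N.val.presheaf.map (opnHom q t (inf_le_left : U ⊓ V ≤ U) B).op y =
        N.val.presheaf.map (opnHom q t (inf_le_right : U ⊓ V ≤ V) B).op z →
      ∃ x, N.val.presheaf.map (opnHom q t (le_sup_left : U ≤ U ⊔ V) B).op x = y ∧
        N.val.presheaf.map (opnHom q t (le_sup_right : V ≤ U ⊔ V) B).op x = z := by
  let O : Bool → Y.Opens := fun b => Bool.rec V U b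
  have hO : ∀ b, O b ≤ U ⊔ V := by rintro (_ | _); exacts [le_sup_right, le_sup_left]
  let f : ∀ b, (bFun ((O b).ι ≫ q) ((O b).ι ≫ t)).obj (op B) ⟶ (bFun ((U ⊔ V).ι ≫ q) ((U ⊔ V).ι ≫ t)).obj (op B) :=
    fun b => opnHom q t (hO b) B
  have hcov : Presieve.ofArrows _ (fun b => (f b).left) ∈
      (Scheme.precoverage P).coverings ((bFun ((U ⊔ V).ι ≫ q) ((U ⊔ V).ι ≫ t)).obj (op B)).left := by
    refine (Scheme.ofArrows_mem_precoverage_iff P).2 ⟨fun x => ?_, fun b => hP.openImm _ (opnHom_isOpenImmersion q t (hO b) B)⟩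
    let p := pullback.fst ((U ⊔ V).ι ≫ q) (bB B) x
    have key : ∀ b, (U ⊔ V).ι p ∈ O b → ∃ c, (f b).left c = x := fun b hb => by
      have hy : Y.homOfLE (hO b) ⟨_, hb⟩ = p := by
        apply (U ⊔ V).ι.isOpenEmbedding.injective
        rw [← Scheme.Hom.comp_apply, Scheme.homOfLE_ι]
        rfl
      obtain ⟨w, -, hw⟩ := Scheme.Pullback.exists_preimage_pullback (f := Y.homOfLE (hO b))
        (g := pullback.fst ((U ⊔ V).ι ≫ q) (bB B)) _ x hy
      refine ⟨(bHomL_isPullback _ _ (Y.homOfLE (hO b)) (Scheme.homOfLE_ι_assoc _ _ _) B).isoPullback.inv w, ?_⟩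
      exact (congrArg (fun φ => φ w) (bHomL_isPullback _ _ (Y.homOfLE (hO b)) (Scheme.homOfLE_ι_assoc _ _ _) B).isoPullback_inv_snd).trans hw
    rcases (p.2 : (U ⊔ V).ι p ∈ U ⊔ V) with h | h
    · exact ⟨true, key true h⟩
    · exact ⟨false, key false h⟩
  have hs := sheafFor_family N.val.presheaf N.isSheaf (fun b => (bFun ((O b).ι ≫ q) ((O b).ι ≫ t)).obj (op B)) f hcov
  refine ⟨fun x h₁ h₂ => hs.1 x (by rintro (_ | _); exacts [h₂, h₁]), fun y z hyz => ?_⟩
  let w : ∀ b, N.val.presheaf.obj (op ((bFun ((O b).ι ≫ q) ((O b).ι ≫ t)).obj (op B))) := fun b => Bool.rec z y b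
  have hw : ∀ b c, N.val.presheaf.map (opnHom q t (inf_le_left : O b ⊓ O c ≤ O b) B).op (w b) =
      N.val.presheaf.map (opnHom q t (inf_le_right : O b ⊓ O c ≤ O c) B).op (w c) := by
    rintro (_ | _) (_ | _)
    · rfl
    · have := congrArg (N.val.presheaf.map (opnHom q t (inf_comm V U).le B).op) hyz
      rw [← ConcreteCategory.comp_apply, ← ConcreteCategory.comp_apply, ← Functor.map_comp, ← Functor.map_comp,
        ← op_comp, ← op_comp, opnHom_comp, opnHom_comp] at this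
      exact this.symm
    · exact hyz
    · rfl
  obtain ⟨x, hx⟩ := hs.2 w fun b c W g h e => by
    have el : g.left ≫ (f b).left = h.left ≫ (f c).left := congrArg CommaMorphism.left e
    let p₁ := g.left ≫ pullback.fst ((O b).ι ≫ q) (bB B)
    let p₂ := h.left ≫ pullback.fst ((O c).ι ≫ q) (bB B)
    have hp : p₁ ≫ Y.homOfLE (hO b) = p₂ ≫ Y.homOfLE (hO c) := by
      refine (Category.assoc _ _ _).trans (((congrArg (g.left ≫ ·) (opnHom_fst q t (hO b) B).symm).trans ?_).trans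
        ((congrArg (h.left ≫ ·) (opnHom_fst q t (hO c) B)).trans (Category.assoc _ _ _).symm))
      exact (Category.assoc _ _ _).symm.trans ((congrArg (· ≫ _) el).trans (Category.assoc _ _ _))
    have hsnd : g.left ≫ pullback.snd ((O b).ι ≫ q) (bB B) = h.left ≫ pullback.snd ((O c).ι ≫ q) (bB B) := by
      refine ((congrArg (g.left ≫ ·) (opnHom_snd q t (hO b) B).symm).trans ?_).trans
        (congrArg (h.left ≫ ·) (opnHom_snd q t (hO c) B))
      exact (Category.assoc _ _ _).symm.trans ((congrArg (· ≫ _) el).trans (Category.assoc _ _ _))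
    obtain ⟨m, hm₁, hm₂⟩ := (isPullback_opens_inf_le (hO b) (hO c)).exists_lift p₁ p₂ hp
    have hmι : m ≫ (O b ⊓ O c).ι = p₁ ≫ (O b).ι := by rw [← hm₁, Category.assoc, Scheme.homOfLE_ι]
    let a₀ : W.left ⟶ pullback ((O b ⊓ O c).ι ≫ q) (bB B) := pullback.lift m (g.left ≫ pullback.snd _ _) (by
      rw [← Category.assoc, hmι]
      simp only [p₁, Category.assoc]
      exact congrArg (g.left ≫ ·) pullback.condition)
    let a : W ⟶ (bFun ((O b ⊓ O c).ι ≫ q) ((O b ⊓ O c).ι ≫ t)).obj (op B) := Over.homMk a₀ (by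
      show a₀ ≫ pullback.fst _ _ ≫ (O b ⊓ O c).ι ≫ t = W.hom
      rw [pullback.lift_fst_assoc, ← Category.assoc, hmι]
      simp only [p₁, Category.assoc]
      exact Over.w g)
    have e₁ : g = a ≫ opnHom q t inf_le_left B :=
      Over.OverMorphism.ext (eq_comp_bHomL _ _ _ (Scheme.homOfLE_ι_assoc _ _ _) B _ a₀
        (hm₁.symm.trans (congrArg (· ≫ _) (pullback.lift_fst _ _ _).symm)) (pullback.lift_snd _ _ _).symm)
    have e₂ : h = a ≫ opnHom q t inf_le_right B :=
      Over.OverMorphism.ext (eq_comp_bHomL _ _ _ (Scheme.homOfLE_ι_assoc _ _ _) B _ a₀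
        (hm₂.symm.trans (congrArg (· ≫ _) (pullback.lift_fst _ _ _).symm))
        (hsnd.symm.trans (pullback.lift_snd _ _ _).symm))
    rw [e₁, e₂, op_comp, op_comp, Functor.map_comp, Functor.map_comp, ConcreteCategory.comp_apply,
      ConcreteCategory.comp_apply]
    exact congrArg (N.val.presheaf.map a.op) (hw b c)
  exact ⟨x, hx true, hx false⟩

end Glue

variable [HasSheafify (QuotSh.J (Scheme.precoverage P) T) AddCommGrpCat.{u + 1}]
  [(QuotSh.J (Scheme.precoverage P) T).WEqualsLocallyBijective AddCommGrpCat.{u + 1}]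

/-- all homology modules of the sections over an open are adequate -/
def GoodOpen (C : CochainComplex (BigSite.Mod (Scheme.precoverage P) T) ℕ) (U : Y.Opens) : Prop :=
  ∀ n, adequate R ((secCx (U.ι ≫ q) (U.ι ≫ t) C).homology n)

variable (C : CochainComplex (BigSite.Mod (Scheme.precoverage P) T) ℕ)

/-- restriction of complexes -/
abbrev resCx {U U' : Y.Opens} (e : U' ≤ U) : secCx (U.ι ≫ q) (U.ι ≫ t) C ⟶ secCx (U'.ι ≫ q) (U'.ι ≫ t) C :=
  (NatTrans.mapHomologicalComplex (resF q t e) (ComplexShape.up ℕ)).app C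

theorem resCx_comp {U U' U'' : Y.Opens} (e : U' ≤ U) (e' : U'' ≤ U') :
    resCx q t C e ≫ resCx q t C e' = resCx q t C (e'.trans e) := by
  refine HomologicalComplex.hom_ext _ _ fun n => ?_
  exact congrArg (fun η => η.app (C.X n)) (resF_comp q t e e')

/-- the Mayer–Vietoris sequence -/
def mvSC (U V : Y.Opens) : ShortComplex (CochainComplex (MVF R) ℕ) :=
  ShortComplex.mk
    (biprod.lift (resCx q t C (le_sup_left : U ≤ U ⊔ V)) (resCx q t C (le_sup_right : V ≤ U ⊔ V)))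
    (biprod.desc (resCx q t C (inf_le_left : U ⊓ V ≤ U)) (-(resCx q t C (inf_le_right : U ⊓ V ≤ V))))
    (by rw [biprod.lift_desc, Preadditive.comp_neg, resCx_comp, resCx_comp, add_neg_cancel])

omit [HasSheafify (QuotSh.J (Scheme.precoverage P) T) AddCommGrpCat.{u + 1}]
  [(QuotSh.J (Scheme.precoverage P) T).WEqualsLocallyBijective AddCommGrpCat.{u + 1}] in
theorem ap_f_comp {X₁ X₂ X₃ : CochainComplex (MVF R) ℕ} (φ : X₁ ⟶ X₂) (ψ : X₂ ⟶ X₃) (χ : X₁ ⟶ X₃) (h : φ ≫ ψ = χ)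
    (n : ℕ) (B : Alg R) (x : (X₁.X n).obj (pt B)) : ap (ψ.f n) B (ap (φ.f n) B x) = ap (χ.f n) B x := by
  subst h
  rw [← ap_comp]
  rfl

theorem mv_fst (U V : Y.Opens) (n : ℕ) (B : Alg R) (x : ((mvSC q t C U V).X₁.X n).obj (pt B)) :
    ap ((biprod.fst : (mvSC q t C U V).X₂ ⟶ _).f n) B (ap ((mvSC q t C U V).f.f n) B x) =
      ap ((resF q t (le_sup_left : U ≤ U ⊔ V)).app (C.X n)) B x :=
  ap_f_comp _ _ _ (biprod.lift_fst _ _) n B x

theorem mv_snd (U V : Y.Opens) (n : ℕ) (B : Alg R) (x : ((mvSC q t C U V).X₁.X n).obj (pt B)) :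
    ap ((biprod.snd : (mvSC q t C U V).X₂ ⟶ _).f n) B (ap ((mvSC q t C U V).f.f n) B x) =
      ap ((resF q t (le_sup_right : V ≤ U ⊔ V)).app (C.X n)) B x :=
  ap_f_comp _ _ _ (biprod.lift_snd _ _) n B x

theorem mv_decomp (U V : Y.Opens) (n : ℕ) (B : Alg R) (z : ((mvSC q t C U V).X₂.X n).obj (pt B)) :
    z = ap ((biprod.inl : _ ⟶ (mvSC q t C U V).X₂).f n) B (ap ((biprod.fst : (mvSC q t C U V).X₂ ⟶ _).f n) B z) +
      ap ((biprod.inr : _ ⟶ (mvSC q t C U V).X₂).f n) B (ap ((biprod.snd : (mvSC q t C U V).X₂ ⟶ _).f n) B z) := by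
  rw [← ap_comp, ← ap_comp, ← ap_add, ← HomologicalComplex.comp_f, ← HomologicalComplex.comp_f,
    ← HomologicalComplex.add_f_apply]
  exact (congrArg (fun φ => ap (HomologicalComplex.Hom.f φ n) B z) (biprod.total (X := secCx (U.ι ≫ q) (U.ι ≫ t) C)
    (Y := secCx (V.ι ≫ q) (V.ι ≫ t) C))).symm

theorem mv_inl (U V : Y.Opens) (n : ℕ) (B : Alg R) (x : ((secCx (U.ι ≫ q) (U.ι ≫ t) C).X n).obj (pt B)) :
    ap ((mvSC q t C U V).g.f n) B (ap ((biprod.inl : _ ⟶ (mvSC q t C U V).X₂).f n) B x) =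
      ap ((resF q t (inf_le_left : U ⊓ V ≤ U)).app (C.X n)) B x :=
  ap_f_comp _ _ _ (biprod.inl_desc _ _) n B x

theorem mv_inr (U V : Y.Opens) (n : ℕ) (B : Alg R) (x : ((secCx (V.ι ≫ q) (V.ι ≫ t) C).X n).obj (pt B)) :
    ap ((mvSC q t C U V).g.f n) B (ap ((biprod.inr : _ ⟶ (mvSC q t C U V).X₂).f n) B x) =
      -ap ((resF q t (inf_le_right : U ⊓ V ≤ V)).app (C.X n)) B x :=
  (ap_f_comp _ _ _ (biprod.inr_desc _ _) n B x).trans rfl

variable (hP : GoodProp P) [∀ n, Injective (C.X n)]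
include hP

theorem mvSC_shortExact (U V : Y.Opens) : (mvSC q t C U V).ShortExact := by
  refine HomologicalComplex.shortExact_of_degreewise_shortExact _ fun n => ?_
  haveI : Mono ((mvSC q t C U V).map (HomologicalComplex.eval _ _ n)).f :=
    mono_of_inj _ fun B => (injective_iff_map_eq_zero _).2 fun x hx => by
      change ap ((mvSC q t C U V).f.f n) B x = 0 at hx
      refine (opn_sheaf q t hP (C.X n) B).1 x ?_ ?_
      · exact (mv_fst q t C U V n B x).symm.trans ((congrArg _ hx).trans (map_zero _))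
      · exact (mv_snd q t C U V n B x).symm.trans ((congrArg _ hx).trans (map_zero _))
  haveI : Epi ((mvSC q t C U V).map (HomologicalComplex.eval _ _ n)).g :=
    epi_of_surj _ fun B z => by
      haveI := opnHom_mono q t (inf_le_left : U ⊓ V ≤ U) B
      haveI := Cech.injective_val (C.X n)
      obtain ⟨y, hy⟩ := Cech.surjective_of_mono (C.X n).val (opnHom q t (inf_le_left : U ⊓ V ≤ U) B) z
      exact ⟨ap ((biprod.inl : _ ⟶ (mvSC q t C U V).X₂).f n) B y, (mv_inl q t C U V n B y).trans hy⟩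
  refine { exact := exact_of_ap _ fun B z => ⟨fun hz => ?_, ?_⟩ }
  · change ap ((mvSC q t C U V).g.f n) B z = 0 at hz
    replace hz := ((congrArg₂ (· + ·) (mv_inl q t C U V n B _) (mv_inr q t C U V n B _)).symm.trans
      ((map_add (ap ((mvSC q t C U V).g.f n) B) _ _).symm.trans
        ((congrArg _ (mv_decomp q t C U V n B z).symm).trans hz)))
    obtain ⟨x, h₁, h₂⟩ := (opn_sheaf q t hP (C.X n) B).2 _ _ (add_neg_eq_zero.1 hz)
    refine ⟨x, ?_⟩
    show ap ((mvSC q t C U V).f.f n) B x = z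
    refine (mv_decomp q t C U V n B _).trans (Eq.trans ?_ (mv_decomp q t C U V n B z).symm)
    exact congrArg₂ (· + ·) (congrArg _ ((mv_fst q t C U V n B x).trans h₁))
      (congrArg _ ((mv_snd q t C U V n B x).trans h₂))
  · rintro ⟨x, rfl⟩
    exact (ap_f_comp (mvSC q t C U V).f (mvSC q t C U V).g 0 (mvSC q t C U V).zero n B x).trans rfl

theorem goodOpen_sup (U V : Y.Opens) (hU : GoodOpen q t C U) (hV : GoodOpen q t C V)
    (hUV : GoodOpen q t C (U ⊓ V)) : GoodOpen q t C (U ⊔ V) := by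
  have hS := mvSC_shortExact q t C hP U V
  have h₂ : ∀ n, adequate R ((mvSC q t C U V).X₂.homology n) := fun n => by
    let F := HomologicalComplex.homologyFunctor (MVF R) (ComplexShape.up ℕ) n
    haveI : F.Additive := inferInstance
    haveI : PreservesBinaryBiproduct (secCx (U.ι ≫ q) (U.ι ≫ t) C) (secCx (V.ι ≫ q) (V.ι ≫ t) C) F :=
      preservesBinaryBiproduct_of_preservesBiproduct F _ _
    exact (adequate R).prop_of_iso (F.mapBiprod (secCx (U.ι ≫ q) (U.ι ≫ t) C) (secCx (V.ι ≫ q) (V.ι ≫ t) C)).symm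
      (adequate_biprod' (hU n) (hV n))
  intro n
  cases n with
  | zero =>
    haveI : Mono (HomologicalComplex.homologyMap (mvSC q t C U V).f 0) := by
      haveI := hS.mono_f
      haveI : Mono ((mvSC q t C U V).f.f 0) := inferInstanceAs (Mono ((HomologicalComplex.eval _ _ 0).map (mvSC q t C U V).f))
      exact HomologicalComplex.mono_homologyMap_of_mono_of_not_rel _ 0 (by simp)
    exact (adequate R).prop_of_iso
      (IsLimit.conePointUniqueUpToIso (limit.isLimit _) (hS.homology_exact₂ 0).fIsKernel)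
      (adequate_kernel _ (h₂ 0) (hUV 0))
  | succ m =>
    have hrel : (ComplexShape.up ℕ).Rel m (m + 1) := rfl
    exact adequate_of_five (HomologicalComplex.homologyMap (mvSC q t C U V).g m) (hS.δ m (m + 1) hrel)
      (HomologicalComplex.homologyMap (mvSC q t C U V).f (m + 1))
      (HomologicalComplex.homologyMap (mvSC q t C U V).g (m + 1)) _ _ _
      (hS.homology_exact₃ m (m + 1) hrel) (hS.homology_exact₁ m (m + 1) hrel) (hS.homology_exact₂ (m + 1))
      (h₂ m) (hUV m) (h₂ (m + 1)) (hUV (m + 1))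

end Groth.MiscGeom.Adq

end
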