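import Groth.Agent.MiscGeom.AdeqExact

/-!
# Extensions of adequate modules
-/

universe u v

open CategoryTheory CategoryTheory.Limits AlgebraicGeometry Opposite

noncomputable section

namespace Groth.MiscGeom.Adq

open Adeq

variable {P : MorphismProperty Scheme.{u}} (hP : GoodProp P) {S : Scheme.{u}} {R : CommRingCat.{u}} (a : Spec R ⟶ S)
  [BigSite.OSh (Scheme.precoverage P)]

instance toMVF_preservesFiniteLimits' (J : Type) [SmallCategory J] [FinCategory J] :
    PreservesLimitsOfShape J (toMVF (Scheme.precoverage P) a) :=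
  inferInstanceAs (PreservesLimitsOfShape J
    (SheafOfModules.forget (BigSite.ORing (Scheme.precoverage P) S) ⋙ toMVFPre (Scheme.precoverage P) a))

variable [HasSheafify (QuotSh.J (Scheme.precoverage P) S) AddCommGrpCat.{u + 1}]
  [(QuotSh.J (Scheme.precoverage P) S).WEqualsLocallyBijective AddCommGrpCat.{u + 1}]

/-- a left exact sequence on an affine object -/
theorem toMVF_leftExact (C : ShortComplex (BigSite.Mod (Scheme.precoverage P) S)) (hC : C.Exact) [Mono C.f]
    (B : Alg R) :
    Function.Injective (ap ((toMVF (Scheme.precoverage P) a).map C.f) B) ∧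
      Function.Exact (ap ((toMVF (Scheme.precoverage P) a).map C.f) B) (ap ((toMVF (Scheme.precoverage P) a).map C.g) B) := by
  haveI : PreservesLimit (cospan C.f C.f) (toMVF (Scheme.precoverage P) a) := inferInstance
  haveI : Mono ((toMVF (Scheme.precoverage P) a).map C.f) := preserves_mono_of_preservesLimit _ _
  exact ⟨inj_of_mono _ B, exact_ap (C.map (toMVF (Scheme.precoverage P) a))
    (hC.map_of_mono_of_preservesKernel _ inferInstance inferInstance) B⟩

include hP

theorem toMVF_surjective {M₁ : BigSite.Mod (Scheme.precoverage P) S} {M₂ M₃ : BigSite.Mod (Scheme.precoverage P) S}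
    (i : M₁ ⟶ M₂) (g : M₂ ⟶ M₃) (w : i ≫ g = 0) (hC : (ShortComplex.mk i g w).ShortExact)
    (h₁ : adequate R ((toMVF (Scheme.precoverage P) a).obj M₁)) (B : Alg R) :
    Function.Surjective (ap ((toMVF (Scheme.precoverage P) a).map g) B) := by
  classical
  intro s
  have := hC.mono_f
  have := hC.epi_g
  haveI : Epi g := hC.epi_g
  let ι : FP a M₁.val ⟶ FP a M₂.val := (toMVFPre (Scheme.precoverage P) a).map i.val
  let π : FP a M₂.val ⟶ FP a M₃.val := (toMVFPre (Scheme.precoverage P) a).map g.val
  have hle : ∀ C, Function.Injective (ap ι C) ∧ Function.Exact (ap ι C) (ap π C) := fun C =>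
    toMVF_leftExact a (ShortComplex.mk i g w) hC.exact C
  obtain ⟨κ, hκ, Bk, f, hf, hsurj, ht⟩ := affine_local_lift hP a g s
  choose t ht using ht
  have ht' : ∀ k, ap π (Bk k) (t k) = tr (FP a M₃.val) (f k) s := ht
  obtain ⟨z, hz⟩ := exists_prod_sect hP a M₂.val M₂.isSheaf Bk t
  have hπz : ap π (prodAlg Bk) z = tr (FP a M₃.val) (prodLift Bk f) s := by
    refine sub_eq_zero.1 (sect_sep a M₃.val hP M₃.isSheaf (prodProj Bk)
      (fun k => hP.openImm _ (by
        change IsOpenImmersion (Spec.map (CommRingCat.ofHom (Pi.evalRingHom (fun k => (Bk k : Type u)) k)))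
        infer_instance)) (fun x => ?_) _ fun k => ?_)
    · obtain ⟨⟨k, y⟩, rfl⟩ := (PrimeSpectrum.sigmaToPi_bijective (fun k => (Bk k : Type u))).2 x
      exact ⟨k, y, rfl⟩
    · refine (map_sub _ _ _).trans (sub_eq_zero.2 ?_)
      refine Eq.trans ?_ ((ht' k).trans ((tr_congr _ (prodLift_proj Bk f k).symm s).trans (tr_comp _ _ _ s).symm))
      exact (ap_tr π (prodProj Bk k) z).symm.trans (congrArg (ap π (Bk k)) (hz k))
  obtain ⟨b, hb⟩ := coboundary_family (F := FP a M₁.val) (G := FP a M₂.val) Bk f h₁ ι (fun C => (hle C).1) (fun k => flat_of_specHom hP (f k) (hf k)) hsurj z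
    fun C p q e => ((hle C).2 _).1 (by
      refine (map_sub _ _ _).trans (sub_eq_zero.2 ?_)
      refine (ap_tr π q z).trans (Eq.trans ?_ (ap_tr π p z).symm)
      refine (congrArg (tr (FP a M₃.val) q) hπz).trans
        (Eq.trans ?_ (congrArg (tr (FP a M₃.val) p) hπz).symm)
      exact ((tr_comp (FP a M₃.val) _ q s).trans (tr_congr _ e.symm s)).trans (tr_comp (FP a M₃.val) _ p s).symm)
  let z' : (FP a M₂.val).obj (pt (prodAlg Bk)) := z - ap ι (prodAlg Bk) b
  obtain ⟨x, hx⟩ := sect_glue a M₂.val hP M₂.isSheaf f hf hsurj (fun k => tr (FP a M₂.val) (prodProj Bk k) z')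
    fun k l C p q e => (tr_comp _ _ p z').trans (Eq.trans (hb C (prodProj Bk k ≫ p) (prodProj Bk l ≫ q) (by
      rw [← Category.assoc, ← Category.assoc, prodLift_proj, prodLift_proj, e])) (tr_comp _ _ q z').symm)
  refine ⟨x, sub_eq_zero.1 (sect_sep a M₃.val hP M₃.isSheaf f hf hsurj _ fun k => ?_)⟩
  refine (map_sub _ _ _).trans (sub_eq_zero.2 (Eq.trans ?_ (ht' k)))
  refine (ap_tr π (f k) x).symm.trans ?_
  refine (congrArg (ap π (Bk k)) (hx k)).trans ?_
  refine (ap_tr π (prodProj Bk k) z').trans ?_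
  refine (congrArg (tr (FP a M₃.val) (prodProj Bk k)) ((map_sub (ap π _) z _).trans
    ((congrArg (ap π (prodAlg Bk) z - ·) ((hle _).2.apply_apply_eq_zero b)).trans (sub_zero _)))).trans ?_
  exact (ap_tr π (prodProj Bk k) z).symm.trans (congrArg (ap π (Bk k)) (hz k))

theorem adequateMod_extension (C : ShortComplex (BigSite.Mod (Scheme.precoverage P) S)) (hC : C.ShortExact)
    (h₁ : adequateMod (Scheme.precoverage P) S C.X₁) (h₃ : adequateMod (Scheme.precoverage P) S C.X₃) :
    adequateMod (Scheme.precoverage P) S C.X₂ := by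
  refine adequateMod_of_all hP _ fun R a => ?_
  have := hC.mono_f
  have h1 := adequate_toMVF hP a _ h₁
  let T := C.map (toMVF (Scheme.precoverage P) a)
  haveI : Mono C.f := hC.mono_f
  have hm : Mono T.f := mono_of_inj _ fun B => (toMVF_leftExact a C hC.exact B).1
  have he : Epi T.g := epi_of_surj _ fun B => toMVF_surjective hP a C.f C.g C.zero hC h1 B
  exact adequate_extension T ⟨hC.exact.map_of_mono_of_preservesKernel _ inferInstance inferInstance⟩ h1
    (adequate_toMVF hP a _ h₃)

end Groth.MiscGeom.Adq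

end
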