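import Groth.Agent.MiscGeom.AdeqBC
import Groth.Agent.MiscGeom.AdeqPull
import Groth.Agent.MiscGeom.AdeqModExt
import Groth.Agent.MiscGeom.CechCohom

/-!
# Parasitic adequate modules
-/

universe u v

open CategoryTheory CategoryTheory.Limits AlgebraicGeometry Opposite TensorProduct

noncomputable section

namespace Groth.MiscGeom.Adq

open Adeq Cech

theorem subsingleton_of_flat {A : Type u} [CommRing A] {F : MVF A} (hF : adequate A F) {B B' : Alg A} (f : B ⟶ B')
    (hf : f.hom.toRingHom.Flat) [Subsingleton (F.obj (pt B))] : Subsingleton (F.obj (pt B')) := by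
  haveI := isIso_bc hF f hf
  letI := algOfHom f
  refine subsingleton_of_forall_eq 0 fun y => ?_
  obtain ⟨z, rfl⟩ := ((ConcreteCategory.isIso_iff_bijective (F.bc f)).1 inferInstance).2 y
  have hz : ∀ w : (B' : Type u) ⊗[(B : Type u)] (F.obj (pt B)), w = 0 := fun w => by
    induction w using TensorProduct.induction_on with
    | zero => rfl
    | tmul b x => rw [Subsingleton.elim x 0, TensorProduct.tmul_zero]
    | add p q hp hq => rw [hp, hq, add_zero]
  exact (congrArg (F.bc f) (hz z)).trans (map_zero (F.bc f).hom)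

variable {P : MorphismProperty Scheme.{u}} (hP : GoodProp P) {S : Scheme.{u}} [BigSite.OSh (Scheme.precoverage P)]
  (M : BigSite.Mod (Scheme.precoverage P) S) (hM : adequateMod (Scheme.precoverage P) S M)

omit [BigSite.OSh (Scheme.precoverage P)] in
theorem subsingleton_presheaf_iso {G : (Over S)ᵒᵖ ⥤ AddCommGrpCat.{u + 1}} {X X' : Over S} (e : X ≅ X')
    [Subsingleton (G.obj (op X'))] : Subsingleton (G.obj (op X)) :=
  ((ConcreteCategory.bijective_of_isIso (G.map e.hom.op)).2).subsingleton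

include hP hM

theorem subsingleton_flat_affine_le {U : S.Opens} (hU : IsAffineOpen U)
    [h0 : Subsingleton (M.val.presheaf.obj (op ((BigSite.zarIncl S).obj U)))]
    {X : Scheme.{u}} (g : X ⟶ S) [Flat g] {V : X.Opens} (hV : IsAffineOpen V) (e : V ≤ g ⁻¹ᵁ U) :
    Subsingleton (M.val.presheaf.obj (op (Over.mk (V.ι ≫ g)))) := by
  let C : CommRingCat.{u} := Γ(X, V)
  let R : CommRingCat.{u} := Γ(S, U)
  letI : Algebra R C := (g.appLE U V e).hom.toAlgebra
  let a : Spec R ⟶ S := hU.fromSpec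
  let B : Alg R := CommAlgCat.of R C
  have hflat : (algebraMap R C).Flat := HasRingHomProperty.appLE @Flat g inferInstance ⟨U, hU⟩ ⟨V, hV⟩ e
  let f : base (R : Type u) ⟶ B := CommAlgCat.ofHom (Algebra.ofId R C)
  haveI : Subsingleton (((toMVF (Scheme.precoverage P) a).obj M).obj (pt (base (R : Type u)))) :=
    subsingleton_presheaf_iso (G := M.val.presheaf)
      (((Over.isoMk hU.isoSpec hU.isoSpec_hom_fromSpec : (BigSite.zarIncl S).obj U ≅ Over.mk a) ≪≫
        baseCmp' a).symm)
  haveI : Subsingleton (((toMVF (Scheme.precoverage P) a).obj M).obj (pt B)) :=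
    subsingleton_of_flat (adequate_toMVF hP a M hM) f hflat
  haveI : Subsingleton (M.val.presheaf.obj (op ((specOver a).obj (op B)))) := this
  refine subsingleton_presheaf_iso (G := M.val.presheaf) (Over.isoMk hV.isoSpec ?_ :
    Over.mk (V.ι ≫ g) ≅ (specOver a).obj (op B))
  show hV.isoSpec.hom ≫ Spec.map (g.appLE U V e) ≫ hU.fromSpec = V.ι ≫ g
  rw [hU.SpecMap_appLE_fromSpec g hV e, ← Category.assoc, hV.isoSpec_hom_fromSpec]

theorem parasitic_of_affineCover {ι : Type v} (U : ι → S.Opens) (hU : ∀ i, IsAffineOpen (U i)) (hsup : (⨆ i, U i) = ⊤)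
    (h0 : ∀ i, Subsingleton (BigSite.sectMod (Scheme.precoverage P) M ((BigSite.zarIncl S).obj (U i)))) :
    parasitic (Scheme.precoverage P) S M := by
  intro X hX
  refine subsingleton_of_forall_eq 0 fun x => ?_
  have hcov : ∀ p : X.left, ∃ V : X.left.Opens, IsAffineOpen V ∧ p ∈ V ∧ ∃ i, V ≤ X.hom ⁻¹ᵁ U i := fun p => by
    have hp : X.hom p ∈ (⨆ i, U i) := hsup ▸ trivial
    obtain ⟨i, hi⟩ := TopologicalSpace.Opens.mem_iSup.1 hp
    obtain ⟨V, hV, hpV, hVW⟩ := exists_isAffineOpen_mem_and_subset (U := X.hom ⁻¹ᵁ U i) (x := p) hi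
    exact ⟨V, hV, hpV, i, hVW⟩
  choose V hV hpV i hVi using hcov
  refine (sheafFor_family M.val.presheaf M.isSheaf (fun p => Over.mk ((V p).ι ≫ X.hom))
    (fun p => (Over.homMk (V p).ι rfl : Over.mk ((V p).ι ≫ X.hom) ⟶ X))
    ((Scheme.ofArrows_mem_precoverage_iff P).2
      ⟨fun p => ⟨p, ⟨p, hpV p⟩, rfl⟩, fun p => hP.openImm _ (inferInstanceAs (IsOpenImmersion (V p).ι))⟩)).1 x fun p => ?_
  haveI : Subsingleton (M.val.presheaf.obj (op ((BigSite.zarIncl S).obj (U (i p))))) := h0 (i p)
  exact (subsingleton_flat_affine_le hP M hM (hU (i p)) X.hom (hV p) (hVi p)).elim _ _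

omit hM in
theorem subsingleton_opens_of_parasiticFor (h : parasiticFor (Scheme.precoverage P) S M) (U : S.Opens) :
    Subsingleton (BigSite.sectMod (Scheme.precoverage P) M ((BigSite.zarIncl S).obj U)) := by
  let X : ULift.{u} Bool → Scheme.{u} := fun b => Bool.rec S (U : Scheme.{u}) b.down
  let g : ∀ b, X b ⟶ S := by rintro ⟨_ | _⟩; exacts [𝟙 S, U.ι]
  have hc : Presieve.ofArrows X g ∈ (Scheme.precoverage P).coverings S :=
    (Scheme.ofArrows_mem_precoverage_iff P).2 ⟨fun s => ⟨⟨false⟩, s, rfl⟩, by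
      rintro ⟨_ | _⟩
      · exact hP.openImm _ (inferInstanceAs (IsOpenImmersion (𝟙 S)))
      · exact hP.openImm _ (inferInstanceAs (IsOpenImmersion U.ι))⟩
  exact h hc U.ι (Presieve.ofArrows.mk (⟨true⟩ : ULift.{u} Bool))

omit hM in
theorem parasiticFor_of_parasitic (h : parasitic (Scheme.precoverage P) S M) :
    parasiticFor (Scheme.precoverage P) S M := by
  intro Q hQ V g hg
  exact h (Over.mk g) (hP.le g (hQ.2 hg)).1

omit hM in
theorem parasitic_tfae (hM : adequateMod (Scheme.precoverage P) S M) :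
    List.TFAE [parasitic (Scheme.precoverage P) S M, parasiticFor (Scheme.precoverage P) S M,
      ∀ U : S.Opens, Subsingleton (BigSite.sectMod (Scheme.precoverage P) M ((BigSite.zarIncl S).obj U)),
      ∃ (ι : Type u) (U : ι → S.Opens), (∀ i, IsAffineOpen (U i)) ∧ (⨆ i, U i) = ⊤ ∧
        ∀ i, Subsingleton (BigSite.sectMod (Scheme.precoverage P) M ((BigSite.zarIncl S).obj (U i)))] := by
  tfae_have 1 → 2 := parasiticFor_of_parasitic hP M
  tfae_have 2 → 3 := subsingleton_opens_of_parasiticFor hP M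
  tfae_have 3 → 4 := fun h => ⟨S.affineOpens, fun i => i.1, fun i => i.2, iSup_affineOpens_eq_top S, fun i => h i.1⟩
  tfae_have 4 → 1 := fun ⟨ι, U, hU, hsup, h0⟩ => parasitic_of_affineCover hP M hM U hU hsup h0
  tfae_finish

section Serre

variable [HasSheafify (QuotSh.J (Scheme.precoverage P) S) AddCommGrpCat.{u + 1}]
  [(QuotSh.J (Scheme.precoverage P) S).WEqualsLocallyBijective AddCommGrpCat.{u + 1}]

omit hM in
theorem subsingleton_affineOpen_of_exact (C : ShortComplex (BigSite.Mod (Scheme.precoverage P) S)) (hC : C.Exact)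
    (p₁ : parasitic (Scheme.precoverage P) S C.X₁) {U : S.Opens} (hU : IsAffineOpen U)
    [h₃ : Subsingleton (BigSite.sectMod (Scheme.precoverage P) C.X₃ ((BigSite.zarIncl S).obj U))] :
    Subsingleton (BigSite.sectMod (Scheme.precoverage P) C.X₂ ((BigSite.zarIncl S).obj U)) := by
  let R : CommRingCat.{u} := Γ(S, U)
  let a : Spec R ⟶ S := hU.fromSpec
  let e : (BigSite.zarIncl S).obj U ≅ (specOver a).obj (op (base (R : Type u))) :=
    (Over.isoMk hU.isoSpec hU.isoSpec_hom_fromSpec : (BigSite.zarIncl S).obj U ≅ Over.mk a) ≪≫ baseCmp' a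
  haveI : Subsingleton (C.X₃.val.presheaf.obj (op ((BigSite.zarIncl S).obj U))) := h₃
  haveI : Subsingleton (((toMVF (Scheme.precoverage P) a).obj C.X₃).obj (pt (base (R : Type u)))) :=
    subsingleton_presheaf_iso (G := C.X₃.val.presheaf) e.symm
  suffices Subsingleton (((toMVF (Scheme.precoverage P) a).obj C.X₂).obj (pt (base (R : Type u)))) by
    haveI : Subsingleton (C.X₂.val.presheaf.obj (op ((specOver a).obj (op (base (R : Type u)))))) := this
    exact subsingleton_presheaf_iso (G := C.X₂.val.presheaf) e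
  refine subsingleton_of_forall_eq 0 fun x => ?_
  obtain ⟨s, rfl⟩ := (((toMVF_leftExact a (ShortComplex.mk _ _ (kernel.condition C.g)) (ShortComplex.exact_kernel _)
    (base (R : Type u))).2) x).1 (Subsingleton.elim _ _)
  haveI : Epi (kernel.lift C.g C.f C.zero) := C.exact_iff_epi_kernel_lift.1 hC
  obtain ⟨κ, hκ, Bk, f, hf, hsurj, hlift⟩ := affine_local_lift hP a (kernel.lift C.g C.f C.zero) s
  refine sect_sep a C.X₂.val hP C.X₂.isSheaf f hf hsurj _ fun k => ?_
  obtain ⟨t, ht⟩ := hlift k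
  have hflat : Flat ((specOver a).obj (op (Bk k))).hom := by
    haveI : Flat (specHom (f k)) := (hP.le _ (hf k)).1
    haveI : IsOpenImmersion a := inferInstanceAs (IsOpenImmersion hU.fromSpec)
    have h' : ((specOver a).obj (op (base (R : Type u)))).hom = a :=
      (congrArg (· ≫ a) (specMap_algebraMap_self (R : Type u))).trans (Category.id_comp a)
    rw [← Over.w ((specOver a).map (f k).op), h']
    exact inferInstanceAs (Flat (specHom (f k) ≫ a))
  haveI : Subsingleton (C.X₁.val.presheaf.obj (op ((specOver a).obj (op (Bk k))))) := p₁ _ hflat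
  have ht0 : t = 0 := Subsingleton.elim (α := C.X₁.val.presheaf.obj (op ((specOver a).obj (op (Bk k))))) _ _
  subst ht0
  refine (ap_tr _ (f k) s).symm.trans ?_
  exact (congrArg _ (ht.symm.trans (map_zero _))).trans (map_zero _)

omit hM in
theorem parasitic_of_exact (C : ShortComplex (BigSite.Mod (Scheme.precoverage P) S)) (hC : C.Exact)
    (h₂ : adequateMod (Scheme.precoverage P) S C.X₂) (p₁ : parasitic (Scheme.precoverage P) S C.X₁)
    (p₃ : parasitic (Scheme.precoverage P) S C.X₃) : parasitic (Scheme.precoverage P) S C.X₂ :=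
  parasitic_of_affineCover hP C.X₂ h₂ (fun i : S.affineOpens => i.1) (fun i => i.2) (iSup_affineOpens_eq_top S) fun i => by
    haveI : Subsingleton (BigSite.sectMod (Scheme.precoverage P) C.X₃ ((BigSite.zarIncl S).obj i.1)) :=
      p₃ _ (inferInstanceAs (Flat i.1.ι))
    exact subsingleton_affineOpen_of_exact hP C hC p₁ i.2

end Serre

end Groth.MiscGeom.Adq

end
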