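import Groth.Agent.MiscGeom.AdeqHigher
import Groth.Agent.MiscGeom.AdeqParasitic

/-!
# Higher direct images of parasitic adequate modules
-/

universe u v

open CategoryTheory CategoryTheory.Limits AlgebraicGeometry Opposite

noncomputable section

namespace Groth.MiscGeom.Adq

open Adeq Cech

/-- a predicate on opens of a quasi-separated scheme that holds on affines and passes to unions -/
theorem compact_opens_induction {Y : Scheme.{u}} [QuasiSeparatedSpace Y] (Q : Y.Opens → Prop)
    (haff : ∀ U : Y.Opens, IsAffineOpen U → Q U) (hsup : ∀ U V : Y.Opens, Q U → Q V → Q (U ⊓ V) → Q (U ⊔ V))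
    {S : Y.Opens} (hS : IsCompact (S : Set Y)) : Q S := by
  classical
  have hle : ∀ (W : Y.Opens), IsAffineOpen W → ∀ S : Y.Opens, IsCompact (S : Set Y) → S ≤ W → Q S := by
    intro W hW S hS hSW
    have key : ∀ (s : Finset Γ(Y, W)) (r : Γ(Y, W)), Q ((s.sup fun x => Y.basicOpen x) ⊓ Y.basicOpen r) := by
      intro s
      induction s using Finset.induction with
      | empty =>
        intro r
        rw [Finset.sup_empty, bot_inf_eq]
        exact haff _ (isAffineOpen_bot Y)
      | insert c s hc ih =>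
        intro r
        rw [Finset.sup_insert, inf_sup_right, sup_comm]
        refine hsup _ _ (ih r) (haff _ (by rw [← Scheme.basicOpen_mul]; exact hW.basicOpen _)) ?_
        have := ih (c * r)
        rw [Scheme.basicOpen_mul] at this
        rwa [inf_assoc, inf_left_comm (Y.basicOpen r), inf_idem]
    obtain ⟨s, hs⟩ := hS.elim_finite_subcover
      (fun r : {r : Γ(Y, W) // Y.basicOpen r ≤ S} => (Y.basicOpen r.1 : Set Y)) (fun r => (Y.basicOpen r.1).2)
      (fun x hx => by
        obtain ⟨r, hr, hxr⟩ := hW.exists_basicOpen_le ⟨x, hx⟩ (hSW hx)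
        exact Set.mem_iUnion.2 ⟨⟨r, hr⟩, hxr⟩)
    have e : S = ((s.image Subtype.val).sup fun x => Y.basicOpen x) ⊓ Y.basicOpen (1 : Γ(Y, W)) := by
      rw [Y.basicOpen_of_isUnit isUnit_one, Finset.sup_image]
      refine le_antisymm (le_inf (fun x hx => ?_) hSW) (inf_le_left.trans (Finset.sup_le fun r _ => r.2))
      obtain ⟨r, hr, hxr⟩ := Set.mem_iUnion₂.1 (hs hx)
      exact (Finset.le_sup (f := fun r : {r : Γ(Y, W) // Y.basicOpen r ≤ S} => Y.basicOpen r.1) hr) hxr
    exact e ▸ key _ 1
  refine compact_open_induction_on S hS (haff _ (isAffineOpen_bot Y)) fun S hS U hSQ => ?_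
  exact hsup _ _ hSQ (haff _ U.2)
    (hle _ U.2 _ (QuasiSeparatedSpace.inter_isCompact _ _ S.2 hS U.1.2 U.2.isCompact) inf_le_right)

theorem subsingleton_middle {A : Type u} [CommRing A] (C : ShortComplex (MVF A)) (hC : C.Exact) (B : Alg A)
    (h₁ : Subsingleton (C.X₁.obj (pt B))) (h₃ : Subsingleton (C.X₃.obj (pt B))) : Subsingleton (C.X₂.obj (pt B)) :=
  subsingleton_of_forall_eq 0 fun x => by
    obtain ⟨y, rfl⟩ := ((exact_ap C hC B) x).1 (Subsingleton.elim _ _)
    exact (congrArg _ (Subsingleton.elim y 0)).trans (map_zero _)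

theorem subsingleton_of_iso_mvf {A : Type u} [CommRing A] {F G : MVF A} (e : F ≅ G) (B : Alg A)
    (h : Subsingleton (F.obj (pt B))) : Subsingleton (G.obj (pt B)) :=
  (ap_bijective e B).2.subsingleton

theorem sheafification_affine_surjective {P : MorphismProperty Scheme.{u}} (hP : GoodProp P) {S : Scheme.{u}}
    [BigSite.OSh (Scheme.precoverage P)]
    [HasSheafify (QuotSh.J (Scheme.precoverage P) S) AddCommGrpCat.{u + 1}]
    [(QuotSh.J (Scheme.precoverage P) S).WEqualsLocallyBijective AddCommGrpCat.{u + 1}]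
    {R : CommRingCat.{u}} (a : Spec R ⟶ S)
    (P₀ : PresheafOfModules.{u + 1} (BigSite.ORing (Scheme.precoverage P) S).obj) (hF : adequate R (FP a P₀)) (B : Alg R) :
    Function.Surjective (ap ((toMVFPre (Scheme.precoverage P) a).map
      ((PresheafOfModules.sheafificationAdjunction (𝟙 (BigSite.ORing (Scheme.precoverage P) S).obj)).unit.app P₀)) B) := by
  let Q := (PresheafOfModules.sheafification (𝟙 (BigSite.ORing (Scheme.precoverage P) S).obj)).obj P₀
  let η : P₀ ⟶ Q.val := (PresheafOfModules.sheafificationAdjunction (𝟙 (BigSite.ORing (Scheme.precoverage P) S).obj)).unit.app P₀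
  haveI : Presheaf.IsLocallyInjective (QuotSh.J (Scheme.precoverage P) S) ((PresheafOfModules.toPresheaf _).map η) :=
    inferInstanceAs (Presheaf.IsLocallyInjective _ (CategoryTheory.toSheafify _ P₀.presheaf))
  haveI : Presheaf.IsLocallySurjective (QuotSh.J (Scheme.precoverage P) S) ((PresheafOfModules.toPresheaf _).map η) :=
    inferInstanceAs (Presheaf.IsLocallySurjective _ (CategoryTheory.toSheafify _ P₀.presheaf))
  exact affine_surjective (P₀ := P₀) (Q₀ := Q.val) hP a η Q.isSheaf hF B

variable {P : MorphismProperty Scheme.{u}} {T : Scheme.{u}} [BigSite.OSh (Scheme.precoverage P)]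
  {R : CommRingCat.{u}}
  [HasSheafify (QuotSh.J (Scheme.precoverage P) T) AddCommGrpCat.{u + 1}]
  [(QuotSh.J (Scheme.precoverage P) T).WEqualsLocallyBijective AddCommGrpCat.{u + 1}]
  (hP : GoodProp P) (hPp : StableProd P) {M : BigSite.Mod (Scheme.precoverage P) T}
  (hM : adequateMod (Scheme.precoverage P) T M) (hpar : parasitic (Scheme.precoverage P) T M)
include hP hPp hM hpar

theorem subsingleton_homology_secCx (I : InjectiveResolution M) {Y : Scheme.{u}} [CompactSpace Y]
    [QuasiSeparatedSpace Y] (q : Y ⟶ Spec R) (t : Y ⟶ T) [Flat t] (B : Alg R) [Flat (bB B)] (n : ℕ) :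
    Subsingleton (((secCx q t I.cocomplex).homology n).obj (pt B)) := by
  let Q : Y.Opens → Prop := fun U =>
    ∀ m, Subsingleton (((secCx (U.ι ≫ q) (U.ι ≫ t) I.cocomplex).homology m).obj (pt B))
  have haff : ∀ U : Y.Opens, IsAffineOpen U → Q U := by
    intro U hU m
    haveI : IsAffine U := hU
    cases m with
    | zero =>
      obtain ⟨e⟩ := exists_homology₀_iso I (U.ι ≫ q) (U.ι ≫ t)
      exact subsingleton_of_iso_mvf e B (hpar ((bFun (U.ι ≫ q) (U.ι ≫ t)).obj (op B))
        (inferInstanceAs (Flat (pullback.fst (U.ι ≫ q) (bB B) ≫ U.ι ≫ t))))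
    | succ k =>
      have hz := (exact_secCx_affine I hP hPp (U.ι ≫ q) (U.ι ≫ t) (modAcyclic_adequate hP hM) k).isZero_homology
      refine subsingleton_of_forall_eq 0 fun x => ?_
      exact congrArg (fun φ => ap φ B x) ((IsZero.iff_id_eq_zero _).1 hz)
  have hsup : ∀ U V : Y.Opens, Q U → Q V → Q (U ⊓ V) → Q (U ⊔ V) := by
    intro U V hU hV hUV
    have hS := mvSC_shortExact q t I.cocomplex hP U V
    have h₂ : ∀ m, Subsingleton (((mvSC q t I.cocomplex U V).X₂.homology m).obj (pt B)) := fun m => by
      let F := HomologicalComplex.homologyFunctor (MVF R) (ComplexShape.up ℕ) m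
      haveI : F.Additive := inferInstance
      haveI : PreservesBinaryBiproduct (secCx (U.ι ≫ q) (U.ι ≫ t) I.cocomplex)
          (secCx (V.ι ≫ q) (V.ι ≫ t) I.cocomplex) F := preservesBinaryBiproduct_of_preservesBiproduct F _ _
      refine subsingleton_of_iso_mvf (F.mapBiprod (secCx (U.ι ≫ q) (U.ι ≫ t) I.cocomplex)
        (secCx (V.ι ≫ q) (V.ι ≫ t) I.cocomplex)).symm B (subsingleton_of_forall_eq 0 fun z => ?_)
      haveI : Subsingleton ((F.obj (secCx (U.ι ≫ q) (U.ι ≫ t) I.cocomplex)).obj (pt B)) := hU m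
      haveI : Subsingleton ((F.obj (secCx (V.ι ≫ q) (V.ι ≫ t) I.cocomplex)).obj (pt B)) := hV m
      exact (biprod_ext B z).trans (by
        rw [Subsingleton.elim (ap biprod.fst B z) 0, Subsingleton.elim (ap biprod.snd B z) 0, map_zero, map_zero,
          add_zero])
    intro m
    cases m with
    | zero =>
      haveI : Mono (HomologicalComplex.homologyMap (mvSC q t I.cocomplex U V).f 0) := by
        haveI := hS.mono_f
        haveI : Mono ((mvSC q t I.cocomplex U V).f.f 0) :=
          inferInstanceAs (Mono ((HomologicalComplex.eval _ _ 0).map (mvSC q t I.cocomplex U V).f))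
        exact HomologicalComplex.mono_homologyMap_of_mono_of_not_rel _ 0 (by simp)
      haveI := h₂ 0
      exact (inj_of_mono (HomologicalComplex.homologyMap (mvSC q t I.cocomplex U V).f 0) B).subsingleton
    | succ k => exact subsingleton_middle _ (hS.homology_exact₁ k (k + 1) rfl) B (hUV k) (h₂ (k + 1))
  have h := compact_opens_induction Q haff hsup (S := (⊤ : Y.Opens)) isCompact_univ n
  let η := secRes (Scheme.precoverage P) q t ((⊤ : Y.Opens).ι ≫ q) ((⊤ : Y.Opens).ι ≫ t) (⊤ : Y.Opens).ι rfl rfl
  haveI : IsIso (⊤ : Y.Opens).ι := inferInstanceAs (IsIso Y.topIso.hom)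
  haveI : ∀ N, IsIso (η.app N) := fun N => isIso_of_bij _ fun B => by
    haveI := bHom_isIso q t ((⊤ : Y.Opens).ι ≫ q) ((⊤ : Y.Opens).ι ≫ t) (⊤ : Y.Opens).ι rfl rfl B
    exact ConcreteCategory.bijective_of_isIso
      (N.val.presheaf.map (bHom q t ((⊤ : Y.Opens).ι ≫ q) ((⊤ : Y.Opens).ι ≫ t) (⊤ : Y.Opens).ι rfl rfl B).op)
  haveI : IsIso η := NatIso.isIso_of_isIso_app η
  exact subsingleton_of_iso_mvf ((HomologicalComplex.homologyFunctor _ _ n).mapIso
    ((NatIso.mapHomologicalComplex (asIso η) (ComplexShape.up ℕ)).app I.cocomplex)).symm B h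

theorem parasitic_Rpush {S : Scheme.{u}} [HasSheafify (QuotSh.J (Scheme.precoverage P) S) AddCommGrpCat.{u + 1}]
    [(QuotSh.J (Scheme.precoverage P) S).WEqualsLocallyBijective AddCommGrpCat.{u + 1}]
    [HasInjectiveResolutions (BigSite.Mod (Scheme.precoverage P) T)]
    (f : T ⟶ S) [QuasiCompact f] [QuasiSeparated f] (i : ℕ) :
    parasitic (Scheme.precoverage P) S ((BigSite.RpushMod (Scheme.precoverage P) f i).obj M) := by
  have hR := adequateMod_Rpush hP hPp hM f i
  obtain ⟨I⟩ := HasInjectiveResolution.out (Z := M)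
  let G := SheafOfModules.forget (BigSite.ORing (Scheme.precoverage P) S)
  let α := 𝟙 (BigSite.ORing (Scheme.precoverage P) S).obj
  let L := PresheafOfModules.sheafification α
  let adj := PresheafOfModules.sheafificationAdjunction α
  haveI : IsIso adj.counit := inferInstance
  let F := BigSite.pushMod (Scheme.precoverage P) f
  let X := (F.mapHomologicalComplex (ComplexShape.up ℕ)).obj I.cocomplex
  let X₀ := (G.mapHomologicalComplex (ComplexShape.up ℕ)).obj X
  let X₁ := (L.mapHomologicalComplex (ComplexShape.up ℕ)).obj X₀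
  let eX : X₁ ≅ X := HomologicalComplex.Hom.isoOfComponents (fun n => (asIso adj.counit).app (X.X n))
    fun p q _ => (adj.counit.naturality (X.d p q)).symm
  haveI : PreservesFiniteLimits L := inferInstance
  haveI : PreservesColimitsOfSize.{0, 0} L := adj.leftAdjoint_preservesColimits
  haveI : PreservesFiniteColimits L := PreservesColimitsOfSize.preservesFiniteColimits L
  let eH : (BigSite.RpushMod (Scheme.precoverage P) f i).obj M ≅ L.obj (X₀.homology i) :=
    I.isoRightDerivedObj F i ≪≫ ((HomologicalComplex.homologyFunctor _ _ i).mapIso eX).symm ≪≫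
      (X₀.sc i).mapHomologyIso L
  refine parasitic_of_affineCover hP _ hR (fun U : S.affineOpens => U.1) (fun U => U.2) (iSup_affineOpens_eq_top S)
    fun U => ?_
  let A : CommRingCat.{u} := Γ(S, U.1)
  let a : Spec A ⟶ S := U.2.fromSpec
  let H := toMVFPre (Scheme.precoverage P) a
  haveI : PreservesFiniteLimits H := ⟨fun J _ _ => inferInstance⟩
  haveI : PreservesFiniteColimits H := ⟨fun J _ _ => inferInstance⟩
  haveI : CompactSpace (pullback a f : Scheme.{u}) := QuasiCompact.compactSpace_of_compactSpace (pullback.fst a f)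
  haveI : QuasiSeparatedSpace (pullback a f : Scheme.{u}) := quasiSeparatedSpace_of_quasiSeparated (pullback.fst a f)
  haveI : IsOpenImmersion a := inferInstanceAs (IsOpenImmersion U.2.fromSpec)
  haveI : Flat (bB (base (A : Type u))) := by
    show Flat (Spec.map (CommRingCat.ofHom (algebraMap (A : Type u) (A : Type u))))
    rw [specMap_algebraMap_self]
    infer_instance
  let Z := secCx (pullback.fst a f) (pullback.snd a f) I.cocomplex
  let eZ : (H.mapHomologicalComplex (ComplexShape.up ℕ)).obj X₀ ≅ Z :=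
    HomologicalComplex.Hom.isoOfComponents (fun n => (pushFunIso f a).app (I.cocomplex.X n))
      fun p q _ => ((pushFunIso f a).hom.naturality (I.cocomplex.d p q)).symm
  let eQ : Z.homology i ≅ H.obj (X₀.homology i) :=
    ((HomologicalComplex.homologyFunctor _ _ i).mapIso eZ).symm ≪≫ (X₀.sc i).mapHomologyIso H
  have hsub : Subsingleton ((H.obj (X₀.homology i)).obj (pt (base (A : Type u)))) :=
    subsingleton_of_iso_mvf eQ _ (subsingleton_homology_secCx hP hPp hM hpar I (pullback.fst a f) (pullback.snd a f)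
      (base (A : Type u)) i)
  have hsurj := sheafification_affine_surjective hP a (X₀.homology i)
    ((adequate A).prop_of_iso eQ (adequate_homology_secCx hP hPp hM I (pullback.fst a f) (pullback.snd a f) i))
    (base (A : Type u))
  haveI : Subsingleton (((toMVFPre (Scheme.precoverage P) a).obj
      ((𝟭 (PresheafOfModules.{u + 1} (BigSite.ORing (Scheme.precoverage P) S).obj)).obj (X₀.homology i))).obj
        (pt (base (A : Type u)))) := hsub
  haveI : Subsingleton (((L.obj (X₀.homology i)).val.presheaf.obj (op ((specOver a).obj (op (base (A : Type u))))))) :=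
    hsurj.subsingleton
  let e : (BigSite.zarIncl S).obj U.1 ≅ (specOver a).obj (op (base (A : Type u))) :=
    (Over.isoMk U.2.isoSpec U.2.isoSpec_hom_fromSpec : (BigSite.zarIncl S).obj U.1 ≅ Over.mk a) ≪≫ baseCmp' a
  haveI : Subsingleton ((L.obj (X₀.homology i)).val.presheaf.obj (op ((BigSite.zarIncl S).obj U.1))) :=
    subsingleton_presheaf_iso (G := (L.obj (X₀.homology i)).val.presheaf) e
  haveI : Subsingleton (((PresheafOfModules.toPresheaf _).obj ((SheafOfModules.forget _).obj
      (L.obj (X₀.homology i)))).obj (op ((BigSite.zarIncl S).obj U.1))) := this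
  exact (ConcreteCategory.bijective_of_isIso
    (((PresheafOfModules.toPresheaf _).map ((SheafOfModules.forget _).map eH.inv)).app
      (op ((BigSite.zarIncl S).obj U.1)))).2.subsingleton

end Groth.MiscGeom.Adq

end
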