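import Groth.Agent.MiscGeom.AdeqBasic
import Mathlib.Algebra.Category.ModuleCat.Injective
import Mathlib.Algebra.Category.ModuleCat.EnoughInjectives
import Mathlib.Algebra.Category.ModuleCat.EpiMono

/-!
# Enough injectives in module-valued functors, by coinduction
-/

universe u

open CategoryTheory CategoryTheory.Limits Opposite TensorProduct

noncomputable section

namespace Groth.MiscGeom.Adq

open Adeq

variable {A : Type u} [CommRing A] (J : ∀ B : Alg A, ModuleCat.{u + 1} (B : Type u))

/-- the factor of the coinduced module at `p : B' ⟶ B` -/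
def CoindFactor (B' : Alg A) (p : Σ B : Alg A, (B' ⟶ B)) : Type (u + 1) := J p.1

instance (B' : Alg A) (p : Σ B : Alg A, (B' ⟶ B)) : AddCommGroup (CoindFactor J B' p) :=
  inferInstanceAs (AddCommGroup (J p.1))

instance (B' : Alg A) (p : Σ B : Alg A, (B' ⟶ B)) : Module (B' : Type u) (CoindFactor J B' p) :=
  Module.compHom (J p.1) p.2.hom.toRingHom

abbrev coindVal (B' : Alg A) : Type (u + 1) := ∀ p : (Σ B : Alg A, (B' ⟶ B)), CoindFactor J B' p

def coindAb : (Alg A)ᵒᵖᵒᵖ ⥤ Ab.{u + 1} where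
  obj X := AddCommGrpCat.of (coindVal J X.unop.unop)
  map {X Y} f := AddCommGrpCat.ofHom (AddMonoidHom.mk' (fun φ p => φ ⟨p.1, f.unop.unop ≫ p.2⟩) fun _ _ => rfl)
  map_id X := by
    ext φ
    rfl
  map_comp f g := by
    ext φ
    rfl

instance (X : (Alg A)ᵒᵖᵒᵖ) : Module ((ringOf A).obj X) ((coindAb J).obj X) :=
  inferInstanceAs (Module (X.unop.unop : Type u) (coindVal J X.unop.unop))

/-- the coinduced module-valued functor -/
def coind : MVF A :=
  PresheafOfModules.ofPresheaf (coindAb J) (by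
    intro X Y f r m
    funext p
    rfl)

/-- coordinates of a section -/
def cget {B' : Alg A} (φ : (coind J).obj (pt B')) {B : Alg A} (g : B' ⟶ B) : J B :=
  (φ : coindVal J B') ⟨B, g⟩

theorem cget_ext {B' : Alg A} {φ ψ : (coind J).obj (pt B')}
    (h : ∀ (B : Alg A) (g : B' ⟶ B), cget J φ g = cget J ψ g) : φ = ψ :=
  funext fun p => h p.1 p.2

theorem cget_tr {B' B'' : Alg A} (f : B' ⟶ B'') (φ : (coind J).obj (pt B')) {B : Alg A} (g : B'' ⟶ B) :
    cget J (tr (coind J) f φ) g = cget J φ (f ≫ g) := rfl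

theorem cget_add {B' : Alg A} (φ ψ : (coind J).obj (pt B')) {B : Alg A} (g : B' ⟶ B) :
    cget J (φ + ψ) g = cget J φ g + cget J ψ g := rfl

theorem cget_smul {B' : Alg A} (b : B') (φ : (coind J).obj (pt B')) {B : Alg A} (g : B' ⟶ B) :
    cget J (b • φ) g = g.hom b • cget J φ g := rfl

def cmk (B' : Alg A) (v : ∀ (B : Alg A), (B' ⟶ B) → J B) : (coind J).obj (pt B') :=
  show coindVal J B' from fun p => v p.1 p.2

theorem cget_cmk (B' : Alg A) (v : ∀ (B : Alg A), (B' ⟶ B) → J B) {B : Alg A} (g : B' ⟶ B) :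
    cget J (cmk J B' v) g = v B g := rfl

theorem exists_coind_hom {F : MVF A} (l : ∀ B : Alg A, F.obj (pt B) →ₗ[(B : Type u)] J B) :
    ∃ ψ : F ⟶ coind J, ∀ (B' B : Alg A) (g : B' ⟶ B) (x : F.obj (pt B')),
      cget J (ap ψ B' x) g = l B (tr F g x) := by
  let comp : ∀ B' : Alg A, F.obj (pt B') →ₗ[(B' : Type u)] (coind J).obj (pt B') := fun B' =>
    { toFun := fun x => cmk J B' fun B g => l B (tr F g x)
      map_add' := fun x y => cget_ext J fun B g => by
        rw [cget_add]; simp only [cget_cmk, map_add]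
      map_smul' := fun b x => cget_ext J fun B g => by
        rw [RingHom.id_apply, cget_smul]
        simp only [cget_cmk]
        rw [tr_smul, map_smul] }
  refine ⟨⟨fun X => ModuleCat.ofHom (comp X.unop.unop), ?_⟩, fun B' B g x => rfl⟩
  intro X Y f
  refine ModuleCat.hom_ext (LinearMap.ext fun x => cget_ext J fun B g => ?_)
  exact congrArg (l B) (tr_comp F f.unop.unop g x)

theorem injective_coind (hJ : ∀ B, Injective (J B)) : Injective (coind J) := by
  refine ⟨fun {X Y} φ i hi => ?_⟩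
  let l : ∀ B : Alg A, X.obj (pt B) →ₗ[(B : Type u)] J B := fun B =>
    { toFun := fun x => cget J (ap φ B x) (𝟙 B)
      map_add' := fun x y => by rw [map_add, cget_add]
      map_smul' := fun b x => by
        rw [map_smul, cget_smul, RingHom.id_apply]
        rfl }
  have hext : ∀ B : Alg A, ∃ m : Y.obj (pt B) →ₗ[(B : Type u)] J B, ∀ x, m (ap i B x) = l B x := fun B => by
    haveI := hJ B
    haveI : Mono (ModuleCat.ofHom (ap i B)) := (ModuleCat.mono_iff_injective _).2 (inj_of_mono i B)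
    exact ⟨(Injective.factorThru (ModuleCat.ofHom (l B)) (ModuleCat.ofHom (ap i B))).hom, fun x =>
      congr($(Injective.comp_factorThru (ModuleCat.ofHom (l B)) (ModuleCat.ofHom (ap i B))).hom x)⟩
  choose m hm using hext
  obtain ⟨ψ, hψ⟩ := exists_coind_hom J m
  refine ⟨ψ, hom_ext' fun B' x => cget_ext J fun B g => ?_⟩
  rw [ap_comp, hψ, ← ap_tr, hm]
  show cget J (ap φ B (tr X g x)) (𝟙 B) = _
  rw [ap_tr, cget_tr, Category.comp_id]

theorem enoughInjectives_mvf : EnoughInjectives (MVF A) := by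
  refine ⟨fun F => ?_⟩
  let J : ∀ B : Alg A, ModuleCat.{u + 1} (B : Type u) := fun B => Injective.under (F.obj (pt B))
  obtain ⟨ψ, hψ⟩ := exists_coind_hom J fun B => (Injective.ι (F.obj (pt B))).hom
  refine ⟨⟨coind J, injective_coind J fun B => inferInstanceAs (Injective (Injective.under _)), ψ,
    mono_of_inj ψ fun B x y h => ?_⟩⟩
  have h' := congrArg (fun φ => cget J φ (𝟙 B)) h
  simp only [hψ, tr_id] at h'
  exact (ModuleCat.mono_iff_injective (Injective.ι (F.obj (pt B)))).1 inferInstance h'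

end Groth.MiscGeom.Adq

end
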