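import Groth.Agent.MiscGeom.AdeqBasic
import Mathlib.LinearAlgebra.TensorProduct.Finiteness
import Mathlib.LinearAlgebra.Finsupp.Supported
import Mathlib.Algebra.Category.ModuleCat.Projective
import Mathlib.RingTheory.Finiteness.Cardinality
import Mathlib.RingTheory.Finiteness.Basic
import Mathlib.RingTheory.Finiteness.Prod
import Mathlib.RingTheory.Finiteness.Finsupp
import Mathlib.LinearAlgebra.FreeModule.Finite.Basic
import Mathlib.LinearAlgebra.Basis.Prod

/-!
# Every element of an adequate functor comes from a linearly adequate one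
-/

universe u

open CategoryTheory CategoryTheory.Limits Opposite TensorProduct

noncomputable section

namespace Groth.MiscGeom.Adq

open Adeq

variable {A : Type u} [CommRing A]

/-- finite free modules in the universe of `ModuleCat.{u+1} A` -/
abbrev FreeM (A : Type u) [CommRing A] (n : ℕ) : ModuleCat.{u + 1} A :=
  ModuleCat.of A (ULift.{u + 1} (Fin n) →₀ A)

theorem exists_free_lift (M : ModuleCat.{u + 1} A) (B : Type u) [CommRing B] [Algebra A B] (x : B ⊗[A] M) :
    ∃ (n : ℕ) (g : FreeM A n ⟶ M) (y : B ⊗[A] FreeM A n), g.hom.baseChange B y = x := by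
  obtain ⟨S, hS, hx⟩ := TensorProduct.exists_finite_submodule_right_of_setFinite {x} (Set.finite_singleton x)
  obtain ⟨x', hx'⟩ := hx rfl
  obtain ⟨n, f, hf⟩ := Module.Finite.exists_fin' A S
  let f' : (ULift.{u + 1} (Fin n) →₀ A) →ₗ[A] S :=
    f ∘ₗ ((Finsupp.domLCongr Equiv.ulift).trans (Finsupp.linearEquivFunOnFinite A A (Fin n))).toLinearMap
  have hf' : Function.Surjective f' := hf.comp (LinearEquiv.surjective _)
  obtain ⟨y, hy⟩ := LinearMap.lTensor_surjective B hf' x'
  refine ⟨n, ModuleCat.ofHom (S.subtype ∘ₗ f'), y, ?_⟩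
  show (S.subtype ∘ₗ f').lTensor B y = x
  rw [LinearMap.lTensor_comp_apply, hy]
  exact hx'

theorem exists_supported {P : Type (u + 1)} [AddCommGroup P] [Module A P] [Module.Finite A P] {ι : Type (u + 1)}
    (h : P →ₗ[A] (ι →₀ A)) :
    ∃ s : Finset ι, ∀ p, h p ∈ Finsupp.supported A A (s : Set ι) := by
  classical
  obtain ⟨t, ht⟩ := (Module.Finite.fg_top (R := A) (M := P))
  refine ⟨t.biUnion fun p => (h p).support, fun p => ?_⟩
  have : (⊤ : Submodule A P) ≤ Submodule.comap h (Finsupp.supported A A (t.biUnion fun p => (h p).support : Set ι)) := by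
    rw [← ht, Submodule.span_le]
    intro q hq
    exact Finset.coe_subset.2 (Finset.subset_biUnion_of_mem (fun p => (h p).support) hq)
  exact this Submodule.mem_top

/-- If `φ` kills `x ∈ B ⊗ M`, this happens already at a finite free level. -/
theorem exists_finiteFree_square {M N : ModuleCat.{u + 1} A} (φ : M ⟶ N) (B : Type u) [CommRing B] [Algebra A B]
    (x : B ⊗[A] M) (hx : φ.hom.baseChange B x = 0) :
    ∃ (P P' : ModuleCat.{u + 1} A) (_ : Module.Finite A P) (_ : Module.Free A P) (_ : Module.Finite A P')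
      (_ : Module.Free A P') (h : P ⟶ P') (g : P ⟶ M) (g' : P' ⟶ N) (y : B ⊗[A] P),
      g ≫ φ = h ≫ g' ∧ h.hom.baseChange B y = 0 ∧ g.hom.baseChange B y = x := by
  classical
  obtain ⟨n, g₀, y₀, hy₀⟩ := exists_free_lift M B x
  let q : (N →₀ A) →ₗ[A] N := Finsupp.linearCombination A id
  have hq : Function.Surjective q := Finsupp.linearCombination_id_surjective A N
  obtain ⟨h₀, hh₀⟩ := Module.projective_lifting_property q (φ.hom ∘ₗ g₀.hom) hq
  have hz : q.lTensor B (h₀.lTensor B y₀) = 0 := by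
    rw [← LinearMap.lTensor_comp_apply, hh₀, LinearMap.lTensor_comp_apply]
    exact (congrArg (φ.hom.lTensor B) hy₀).trans hx
  have hker : Function.Exact (LinearMap.ker q).subtype q := LinearMap.exact_subtype_ker_map q
  obtain ⟨w, hw⟩ := (@lTensor_exact A (LinearMap.ker q) (N →₀ A) N _ _ _ _ _ _ _ (LinearMap.ker q).subtype q B _ _ hker hq (h₀.lTensor B y₀)).1 hz
  obtain ⟨m, g₁, y₁, hy₁⟩ := exists_free_lift (ModuleCat.of A (LinearMap.ker q)) B w
  let k₁ : FreeM A m →ₗ[A] (N →₀ A) := (LinearMap.ker q).subtype ∘ₗ g₁.hom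
  let P : ModuleCat.{u + 1} A := ModuleCat.of A (FreeM A n × FreeM A m)
  let h' : (FreeM A n × FreeM A m) →ₗ[A] (N →₀ A) :=
    h₀ ∘ₗ LinearMap.fst A _ _ - k₁ ∘ₗ LinearMap.snd A _ _
  let y : B ⊗[A] (FreeM A n × FreeM A m) :=
    (LinearMap.inl A _ _).lTensor B y₀ + (LinearMap.inr A _ _).lTensor B y₁
  obtain ⟨s, hs⟩ := exists_supported h'
  let P' : ModuleCat.{u + 1} A := ModuleCat.of A ((s : Set N) →₀ A)
  let e := Finsupp.supportedEquivFinsupp (M := A) (R := A) (s : Set N)
  let h : P ⟶ P' := ModuleCat.ofHom (e.toLinearMap ∘ₗ h'.codRestrict _ hs)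
  let g : P ⟶ M := ModuleCat.ofHom (g₀.hom ∘ₗ LinearMap.fst A _ _)
  let g' : P' ⟶ N := ModuleCat.ofHom (q ∘ₗ (Finsupp.supported A A (s : Set N)).subtype ∘ₗ e.symm.toLinearMap)
  have hr : ∀ p : Finsupp.supported A A (s : Set N), Finsupp.subtypeDomain (· ∈ (s : Set N)) (p : N →₀ A) = e p :=
    fun p => by ext i; rfl
  have hlin : ∃ r : (N →₀ A) →ₗ[A] P', r ∘ₗ h' = h.hom := by
    refine ⟨{ toFun := Finsupp.subtypeDomain (· ∈ (s : Set N))
              map_add' := fun _ _ => Finsupp.subtypeDomain_add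
              map_smul' := fun _ _ => by ext i; rfl }, ?_⟩
    exact LinearMap.ext fun p => hr ⟨h' p, hs p⟩
  obtain ⟨r, hr⟩ := hlin
  refine ⟨P, P', inferInstanceAs (Module.Finite A (FreeM A n × FreeM A m)),
    inferInstanceAs (Module.Free A (FreeM A n × FreeM A m)),
    inferInstanceAs (Module.Finite A ((s : Set N) →₀ A)),
    inferInstanceAs (Module.Free A ((s : Set N) →₀ A)), h, g, g', y, ?_, ?_, ?_⟩
  · refine ModuleCat.hom_ext (LinearMap.ext fun p => ?_)
    show φ.hom (g₀.hom p.1) = q ((e.symm (e ⟨h' p, hs p⟩) : N →₀ A))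
    rw [e.symm_apply_apply]
    show φ.hom (g₀.hom p.1) = q (h₀ p.1 - k₁ p.2)
    rw [map_sub, show q (k₁ p.2) = 0 from (g₁.hom p.2).2, sub_zero]
    exact (LinearMap.congr_fun hh₀ p.1).symm
  · show h.hom.lTensor B y = 0
    rw [← hr, LinearMap.lTensor_comp_apply]
    convert map_zero (r.lTensor B)
    simp only [y, map_add, ← LinearMap.lTensor_comp_apply]
    have e₁ : h' ∘ₗ LinearMap.inl A _ _ = h₀ := by ext p; simp [h']
    have e₂ : h' ∘ₗ LinearMap.inr A _ _ = -k₁ := by ext p; simp [h']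
    rw [e₁, e₂, LinearMap.lTensor_neg, LinearMap.neg_apply, show k₁ = (LinearMap.ker q).subtype ∘ₗ g₁.hom from rfl,
      LinearMap.lTensor_comp_apply, show g₁.hom.lTensor B y₁ = w from hy₁, hw, add_neg_cancel]
  · show (g₀.hom ∘ₗ LinearMap.fst A _ _).lTensor B y = x
    simp only [y, map_add, ← LinearMap.lTensor_comp_apply, LinearMap.comp_assoc, LinearMap.fst_comp_inl,
      LinearMap.fst_comp_inr, LinearMap.comp_zero, LinearMap.lTensor_zero, LinearMap.zero_apply, add_zero,
      LinearMap.comp_id]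
    exact hy₀

/-- Every element of a functor with a presentation is in the image of a linearly adequate one. -/
theorem Pres.exists_lin {F : MVF A} (P : Pres F) (B : Alg A) (ξ : F.obj (pt B)) :
    ∃ (L : MVF A) (f : L ⟶ F), linAdequate A L ∧ ξ ∈ Set.range (ap f B) := by
  obtain ⟨Q, Q', _, _, _, _, h, g, g', y, hsq, hy, hgy⟩ :=
    exists_finiteFree_square P.φ (B : Type u) (T P.M B (ap P.ι B ξ)) (P.exact B |>.apply_apply_eq_zero ξ)
  obtain ⟨e, he⟩ := isIso_kernelLift P.ι ((underline A).map P.φ) P.inj P.exact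
  have w : (kernel.ι ((underline A).map h) ≫ (underline A).map g) ≫ (underline A).map P.φ = 0 := by
    rw [Category.assoc, ← Functor.map_comp, hsq, Functor.map_comp, kernel.condition_assoc, zero_comp]
  let f : kernel ((underline A).map h) ⟶ F := kernel.lift _ _ w ≫ e.inv
  have hf : f ≫ P.ι = kernel.ι ((underline A).map h) ≫ (underline A).map g := by
    rw [← he, Category.assoc, Iso.inv_hom_id_assoc, kernel.lift_ι]
  obtain ⟨l, hl⟩ := ((kernel_exact ((underline A).map h) B) ((T Q B).symm y)).1 hy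
  refine ⟨_, f, linAdequate_kernel Q Q' h, l, P.inj B ?_⟩
  rw [← ap_comp, hf, ap_comp, hl]
  exact hgy

end Groth.MiscGeom.Adq

end
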