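import Groth.Agent.MiscGeom.AdeqSheafify

/-!
# Kernels, cokernels, colimits of adequate modules
-/

universe u v

open CategoryTheory CategoryTheory.Limits AlgebraicGeometry Opposite

noncomputable section

namespace Groth.MiscGeom.Adq

open Adeq

section Preserve

variable {K : Precoverage Scheme.{u}} [BigSite.OSh K] {S : Scheme.{u}} {R : CommRingCat.{u}} (a : Spec R ⟶ S)

/-- the value of `F_{P,R}` at `B` is a section module with restricted scalars -/
def evalToMVFPre (B : Alg R) :
    toMVFPre K a ⋙ PresheafOfModules.evaluation.{u + 1} (ringOf R) (pt B) ≅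
      PresheafOfModules.evaluation.{u + 1} (BigSite.ORing K S).obj (op ((specOver a).obj (op B))) ⋙
        ModuleCat.restrictScalars.{u + 1} (toSect K a B) :=
  NatIso.ofComponents (fun _ => Iso.refl _) fun _ => rfl

instance toMVFPre_preservesColimitsOfShape (J : Type v) [Category.{v} J] [HasColimitsOfShape J AddCommGrpCat.{u + 1}] :
    PreservesColimitsOfShape J (toMVFPre K a) where
  preservesColimit {D} :=
    { preserves := fun {c} hc => ⟨PresheafOfModules.evaluationJointlyReflectsColimits _ _ fun X => by
        obtain ⟨⟨B⟩⟩ := X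
        let e := isColimitOfPreserves
          (PresheafOfModules.evaluation.{u + 1} (BigSite.ORing K S).obj (op ((specOver a).obj (op B))) ⋙
            ModuleCat.restrictScalars.{u + 1} (toSect K a B)) hc
        exact IsColimit.mapCoconeEquiv (evalToMVFPre a B).symm e⟩ }

instance toMVFPre_preservesLimitsOfShape (J : Type) [SmallCategory J] [FinCategory J] :
    PreservesLimitsOfShape J (toMVFPre K a) where
  preservesLimit {D} :=
    { preserves := fun {c} hc => ⟨PresheafOfModules.evaluationJointlyReflectsLimits _ _ fun X => by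
        obtain ⟨⟨B⟩⟩ := X
        let e := isLimitOfPreserves
          (PresheafOfModules.evaluation.{u + 1} (BigSite.ORing K S).obj (op ((specOver a).obj (op B))) ⋙
            ModuleCat.restrictScalars.{u + 1} (toSect K a B)) hc
        exact IsLimit.mapConeEquiv (evalToMVFPre a B).symm e⟩ }

end Preserve

variable {P : MorphismProperty Scheme.{u}} (hP : GoodProp P) {S : Scheme.{u}}
  [BigSite.OSh (Scheme.precoverage P)]
  [HasSheafify (QuotSh.J (Scheme.precoverage P) S) AddCommGrpCat.{u + 1}]
  [(QuotSh.J (Scheme.precoverage P) S).WEqualsLocallyBijective AddCommGrpCat.{u + 1}]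
include hP

theorem adequateMod_colimit' {J : Type (u + 1)} [SmallCategory J] (D : J ⥤ BigSite.Mod (Scheme.precoverage P) S)
    [HasColimit D] (hD : ∀ j, adequateMod (Scheme.precoverage P) S (D.obj j)) :
    adequateMod (Scheme.precoverage P) S (colimit D) := by
  refine adequateMod_colimit hP D fun R a => ?_
  refine (adequate R).prop_of_iso (preservesColimitIso (toMVFPre (Scheme.precoverage P) a) _).symm ?_
  exact adequate_colimit' _ fun j => adequate_toMVF hP a (D.obj j) (hD j)

theorem adequateMod_cokernel {M N : BigSite.Mod (Scheme.precoverage P) S} (φ : M ⟶ N) [HasCokernel φ]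
    (hM : adequateMod (Scheme.precoverage P) S M) (hN : adequateMod (Scheme.precoverage P) S N) :
    adequateMod (Scheme.precoverage P) S (cokernel φ) := by
  refine adequateMod_colimit hP (parallelPair φ 0) fun R a => ?_
  let G := SheafOfModules.forget (BigSite.ORing (Scheme.precoverage P) S)
  let H := toMVFPre (Scheme.precoverage P) a
  have e : H.obj (colimit (parallelPair φ 0 ⋙ G)) ≅ cokernel (H.map (G.map φ)) :=
    preservesColimitIso H _ ≪≫ HasColimit.isoOfNatIso (Functor.associator _ _ _ ≪≫ diagramIsoParallelPair _ ≪≫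
      parallelPair.ext (Iso.refl _) (Iso.refl _)
        (by show H.map (G.map φ) ≫ 𝟙 _ = 𝟙 _ ≫ H.map (G.map φ); rw [Category.id_comp, Category.comp_id])
        (by show (G ⋙ H).map 0 ≫ 𝟙 _ = 𝟙 _ ≫ 0; rw [Functor.map_zero, Category.id_comp, zero_comp]))
  exact (adequate R).prop_of_iso e.symm
    (adequate_cokernel _ (adequate_toMVF hP a M hM) (adequate_toMVF hP a N hN))

omit [HasSheafify (QuotSh.J (Scheme.precoverage P) S) AddCommGrpCat.{u + 1}]
  [(QuotSh.J (Scheme.precoverage P) S).WEqualsLocallyBijective AddCommGrpCat.{u + 1}] in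
theorem adequateMod_kernel {M N : BigSite.Mod (Scheme.precoverage P) S} (φ : M ⟶ N) [HasKernel φ]
    [PreservesLimit (parallelPair φ 0) (SheafOfModules.forget (BigSite.ORing (Scheme.precoverage P) S))]
    (hM : adequateMod (Scheme.precoverage P) S M) (hN : adequateMod (Scheme.precoverage P) S N) :
    adequateMod (Scheme.precoverage P) S (kernel φ) := by
  refine adequateMod_of_all hP _ fun R a => ?_
  let G := SheafOfModules.forget (BigSite.ORing (Scheme.precoverage P) S)
  let H := toMVFPre (Scheme.precoverage P) a
  have e : H.obj (G.obj (kernel φ)) ≅ kernel (H.map (G.map φ)) :=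
    H.mapIso (PreservesKernel.iso G φ) ≪≫ PreservesKernel.iso H (G.map φ)
  exact (adequate R).prop_of_iso e.symm
    (adequate_kernel _ (adequate_toMVF hP a M hM) (adequate_toMVF hP a N hN))

end Groth.MiscGeom.Adq

end
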