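import Groth.Agent.MiscGeom.AdeqModExt
import Mathlib.AlgebraicGeometry.Morphisms.QuasiSeparated

/-!
# Sections of a module over `Y ×_R Spec B` as a module valued functor
-/

universe u v

open CategoryTheory CategoryTheory.Limits AlgebraicGeometry Opposite

noncomputable section

namespace Groth.MiscGeom.Adq

open Adeq

variable {R : CommRingCat.{u}} {T Y : Scheme.{u}}

/-- `Spec B → Spec R` -/
abbrev bB (B : Alg R) : Spec (CommRingCat.of B) ⟶ Spec R := Spec.map (CommRingCat.ofHom (algebraMap R B))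

theorem specHom_bB {B B' : Alg R} (g : B ⟶ B') : specHom g ≫ bB B = bB B' := by
  rw [bB, specHom, ← Spec.map_comp, ← CommRingCat.ofHom_comp, AlgHom.toRingHom_eq_coe, AlgHom.comp_algebraMap]

variable (q : Y ⟶ Spec R) (t : Y ⟶ T)

/-- `Y ×_R Spec B' → Y ×_R Spec B` -/
def bLift {B B' : Alg R} (g : B ⟶ B') : pullback q (bB B') ⟶ pullback q (bB B) :=
  pullback.lift (pullback.fst _ _) (pullback.snd q (bB B') ≫ specHom g)
    (by rw [pullback.condition, Category.assoc, specHom_bB])

@[reassoc]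
theorem bLift_fst {B B' : Alg R} (g : B ⟶ B') : bLift q g ≫ pullback.fst q (bB B) = pullback.fst q (bB B') :=
  pullback.lift_fst _ _ _

@[reassoc]
theorem bLift_snd {B B' : Alg R} (g : B ⟶ B') :
    bLift q g ≫ pullback.snd q (bB B) = pullback.snd q (bB B') ≫ specHom g :=
  pullback.lift_snd _ _ _

theorem specHom_id (B : Alg R) : specHom (𝟙 B) = 𝟙 _ := by
  show Spec.map (CommRingCat.ofHom (RingHom.id _)) = _
  rw [CommRingCat.ofHom_id, Spec.map_id]

theorem specHom_comp {B B' B'' : Alg R} (g : B ⟶ B') (h : B' ⟶ B'') : specHom (g ≫ h) = specHom h ≫ specHom g := by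
  show Spec.map (CommRingCat.ofHom g.hom.toRingHom ≫ CommRingCat.ofHom h.hom.toRingHom) = _
  rw [Spec.map_comp]

theorem bLift_id (B : Alg R) : bLift q (𝟙 B) = 𝟙 _ :=
  pullback.hom_ext (by rw [bLift_fst, Category.id_comp]) (by rw [bLift_snd, specHom_id, Category.comp_id, Category.id_comp])

theorem bLift_comp {B B' B'' : Alg R} (g : B ⟶ B') (h : B' ⟶ B'') : bLift q (g ≫ h) = bLift q h ≫ bLift q g :=
  pullback.hom_ext (by rw [bLift_fst, Category.assoc, bLift_fst, bLift_fst])
    (by rw [bLift_snd, Category.assoc, bLift_snd, bLift_snd_assoc, specHom_comp])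

/-- `B ↦ Y ×_R Spec B` over `T` -/
def bFun : (Alg R)ᵒᵖ ⥤ Over T where
  obj B := Over.mk (pullback.fst q (bB B.unop) ≫ t)
  map {B B'} g := Over.homMk (bLift q g.unop) (bLift_fst_assoc q g.unop t)
  map_id B := Over.OverMorphism.ext (bLift_id q B.unop)
  map_comp {B B' B''} g h := Over.OverMorphism.ext (bLift_comp q h.unop g.unop)

variable (K : Precoverage Scheme.{u}) [BigSite.OSh K]

/-- functions on `Spec B` as functions on `Y ×_R Spec B` -/
def toSectY (B : Alg R) : (B : Type u) →+* (BigSite.ORing K T).obj.obj (op ((bFun q t).obj (op B))) :=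
  (ULift.ringEquiv.symm : Γ(pullback q (bB B), ⊤) ≃+* ULift.{u + 1} Γ(pullback q (bB B), ⊤)).toRingHom.comp
    ((Scheme.ΓSpecIso (CommRingCat.of B)).inv ≫ (pullback.snd q (bB B)).appTop).hom

theorem toSectY_map {B B' : Alg R} (g : B ⟶ B') (b : B) :
    (BigSite.ORing K T).obj.map ((bFun q t).map g.op).op (toSectY q t K B b) = toSectY q t K B' (g.hom b) := by
  refine ULift.ext _ _ ?_
  show ((Scheme.ΓSpecIso (CommRingCat.of B)).inv ≫ (pullback.snd q (bB B)).appTop ≫
      (bLift q g).appTop) b =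
    (CommRingCat.ofHom g.hom.toRingHom ≫ (Scheme.ΓSpecIso (CommRingCat.of B')).inv ≫ (pullback.snd q (bB B')).appTop) b
  rw [← Scheme.Hom.comp_appTop, bLift_snd, Scheme.Hom.comp_appTop,
    ← Category.assoc, ← Category.assoc, Scheme.ΓSpecIso_inv_naturality]

variable {K} (M₀ : PresheafOfModules.{u + 1} (BigSite.ORing K T).obj)

/-- the abelian functor underlying `sectY` -/
def sectYAb : (Alg R)ᵒᵖᵒᵖ ⥤ Ab.{u + 1} :=
  (bFun q t).op ⋙ (PresheafOfModules.toPresheaf (BigSite.ORing K T).obj).obj M₀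

instance sectYAbModuleO (X : (Alg R)ᵒᵖᵒᵖ) :
    Module ((BigSite.ORing K T).obj.obj (op ((bFun q t).obj (op X.unop.unop)))) ((sectYAb q t M₀).obj X) :=
  (M₀.obj (op ((bFun q t).obj (op X.unop.unop)))).isModule

instance sectYAbModule (X : (Alg R)ᵒᵖᵒᵖ) : Module X.unop.unop ((sectYAb q t M₀).obj X) :=
  Module.compHom ((sectYAb q t M₀).obj X) (toSectY q t K X.unop.unop)

/-- `B ↦ M(Y ×_R Spec B)` -/
def sectY : MVF R :=
  PresheafOfModules.ofPresheaf (sectYAb q t M₀) (by
    intro X Y f r m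
    refine (M₀.map_smul (((bFun q t).map f.unop).op) (toSectY q t K X.unop.unop r) m).trans ?_
    exact congrArg (· • _) (toSectY_map q t K f.unop.unop r))

/-- an element of `sectY` as a section -/
def secY {B : Alg R} (x : (sectY q t M₀).obj (pt B)) : M₀.presheaf.obj (op ((bFun q t).obj (op B))) := x

theorem tr_sectY {B B' : Alg R} (g : B ⟶ B') (x : (sectY q t M₀).obj (pt B)) :
    secY q t M₀ (tr (sectY q t M₀) g x) = M₀.presheaf.map ((bFun q t).map g.op).op (secY q t M₀ x) := rfl

variable {Y' : Scheme.{u}} (q' : Y' ⟶ Spec R) (t' : Y' ⟶ T) (h : Y' ⟶ Y) (hq : h ≫ q = q') (ht : h ≫ t = t')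

/-- base change of `h` -/
def bHomL (B : Alg R) : pullback q' (bB B) ⟶ pullback q (bB B) :=
  pullback.lift (pullback.fst _ _ ≫ h) (pullback.snd q' (bB B)) (by rw [Category.assoc, hq, pullback.condition])

@[reassoc]
theorem bHomL_fst (B : Alg R) : bHomL q q' h hq B ≫ pullback.fst q (bB B) = pullback.fst q' (bB B) ≫ h :=
  pullback.lift_fst _ _ _

@[reassoc]
theorem bHomL_snd (B : Alg R) : bHomL q q' h hq B ≫ pullback.snd q (bB B) = pullback.snd q' (bB B) :=
  pullback.lift_snd _ _ _

theorem bHomL_nat {B B' : Alg R} (g : B ⟶ B') :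
    bLift q' g ≫ bHomL q q' h hq B = bHomL q q' h hq B' ≫ bLift q g :=
  pullback.hom_ext (by rw [Category.assoc, Category.assoc, bHomL_fst, bLift_fst_assoc, bLift_fst, bHomL_fst])
    (by rw [Category.assoc, Category.assoc, bHomL_snd, bLift_snd, bLift_snd, bHomL_snd_assoc])

/-- base change of `h` over `T` -/
def bHom (B : Alg R) : (bFun q' t').obj (op B) ⟶ (bFun q t).obj (op B) :=
  Over.homMk (bHomL q q' h hq B) (by
    show bHomL q q' h hq B ≫ pullback.fst q (bB B) ≫ t = pullback.fst q' (bB B) ≫ t'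
    rw [bHomL_fst_assoc, ht])

theorem bHom_snd (B : Alg R) : (bHom q t q' t' h hq ht B).left ≫ pullback.snd q (bB B) = pullback.snd q' (bB B) :=
  bHomL_snd q q' h hq B

theorem bHom_nat {B B' : Alg R} (g : B ⟶ B') :
    (bFun q' t').map g.op ≫ bHom q t q' t' h hq ht B = bHom q t q' t' h hq ht B' ≫ (bFun q t).map g.op :=
  Over.OverMorphism.ext (bHomL_nat q q' h hq g)

theorem toSectY_bHom (B : Alg R) (b : B) :
    (BigSite.ORing K T).obj.map (bHom q t q' t' h hq ht B).op (toSectY q t K B b) = toSectY q' t' K B b := by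
  refine ULift.ext _ _ ?_
  show ((Scheme.ΓSpecIso (CommRingCat.of B)).inv ≫ (pullback.snd q (bB B)).appTop ≫
      (bHomL q q' h hq B).appTop) b =
    ((Scheme.ΓSpecIso (CommRingCat.of B)).inv ≫ (pullback.snd q' (bB B)).appTop) b
  rw [← Scheme.Hom.comp_appTop, bHomL_snd]

/-- restriction along `h` -/
def sectMap : sectY q t M₀ ⟶ sectY q' t' M₀ :=
  mkHom
    (fun B =>
      { toFun := fun x => M₀.presheaf.map (bHom q t q' t' h hq ht B).op x
        map_add' := fun x y => map_add (M₀.presheaf.map (bHom q t q' t' h hq ht B).op).hom x y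
        map_smul' := fun b x => by
          refine (M₀.map_smul (bHom q t q' t' h hq ht B).op (toSectY q t K B b) x).trans ?_
          rw [toSectY_bHom]
          rfl })
    fun {B B'} g x => by
      show M₀.presheaf.map (bHom q t q' t' h hq ht B').op (M₀.presheaf.map ((bFun q t).map g.op).op x) =
        M₀.presheaf.map ((bFun q' t').map g.op).op (M₀.presheaf.map (bHom q t q' t' h hq ht B).op x)
      rw [← ConcreteCategory.comp_apply, ← ConcreteCategory.comp_apply, ← Functor.map_comp, ← Functor.map_comp,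
        ← op_comp, ← op_comp, bHom_nat]

theorem sectMap_apply (B : Alg R) (x : (sectY q t M₀).obj (pt B)) :
    secY q' t' M₀ (ap (sectMap q t M₀ q' t' h hq ht) B x) = M₀.presheaf.map (bHom q t q' t' h hq ht B).op (secY q t M₀ x) :=
  rfl

end Groth.MiscGeom.Adq

end
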