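import Groth.Agent.MiscGeom.AdeqPush
import Mathlib.AlgebraicGeometry.Pullbacks

/-!
# Sections over `Spec C ×_R Spec B`; glueing over an open cover
-/

universe u v

open CategoryTheory CategoryTheory.Limits AlgebraicGeometry Opposite TensorProduct

noncomputable section

namespace Groth.MiscGeom.Adq

open Adeq

attribute [local instance] Abelian.hasFiniteBiproducts

variable {R : CommRingCat.{u}} {T : Scheme.{u}}

section Affine

variable {K : Precoverage Scheme.{u}} [BigSite.OSh K] (M₀ : PresheafOfModules.{u + 1} (BigSite.ORing K T).obj)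
  (C : CommRingCat.{u}) [Algebra R C] (t : Spec C ⟶ T)

/-- `Spec C → Spec R` -/
abbrev qC : Spec C ⟶ Spec R := Spec.map (CommRingCat.ofHom (algebraMap R C))

/-- `Spec (C ⊗ B) → Spec C ×_R Spec B` -/
def affL (B : Alg R) : Spec (CommRingCat.of (C ⊗[R] (B : Type u))) ⟶ pullback (qC (R := R) C) (bB B) :=
  (pullbackSpecIso R C B).inv

instance (B : Alg R) : IsIso (affL (R := R) C B) := inferInstanceAs (IsIso (pullbackSpecIso R C B).inv)

theorem affL_fst (B : Alg R) :
    affL C B ≫ pullback.fst (qC (R := R) C) (bB B) = Spec.map (CommRingCat.ofHom (algebraMap C (C ⊗[R] (B : Type u)))) :=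
  pullbackSpecIso_inv_fst' R C B

theorem affL_snd (B : Alg R) :
    affL C B ≫ pullback.snd (qC (R := R) C) (bB B) =
      Spec.map (CommRingCat.ofHom ((Algebra.TensorProduct.includeRight (R := R) (A := C) (B := B)).toRingHom)) :=
  pullbackSpecIso_inv_snd R C B

theorem affL_nat {B B' : Alg R} (g : B ⟶ B') :
    affL C B' ≫ bLift (qC (R := R) C) g = specHom ((Alg.baseChange R C).map g) ≫ affL C B := by
  refine pullback.hom_ext ?_ ?_
  · rw [Category.assoc, bLift_fst, affL_fst, Category.assoc, affL_fst]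
    show _ = Spec.map _ ≫ Spec.map _
    rw [← Spec.map_comp]
    refine congrArg Spec.map (CommRingCat.hom_ext (RingHom.ext fun c => ?_))
    exact (((Alg.baseChange R C).map g).hom.commutes c).symm
  · rw [Category.assoc, bLift_snd, ← Category.assoc, affL_snd, Category.assoc, affL_snd]
    show Spec.map _ ≫ Spec.map _ = Spec.map _ ≫ Spec.map _
    rw [← Spec.map_comp, ← Spec.map_comp]
    refine congrArg Spec.map (CommRingCat.hom_ext (RingHom.ext fun b => ?_))
    exact (Algebra.TensorProduct.map_tmul (AlgHom.id (C : Type u) (C : Type u)) g.hom (1 : C) b).symm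

/-- `affL` over `T` -/
def affHom (B : Alg R) :
    (specOver t).obj (op ((Alg.baseChange R C).obj B)) ⟶ (bFun (qC (R := R) C) t).obj (op B) :=
  Over.homMk (affL C B) (by
    show affL C B ≫ pullback.fst _ _ ≫ t = Spec.map _ ≫ t
    rw [← Category.assoc, affL_fst])

instance (B : Alg R) : IsIso (affHom C t B) := by
  haveI : IsIso ((Over.forget T).map (affHom C t B)) := inferInstanceAs (IsIso (affL (R := R) C B))
  exact isIso_of_reflects_iso (affHom C t B) (Over.forget T)

theorem toSect_affHom (B : Alg R) (b : B) :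
    (BigSite.ORing K T).obj.map (affHom C t B).op (toSectY (qC (R := R) C) t K B b) =
      toSect K t ((Alg.baseChange R C).obj B) ((1 : C) ⊗ₜ[R] b) := by
  refine ULift.ext _ _ ?_
  show ((Scheme.ΓSpecIso (CommRingCat.of B)).inv ≫ (pullback.snd (qC (R := R) C) (bB B)).appTop ≫ (affL C B).appTop) b =
    (CommRingCat.ofHom (Algebra.TensorProduct.includeRight (R := R) (A := C) (B := B)).toRingHom ≫
      (Scheme.ΓSpecIso (CommRingCat.of (C ⊗[R] (B : Type u)))).inv) b
  rw [← Scheme.Hom.comp_appTop, affL_snd, Scheme.ΓSpecIso_inv_naturality]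

theorem exists_affCmp :
    ∃ η : sectY (qC (R := R) C) t M₀ ⟶ (Adeq.push R C).obj ((toMVFPre K t).obj M₀),
      ∀ B, Function.Bijective (ap η B) := by
  let θ : ∀ B : Alg R, (sectY (qC (R := R) C) t M₀).obj (pt B) →ₗ[(B : Type u)]
      ((Adeq.push R C).obj ((toMVFPre K t).obj M₀)).obj (pt B) := fun B =>
    { toFun := fun x => M₀.presheaf.map (affHom C t B).op x
      map_add' := fun x y => map_add (M₀.presheaf.map (affHom C t B).op).hom x y
      map_smul' := fun b x => by
        refine (M₀.map_smul (affHom C t B).op (toSectY (qC (R := R) C) t K B b) x).trans ?_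
        rw [toSect_affHom]
        rfl }
  refine ⟨mkHom θ fun {B B'} g x => ?_, fun B => ?_⟩
  · show M₀.presheaf.map (affHom C t B').op (M₀.presheaf.map ((bFun (qC (R := R) C) t).map g.op).op x) =
      M₀.presheaf.map ((specOver t).map ((Alg.baseChange R C).map g).op).op (M₀.presheaf.map (affHom C t B).op x)
    rw [← ConcreteCategory.comp_apply, ← ConcreteCategory.comp_apply, ← Functor.map_comp, ← Functor.map_comp,
      ← op_comp, ← op_comp]
    congr 3
    exact congrArg _ (Over.OverMorphism.ext (affL_nat C g))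
  · exact ConcreteCategory.bijective_of_isIso (M₀.presheaf.map (affHom C t B).op)

theorem adequate_sectY_affine (h : adequate C ((toMVFPre K t).obj M₀)) :
    adequate R (sectY (qC (R := R) C) t M₀) := by
  obtain ⟨η, hη⟩ := exists_affCmp (R := R) M₀ C t
  have := isIso_of_bij η hη
  exact (adequate R).prop_of_iso (asIso η).symm (adequate_push (R : Type u) (C : Type u) h)

end Affine

theorem bHomL_isPullback {Y Y' : Scheme.{u}} (q : Y ⟶ Spec R) (q' : Y' ⟶ Spec R) (h : Y' ⟶ Y) (hq : h ≫ q = q')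
    (B : Alg R) : IsPullback (pullback.fst q' (bB B)) (bHomL q q' h hq B) h (pullback.fst q (bB B)) := by
  have hpb : IsPullback (pullback.fst q' (bB B)) (bHomL q q' h hq B ≫ pullback.snd q (bB B)) (h ≫ q) (bB B) := by
    rw [bHomL_snd, hq]
    exact IsPullback.of_hasPullback q' (bB B)
  exact IsPullback.of_bot hpb (bHomL_fst q q' h hq B).symm (IsPullback.of_hasPullback q (bB B))

theorem bHomL_comp_fst {Y Y' Y'' : Scheme.{u}} (q : Y ⟶ Spec R) (q' : Y' ⟶ Spec R) (q'' : Y'' ⟶ Spec R)
    (h : Y' ⟶ Y) (hq : h ≫ q = q') (h' : Y'' ⟶ Y') (hq' : h' ≫ q' = q'') (B : Alg R) :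
    (bHomL q' q'' h' hq' B ≫ bHomL q q' h hq B) ≫ pullback.fst q (bB B) = pullback.fst q'' (bB B) ≫ h' ≫ h := by
  rw [Category.assoc, bHomL_fst, bHomL_fst_assoc]

theorem eq_comp_bHomL {Y Y' W : Scheme.{u}} (q : Y ⟶ Spec R) (q' : Y' ⟶ Spec R) (h : Y' ⟶ Y) (hq : h ≫ q = q')
    (B : Alg R) (v : W ⟶ pullback q (bB B)) (u : W ⟶ pullback q' (bB B))
    (h1 : v ≫ pullback.fst q (bB B) = (u ≫ pullback.fst q' (bB B)) ≫ h)
    (h2 : v ≫ pullback.snd q (bB B) = u ≫ pullback.snd q' (bB B)) : v = u ≫ bHomL q q' h hq B :=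
  pullback.hom_ext (h1.trans (by rw [Category.assoc, Category.assoc, bHomL_fst]))
    (h2.trans (by rw [Category.assoc, bHomL_snd]))

variable {P : MorphismProperty Scheme.{u}} (hP : GoodProp P) [BigSite.OSh (Scheme.precoverage P)]
  (M : BigSite.Mod (Scheme.precoverage P) T)
include hP

/-- glueing along a finite open cover with finitely covered overlaps -/
theorem adequate_sectY_glue {Y : Scheme.{u}} (q : Y ⟶ Spec R) (t : Y ⟶ T)
    {κ : Type u} [Finite κ] (Yi : κ → Scheme.{u}) (h : ∀ k, Yi k ⟶ Y) (hh : ∀ k, IsOpenImmersion (h k))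
    (hcov : ∀ y, ∃ k, y ∈ Set.range (h k))
    (lam : κ → κ → Type u) [∀ k l, Finite (lam k l)] (Z : ∀ k l, lam k l → Scheme.{u})
    (z : ∀ k l m, Z k l m ⟶ pullback (h k) (h l)) (hz : ∀ k l m, IsOpenImmersion (z k l m))
    (hzcov : ∀ k l y, ∃ m, y ∈ Set.range (z k l m))
    (hY : ∀ k, adequate R (sectY (h k ≫ q) (h k ≫ t) M.val))
    (hZ : ∀ k l m, adequate R (sectY ((z k l m ≫ pullback.fst (h k) (h l)) ≫ h k ≫ q)
      ((z k l m ≫ pullback.fst (h k) (h l)) ≫ h k ≫ t) M.val)) :
    adequate R (sectY q t M.val) := by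
  let G : ULift.{u + 1} κ → MVF R := fun k => sectY (h k.down ≫ q) (h k.down ≫ t) M.val
  let Iz := ULift.{u + 1} (Σ k l, lam k l)
  let z₁ : ∀ x : Iz, Z x.down.1 x.down.2.1 x.down.2.2 ⟶ Yi x.down.1 := fun x =>
    z x.down.1 x.down.2.1 x.down.2.2 ≫ pullback.fst (h x.down.1) (h x.down.2.1)
  let z₂ : ∀ x : Iz, Z x.down.1 x.down.2.1 x.down.2.2 ⟶ Yi x.down.2.1 := fun x =>
    z x.down.1 x.down.2.1 x.down.2.2 ≫ pullback.snd (h x.down.1) (h x.down.2.1)
  have hz₂q : ∀ x, z₂ x ≫ h x.down.2.1 ≫ q = z₁ x ≫ h x.down.1 ≫ q := fun x => by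
    simp only [z₁, z₂, Category.assoc]
    rw [← pullback.condition_assoc]
  have hz₂t : ∀ x, z₂ x ≫ h x.down.2.1 ≫ t = z₁ x ≫ h x.down.1 ≫ t := fun x => by
    simp only [z₁, z₂, Category.assoc]
    rw [← pullback.condition_assoc]
  let D : Iz → MVF R := fun x => sectY (z₁ x ≫ h x.down.1 ≫ q) (z₁ x ≫ h x.down.1 ≫ t) M.val
  let d₁ : ∀ x, G ⟨x.down.1⟩ ⟶ D x := fun x => sectMap _ _ M.val _ _ (z₁ x) rfl rfl
  let d₂ : ∀ x, G ⟨x.down.2.1⟩ ⟶ D x := fun x => sectMap _ _ M.val _ _ (z₂ x) (hz₂q x) (hz₂t x)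
  let η : sectY q t M.val ⟶ ⨁ G := biproduct.lift fun k => sectMap q t M.val _ _ (h k.down) rfl rfl
  let δ : (⨁ G) ⟶ ⨁ D := biproduct.lift fun x => biproduct.π G _ ≫ d₁ x - biproduct.π G _ ≫ d₂ x
  have hker : adequate R (kernel δ) :=
    adequate_kernel δ (adequate_biproduct G fun k => hY k.down) (adequate_biproduct D fun x => hZ _ _ _)
  let f : ∀ (B : Alg R) (k : κ), (bFun (h k ≫ q) (h k ≫ t)).obj (op B) ⟶ (bFun q t).obj (op B) :=
    fun B k => bHom q t _ _ (h k) rfl rfl B
  have hfcov : ∀ B, Presieve.ofArrows (fun k => ((bFun (h k ≫ q) (h k ≫ t)).obj (op B)).left) (fun k => (f B k).left) ∈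
      (Scheme.precoverage P).coverings ((bFun q t).obj (op B)).left := fun B => by
    refine (Scheme.ofArrows_mem_precoverage_iff P).2 ⟨fun x => ?_, fun k => hP.openImm _ ?_⟩
    · obtain ⟨k, y, hy⟩ := hcov (pullback.fst q (bB B) x)
      obtain ⟨w, -, hw⟩ := Scheme.Pullback.exists_preimage_pullback (f := h k) (g := pullback.fst q (bB B)) y x hy
      refine ⟨k, (bHomL_isPullback q (h k ≫ q) (h k) rfl B).isoPullback.inv w, ?_⟩
      exact (congrArg (fun φ => φ w) (bHomL_isPullback q (h k ≫ q) (h k) rfl B).isoPullback_inv_snd).trans hw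
    · exact MorphismProperty.of_isPullback (bHomL_isPullback q (h k ≫ q) (h k) rfl B) (hh k)
  have hη : ∀ B x k, ap (biproduct.π G k) B (ap η B x) = ap (sectMap q t M.val _ _ (h k.down) rfl rfl) B x := fun B x k => by
    rw [← ap_comp, biproduct.lift_π]
  have hδ : ∀ B y x, ap (biproduct.π D x) B (ap δ B y) =
      ap (d₁ x) B (ap (biproduct.π G ⟨x.down.1⟩) B y) - ap (d₂ x) B (ap (biproduct.π G ⟨x.down.2.1⟩) B y) := fun B y x => by
    rw [← ap_comp, biproduct.lift_π, ap_sub]
    rfl
  obtain ⟨e, -⟩ := isIso_kernelLift η δ (fun B => by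
      refine (injective_iff_map_eq_zero _).2 fun x hx => ?_
      refine (sheafFor_family M.val.presheaf M.isSheaf _ (f B) (hfcov B)).1 (secY q t M.val x) fun k => ?_
      have := hη B x ⟨k⟩
      rw [hx, map_zero] at this
      exact this.symm) fun B y => by
    constructor
    · intro hy
      let yk : ∀ k, M.val.presheaf.obj (op ((bFun (h k ≫ q) (h k ≫ t)).obj (op B))) := fun k =>
        ap (biproduct.π G ⟨k⟩) B y
      obtain ⟨x, hx⟩ := (sheafFor_family M.val.presheaf M.isSheaf _ (f B) (hfcov B)).2 yk fun k l W g g' e => by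
        let p₁ : W.left ⟶ Yi k := g.left ≫ pullback.fst (h k ≫ q) (bB B)
        let p₂ : W.left ⟶ Yi l := g'.left ≫ pullback.fst (h l ≫ q) (bB B)
        have el : g.left ≫ bHomL q (h k ≫ q) (h k) rfl B = g'.left ≫ bHomL q (h l ≫ q) (h l) rfl B :=
          congrArg CommaMorphism.left e
        have hp : p₁ ≫ h k = p₂ ≫ h l := by
          show (g.left ≫ _) ≫ h k = (g'.left ≫ _) ≫ h l
          refine (Category.assoc _ _ _).trans (((congrArg (g.left ≫ ·) (bHomL_fst q _ (h k) rfl B).symm).trans ?_).trans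
            ((congrArg (g'.left ≫ ·) (bHomL_fst q _ (h l) rfl B)).trans (Category.assoc _ _ _).symm))
          exact (Category.assoc _ _ _).symm.trans ((congrArg (· ≫ pullback.fst q (bB B)) el).trans (Category.assoc _ _ _))
        have hb : g.left ≫ pullback.snd (h k ≫ q) (bB B) = g'.left ≫ pullback.snd (h l ≫ q) (bB B) := by
          refine ((congrArg (g.left ≫ ·) (bHomL_snd q _ (h k) rfl B).symm).trans ?_).trans
            (congrArg (g'.left ≫ ·) (bHomL_snd q _ (h l) rfl B))
          exact (Category.assoc _ _ _).symm.trans ((congrArg (· ≫ pullback.snd q (bB B)) el).trans (Category.assoc _ _ _))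
        let mid : W.left ⟶ pullback (h k) (h l) := pullback.lift p₁ p₂ hp
        refine sub_eq_zero.1 ((sheafFor_family M.val.presheaf M.isSheaf (U := W) _
          (fun m => (Over.homMk (pullback.fst mid (z k l m)) rfl : Over.mk (pullback.fst mid (z k l m) ≫ W.hom) ⟶ W))
          ((Scheme.ofArrows_mem_precoverage_iff P).2 ⟨fun w => ?_, fun m => hP.openImm _ ?_⟩)).1 _ fun m => ?_)
        · obtain ⟨m, v, hv⟩ := hzcov k l (mid w)
          obtain ⟨c, hc, -⟩ := Scheme.Pullback.exists_preimage_pullback (f := mid) (g := z k l m) w v hv.symm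
          exact ⟨m, c, hc⟩
        · haveI := hz k l m
          show IsOpenImmersion (pullback.fst mid (z k l m))
          infer_instance
        · let x : Iz := ⟨⟨k, l, m⟩⟩
          have h0 := hδ B y x
          rw [hy, map_zero] at h0
          replace h0 := sub_eq_zero.1 h0.symm
          let a₀ : pullback mid (z k l m) ⟶ pullback (z₁ x ≫ h k ≫ q) (bB B) :=
            pullback.lift (pullback.snd mid (z k l m)) (pullback.fst mid (z k l m) ≫ g.left ≫ pullback.snd _ _) (by
              show pullback.snd mid (z k l m) ≫ (z k l m ≫ pullback.fst (h k) (h l)) ≫ h k ≫ q = _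
              rw [Category.assoc, ← pullback.condition_assoc, Category.assoc, Category.assoc,
                show mid ≫ pullback.fst (h k) (h l) ≫ h k ≫ q = p₁ ≫ h k ≫ q from pullback.lift_fst_assoc _ _ _ _]
              simp only [p₁, Category.assoc]
              exact congrArg (fun r => pullback.fst mid (z k l m) ≫ g.left ≫ r) (pullback.condition (f := h k ≫ q) (g := bB B)))
          have hwg : g.left ≫ pullback.fst (h k ≫ q) (bB B) ≫ h k ≫ t = W.hom := Over.w g
          let α : Over.mk (pullback.fst mid (z k l m) ≫ W.hom) ⟶ (bFun (z₁ x ≫ h k ≫ q) (z₁ x ≫ h k ≫ t)).obj (op B) :=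
            Over.homMk a₀ (by
              show a₀ ≫ pullback.fst _ _ ≫ (z k l m ≫ pullback.fst (h k) (h l)) ≫ h k ≫ t = pullback.fst mid _ ≫ W.hom
              rw [pullback.lift_fst_assoc, Category.assoc, ← pullback.condition_assoc,
                show mid ≫ pullback.fst (h k) (h l) ≫ h k ≫ t = p₁ ≫ h k ≫ t from pullback.lift_fst_assoc _ _ _ _,
                ← hwg]
              simp only [p₁, Category.assoc])
          let j₀ : Over.mk (pullback.fst mid (z k l m) ≫ W.hom) ⟶ W := Over.homMk (pullback.fst mid (z k l m)) rfl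
          have e₁ : j₀ ≫ g = α ≫ bHom (h k ≫ q) (h k ≫ t) _ _ (z₁ x) rfl rfl B := by
            refine Over.OverMorphism.ext (eq_comp_bHomL _ _ (z₁ x) rfl B (pullback.fst mid (z k l m) ≫ g.left) a₀ ?_ ?_)
            · refine Eq.trans ?_ (congrArg (· ≫ z₁ x) (pullback.lift_fst _ _ _).symm)
              refine (Category.assoc _ _ _).trans (Eq.trans ?_ (Category.assoc _ _ _))
              refine Eq.trans (congrArg (pullback.fst mid (z k l m) ≫ ·) (pullback.lift_fst p₁ p₂ hp).symm) ?_
              exact (Category.assoc _ _ _).symm.trans (congrArg (· ≫ pullback.fst (h k) (h l)) pullback.condition)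
            · exact (Category.assoc _ _ _).trans (pullback.lift_snd _ _ _).symm
          have e₂ : j₀ ≫ g' = α ≫ bHom (h l ≫ q) (h l ≫ t) _ _ (z₂ x) (hz₂q x) (hz₂t x) B := by
            refine Over.OverMorphism.ext (eq_comp_bHomL _ _ (z₂ x) (hz₂q x) B (pullback.fst mid (z k l m) ≫ g'.left) a₀ ?_ ?_)
            · refine Eq.trans ?_ (congrArg (· ≫ z₂ x) (pullback.lift_fst _ _ _).symm)
              refine (Category.assoc _ _ _).trans (Eq.trans ?_ (Category.assoc _ _ _))
              refine Eq.trans (congrArg (pullback.fst mid (z k l m) ≫ ·) (pullback.lift_snd p₁ p₂ hp).symm) ?_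
              exact (Category.assoc _ _ _).symm.trans (congrArg (· ≫ pullback.snd (h k) (h l)) pullback.condition)
            · refine (Category.assoc _ _ _).trans (Eq.trans ?_ (pullback.lift_snd _ _ _).symm)
              exact congrArg (pullback.fst mid (z k l m) ≫ ·) hb.symm
          rw [map_sub, sub_eq_zero]
          show M.val.presheaf.map j₀.op (M.val.presheaf.map g.op (yk k)) = M.val.presheaf.map j₀.op (M.val.presheaf.map g'.op (yk l))
          rw [← ConcreteCategory.comp_apply, ← ConcreteCategory.comp_apply, ← Functor.map_comp, ← Functor.map_comp,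
            ← op_comp, ← op_comp, e₁, e₂, op_comp, op_comp, Functor.map_comp, Functor.map_comp,
            ConcreteCategory.comp_apply, ConcreteCategory.comp_apply]
          exact congrArg (M.val.presheaf.map α.op) h0
      exact ⟨x, biproduct_ap_ext B fun k => (hη B x k).trans (hx k.down)⟩
    · rintro ⟨x, rfl⟩
      refine biproduct_ap_ext B fun w => ?_
      rw [hδ, map_zero, hη, hη]
      refine sub_eq_zero.2 ?_
      show M.val.presheaf.map (bHom _ _ _ _ (z₁ w) rfl rfl B).op (M.val.presheaf.map (f B w.down.1).op (secY q t M.val x)) =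
        M.val.presheaf.map (bHom _ _ _ _ (z₂ w) (hz₂q w) (hz₂t w) B).op
          (M.val.presheaf.map (f B w.down.2.1).op (secY q t M.val x))
      rw [← ConcreteCategory.comp_apply, ← ConcreteCategory.comp_apply, ← Functor.map_comp, ← Functor.map_comp,
        ← op_comp, ← op_comp]
      congr 3
      refine congrArg _ (Over.OverMorphism.ext (pullback.hom_ext ?_ ?_))
      · show (bHomL (h w.down.1 ≫ q) _ (z₁ w) rfl B ≫ bHomL q _ (h w.down.1) rfl B) ≫ _ =
          (bHomL (h w.down.2.1 ≫ q) _ (z₂ w) (hz₂q w) B ≫ bHomL q _ (h w.down.2.1) rfl B) ≫ _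
        refine (bHomL_comp_fst _ _ _ _ _ _ _ B).trans (Eq.trans ?_ (bHomL_comp_fst _ _ _ _ _ _ _ B).symm)
        refine congrArg (_ ≫ ·) ?_
        show (z _ _ _ ≫ pullback.fst _ _) ≫ h _ = (z _ _ _ ≫ pullback.snd _ _) ≫ h _
        rw [Category.assoc, Category.assoc, pullback.condition]
      · show (bHomL (h w.down.1 ≫ q) _ (z₁ w) rfl B ≫ bHomL q _ (h w.down.1) rfl B) ≫ _ =
          (bHomL (h w.down.2.1 ≫ q) _ (z₂ w) (hz₂q w) B ≫ bHomL q _ (h w.down.2.1) rfl B) ≫ _
        refine (Category.assoc _ _ _).trans (Eq.trans ?_ (Category.assoc _ _ _).symm)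
        refine ((congrArg (bHomL _ _ (z₁ w) _ B ≫ ·) (bHomL_snd _ _ _ _ B)).trans (bHomL_snd _ _ _ _ B)).trans ?_
        exact ((congrArg (bHomL _ _ (z₂ w) _ B ≫ ·) (bHomL_snd _ _ _ _ B)).trans (bHomL_snd _ _ _ _ B)).symm
  exact (adequate R).prop_of_iso e.symm hker

end Groth.MiscGeom.Adq

end
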