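import Groth.Agent.MiscGeom.AdeqPushAff

/-!
# Pushforward of adequate modules along quasi-compact quasi-separated morphisms
-/

universe u v

open CategoryTheory CategoryTheory.Limits AlgebraicGeometry Opposite TensorProduct

noncomputable section

namespace Groth.MiscGeom.Adq

open Adeq

variable {R : CommRingCat.{u}} {T : Scheme.{u}}

theorem bHom_isIso {Y Y' : Scheme.{u}} (q : Y ⟶ Spec R) (t : Y ⟶ T) (q' : Y' ⟶ Spec R) (t' : Y' ⟶ T) (h : Y' ⟶ Y)
    [IsIso h] (hq : h ≫ q = q') (ht : h ≫ t = t') (B : Alg R) : IsIso (bHom q t q' t' h hq ht B) := by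
  have hL : IsIso (bHomL q q' h hq B) :=
    MorphismProperty.of_isPullback (P := MorphismProperty.isomorphisms Scheme.{u}) (bHomL_isPullback q q' h hq B)
      (inferInstanceAs (IsIso h))
  haveI : IsIso ((Over.forget T).map (bHom q t q' t' h hq ht B)) := hL
  exact isIso_of_reflects_iso _ (Over.forget T)

theorem adequate_sectY_iso {K : Precoverage Scheme.{u}} [BigSite.OSh K]
    (M₀ : PresheafOfModules.{u + 1} (BigSite.ORing K T).obj) {Y Y' : Scheme.{u}} (q : Y ⟶ Spec R) (t : Y ⟶ T)
    (q' : Y' ⟶ Spec R) (t' : Y' ⟶ T) (h : Y' ⟶ Y) [IsIso h] (hq : h ≫ q = q') (ht : h ≫ t = t')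
    (hF : adequate R (sectY q t M₀)) : adequate R (sectY q' t' M₀) :=
  adequate_of_bij (sectMap q t M₀ q' t' h hq ht) hF fun B => by
    haveI := bHom_isIso q t q' t' h hq ht B
    exact ConcreteCategory.bijective_of_isIso (M₀.presheaf.map (bHom q t q' t' h hq ht B).op)

theorem exists_paste {Z W S T : Scheme.{u}} (b : Z ⟶ W) (a : W ⟶ S) (f : T ⟶ S) :
    ∃ e : pullback (pullback.fst a f) b ≅ pullback (b ≫ a) f,
      e.hom ≫ pullback.fst (b ≫ a) f = pullback.snd _ _ ∧
        e.hom ≫ pullback.snd (b ≫ a) f = pullback.fst _ _ ≫ pullback.snd a f :=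
  ⟨pullbackSymmetry _ _ ≪≫ pullbackRightPullbackFstIso a f b, by
    rw [Iso.trans_hom, Category.assoc, pullbackRightPullbackFstIso_hom_fst, pullbackSymmetry_hom_comp_fst], by
    rw [Iso.trans_hom, Category.assoc, pullbackRightPullbackFstIso_hom_snd, pullbackSymmetry_hom_comp_snd_assoc]⟩

variable {P : MorphismProperty Scheme.{u}} (hP : GoodProp P) [BigSite.OSh (Scheme.precoverage P)]
  (M : BigSite.Mod (Scheme.precoverage P) T) (hM : adequateMod (Scheme.precoverage P) T M)
include hP hM

theorem adequate_sectY_of_isAffine {Y : Scheme.{u}} [IsAffine Y] (q : Y ⟶ Spec R) (t : Y ⟶ T) :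
    adequate R (sectY q t M.val) := by
  let C : CommRingCat.{u} := Γ(Y, ⊤)
  letI : Algebra R C := (Spec.preimage (Y.isoSpec.inv ≫ q)).hom.toAlgebra
  have hq : Y.isoSpec.hom ≫ qC (R := R) C = q := by
    have : qC (R := R) C = Y.isoSpec.inv ≫ q := Spec.map_preimage _
    rw [this, Iso.hom_inv_id_assoc]
  exact adequate_sectY_iso M.val (qC (R := R) C) (Y.isoSpec.inv ≫ t) q t Y.isoSpec.hom hq (Iso.hom_inv_id_assoc _ _)
    (adequate_sectY_affine M.val C _ (adequate_toMVF hP _ M hM))

theorem adequate_sectY_qcqs {Y : Scheme.{u}} [CompactSpace Y] [QuasiSeparatedSpace Y] (q : Y ⟶ Spec R) (t : Y ⟶ T) :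
    adequate R (sectY q t M.val) := by
  let 𝒰 := Y.affineCover.finiteSubcover
  haveI : ∀ k, IsAffine (𝒰.X k) := fun k => inferInstanceAs (IsAffine (Y.affineCover.X _))
  haveI : ∀ k l, CompactSpace (pullback (𝒰.f k) (𝒰.f l) : Scheme.{u}) := fun k l => inferInstance
  let lam : 𝒰.I₀ → 𝒰.I₀ → Type u := fun k l => (pullback (𝒰.f k) (𝒰.f l)).affineCover.finiteSubcover.I₀
  exact adequate_sectY_glue hP M q t 𝒰.X 𝒰.f (fun k => inferInstanceAs (IsOpenImmersion (𝒰.f k)))
    (fun y => ⟨_, 𝒰.covers y⟩) lam (fun k l => (pullback (𝒰.f k) (𝒰.f l)).affineCover.finiteSubcover.X)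
    (fun k l => (pullback (𝒰.f k) (𝒰.f l)).affineCover.finiteSubcover.f)
    (fun k l m => inferInstanceAs (IsOpenImmersion ((pullback (𝒰.f k) (𝒰.f l)).affineCover.finiteSubcover.f m)))
    (fun k l y => ⟨_, (pullback (𝒰.f k) (𝒰.f l)).affineCover.finiteSubcover.covers y⟩)
    (fun k => adequate_sectY_of_isAffine hP M hM _ _)
    (fun k l m => by
      haveI : IsAffine ((pullback (𝒰.f k) (𝒰.f l)).affineCover.finiteSubcover.X m) :=
        inferInstanceAs (IsAffine ((pullback (𝒰.f k) (𝒰.f l)).affineCover.X _))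
      exact adequate_sectY_of_isAffine hP M hM _ _)

theorem adequateMod_push {S : Scheme.{u}} (f : T ⟶ S) [QuasiCompact f] [QuasiSeparated f] :
    adequateMod (Scheme.precoverage P) S ((BigSite.pushMod (Scheme.precoverage P) f).obj M) := by
  refine adequateMod_of_all hP _ fun R a => ?_
  let N := (BigSite.pushMod (Scheme.precoverage P) f).obj M
  haveI : CompactSpace (pullback a f : Scheme.{u}) := QuasiCompact.compactSpace_of_compactSpace (pullback.fst a f)
  haveI : QuasiSeparatedSpace (pullback a f : Scheme.{u}) := quasiSeparatedSpace_of_quasiSeparated (pullback.fst a f)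
  let q := pullback.fst a f
  let t := pullback.snd a f
  have hex := fun B : Alg R => exists_paste (bB B) a f
  let eL : ∀ B : Alg R, pullback q (bB B) ⟶ pullback ((specOver a).obj (op B)).hom f := fun B => (hex B).choose.hom
  have hfst : ∀ B, eL B ≫ pullback.fst _ _ = pullback.snd q (bB B) := fun B => (hex B).choose_spec.1
  have hsnd : ∀ B, eL B ≫ pullback.snd _ _ = pullback.fst q (bB B) ≫ pullback.snd a f := fun B => (hex B).choose_spec.2
  have hiso : ∀ B, IsIso (eL B) := fun B => inferInstanceAs (IsIso (hex B).choose.hom)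
  let e : ∀ B : Alg R, (bFun q t).obj (op B) ⟶ (Over.pullback f).obj ((specOver a).obj (op B)) := fun B =>
    Over.homMk (eL B) (hsnd B)
  haveI : ∀ B, IsIso (e B) := fun B => by
    haveI : IsIso ((Over.forget T).map (e B)) := hiso B
    exact isIso_of_reflects_iso _ (Over.forget T)
  let θ : ∀ B : Alg R, ((toMVF (Scheme.precoverage P) a).obj N).obj (pt B) →ₗ[(B : Type u)]
      (sectY q t M.val).obj (pt B) := fun B =>
    { toFun := fun x => M.val.presheaf.map (e B).op x
      map_add' := fun x y => map_add (M.val.presheaf.map (e B).op).hom x y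
      map_smul' := fun b x => by
        refine (M.val.map_smul (e B).op _ x).trans ?_
        refine congrArg (· • _) (ULift.ext _ _ ?_)
        show ((Scheme.ΓSpecIso (CommRingCat.of B)).inv ≫
            (pullback.fst (bB B ≫ a) f).appTop ≫ (hex B).choose.hom.appTop) b =
          ((Scheme.ΓSpecIso (CommRingCat.of B)).inv ≫ (pullback.snd q (bB B)).appTop) b
        rw [← Scheme.Hom.comp_appTop, (hex B).choose_spec.1] }
  let η : (toMVF (Scheme.precoverage P) a).obj N ⟶ sectY q t M.val := mkHom θ fun {B B'} g x => by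
    show M.val.presheaf.map (e B').op (M.val.presheaf.map ((Over.pullback f).map ((specOver a).map g.op)).op x) =
      M.val.presheaf.map ((bFun q t).map g.op).op (M.val.presheaf.map (e B).op x)
    rw [← ConcreteCategory.comp_apply, ← ConcreteCategory.comp_apply, ← Functor.map_comp, ← Functor.map_comp,
      ← op_comp, ← op_comp]
    congr 3
    refine congrArg _ (Over.OverMorphism.ext (pullback.hom_ext ?_ ?_))
    · show (eL B' ≫ pullback.lift _ _ _) ≫ pullback.fst _ _ = (bLift q g ≫ eL B) ≫ pullback.fst _ _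
      rw [Category.assoc, pullback.lift_fst, Category.assoc, hfst]
      exact ((Category.assoc _ _ _).symm.trans (congrArg (· ≫ _) (hfst B'))).trans (bLift_snd q g).symm
    · show (eL B' ≫ pullback.lift _ _ _) ≫ pullback.snd _ _ = (bLift q g ≫ eL B) ≫ pullback.snd _ _
      rw [Category.assoc, pullback.lift_snd, Category.assoc]
      exact (hsnd B').trans ((bLift_fst_assoc q g _).symm.trans (congrArg (bLift q g ≫ ·) (hsnd B).symm))
  haveI := isIso_of_bij η fun B => ConcreteCategory.bijective_of_isIso (M.val.presheaf.map (e B).op)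
  exact (adequate R).prop_of_iso (asIso η).symm (adequate_sectY_qcqs hP M hM q t)

end Groth.MiscGeom.Adq

end
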