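import Groth.Agent.MiscGeom.CechCohom
import Mathlib.Algebra.Category.ModuleCat.Presheaf.Sheafification

/-!
# Injective modules on big sites: Čech acyclic, flasque along monomorphisms
-/

universe u

open CategoryTheory CategoryTheory.Limits AlgebraicGeometry Opposite

noncomputable section

namespace Groth.MiscGeom.Adq.Cech

open Adeq

variable {K : Precoverage Scheme.{u}} [BigSite.OSh K] {S : Scheme.{u}}
  (I : PresheafOfModules.{u + 1} (BigSite.ORing K S).obj)

instance coskyModule (X : (Over S)ᵒᵖ) :
    Module ((BigSite.ORing K S).obj.obj X) ((coskyF I.presheaf).obj X) where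
  smul r w := fun T g => ((BigSite.ORing K S).obj.map g.op r • (w T g : I.obj (op T)) : I.obj (op T))
  one_smul w := funext fun T => funext fun g => by
    show (BigSite.ORing K S).obj.map g.op 1 • (w T g : I.obj (op T)) = (w T g : I.obj (op T))
    rw [map_one, one_smul]
  mul_smul r r' w := funext fun T => funext fun g => by
    show (BigSite.ORing K S).obj.map g.op (r * r') • (w T g : I.obj (op T)) = _
    rw [map_mul, mul_smul]
    rfl
  smul_zero r := funext fun T => funext fun g => by
    show (BigSite.ORing K S).obj.map g.op r • (0 : I.obj (op T)) = 0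
    rw [smul_zero]
  zero_smul w := funext fun T => funext fun g => by
    show (BigSite.ORing K S).obj.map g.op 0 • (w T g : I.obj (op T)) = (0 : I.obj (op T))
    rw [map_zero, zero_smul]
    rfl
  smul_add r w w' := funext fun T => funext fun g => smul_add ((BigSite.ORing K S).obj.map g.op r)
    (w T g : I.obj (op T)) (w' T g : I.obj (op T))
  add_smul r r' w := funext fun T => funext fun g => by
    show (BigSite.ORing K S).obj.map g.op (r + r') • (w T g : I.obj (op T)) = _
    rw [map_add, add_smul]
    rfl

/-- all functions on maps into an object, as a presheaf of modules -/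
def coskyM : PresheafOfModules.{u + 1} (BigSite.ORing K S).obj :=
  PresheafOfModules.ofPresheaf (coskyF I.presheaf) (by
    intro X X' h r w
    funext T g
    show (BigSite.ORing K S).obj.map (g ≫ h.unop).op r • (w T (g ≫ h.unop) : I.obj (op T)) =
      (BigSite.ORing K S).obj.map g.op ((BigSite.ORing K S).obj.map h r) • (w T (g ≫ h.unop) : I.obj (op T))
    rw [← ConcreteCategory.comp_apply, ← Functor.map_comp]
    rfl)

/-- the embedding -/
def toCoskyM : I ⟶ coskyM I :=
  PresheafOfModules.homMk (toCosky I.presheaf) (by
    intro X r x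
    funext T g
    exact I.map_smul g.op r x)

instance : Mono (toCoskyM I) :=
  PresheafOfModules.mono_of_injective fun X => (AddCommGrpCat.mono_iff_injective _).1
    (inferInstanceAs (Mono ((toCosky I.presheaf).app X)))

theorem exists_retraction [Injective I] :
    ∃ r : coskyF I.presheaf ⟶ I.presheaf, toCosky I.presheaf ≫ r = 𝟙 _ := by
  let r := Injective.factorThru (𝟙 I) (toCoskyM I)
  refine ⟨(PresheafOfModules.toPresheaf _).map r, ?_⟩
  exact congrArg ((PresheafOfModules.toPresheaf _).map ·) (Injective.comp_factorThru (𝟙 I) (toCoskyM I))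

theorem isExact_injMod [Injective I] {R : CommRingCat.{u}} (a : Spec R ⟶ S) (V : Alg R) (n : ℕ) :
    IsExact (affF a I.presheaf) V n := by
  obtain ⟨r, hr⟩ := exists_retraction I
  exact isExact_retract (Functor.whiskerLeft (opOp (Alg R) ⋙ (specOver a).op) (toCosky I.presheaf))
    (Functor.whiskerLeft (opOp (Alg R) ⋙ (specOver a).op) r)
    (fun C x => ConcreteCategory.congr_hom (congrArg (fun t => t.app (op ((specOver a).obj (op C)))) hr) x)
    (isExact_cosky a I.presheaf V n)

theorem surjective_of_mono [Injective I] {X X' : Over S} (h : X' ⟶ X) [Mono h] :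
    Function.Surjective (I.presheaf.map h.op) := by
  classical
  obtain ⟨r, hr⟩ := exists_retraction I
  intro y
  let w : (coskyF I.presheaf).obj (op X') := (toCosky I.presheaf).app (op X') y
  let v : (coskyF I.presheaf).obj (op X) := fun T g =>
    if hg : ∃ g', g' ≫ h = g then (w : ∀ T : Over S, (T ⟶ X') → I.presheaf.obj (op T)) T hg.choose else 0
  have hv : (coskyF I.presheaf).map h.op v = w := by
    funext T g
    have hg : ∃ g', g' ≫ h = g ≫ h := ⟨g, rfl⟩
    show (if hg : ∃ g', g' ≫ h = g ≫ h then (w : ∀ T : Over S, (T ⟶ X') → I.presheaf.obj (op T)) T hg.choose else 0) = _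
    rw [dif_pos hg]
    exact congrArg ((w : ∀ T : Over S, (T ⟶ X') → I.presheaf.obj (op T)) T) ((cancel_mono h).1 hg.choose_spec)
  refine ⟨r.app (op X) v, ?_⟩
  refine (ConcreteCategory.congr_hom (r.naturality h.op) v).symm.trans ?_
  show r.app (op X') ((coskyF I.presheaf).map h.op v) = y
  rw [hv]
  exact ConcreteCategory.congr_hom (congrArg (fun t => t.app (op X')) hr) y

variable [HasSheafify (QuotSh.J K S) AddCommGrpCat.{u + 1}]
  [(QuotSh.J K S).WEqualsLocallyBijective AddCommGrpCat.{u + 1}]

omit I in
instance injective_val (N : BigSite.Mod K S) [Injective N] : Injective N.val :=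
  Injective.injective_of_adjoint (PresheafOfModules.sheafificationAdjunction (𝟙 (BigSite.ORing K S).obj)) N

end Groth.MiscGeom.Adq.Cech

end
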