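import Groth.Agent.MiscGeom.AdeqPushFwd
import Groth.Agent.MiscGeom.InjModule
import Mathlib.Algebra.Homology.ShortComplex.Exact

/-!
# Sections over `Y ×_R Spec B` as a functor of the module; affine objects
-/

universe u v

open CategoryTheory CategoryTheory.Limits AlgebraicGeometry Opposite

noncomputable section

namespace Groth.MiscGeom.Adq

open Adeq

section Exactness

variable {A : Type u} [CommRing A]

theorem exact_of_ap (C : ShortComplex (MVF A)) (h : ∀ B, Function.Exact (ap C.f B) (ap C.g B)) : C.Exact := by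
  rw [ShortComplex.exact_iff_epi_kernel_lift]
  refine epi_of_surj _ fun B y => ?_
  obtain ⟨x, hx⟩ := ((h B) _).1 ((kernel_exact C.g B).apply_apply_eq_zero y)
  refine ⟨x, inj_of_mono (kernel.ι C.g) B ?_⟩
  rw [← ap_comp, kernel.lift_ι, hx]

/-- adequacy of the middle of a five term exact sequence -/
theorem adequate_of_five {F₁ F₂ F₃ F₄ F₅ : MVF A} (f₁ : F₁ ⟶ F₂) (f₂ : F₂ ⟶ F₃) (f₃ : F₃ ⟶ F₄) (f₄ : F₄ ⟶ F₅)
    (w₁ : f₁ ≫ f₂ = 0) (w₂ : f₂ ≫ f₃ = 0) (w₃ : f₃ ≫ f₄ = 0)
    (e₁ : (ShortComplex.mk f₁ f₂ w₁).Exact) (e₂ : (ShortComplex.mk f₂ f₃ w₂).Exact) (e₃ : (ShortComplex.mk f₃ f₄ w₃).Exact)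
    (h₁ : adequate A F₁) (h₂ : adequate A F₂) (h₄ : adequate A F₄) (h₅ : adequate A F₅) : adequate A F₃ := by
  let g : F₃ ⟶ kernel f₄ := kernel.lift f₄ f₃ w₃
  let i : cokernel f₁ ⟶ F₃ := cokernel.desc f₁ f₂ w₁
  have w : i ≫ g = 0 := by
    rw [← cancel_epi (cokernel.π f₁), cokernel.π_desc_assoc, comp_zero, ← cancel_mono (kernel.ι f₄), Category.assoc,
      kernel.lift_ι, zero_comp, w₂]
  have hi : Mono i := mono_of_inj i fun B => (injective_iff_map_eq_zero _).2 fun x hx => by
    obtain ⟨x, rfl⟩ := surj_of_epi (cokernel.π f₁) B x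
    rw [← ap_comp, cokernel.π_desc] at hx
    obtain ⟨y, rfl⟩ := (exact_ap _ e₁ B x).1 hx
    exact (cokernel_exact f₁ B).apply_apply_eq_zero y
  have hg : Epi g := epi_of_surj g fun B z => by
    obtain ⟨x, hx⟩ := (exact_ap _ e₃ B _).1 ((kernel_exact f₄ B).apply_apply_eq_zero z)
    refine ⟨x, inj_of_mono (kernel.ι f₄) B ?_⟩
    rw [← ap_comp, kernel.lift_ι]
    exact hx
  refine adequate_extension (ShortComplex.mk i g w) ⟨exact_of_ap _ fun B x => ⟨fun hx => ?_, ?_⟩⟩
    (adequate_cokernel f₁ h₁ h₂) (adequate_kernel f₄ h₄ h₅)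
  · have hx' : ap f₃ B x = 0 := by
      have := congrArg (ap (kernel.ι f₄) B) hx
      rwa [← ap_comp, kernel.lift_ι, map_zero] at this
    obtain ⟨y, rfl⟩ := (exact_ap _ e₂ B x).1 hx'
    exact ⟨ap (cokernel.π f₁) B y, by rw [← ap_comp, cokernel.π_desc]⟩
  · rintro ⟨y, rfl⟩
    show ap g B (ap i B y) = 0
    rw [← ap_comp, w, ap_zero]

end Exactness

variable {R : CommRingCat.{u}} {T Y : Scheme.{u}} {K : Precoverage Scheme.{u}} [BigSite.OSh K]
  (q : Y ⟶ Spec R) (t : Y ⟶ T)

/-- `sectY` on morphisms -/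
def sectYMap {M₀ N₀ : PresheafOfModules.{u + 1} (BigSite.ORing K T).obj} (φ : M₀ ⟶ N₀) :
    sectY q t M₀ ⟶ sectY q t N₀ :=
  PresheafOfModules.homMk
    (Functor.whiskerLeft (bFun q t).op ((PresheafOfModules.toPresheaf (BigSite.ORing K T).obj).map φ))
    (by
      intro X r m
      exact (φ.app (op ((bFun q t).obj (op X.unop.unop)))).hom.map_smul (toSectY q t K X.unop.unop r) m)

theorem ap_sectYMap {M₀ N₀ : PresheafOfModules.{u + 1} (BigSite.ORing K T).obj} (φ : M₀ ⟶ N₀) (B : Alg R)
    (x : (sectY q t M₀).obj (pt B)) :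
    secY q t N₀ (ap (sectYMap q t φ) B x) =
      ((PresheafOfModules.toPresheaf (BigSite.ORing K T).obj).map φ).app (op ((bFun q t).obj (op B))) (secY q t M₀ x) :=
  rfl

variable (K) in
/-- `M ↦ (B ↦ M(Y ×_R Spec B))` -/
def secMod : BigSite.Mod K T ⥤ MVF R where
  obj M := sectY q t M.val
  map φ := sectYMap q t φ.val
  map_id M := hom_ext' fun _ _ => rfl
  map_comp φ ψ := hom_ext' fun _ _ => rfl

instance secMod_additive : (secMod K q t).Additive where
  map_add := hom_ext' fun _ _ => rfl

variable {Y' : Scheme.{u}} (q' : Y' ⟶ Spec R) (t' : Y' ⟶ T) (h : Y' ⟶ Y) (hq : h ≫ q = q') (ht : h ≫ t = t')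

variable (K) in
/-- restriction, natural in the module -/
def secRes : secMod K q t ⟶ secMod K q' t' where
  app M := sectMap q t M.val q' t' h hq ht
  naturality M N φ := hom_ext' fun B x =>
    (PresheafOfModules.naturality_apply φ.val (bHom q t q' t' h hq ht B).op (secY q t M.val x)).symm

end Groth.MiscGeom.Adq

namespace Groth.MiscGeom.Adq.Cech

open Adeq

variable {P : MorphismProperty Scheme.{u}} {T : Scheme.{u}} [BigSite.OSh (Scheme.precoverage P)]

/-- an affine object as a base object -/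
def affineCmp (U : Over T) [IsAffine U.left] :
    U ≅ (specOver (U.left.isoSpec.inv ≫ U.hom)).obj (op (base Γ(U.left, ⊤))) :=
  (Over.isoMk U.left.isoSpec (Iso.hom_inv_id_assoc _ _) : U ≅ Over.mk (U.left.isoSpec.inv ≫ U.hom)) ≪≫ baseCmp' _

variable [HasSheafify (QuotSh.J (Scheme.precoverage P) T) AddCommGrpCat.{u + 1}]
  [(QuotSh.J (Scheme.precoverage P) T).WEqualsLocallyBijective AddCommGrpCat.{u + 1}]

theorem isLocallySurjective_val {M N : BigSite.Mod (Scheme.precoverage P) T} (g : M ⟶ N) [Epi g] :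
    Presheaf.IsLocallySurjective (QuotSh.J (Scheme.precoverage P) T) ((PresheafOfModules.toPresheaf _).map g.val) := by
  let α := 𝟙 (BigSite.ORing (Scheme.precoverage P) T).obj
  let adj := PresheafOfModules.sheafificationAdjunction α
  let L := PresheafOfModules.sheafification α
  haveI : IsIso adj.counit := inferInstance
  let π : N.val ⟶ cokernel g.val := cokernel.π g.val
  have hepi : Epi (L.map g.val) := by
    have h : L.map g.val = adj.counit.app M ≫ g ≫ inv (adj.counit.app N) := by
      rw [← Category.assoc, ← adj.counit_naturality g, Category.assoc, IsIso.hom_inv_id, Category.comp_id]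
      rfl
    rw [h]
    haveI h₁ : IsIso (adj.counit.app M) := NatIso.isIso_app_of_isIso adj.counit M
    haveI h₂ : IsIso (adj.counit.app N) := NatIso.isIso_app_of_isIso adj.counit N
    haveI h₃ : IsIso (inv (adj.counit.app N)) := IsIso.inv_isIso
    exact @epi_comp _ _ _ _ _ _ (@IsIso.epi_of_iso _ _ _ _ _ h₁) _ (@epi_comp _ _ _ _ _ g inferInstance _ (@IsIso.epi_of_iso _ _ _ _ _ h₃))
  have hz : L.map π = 0 := by
    rw [← cancel_epi (L.map g.val), ← Functor.map_comp, comp_zero, cokernel.condition]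
    exact L.map_zero _ _
  have hπ : π ≫ adj.unit.app (cokernel g.val) = 0 := by
    refine (adj.unit.naturality π).trans ?_
    rw [Functor.comp_map]
    refine (congrArg (fun z => adj.unit.app N.val ≫ z) ?_).trans comp_zero
    change (SheafOfModules.forget _ ⋙ PresheafOfModules.restrictScalars α).map (L.map π) = 0
    rw [hz]
    exact Functor.map_zero _ _ _
  refine ⟨fun {U} s => ?_⟩
  let τ := CategoryTheory.toSheafify (QuotSh.J (Scheme.precoverage P) T) (cokernel g.val).presheaf
  let q₀ : (cokernel g.val).presheaf.obj (op U) := ((PresheafOfModules.toPresheaf _).map π).app (op U) s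
  have hq : τ.app (op U) q₀ = τ.app (op U) 0 := by
    refine Eq.trans ?_ (map_zero _).symm
    exact DFunLike.congr_fun (congrArg (fun φ => ((PresheafOfModules.toPresheaf _).map φ).app (op U) |>.hom) hπ) s
  refine GrothendieckTopology.superset_covering _ (fun W j hj => ?_)
    (Presheaf.equalizerSieve_mem (QuotSh.J (Scheme.precoverage P) T) τ q₀ 0 hq)
  have h0 : ((PresheafOfModules.toPresheaf _).map π).app _ (N.val.presheaf.map j.op s) = 0 :=
    (PresheafOfModules.naturality_apply π j.op s).trans (hj.trans (map_zero _))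
  exact (presheaf_exact_ap (ShortComplex.mk g.val π (cokernel.condition _)) (ShortComplex.exact_cokernel _) _ _).1 h0

theorem shortExact_toAb (C : ShortComplex (BigSite.Mod (Scheme.precoverage P) T)) (hC : C.ShortExact) :
    (C.map (BigSite.toAbMod (Scheme.precoverage P) T)).ShortExact := by
  haveI := hC.mono_f
  haveI := hC.epi_g
  let F := BigSite.toAbMod (Scheme.precoverage P) T
  haveI : Mono (C.map F).f := preserves_mono_of_preservesLimit F C.f
  haveI : Sheaf.IsLocallySurjective (F.map C.g) := isLocallySurjective_val C.g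
  haveI : Epi (C.map F).g := (Sheaf.isLocallySurjective_iff_epi' (φ := F.map C.g)).1 ‹_›
  exact { exact := hC.exact.map_of_mono_of_preservesKernel F inferInstance inferInstance }

variable (P) in
/-- Čech acyclic modules -/
def ModAcyclic (M : BigSite.Mod (Scheme.precoverage P) T) : Prop := CechAcyclic P M.val.presheaf

theorem modAcyclic_injective (I : BigSite.Mod (Scheme.precoverage P) T) [Injective I] : ModAcyclic P I :=
  fun _ a V _ _ n => isExact_injMod I.val a V n

theorem modAcyclic_quotient (hP : GoodProp P) (hPp : StableProd P)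
    (C : ShortComplex (BigSite.Mod (Scheme.precoverage P) T)) (hC : C.ShortExact)
    (h₁ : ModAcyclic P C.X₁) (h₂ : ModAcyclic P C.X₂) : ModAcyclic P C.X₃ :=
  cechAcyclic_quotient hP hPp _ (shortExact_toAb C hC) h₁ h₂

theorem modAcyclic_of_iso {M N : BigSite.Mod (Scheme.precoverage P) T} (e : M ≅ N) (h : ModAcyclic P M) :
    ModAcyclic P N := fun R a V hV hs n => by
  let E := (PresheafOfModules.toPresheaf _).mapIso ((SheafOfModules.forget _).mapIso e)
  exact isExact_retract (Functor.whiskerLeft (opOp (Alg R) ⋙ (specOver a).op) E.inv)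
    (Functor.whiskerLeft (opOp (Alg R) ⋙ (specOver a).op) E.hom)
    (fun C x => ConcreteCategory.congr_hom (congrArg (fun t => t.app (op ((specOver a).obj (op C)))) E.inv_hom_id) x)
    (h R a V hV hs n)

theorem affine_sections_surjective (hP : GoodProp P) (hPp : StableProd P)
    (C : ShortComplex (BigSite.Mod (Scheme.precoverage P) T)) (hC : C.ShortExact) (h₁ : ModAcyclic P C.X₁)
    (U : Over T) [IsAffine U.left] :
    Function.Surjective (((PresheafOfModules.toPresheaf _).map C.g.val).app (op U)) :=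
  surjective_of_iso (C.map (BigSite.toAbMod (Scheme.precoverage P) T)).g.hom (affineCmp U)
    (sections_surjective hP hPp _ (shortExact_toAb C hC) h₁ _ _)

theorem mod_leftExact (C : ShortComplex (BigSite.Mod (Scheme.precoverage P) T)) (hC : C.ShortExact) (U : (Over T)ᵒᵖ) :
    Function.Injective (((PresheafOfModules.toPresheaf _).map C.f.val).app U) ∧
      Function.Exact (((PresheafOfModules.toPresheaf _).map C.f.val).app U)
        (((PresheafOfModules.toPresheaf _).map C.g.val).app U) :=
  ab_leftExact (C.map (BigSite.toAbMod (Scheme.precoverage P) T)) (shortExact_toAb C hC) U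

end Groth.MiscGeom.Adq.Cech

end
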