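import Groth.Agent.MiscGeom.AdeqPull
import Groth.Agent.MiscGeom.AdeqAmitsur
import Mathlib.Algebra.Category.ModuleCat.Presheaf.Sheafification
import Mathlib.Algebra.Category.ModuleCat.Presheaf.Colimits
import Mathlib.Algebra.Category.ModuleCat.ChangeOfRings
import Mathlib.CategoryTheory.Limits.Preserves.Shapes.Kernels

/-!
# Adequacy and sheafification; kernels, cokernels and colimits of adequate modules
-/

universe u v

open CategoryTheory CategoryTheory.Limits AlgebraicGeometry Opposite

noncomputable section

namespace Groth.MiscGeom.Adq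

open Adeq

variable {P : MorphismProperty Scheme.{u}} (hP : GoodProp P) {S : Scheme.{u}} {R : CommRingCat.{u}} (a : Spec R ⟶ S)
  [BigSite.OSh (Scheme.precoverage P)]

section Bij

variable {P₀ Q₀ : PresheafOfModules.{u + 1} (BigSite.ORing (Scheme.precoverage P) S).obj} (η : P₀ ⟶ Q₀)
include hP

theorem affine_injective
    [Presheaf.IsLocallyInjective (QuotSh.J (Scheme.precoverage P) S) ((PresheafOfModules.toPresheaf _).map η)]
    (hF : adequate R (FP a P₀)) (B : Alg R) : Function.Injective (ap ((toMVFPre (Scheme.precoverage P) a).map η) B) := by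
  classical
  refine (injective_iff_map_eq_zero _).2 fun x hx => ?_
  let g := (PresheafOfModules.toPresheaf _).map η
  let x' : P₀.presheaf.obj (op ((specOver a).obj (op B))) := toSec a P₀ x
  have he : g.app _ x' = g.app _ 0 := hx.trans (map_zero (g.app _).hom).symm
  obtain ⟨κ, hκ, Bk, f, hf, hsurj, hT⟩ :=
    exists_affine_refinement hP a (Presheaf.equalizerSieve_mem (QuotSh.J (Scheme.precoverage P) S) g x' 0 he)
  refine sep_family Bk f hF (fun k => flat_of_specHom hP (f k) (hf k)) hsurj x fun k => ?_
  exact (hT k).trans (map_zero (P₀.presheaf.map ((specOver a).map (f k).op).op).hom)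

theorem affine_surjective (hQ : Presheaf.IsSheaf (QuotSh.J (Scheme.precoverage P) S) Q₀.presheaf)
    [Presheaf.IsLocallyInjective (QuotSh.J (Scheme.precoverage P) S) ((PresheafOfModules.toPresheaf _).map η)]
    [Presheaf.IsLocallySurjective (QuotSh.J (Scheme.precoverage P) S) ((PresheafOfModules.toPresheaf _).map η)]
    (hF : adequate R (FP a P₀)) (B : Alg R) : Function.Surjective (ap ((toMVFPre (Scheme.precoverage P) a).map η) B) := by
  classical
  intro y
  let g := (PresheafOfModules.toPresheaf _).map η
  let φ := (toMVFPre (Scheme.precoverage P) a).map η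
  let y' : Q₀.presheaf.obj (op ((specOver a).obj (op B))) := toSec a Q₀ y
  obtain ⟨κ, hκ, Bk, f, hf, hsurj, hT⟩ :=
    exists_affine_refinement hP a (Presheaf.imageSieve_mem (QuotSh.J (Scheme.precoverage P) S) g y')
  choose x hx using fun k => hT k
  let xk : ∀ k, (FP a P₀).obj (pt (Bk k)) := fun k => x k
  have hxk : ∀ k, ap φ (Bk k) (xk k) = tr (FP a Q₀) (f k) y := fun k => hx k
  obtain ⟨x₀, hx₀⟩ := glue_family Bk f hF (fun k => flat_of_specHom hP (f k) (hf k)) hsurj xk fun k l C p q e => by
    refine affine_injective hP a η hF C ?_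
    rw [ap_tr, ap_tr, hxk, hxk, tr_comp, tr_comp, tr_congr _ e]
  refine ⟨x₀, sub_eq_zero.1 (sect_sep a Q₀ hP hQ f hf hsurj _ fun k => ?_)⟩
  rw [map_sub, sub_eq_zero, ← hxk, ← hx₀, ap_tr]

theorem adequate_of_locBij (hQ : Presheaf.IsSheaf (QuotSh.J (Scheme.precoverage P) S) Q₀.presheaf)
    [Presheaf.IsLocallyInjective (QuotSh.J (Scheme.precoverage P) S) ((PresheafOfModules.toPresheaf _).map η)]
    [Presheaf.IsLocallySurjective (QuotSh.J (Scheme.precoverage P) S) ((PresheafOfModules.toPresheaf _).map η)]
    (hF : adequate R (FP a P₀)) : adequate R (FP a Q₀) :=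
  adequate_of_bij ((toMVFPre (Scheme.precoverage P) a).map η) hF fun B =>
    ⟨affine_injective hP a η hF B, affine_surjective hP a η hQ hF B⟩

end Bij

include hP

theorem adequateMod_of_all (M : BigSite.Mod (Scheme.precoverage P) S)
    (h : ∀ (R : CommRingCat.{u}) (a : Spec R ⟶ S), adequate R ((toMVF (Scheme.precoverage P) a).obj M)) :
    adequateMod (Scheme.precoverage P) S M :=
  ⟨S.affineCover.I₀, fun i => _, S.affineCover.f, affineCover_mem hP S, fun i => h _ _⟩

variable [HasSheafify (QuotSh.J (Scheme.precoverage P) S) AddCommGrpCat.{u + 1}]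
  [(QuotSh.J (Scheme.precoverage P) S).WEqualsLocallyBijective AddCommGrpCat.{u + 1}]

theorem adequateMod_sheafify (P₀ : PresheafOfModules.{u + 1} (BigSite.ORing (Scheme.precoverage P) S).obj)
    (h : ∀ (R : CommRingCat.{u}) (a : Spec R ⟶ S), adequate R (FP a P₀)) :
    adequateMod (Scheme.precoverage P) S
      ((PresheafOfModules.sheafification (𝟙 (BigSite.ORing (Scheme.precoverage P) S).obj)).obj P₀) := by
  let Q := (PresheafOfModules.sheafification (𝟙 (BigSite.ORing (Scheme.precoverage P) S).obj)).obj P₀
  let η : P₀ ⟶ Q.val := (PresheafOfModules.sheafificationAdjunction (𝟙 (BigSite.ORing (Scheme.precoverage P) S).obj)).unit.app P₀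
  haveI : Presheaf.IsLocallyInjective (QuotSh.J (Scheme.precoverage P) S) ((PresheafOfModules.toPresheaf _).map η) :=
    inferInstanceAs (Presheaf.IsLocallyInjective _ (CategoryTheory.toSheafify _ P₀.presheaf))
  haveI : Presheaf.IsLocallySurjective (QuotSh.J (Scheme.precoverage P) S) ((PresheafOfModules.toPresheaf _).map η) :=
    inferInstanceAs (Presheaf.IsLocallySurjective _ (CategoryTheory.toSheafify _ P₀.presheaf))
  refine adequateMod_of_all hP Q fun R a => ?_
  exact adequate_of_locBij (P₀ := P₀) (Q₀ := Q.val) hP a η Q.isSheaf (h R a)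

theorem adequateMod_colimit {J : Type v} [Category.{v} J] (D : J ⥤ BigSite.Mod (Scheme.precoverage P) S) [HasColimit D]
    [HasColimit (D ⋙ SheafOfModules.forget _)]
    (h : ∀ (R : CommRingCat.{u}) (a : Spec R ⟶ S),
      adequate R (FP a (colimit (D ⋙ SheafOfModules.forget _)))) :
    adequateMod (Scheme.precoverage P) S (colimit D) := by
  let L := PresheafOfModules.sheafification (𝟙 (BigSite.ORing (Scheme.precoverage P) S).obj)
  let adj := PresheafOfModules.sheafificationAdjunction (𝟙 (BigSite.ORing (Scheme.precoverage P) S).obj)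
  haveI := adj.leftAdjoint_preservesColimits
  haveI : IsIso adj.counit := inferInstance
  let c := L.mapCocone (colimit.cocone (D ⋙ SheafOfModules.forget _))
  have hc : IsColimit c := isColimitOfPreserves L (colimit.isColimit _)
  let α : D ≅ (D ⋙ SheafOfModules.forget _) ⋙ L := (Functor.isoWhiskerLeft D (asIso adj.counit)).symm
  have e : colimit D ≅ L.obj (colimit (D ⋙ SheafOfModules.forget _)) :=
    (colimit.isColimit D).coconePointsIsoOfNatIso hc α
  exact (adequateMod (Scheme.precoverage P) S).prop_of_iso e.symm (adequateMod_sheafify hP _ h)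

end Groth.MiscGeom.Adq

end
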