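import Groth.Agent.MiscGeom.AdeqBasic
import Groth.Prelude.Def_Adeq2
import Mathlib.AlgebraicGeometry.Sites.Fpqc
import Mathlib.AlgebraicGeometry.Sites.QuasiCompact

/-!
# Sheaves on big sites evaluated on affine objects: separation, glueing, refinement of covering sieves
-/

universe u v

open CategoryTheory CategoryTheory.Limits AlgebraicGeometry Opposite

noncomputable section

namespace Groth.MiscGeom.Adq

open Adeq

/-- a morphism property admitted for the topologies on the big sites -/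
structure GoodProp (P : MorphismProperty Scheme.{u}) : Prop where
  le : ∀ {X Y : Scheme.{u}} (f : X ⟶ Y), P f → Flat f ∧ LocallyOfFinitePresentation f
  openImm : ∀ {X Y : Scheme.{u}} (f : X ⟶ Y), IsOpenImmersion f → P f
  comp : P.IsStableUnderComposition
  bc : P.IsStableUnderBaseChange

theorem goodProp_fppf : GoodProp.{u} (@Flat ⊓ @LocallyOfFinitePresentation) :=
  ⟨fun _ h => h, fun _ _ => ⟨inferInstance, inferInstance⟩, inferInstance, inferInstance⟩

theorem goodProp_zariski : GoodProp.{u} @IsOpenImmersion :=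
  ⟨fun _ _ => ⟨inferInstance, inferInstance⟩, fun _ h => h, inferInstance, inferInstance⟩

section Sheaf

variable {K : Precoverage Scheme.{u}} {S : Scheme.{u}} (G : (Over S)ᵒᵖ ⥤ AddCommGrpCat.{u + 1})

/-- sheaf condition for one covering family, element-wise -/
theorem sheafFor_family (hG : Presheaf.IsSheaf (QuotSh.J K S) G) {U : Over S} {ι : Type v} (V : ι → Over S)
    (f : ∀ i, V i ⟶ U) (hcov : Presieve.ofArrows (fun i => (V i).left) (fun i => (f i).left) ∈ K.coverings U.left) :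
    (∀ x : G.obj (op U), (∀ i, G.map (f i).op x = 0) → x = 0) ∧
      ∀ y : ∀ i, G.obj (op (V i)), (∀ i j (W : Over S) (g : W ⟶ V i) (h : W ⟶ V j), g ≫ f i = h ≫ f j →
        G.map g.op (y i) = G.map h.op (y j)) → ∃ x, ∀ i, G.map (f i).op x = y i := by
  rw [Presheaf.isSheaf_iff_isSheaf_forget (QuotSh.J K S) G (forget AddCommGrpCat.{u + 1}),
    isSheaf_iff_isSheaf_of_type] at hG
  have hmem : Sieve.ofArrows V f ∈ QuotSh.J K S U := by
    rw [GrothendieckTopology.mem_over_iff, Sieve.overEquiv_ofArrows]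
    exact Precoverage.generate_mem_toGrothendieck hcov
  have h := hG _ hmem
  rw [← Presieve.isSheafFor_iff_generate, Presieve.isSheafFor_arrows_iff] at h
  refine ⟨fun x hx => ?_, fun y hy => ?_⟩
  · obtain ⟨t, -, hu⟩ := h (fun i => (0 : G.obj (op (V i)))) fun i j W g g' _ =>
      (map_zero (G.map g.op).hom).trans (map_zero (G.map g'.op).hom).symm
    exact (hu x hx).trans (hu 0 fun i => map_zero (G.map (f i).op).hom).symm
  · obtain ⟨t, ht, -⟩ := h y fun i j W g g' e => hy i j W g g' e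
    exact ⟨t, ht⟩

end Sheaf

section Affine

variable {P : MorphismProperty Scheme.{u}} {S : Scheme.{u}} {R : CommRingCat.{u}} (a : Spec R ⟶ S)

/-- the scheme map of a map of algebras -/
abbrev specHom {B B' : Alg R} (f : B ⟶ B') : Spec (CommRingCat.of B') ⟶ Spec (CommRingCat.of B) :=
  Spec.map (CommRingCat.ofHom f.hom.toRingHom)

theorem specOver_map_left {B B' : Alg R} (f : B ⟶ B') : ((specOver a).map f.op).left = specHom f := rfl

/-- maps between affine objects over `Spec R` come from algebra maps -/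
theorem exists_algHom {B C : Alg R} (g : Spec (CommRingCat.of C) ⟶ Spec (CommRingCat.of B))
    (hg : g ≫ Spec.map (CommRingCat.ofHom (algebraMap R B)) = Spec.map (CommRingCat.ofHom (algebraMap R C))) :
    ∃ f : B ⟶ C, specHom f = g := by
  refine ⟨CommAlgCat.ofHom { (Spec.preimage g).hom with commutes' := fun r => ?_ }, Spec.map_preimage g⟩
  have h : CommRingCat.ofHom (algebraMap R B) ≫ Spec.preimage g = CommRingCat.ofHom (algebraMap R C) :=
    Spec.map_injective (by rw [Spec.map_comp, Spec.map_preimage, hg])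
  exact DFunLike.congr_fun (congrArg CommRingCat.Hom.hom h) r

/-- an affine scheme over `Spec R` as an algebra -/
theorem exists_algObj (C : CommRingCat.{u}) (g : Spec C ⟶ Spec R) :
    ∃ (B : Alg R) (e : Spec C ≅ Spec (CommRingCat.of B)),
      e.hom ≫ Spec.map (CommRingCat.ofHom (algebraMap R B)) = g := by
  letI : Algebra R C := (Spec.preimage g).hom.toAlgebra
  refine ⟨algOf R C, Iso.refl _, ?_⟩
  exact (Category.id_comp _).trans (Spec.map_preimage g)

theorem specHom_covering (hP : GoodProp P) {B : Alg R} {κ : Type v} {Bk : κ → Alg R} (f : ∀ k, B ⟶ Bk k)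
    (hf : ∀ k, P (specHom (f k)))
    (hsurj : ∀ x : PrimeSpectrum B, ∃ k, x ∈ Set.range (PrimeSpectrum.comap (f k).hom.toRingHom)) :
    Presieve.ofArrows (fun k => ((specOver a).obj (op (Bk k))).left) (fun k => ((specOver a).map (f k).op).left) ∈
      (Scheme.precoverage P).coverings ((specOver a).obj (op B)).left := by
  refine (Scheme.ofArrows_mem_precoverage_iff P).2 ⟨fun x => ?_, fun k => hf k⟩
  obtain ⟨k, y, hy⟩ := hsurj x
  exact ⟨k, y, hy⟩

variable [BigSite.OSh (Scheme.precoverage P)]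
  (P₀ : PresheafOfModules.{u + 1} (BigSite.ORing (Scheme.precoverage P) S).obj)

/-- `F_{P,R}` -/
abbrev FP : MVF R := (toMVFPre (Scheme.precoverage P) a).obj P₀

/-- an element of `F_{P,R}(B)` as a section -/
def toSec {B : Alg R} (x : (FP a P₀).obj (pt B)) : P₀.presheaf.obj (op ((specOver a).obj (op B))) := x

theorem toSec_tr {B B' : Alg R} (f : B ⟶ B') (x : (FP a P₀).obj (pt B)) :
    toSec a P₀ (tr (FP a P₀) f x) = P₀.presheaf.map ((specOver a).map f.op).op (toSec a P₀ x) := rfl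

theorem sect_sep (hP : GoodProp P) (hsh : Presheaf.IsSheaf (QuotSh.J (Scheme.precoverage P) S) P₀.presheaf)
    {B : Alg R} {κ : Type v} {Bk : κ → Alg R} (f : ∀ k, B ⟶ Bk k) (hf : ∀ k, P (specHom (f k)))
    (hsurj : ∀ x : PrimeSpectrum B, ∃ k, x ∈ Set.range (PrimeSpectrum.comap (f k).hom.toRingHom))
    (x : (FP a P₀).obj (pt B)) (hx : ∀ k, tr (FP a P₀) (f k) x = 0) : x = 0 :=
  (sheafFor_family P₀.presheaf hsh _ (fun k => (specOver a).map (f k).op) (specHom_covering a hP f hf hsurj)).1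
    (toSec a P₀ x) fun k => hx k

theorem sect_glue (hP : GoodProp P) (hsh : Presheaf.IsSheaf (QuotSh.J (Scheme.precoverage P) S) P₀.presheaf)
    {B : Alg R} {κ : Type v} {Bk : κ → Alg R} (f : ∀ k, B ⟶ Bk k) (hf : ∀ k, P (specHom (f k)))
    (hsurj : ∀ x : PrimeSpectrum B, ∃ k, x ∈ Set.range (PrimeSpectrum.comap (f k).hom.toRingHom))
    (y : ∀ k, (FP a P₀).obj (pt (Bk k)))
    (hy : ∀ (k l : κ) (C : Alg R) (p : Bk k ⟶ C) (q : Bk l ⟶ C), f k ≫ p = f l ≫ q →
      tr (FP a P₀) p (y k) = tr (FP a P₀) q (y l)) :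
    ∃ x, ∀ k, tr (FP a P₀) (f k) x = y k := by
  refine (sheafFor_family P₀.presheaf hsh _ (fun k => (specOver a).map (f k).op) (specHom_covering a hP f hf hsurj)).2
    (fun k => toSec a P₀ (y k)) fun k l W g h e => ?_
  let 𝒲 := W.left.affineCover
  let j : ∀ i, Over.mk (𝒲.f i ≫ W.hom) ⟶ W := fun i => Over.homMk (𝒲.f i)
  refine sub_eq_zero.1 ((sheafFor_family P₀.presheaf hsh _ j ((Scheme.ofArrows_mem_precoverage_iff P).2
    ⟨fun x => ⟨𝒲.idx x, 𝒲.covers x⟩, fun i => hP.openImm _ (inferInstanceAs (IsOpenImmersion (𝒲.f i)))⟩)).1 _ fun i => ?_)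
  rw [map_sub, sub_eq_zero, ← ConcreteCategory.comp_apply, ← ConcreteCategory.comp_apply, ← Functor.map_comp,
    ← Functor.map_comp, ← op_comp, ← op_comp]
  obtain ⟨C, ec, hC⟩ := exists_algObj _ (𝒲.f i ≫ g.left ≫ Spec.map (CommRingCat.ofHom (algebraMap R (Bk k))))
  let E : Over.mk (𝒲.f i ≫ W.hom) ⟶ (specOver a).obj (op C) := Over.homMk ec.hom (by
    show ec.hom ≫ Spec.map (CommRingCat.ofHom (algebraMap R C)) ≫ a = 𝒲.f i ≫ W.hom
    rw [← Over.w g, ← Category.assoc ec.hom, hC, Category.assoc, Category.assoc]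
    rfl)
  obtain ⟨p, hp⟩ := exists_algHom (B := Bk k) (C := C) (ec.inv ≫ 𝒲.f i ≫ g.left) (by
    rw [Category.assoc, Category.assoc, Iso.inv_comp_eq]
    exact hC.symm)
  have hl : (f k).hom.toRingHom.comp (algebraMap R B) = algebraMap R (Bk k) := (f k).hom.comp_algebraMap
  have hl' : (f l).hom.toRingHom.comp (algebraMap R B) = algebraMap R (Bk l) := (f l).hom.comp_algebraMap
  have he : g.left ≫ specHom (f k) = h.left ≫ specHom (f l) := congrArg CommaMorphism.left e
  obtain ⟨q, hq⟩ := exists_algHom (B := Bk l) (C := C) (ec.inv ≫ 𝒲.f i ≫ h.left) (by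
    rw [Category.assoc, Category.assoc, Iso.inv_comp_eq]
    refine Eq.trans ?_ hC.symm
    rw [← hl, ← hl', CommRingCat.ofHom_comp, Spec.map_comp, CommRingCat.ofHom_comp, Spec.map_comp]
    exact congrArg (𝒲.f i ≫ ·) ((Category.assoc _ _ _).symm.trans
      ((congrArg (· ≫ Spec.map (CommRingCat.ofHom (algebraMap R B))) he.symm).trans (Category.assoc _ _ _))))
  have hpq : f k ≫ p = f l ≫ q := by
    refine CommAlgCat.hom_ext (AlgHom.coe_ringHom_injective ?_)
    have h1 : specHom (f k ≫ p) = specHom (f l ≫ q) := by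
      show Spec.map (CommRingCat.ofHom (f k).hom.toRingHom ≫ CommRingCat.ofHom p.hom.toRingHom) =
        Spec.map (CommRingCat.ofHom (f l).hom.toRingHom ≫ CommRingCat.ofHom q.hom.toRingHom)
      rw [Spec.map_comp, Spec.map_comp]
      show specHom p ≫ specHom (f k) = specHom q ≫ specHom (f l)
      rw [hp, hq, Category.assoc, Category.assoc, Category.assoc, Category.assoc]
      exact congrArg (fun z => ec.inv ≫ 𝒲.f i ≫ z) he
    exact congrArg CommRingCat.Hom.hom (Spec.map_injective h1)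
  have key := hy k l C p q hpq
  have e1 : j i ≫ g = E ≫ (specOver a).map p.op := by
    refine Over.OverMorphism.ext ?_
    show 𝒲.f i ≫ g.left = ec.hom ≫ specHom p
    rw [hp, Iso.hom_inv_id_assoc]
    rfl
  have e2 : j i ≫ h = E ≫ (specOver a).map q.op := by
    refine Over.OverMorphism.ext ?_
    show 𝒲.f i ≫ h.left = ec.hom ≫ specHom q
    rw [hq, Iso.hom_inv_id_assoc]
    rfl
  rw [e1, e2, op_comp, op_comp, Functor.map_comp, Functor.map_comp, ConcreteCategory.comp_apply,
    ConcreteCategory.comp_apply, ← toSec_tr, ← toSec_tr, key]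

end Affine

section Refine

variable {P : MorphismProperty Scheme.{u}} (hP : GoodProp P)
include hP

/-- a covering sieve of `Spec B` contains finitely many affines jointly covering it -/
theorem exists_affine_refinement_scheme {B : CommRingCat.{u}} {T : Sieve (Spec B)}
    (hT : T ∈ (Scheme.precoverage P).toGrothendieck (Spec B)) :
    ∃ (κ : Type u) (_ : Fintype κ) (X : κ → CommRingCat.{u}) (φ : ∀ k, Spec (X k) ⟶ Spec B),
      (∀ k, P (φ k)) ∧ (∀ x, ∃ k, x ∈ Set.range (φ k)) ∧ ∀ k, T (φ k) := by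
  haveI := hP.comp
  haveI := hP.bc
  haveI : P.ContainsIdentities := ⟨fun X => hP.openImm _ inferInstance⟩
  haveI : P.IsMultiplicative := ⟨⟩
  haveI : P.RespectsLeft @IsOpenImmersion := ⟨fun i hi f hf => P.comp_mem i f (hP.openImm i hi) hf⟩
  obtain ⟨R', hR', hle⟩ := (Precoverage.mem_toGrothendieck_iff_of_isStableUnderComposition (J := Scheme.precoverage P)).1 hT
  rw [Precoverage.mem_iff_exists_zeroHypercover] at hR'
  obtain ⟨𝒰, rfl⟩ := hR'
  haveI : QuasiCompactCover 𝒰.toPreZeroHypercover := Scheme.presieve₀_mem_qcPrecoverage_iff.1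
    (Scheme.precoverage_le_qcPrecoverage_of_isOpenMap (P := P) (fun X Y f hf => by
      obtain ⟨_, _⟩ := hP.le f hf
      exact f.isOpenMap) _ 𝒰.mem₀)
  obtain ⟨𝒱, h, hfin, -⟩ := QuasiCompactCover.exists_hom 𝒰
  obtain ⟨n, ⟨e⟩⟩ := Finite.exists_equiv_fin 𝒱.I₀
  refine ⟨ULift.{u} (Fin n), inferInstance, fun k => 𝒱.X (e.symm k.down), fun k => 𝒱.f (e.symm k.down),
    fun k => 𝒱.map_prop _, fun x => ⟨⟨e (𝒱.idx x)⟩, ?_⟩, fun k => ?_⟩
  · show x ∈ Set.range (𝒱.f (e.symm (e (𝒱.idx x))))
    rw [Equiv.symm_apply_apply]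
    exact 𝒱.covers x
  · show T (𝒱.f (e.symm k.down))
    rw [show 𝒱.f (e.symm k.down) = h.h₀ _ ≫ 𝒰.f (h.s₀ _) from (h.w₀ _).symm]
    exact T.downward_closed (hle _ _ ⟨h.s₀ _⟩) _

theorem flat_of_specHom {R : CommRingCat.{u}} {B B' : Alg R} (f : B ⟶ B') (hf : P (specHom f)) :
    f.hom.toRingHom.Flat :=
  (HasRingHomProperty.Spec_iff (P := @Flat)).1 (hP.le _ hf).1

theorem exists_affine_refinement {S : Scheme.{u}} {R : CommRingCat.{u}} (a : Spec R ⟶ S) {B : Alg R}
    {T : Sieve ((specOver a).obj (op B))} (hT : T ∈ QuotSh.J (Scheme.precoverage P) S ((specOver a).obj (op B))) :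
    ∃ (κ : Type u) (_ : Fintype κ) (Bk : κ → Alg R) (f : ∀ k, B ⟶ Bk k), (∀ k, P (specHom (f k))) ∧
      (∀ x : PrimeSpectrum B, ∃ k, x ∈ Set.range (PrimeSpectrum.comap (f k).hom.toRingHom)) ∧
      ∀ k, T ((specOver a).map (f k).op) := by
  rw [GrothendieckTopology.mem_over_iff] at hT
  obtain ⟨κ, hκ, X, φ, hφ, hsurj, hmem⟩ := exists_affine_refinement_scheme hP (B := CommRingCat.of B) hT
  letI : ∀ k, Algebra R (X k) := fun k => ((CommRingCat.ofHom (algebraMap R B)) ≫ Spec.preimage (φ k)).hom.toAlgebra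
  let Bk : κ → Alg R := fun k => algOf R (X k)
  let f : ∀ k, B ⟶ Bk k := fun k => CommAlgCat.ofHom { (Spec.preimage (φ k)).hom with commutes' := fun r => rfl }
  have hf : ∀ k, specHom (f k) = φ k := fun k => Spec.map_preimage (φ k)
  refine ⟨κ, hκ, Bk, f, fun k => by rw [hf]; exact hφ k, fun x => ?_, fun k => ?_⟩
  · obtain ⟨k, y, hy⟩ := hsurj x
    rw [← hf k] at hy
    exact ⟨k, y, hy⟩
  · have h := (Sieve.overEquiv_iff T (φ k)).1 (hmem k)
    let E : (specOver a).obj (op (Bk k)) ⟶ Over.mk (φ k ≫ ((specOver a).obj (op B)).hom) :=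
      Over.homMk (𝟙 _) ((Category.id_comp _).trans (by
        rw [← hf k]
        exact Over.w ((specOver a).map (f k).op)))
    have he : (specOver a).map (f k).op = E ≫ (Over.homMk (φ k) rfl : Over.mk (φ k ≫ ((specOver a).obj (op B)).hom) ⟶ (specOver a).obj (op B)) := by
      refine Over.OverMorphism.ext ?_
      show specHom (f k) = 𝟙 _ ≫ φ k
      rw [hf, Category.id_comp]
    rw [he]
    exact T.downward_closed h E

end Refine

end Groth.MiscGeom.Adq

end
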