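import Groth.Agent.MiscGeom.AdeqBC
import Mathlib.Algebra.Polynomial.Monic
import Mathlib.RingTheory.Flat.Stability
import Mathlib.RingTheory.Localization.BaseChange
import Mathlib.Algebra.Module.LocalizedModule.Basic
import Mathlib.LinearAlgebra.TensorProduct.Tower
import Mathlib.RingTheory.Polynomial.Basic

/-!
# Additive transformations commuting with units are linear
-/

universe u

open CategoryTheory CategoryTheory.Limits Opposite TensorProduct Polynomial
open scoped ChangeOfRings

noncomputable section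

namespace Groth.MiscGeom.Adq

open Adeq

variable {A : Type u} [CommRing A]

theorem monic_torsion_free {R : Type u} [CommRing R] {G : Type (u + 1)} [AddCommGroup G] [Module R G] {s : R[X]}
    (hs : s.Monic) {g : G} (h : (s ⊗ₜ[R] g : R[X] ⊗[R] G) = 0) : g = 0 := by
  have h' := congrArg ((TensorProduct.lid R G).toLinearMap ∘ₗ (Polynomial.lcoeff R s.natDegree).rTensor G) h
  simpa [hs] using h'

/-- monic polynomials -/
def monicSubmonoid (R : Type u) [CommRing R] : Submonoid R[X] where
  carrier := {p | p.Monic}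
  one_mem' := monic_one
  mul_mem' := fun hp hq => Monic.mul hp hq

theorem inj_of_localization {R : Type u} [CommRing R] (L : Type u) [CommRing L] [Algebra R[X] L]
    [Algebra R L] [IsScalarTower R R[X] L] [IsLocalization (monicSubmonoid R) L]
    {G : Type (u + 1)} [AddCommGroup G] [Module R G] (g : G)
    (h : ((1 : L) ⊗ₜ[R] g : L ⊗[R] G) = 0) : g = 0 := by
  let e := TensorProduct.AlgebraTensorModule.cancelBaseChange R R[X] L L G
  have h2 : TensorProduct.mk R[X] L (R[X] ⊗[R] G) 1 ((1 : R[X]) ⊗ₜ[R] g) = 0 := by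
    refine e.injective (((TensorProduct.AlgebraTensorModule.cancelBaseChange_tmul R R[X] L (1 : L) g (1 : R[X])).trans ?_).trans
      (map_zero e).symm)
    rw [one_smul]
    exact h
  obtain ⟨s, hs⟩ := (IsLocalizedModule.eq_zero_iff (monicSubmonoid R) (TensorProduct.mk R[X] L (R[X] ⊗[R] G) 1)).1 h2
  rw [Submonoid.smul_def, TensorProduct.smul_tmul', smul_eq_mul, mul_one] at hs
  exact monic_torsion_free s.2 hs

theorem exists_test_algebra (B : Alg A) :
    ∃ (B' : Alg A) (i : B ⟶ B') (t : B'), i.hom.toRingHom.Flat ∧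
      (∀ (b : B), IsUnit (i.hom b + t)) ∧ IsUnit t ∧
      letI := algOfHom i
      ∀ (G : Type (u + 1)) [AddCommGroup G] [Module (B : Type u) G] (g : G),
        ((1 : B') ⊗ₜ[(B : Type u)] g : (B' : Type u) ⊗[(B : Type u)] G) = 0 → g = 0 := by
  let R := (B : Type u)
  let L := Localization (monicSubmonoid R)
  let i : B ⟶ algOf A L := CommAlgCat.ofHom (IsScalarTower.toAlgHom A R L)
  refine ⟨algOf A L, i, algebraMap R[X] L Polynomial.X, ?_, fun b => ?_,
    IsLocalization.map_units L (⟨Polynomial.X, monic_X⟩ : monicSubmonoid R), ?_⟩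
  · have h1 : Module.Flat R[X] L := IsLocalization.flat L (monicSubmonoid R)
    have : Module.Flat R L := Module.Flat.trans R R[X] L
    have e : i.hom.toRingHom = algebraMap R L := rfl
    rw [e, RingHom.flat_algebraMap_iff]
    exact this
  · rw [show i.hom b = algebraMap R[X] L (Polynomial.C b) from IsScalarTower.algebraMap_apply R R[X] L b, ← map_add, add_comm]
    exact IsLocalization.map_units L (⟨_, monic_X_add_C b⟩ : monicSubmonoid R)
  · intro G _ _ g h
    exact @inj_of_localization R _ L _ _ (algOfHom i)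
      (@IsScalarTower.of_algebraMap_eq' R R[X] L _ _ _ _ _ (algOfHom i) (IsScalarTower.algebraMap_eq R R[X] L))
      inferInstance G _ _ g h

theorem smul_comm_of_units (F G : MVF A)
    (φ : ∀ B : Alg A, F.obj (pt B) → G.obj (pt B))
    (hnat : ∀ ⦃B B' : Alg A⦄ (f : B ⟶ B') (x : F.obj (pt B)),
      φ B' (F.map (ptHom f) x) = G.map (ptHom f) (φ B x))
    (hadd : ∀ (B : Alg A) (x y : F.obj (pt B)), φ B (x + y) = φ B x + φ B y)
    (hunit : ∀ (B : Alg A) (v : (B : Type u)ˣ) (x : F.obj (pt B)), φ B ((v : B) • x) = (v : B) • φ B x)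
    (hG : ∀ ⦃B B' : Alg A⦄ (f : B ⟶ B'), f.hom.toRingHom.Flat → IsIso (G.bc f))
    (B : Alg A) (b : B) (x : F.obj (pt B)) : φ B (b • x) = b • φ B x := by
  obtain ⟨B', i, t, hflat, hu, ht, hinj⟩ := exists_test_algebra B
  have key : φ B' (i.hom b • tr F i x) = i.hom b • φ B' (tr F i x) := by
    have h1 := hunit B' (hu b).unit (tr F i x)
    have h2 := hunit B' ht.unit (tr F i x)
    rw [IsUnit.unit_spec] at h1 h2
    rw [add_smul, hadd, h2, add_smul] at h1
    exact add_right_cancel h1
  have h3 : tr G i (φ B (b • x) - b • φ B x) = 0 := by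
    rw [map_sub, tr_smul, sub_eq_zero]
    refine (hnat i (b • x)).symm.trans ?_
    rw [show F.map (ptHom i) (b • x) = i.hom b • tr F i x from tr_smul F i b x, key]
    exact congrArg (i.hom b • ·) (hnat i x)
  rw [← sub_eq_zero]
  letI := algOfHom i
  refine hinj _ _ ?_
  have := hG i hflat
  refine ((ConcreteCategory.isIso_iff_bijective (G.bc i)).1 this).1
    (((bc_apply G i (1 : B') (φ B (b • x) - b • φ B x)).trans ?_).trans (map_zero (G.bc i).hom).symm)
  rw [one_smul]
  exact h3

end Groth.MiscGeom.Adq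

end
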