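import Groth.Prelude.Def_Algz
import Groth.Agent.CohC3.Smul

/-! Coh(X, I O_X) maps fully faithfully to pro-objects, on representatives. -/

set_option autoImplicit false

universe u

open CategoryTheory CategoryTheory.Limits AlgebraicGeometry Opposite

namespace Groth.MiscGeom.AlgzPro

open Groth.CohC3

variable {A : Type u} [CommRing A] {X : Scheme.{u}} [X.Over (Spec (CommRingCat.of A))]
  {I : Ideal A} {F G : ℕᵒᵖ ⥤ X.Modules}

lemma existsUnique_desc (hF : IsSys I F) (hG : ∀ n, Formal.KilledBy (I ^ (n + 1)) (G.obj (op n)))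
    {m : ℕ → ℕ} (hm : Monotone m) (hle : ∀ n, n ≤ m n) (π : DerCA.reindex F hm ⟶ F)
    (hπ : ∀ n : ℕ, π.app (op n) = F.map (homOfLE (hle n)).op) (α : DerCA.reindex F hm ⟶ G) :
    ∃! β : F ⟶ G, π ≫ β = α := by
  have hepi : ∀ n, Epi (sysMap F (hle n)) := fun n => (hF.isQuot (hle n)).epi
  have key : ∀ n, ∃ ψ : F.obj (op n) ⟶ G.obj (op n), sysMap F (hle n) ≫ ψ = α.app (op n) := fun n =>
    (hF.isQuot (hle n)).desc _ (le_annHom_of_killedBy (hG n) _)
  choose ψ hψ using key
  refine ⟨{ app := fun k => ψ k.unop, naturality := ?_ }, ?_, ?_⟩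
  · rintro ⟨j⟩ ⟨i⟩ f
    obtain ⟨h, rfl⟩ : ∃ h : i ≤ j, f = (homOfLE h).op := ⟨leOfHom f.unop, Subsingleton.elim _ _⟩
    have hj := hepi j
    rw [← cancel_epi (sysMap F (hle j))]
    have e1 : sysMap F (hle j) ≫ sysMap F h = sysMap F (hm h) ≫ sysMap F (hle i) := by
      rw [sysMap_comp, sysMap_comp]
    have nat : sysMap F (hm h) ≫ α.app (op i) = α.app (op j) ≫ sysMap G h :=
      α.naturality (homOfLE h).op
    calc sysMap F (hle j) ≫ sysMap F h ≫ ψ i
        = (sysMap F (hle j) ≫ sysMap F h) ≫ ψ i := (Category.assoc _ _ _).symm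
      _ = sysMap F (hm h) ≫ α.app (op i) := by rw [e1, Category.assoc, hψ i]
      _ = sysMap F (hle j) ≫ ψ j ≫ sysMap G h := nat.trans ((congrArg (· ≫ sysMap G h) (hψ j).symm).trans (Category.assoc _ _ _))
  · refine NatTrans.ext (funext fun k => ?_)
    obtain ⟨n⟩ := k
    rw [NatTrans.comp_app, hπ n]
    exact hψ n
  · intro β hβ
    refine NatTrans.ext (funext fun k => ?_)
    obtain ⟨n⟩ := k
    have := hepi n
    rw [← cancel_epi (sysMap F (hle n))]
    refine Eq.trans ?_ (hψ n).symm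
    have := congrArg (fun t => NatTrans.app t (op n)) hβ
    rw [NatTrans.comp_app, hπ n] at this
    exact this

/-- The levelwise projection of a re-indexed system. -/
noncomputable def proj (F : ℕᵒᵖ ⥤ X.Modules) {m : ℕ → ℕ} (hm : Monotone m) (hle : ∀ n, n ≤ m n) :
    DerCA.reindex F hm ⟶ F where
  app k := F.map (homOfLE (hle k.unop)).op
  naturality := by
    rintro ⟨j⟩ ⟨i⟩ f
    refine (F.map_comp _ _).symm.trans (Eq.trans ?_ (F.map_comp _ _))
    exact congrArg F.map (Subsingleton.elim _ _)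

lemma nonempty_iso (hF : IsSys I F) (hG : IsSys I G) (h : Algz.IsProIsomorphic F G) :
    Nonempty (F ≅ G) := by
  obtain ⟨m, hm, hle, a, ha⟩ := h
  obtain ⟨β, hβ, -⟩ := existsUnique_desc hF hG.killed hm hle (proj F hm hle) (fun _ => rfl) a
  have hn : ∀ n, IsIso (β.app (op n)) := fun n => by
    obtain ⟨k, hk, b₀, hb1₀, hb2₀⟩ := ha n
    let b : G.obj (op k) ⟶ F.obj (op (m n)) := b₀
    let ak : F.obj (op (m k)) ⟶ G.obj (op k) := a.app (op k)
    let an : F.obj (op (m n)) ⟶ G.obj (op n) := a.app (op n)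
    have hb1 : ak ≫ b = sysMap F (hm hk) := hb1₀
    have hb2 : b ≫ an = sysMap G hk := hb2₀
    obtain ⟨γ, hγ⟩ := (hG.isQuot hk).desc (b ≫ sysMap F (hle n))
      (le_annHom_of_killedBy (hF.killed n) _)
    have hk' : sysMap F (hle k) ≫ β.app (op k) = ak :=
      congrArg (fun t => NatTrans.app t (op k)) hβ
    have hn' : sysMap F (hle n) ≫ β.app (op n) = an :=
      congrArg (fun t => NatTrans.app t (op n)) hβ
    refine ⟨γ, ?_, ?_⟩
    · have := (hF.isQuot (hk.trans (hle k))).epi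
      rw [← cancel_epi (sysMap F (hk.trans (hle k))), Category.comp_id]
      have e1 : sysMap F (hk.trans (hle k)) ≫ β.app (op n) = ak ≫ sysMap G hk := by
        rw [← sysMap_comp F hk (hle k), Category.assoc, β.naturality (homOfLE hk).op,
          ← Category.assoc, hk']
      rw [← Category.assoc, e1, Category.assoc, hγ, ← Category.assoc, hb1, sysMap_comp]
    · have := (hG.isQuot hk).epi
      rw [← cancel_epi (sysMap G hk), ← Category.assoc, hγ, Category.assoc, hn', Category.comp_id]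
      exact hb2
  have : ∀ k, IsIso (β.app k) := fun k => hn k.unop
  exact ⟨NatIso.ofComponents (fun k => asIso (β.app k)) (fun f => β.naturality f)⟩

end Groth.MiscGeom.AlgzPro

namespace Groth.MiscGeom.AlgzPro

universe v v' w

/-- Pro-isomorphy is preserved by functors and by isomorphisms on the source. -/
lemma isProIsomorphic_map {C : Type w} [Category.{v} C] {D : Type w} [Category.{v'} D] (R : C ⥤ D)
    {X Y : ℕᵒᵖ ⥤ C} {Z : ℕᵒᵖ ⥤ D} (e : X ⋙ R ≅ Z) (h : Algz.IsProIsomorphic X Y) :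
    Algz.IsProIsomorphic Z (Y ⋙ R) := by
  obtain ⟨m, hm, hle, a, ha⟩ := h
  refine ⟨m, hm, hle, Functor.whiskerLeft (Monotone.functor hm).op e.inv ≫ Functor.whiskerRight a R,
    fun n => ?_⟩
  obtain ⟨k, hk, b, hb1, hb2⟩ := ha n
  refine ⟨k, hk, R.map b ≫ e.hom.app (op (m n)), ?_, ?_⟩
  · have h1 : R.map (a.app (op k)) ≫ R.map b = (X ⋙ R).map ((Monotone.functor hm).op.map (homOfLE hk).op) := by
      rw [← R.map_comp, hb1]
      rfl
    have h2 := e.hom.naturality ((Monotone.functor hm).op.map (homOfLE hk).op)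
    refine Eq.trans ?_ (e.inv_hom_id_app_assoc (op (m k))
      (Z.map ((Monotone.functor hm).op.map (homOfLE hk).op)))
    refine Eq.trans ?_ (congrArg (e.inv.app (op (m k)) ≫ ·) h2)
    refine (Category.assoc _ _ _).trans (congrArg (e.inv.app (op (m k)) ≫ ·) ?_)
    exact (Category.assoc _ _ _).symm.trans (congrArg (· ≫ e.hom.app (op (m n))) h1)
  · have h1 : R.map b ≫ R.map (a.app (op n)) = R.map (ARSys.tr Y hk) :=
      (R.map_comp _ _).symm.trans (congrArg R.map hb2)
    have h2 : (R.map b ≫ e.hom.app (op (m n))) ≫ e.inv.app (op (m n)) ≫ R.map (a.app (op n)) =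
        R.map b ≫ R.map (a.app (op n)) :=
      (Category.assoc _ _ _).trans (congrArg (_ ≫ ·) (e.hom_inv_id_app_assoc _ _))
    exact h2.trans h1

end Groth.MiscGeom.AlgzPro
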