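import Groth.Agent.MiscGeom.AlgzSys
import Groth.Agent.MiscGeom.AlgzPro

/-! Canonical extension in terms of modules of sections. -/

set_option autoImplicit false

universe u

open CategoryTheory CategoryTheory.Limits AlgebraicGeometry Opposite

namespace Groth.MiscGeom.AlgzCanon

variable {A : Type u} [CommRing A] [IsNoetherianRing A] {I : Ideal A}
  {U : (Spec (CommRingCat.of A)).Opens} {G : ℕᵒᵖ ⥤ (U : Scheme.{u}).Modules}

theorem exists_modSys (h : Algz.CanonicallyExtends A I U G) :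
    ∃ N, AlgzSheaf.IsModSys I N ∧ Algz.IsProIsomorphic (Algz.sectMod A U G) N := by
  obtain ⟨G', hG', hp⟩ := h
  refine ⟨_, AlgzSheaf.isModSys_gamma hG', AlgzPro.isProIsomorphic_map
    (moduleSpecΓFunctor (R := CommRingCat.of A)) ?_ hp⟩
  exact Functor.associator _ _ _ ≪≫
    Functor.isoWhiskerLeft (Algz.sectMod A U G) (tilde.toTildeΓNatIso (R := CommRingCat.of A)).symm ≪≫
    Functor.rightUnitor _

omit [IsNoetherianRing A] in
theorem canonicallyExtends_of_modSys {N : ℕᵒᵖ ⥤ ModuleCat.{u} A} (hN : AlgzSheaf.IsModSys I N)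
    (h : Algz.IsProIsomorphic (Algz.sectMod A U G) N) : Algz.CanonicallyExtends A I U G :=
  ⟨_, AlgzSheaf.isCohFormal_tilde hN,
    AlgzPro.isProIsomorphic_map (tilde.functor (CommRingCat.of A)) (Iso.refl _) h⟩

omit [IsNoetherianRing A] in
theorem smul_sect_eq_zero {n : ℕ} {r : A} (x : (Algz.sectMod A U G).obj (op n))
    (h : Formal.smulMod A (G.obj (op n)) r = 0) : r • x = 0 := by
  letI : (Spec (CommRingCat.of A)).Over (Spec (CommRingCat.of A)) := ⟨𝟙 _⟩
  have hι : U.ι ≫ ((Spec (CommRingCat.of A)) ↘ Spec (CommRingCat.of A)) =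
      (U : Scheme.{u}) ↘ Spec (CommRingCat.of A) := Category.comp_id _
  have e := Groth.CohC3.pushforward_map_smulMod hι (G.obj (op n)) r
  rw [h] at e
  refine (AlgzSheaf.gMap_smulMod _ r x).symm.trans ?_
  have e2 := congrArg (fun φ => AlgzSheaf.gMap φ x) e
  refine e2.symm.trans ?_
  exact rfl

end Groth.MiscGeom.AlgzCanon
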