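import Mathlib.CategoryTheory.Adjunction.Basic
import Mathlib.CategoryTheory.Whiskering
import Mathlib.CategoryTheory.NatIso

/-! A composite of two counit-like transformations, invertible on a given system. -/

set_option autoImplicit false

universe v u w

open CategoryTheory

namespace Groth.MiscGeom.AlgzCounit

lemma nonempty_iso {J : Type*} [Category J] {C : Type u} [Category.{v} C] {D : Type w} [Category.{v} D]
    {E : Type*} [Category E] (G : J ⥤ D) (P : D ⥤ C) (Γ : C ⥤ E) (T : E ⥤ C) (R : C ⥤ D)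
    (η : Γ ⋙ T ⟶ 𝟭 C) (ε : P ⋙ R ⟶ 𝟭 D)
    (hη : ∀ j, IsIso (η.app (P.obj (G.obj j)))) (hε : ∀ j, IsIso (ε.app (G.obj j))) :
    Nonempty (((G ⋙ P ⋙ Γ) ⋙ T) ⋙ R ≅ G) := by
  refine ⟨NatIso.ofComponents (fun j => R.mapIso (asIso (η.app (P.obj (G.obj j)))) ≪≫
    asIso (ε.app (G.obj j))) fun {i j} f => ?_⟩
  have n1 : R.map (T.map (Γ.map (P.map (G.map f)))) ≫ R.map (η.app (P.obj (G.obj j))) =
      R.map (η.app (P.obj (G.obj i))) ≫ R.map (P.map (G.map f)) := by
    rw [← R.map_comp, ← R.map_comp]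
    exact congrArg R.map (η.naturality (P.map (G.map f)))
  have n2 : R.map (P.map (G.map f)) ≫ ε.app (G.obj j) = ε.app (G.obj i) ≫ G.map f :=
    ε.naturality (G.map f)
  simp [reassoc_of% n1, n2]

end Groth.MiscGeom.AlgzCounit
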