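import Groth.Agent.S11133
import Groth.Agent.MiscGeom.AlgzPro
import Groth.Agent.MiscGeom.AlgzTilde
import Groth.Agent.MiscGeom.AlgzCounit
import Groth.Agent.CohC3.QuotSections
import Groth.Agent.QCohMod.QCQS
import Groth.Agent.QCohMod.Coherent

/-! Flat base change of systems of sections and of coherent formal modules. -/

set_option autoImplicit false

universe u

open CategoryTheory CategoryTheory.Limits AlgebraicGeometry Opposite

namespace Groth.MiscGeom.AlgzPull

section BaseChange

variable {X Y X' Y' : Scheme.{u}} (f : X ⟶ Y) (g : Y' ⟶ Y) (g' : X' ⟶ X) (f' : X' ⟶ Y')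

/-- The base change transformation. -/
noncomputable def bc (h : IsPullback g' f' f g) :
    Scheme.Modules.pushforward f ⋙ Scheme.Modules.pullback g ⟶
      Scheme.Modules.pullback g' ⋙ Scheme.Modules.pushforward f' where
  app M := (Scheme.Modules.pullback g).map ((Scheme.Modules.pushforward f).map
        ((Scheme.Modules.pullbackPushforwardAdjunction g').unit.app M)) ≫
      (Scheme.Modules.pullback g).map ((Scheme.Modules.pushforwardComp g' f ≪≫
          Scheme.Modules.pushforwardCongr h.w ≪≫ (Scheme.Modules.pushforwardComp f' g).symm).hom.app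
        ((Scheme.Modules.pullback g').obj M)) ≫
      (Scheme.Modules.pullbackPushforwardAdjunction g).counit.app
        ((Scheme.Modules.pushforward f').obj ((Scheme.Modules.pullback g').obj M))
  naturality M N φ := by
    have n1 := (Scheme.Modules.pullbackPushforwardAdjunction g').unit.naturality φ
    have n2 := (Scheme.Modules.pushforwardComp g' f ≪≫
          Scheme.Modules.pushforwardCongr h.w ≪≫ (Scheme.Modules.pushforwardComp f' g).symm).hom.naturality
        ((Scheme.Modules.pullback g').map φ)
    have n3 := (Scheme.Modules.pullbackPushforwardAdjunction g).counit.naturality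
      ((Scheme.Modules.pushforward f').map ((Scheme.Modules.pullback g').map φ))
    simp only [Functor.comp_map, Functor.id_map] at n1 n2 n3 ⊢
    rw [← Functor.map_comp_assoc, ← Functor.map_comp, n1, Functor.map_comp, Functor.map_comp_assoc,
      ← Functor.map_comp_assoc (Scheme.Modules.pullback g) ((Scheme.Modules.pushforward f).map
        ((Scheme.Modules.pushforward g').map ((Scheme.Modules.pullback g').map φ))), n2,
      Functor.map_comp_assoc, n3]
    simp only [Category.assoc]

lemma isIso_bc_app (h : IsPullback g' f' f g) [QuasiCompact f] [QuasiSeparated f] [Flat g]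
    (M : X.Modules) [hM : M.IsQuasicoherent] : IsIso ((bc f g g' f' h).app M) :=
  @Groth.Agent.S11133.result X Y X' Y' f g g' f' h _ _ _ M hM

/-- Base change commutes with a system of quasi-coherent modules. -/
theorem nonempty_iso_push_pull (h : IsPullback g' f' f g) [QuasiCompact f] [QuasiSeparated f] [Flat g]
    (G : ℕᵒᵖ ⥤ X.Modules) (hG : ∀ k, (G.obj k).IsQuasicoherent) :
    Nonempty ((G ⋙ Scheme.Modules.pushforward f) ⋙ Scheme.Modules.pullback g ≅
      (G ⋙ Scheme.Modules.pullback g') ⋙ Scheme.Modules.pushforward f') := by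
  have : ∀ k, IsIso ((bc f g g' f' h).app (G.obj k)) := fun k => @isIso_bc_app _ _ _ _ f g g' f' h _ _ _ _ (hG k)
  exact ⟨NatIso.ofComponents (fun k => asIso ((bc f g g' f' h).app (G.obj k)))
    fun φ => (bc f g g' f' h).naturality (G.map φ)⟩

end BaseChange

section Tilde

variable {R : CommRingCat.{u}}

/-- The sheaves of a system of quasi-coherent modules on `Spec R` are the tilde of their sections. -/
theorem nonempty_gamma_tilde_iso (S : ℕᵒᵖ ⥤ (Spec R).Modules) (hS : ∀ k, (S.obj k).IsQuasicoherent) :
    Nonempty ((S ⋙ moduleSpecΓFunctor (R := R)) ⋙ tilde.functor R ≅ S) := by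
  have := fun k => @AlgzTilde.isIso_fromTildeΓ_app R _ (hS k)
  exact ⟨NatIso.ofComponents
    (fun k => asIso ((Scheme.Modules.fromTildeΓNatTrans (R := R)).app (S.obj k)))
    fun φ => (Scheme.Modules.fromTildeΓNatTrans (R := R)).naturality (S.map φ)⟩

end Tilde

section Formal

open Groth.CohC3

variable {A A' : Type u} [CommRing A] [CommRing A'] (φ : A →+* A') {X : Scheme.{u}}

lemma toGlobal_comp (q : X ⟶ Spec (CommRingCat.of A')) (a : A) :
    Coh.toGlobal (q ≫ Spec.map (CommRingCat.ofHom φ)) a = Coh.toGlobal q (φ a) := by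
  have e := congr($((Scheme.ΓSpecIso_inv_naturality (CommRingCat.ofHom φ))) a)
  exact (congrArg q.appTop e).symm

/-- A coherent formal module for `I` over `A` is one for `I A'` over `A'`. -/
theorem isCohFormal_of_comp [oA : X.Over (Spec (CommRingCat.of A))] [oA' : X.Over (Spec (CommRingCat.of A'))]
    (hX : (X ↘ Spec (CommRingCat.of A')) ≫ Spec.map (CommRingCat.ofHom φ) = X ↘ Spec (CommRingCat.of A))
    {I : Ideal A} {G : ℕᵒᵖ ⥤ X.Modules} (hs : IsSys I G) (hc : ∀ n, Coh.IsCoh (G.obj (op n))) :
    Formal.IsCohFormal (I.map φ) G := by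
  have hsm : ∀ (M : X.Modules) (a : A),
      Formal.smulMod A M a = Formal.smulMod A' M (φ a) := fun M a => by
    unfold Formal.smulMod
    rw [← hX, toGlobal_comp]
  have hann : ∀ {M N : X.Modules} (p : M ⟶ N) (J : Ideal A),
      J.map φ ≤ annHom (A := A') p ↔ J ≤ annHom (A := A) p := fun p J => by
    rw [Ideal.map_le_iff_le_comap]
    refine ⟨fun h a ha => ?_, fun h a ha => ?_⟩
    · rw [mem_annHom, hsm]; exact (mem_annHom p (φ a)).1 (h ha)
    · rw [Ideal.mem_comap, mem_annHom, ← hsm]; exact (mem_annHom p a).1 (h ha)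
  refine ⟨hc, fun n => ?_, fun n => ?_⟩
  · rw [← Ideal.map_pow, killedBy_iff_le, hann, ← killedBy_iff_le]
    exact hs.killed n
  · have h := hs.isQuot_succ n
    refine IsQuot.isIso_desc ⟨?_, h.epi, fun ψ hψ => ?_⟩
    · rw [← Ideal.map_pow, hann]; exact h.le_ann
    · rw [← Ideal.map_pow, hann] at hψ; exact h.desc ψ hψ

/-- Pullback of coherent formal modules to a scheme over `A'`. -/
theorem isCohFormal_pullback {Y : Scheme.{u}} [Y.Over (Spec (CommRingCat.of A))]
    [oA' : X.Over (Spec (CommRingCat.of A'))] (g : X ⟶ Y)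
    (hg : g ≫ (Y ↘ Spec (CommRingCat.of A)) = (X ↘ Spec (CommRingCat.of A')) ≫ Spec.map (CommRingCat.ofHom φ))
    {I : Ideal A} {G : ℕᵒᵖ ⥤ Y.Modules} (hG : Formal.IsCohFormal I G) :
    Formal.IsCohFormal (I.map φ) (G ⋙ Scheme.Modules.pullback g) := by
  letI : X.Over (Spec (CommRingCat.of A)) := ⟨g ≫ (Y ↘ Spec (CommRingCat.of A))⟩
  have hs := isSys_of_isCohFormal hG
  have adj := Scheme.Modules.pullbackPushforwardAdjunction g
  refine isCohFormal_of_comp φ hg.symm (I := I) ⟨fun n => ?_, fun n => (hs.isQuot_succ n).map_adj adj rfl⟩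
    (fun n => ?_)
  · have h1 := (isQuot_id (hs.killed n)).map_adj adj rfl
    rw [CategoryTheory.Functor.map_id] at h1
    exact h1.killedBy
  · have := (hG.1 n).1
    exact ⟨QCohMod.isQCoh_pullback_obj g _, QCohMod.isFT_pullback g _ (hG.1 n).2⟩

end Formal

end Groth.MiscGeom.AlgzPull
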