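import Groth.Prelude.Def_Algz
import Groth.Agent.S2291
import Groth.Agent.S9551
import Groth.Agent.MiscGeom.AlgzSheaf

/-! Inverse systems of modules pro-isomorphic to a system `N_(n+1)/I^(n+1) = N_n`. -/

set_option autoImplicit false

universe u

open CategoryTheory CategoryTheory.Limits Opposite

namespace Groth.MiscGeom.AlgzSys

open AlgzSheaf (IsModSys)
open Groth.Agent.S9551.Aux (tr_apply)

variable {A : Type u} [CommRing A] {I : Ideal A} {X N : ℕᵒᵖ ⥤ ModuleCat.{u} A}

lemma imageSubobject_eq_of_range_eq {M M' P : ModuleCat.{u} A} (f : M ⟶ P) (g : M' ⟶ P)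
    (h : LinearMap.range f.hom = LinearMap.range g.hom) : imageSubobject f = imageSubobject g := by
  have key : ∀ {K : ModuleCat.{u} A} (e : K ⟶ P),
      LinearMap.range e.hom = LinearMap.range (imageSubobject e).arrow.hom := by
    intro K e
    conv_lhs => rw [← imageSubobject_arrow_comp e]
    rw [ModuleCat.hom_comp]
    exact LinearMap.range_comp_of_range_eq_top _ (ModuleCat.range_eq_top_of_epi _)
  apply (ModuleCat.subobjectModule P).injective
  rw [key f, key g] at h
  exact h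

variable {m : ℕ → ℕ} {hm : Monotone m} {a : DerCA.reindex X hm ⟶ N}

/-- The components of `a`, with their types spelled out. -/
def am (a : DerCA.reindex X hm ⟶ N) (n : ℕ) : X.obj (op (m n)) →ₗ[A] N.obj (op n) := (a.app (op n)).hom

lemma a_nat {i j : ℕ} (h : i ≤ j) (x : X.obj (op (m j))) :
    (ARSys.tr N h).hom ((am a j) x) = (am a i) ((ARSys.tr X (hm h)).hom x) :=
  (LinearMap.congr_fun (congrArg ModuleCat.Hom.hom (a.naturality (homOfLE h).op)) x).symm

/-- The data of a pro-inverse, in elements. -/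
lemma exists_inv (ha : DerCA.IsProIso a) (n : ℕ) :
    ∃ (k : ℕ) (hk : n ≤ k) (b : N.obj (op k) →ₗ[A] X.obj (op (m n))),
      (∀ x, b ((am a k) x) = (ARSys.tr X (hm hk)).hom x) ∧
      ∀ y, (am a n) (b y) = (ARSys.tr N hk).hom y := by
  obtain ⟨k, hk, b, h1, h2⟩ := ha n
  exact ⟨k, hk, b.hom, fun x => LinearMap.congr_fun (congrArg ModuleCat.Hom.hom h1) x,
    fun y => LinearMap.congr_fun (congrArg ModuleCat.Hom.hom h2) y⟩

lemma isML (hle : ∀ n, n ≤ m n) (hN : IsModSys I N) (ha : DerCA.IsProIso a) : ARSys.IsML X := by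
  intro n
  obtain ⟨k, hk, b, hb, -⟩ := exists_inv ha n
  obtain ⟨d, hd⟩ : ∃ d, m k = n + d := Nat.exists_eq_add_of_le (hk.trans (hle k))
  refine ⟨d, fun s hs => imageSubobject_eq_of_range_eq _ _ (le_antisymm ?_ ?_)⟩
  · rintro _ ⟨x, rfl⟩
    exact ⟨(ARSys.tr X (by omega : n + d ≤ n + s)).hom x, tr_apply X _ _ x⟩
  · rintro _ ⟨x, rfl⟩
    -- `x : X_(n+d)`, push to `N_k`, lift far out, come back
    have hx : (ARSys.tr X (Nat.le_add_right n d)).hom x =
        (ARSys.tr X (hle n)).hom (b ((am a k)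
          ((ARSys.tr X (by omega : m k ≤ n + d)).hom x))) := by
      rw [hb, tr_apply, tr_apply]
    obtain ⟨k', hk', b', -, hb'⟩ := exists_inv ha (max k (n + s))
    have hkl : k ≤ max k (n + s) := le_max_left _ _
    obtain ⟨z, hz⟩ := hN.surj k k' (hkl.trans hk')
      ((am a k) ((ARSys.tr X (by omega : m k ≤ n + d)).hom x))
    have h2 : (am a k) ((ARSys.tr X (by omega : m k ≤ n + d)).hom x) =
        (am a k) ((ARSys.tr X (hm hkl)).hom (b' z)) := by
      rw [← a_nat hkl, hb', tr_apply, hz]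
    refine ⟨(ARSys.tr X ((le_max_right k (n + s)).trans (hle _))).hom (b' z), ?_⟩
    show (ARSys.tr X (Nat.le_add_right n s)).hom _ = (ARSys.tr X (Nat.le_add_right n d)).hom x
    rw [hx, h2, hb, tr_apply, tr_apply, tr_apply]

/-- Compatible families of a system, as a submodule of the product. -/
def sec (N : ℕᵒᵖ ⥤ ModuleCat.{u} A) : Submodule A (∀ n, N.obj (op n)) where
  carrier := {y | ∀ i j (h : i ≤ j), (ARSys.tr N h).hom (y j) = y i}
  add_mem' := by intro x y hx hy i j h; simp [hx i j h, hy i j h]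
  zero_mem' := by intro i j h; simp
  smul_mem' := by intro c x hx i j h; simp [hx i j h]

lemma mem_sec {y : ∀ n, N.obj (op n)} (hy : ∀ n, (ARSys.tr N (Nat.le_succ n)).hom (y (n + 1)) = y n) :
    y ∈ sec N := by
  intro i j h
  induction j, h using Nat.le_induction with
  | base => rw [show ARSys.tr N (le_refl i) = 𝟙 _ from N.map_id _]; rfl
  | succ j h ih => rw [← tr_apply N h (Nat.le_succ j), hy, ih]

lemma sec_ker (hI : I.FG) (hN : IsModSys I N) (n : ℕ) (y : sec N) (hy : (y : ∀ k, N.obj (op k)) n = 0) :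
    y ∈ I ^ (n + 1) • (⊤ : Submodule A (sec N)) := by
  have h := Groth.Agent.S2291.result A I hI (fun k => N.obj (op k))
    (fun k => (ARSys.tr N (Nat.le_succ k)).hom) (fun k => hN.surj _ _ _) (fun k => hN.ker _ _ _)
    (sec N) (fun k => (LinearMap.proj k).comp (sec N).subtype)
    (fun k => LinearMap.ext fun z => z.2 k (k + 1) (Nat.le_succ k))
    (fun z hz => Subtype.ext (funext hz)) (fun z hz => ⟨⟨z, mem_sec hz⟩, fun _ => rfl⟩)
  exact (h.2.1 n).2.le (LinearMap.mem_ker.2 hy)

theorem exists_finite_lim [IsAdicComplete I A] (hI : I.FG) (hN : IsModSys I N) :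
    ∃ (L : ModuleCat.{u} A) (π : ∀ n, L ⟶ N.obj (op n)), Module.Finite A L ∧
      ∀ n, Function.Surjective (π n).hom ∧ LinearMap.ker (π n).hom = I ^ (n + 1) • ⊤ ∧
        π (n + 1) ≫ ARSys.tr N (Nat.le_succ n) = π n := by
  obtain ⟨-, h2, h3⟩ := Groth.Agent.S2291.result A I hI (fun k => N.obj (op k))
    (fun k => (ARSys.tr N (Nat.le_succ k)).hom) (fun k => hN.surj _ _ _) (fun k => hN.ker _ _ _)
    (sec N) (fun k => (LinearMap.proj k).comp (sec N).subtype)
    (fun k => LinearMap.ext fun z => z.2 k (k + 1) (Nat.le_succ k))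
    (fun z hz => Subtype.ext (funext hz)) (fun z hz => ⟨⟨z, mem_sec hz⟩, fun _ => rfl⟩)
  exact ⟨ModuleCat.of A (sec N), fun k => ModuleCat.ofHom ((LinearMap.proj k).comp (sec N).subtype),
    h3 inferInstance (hN.finite 0), fun n => ⟨(h2 n).1, (h2 n).2,
      ModuleCat.hom_ext (LinearMap.ext fun z => z.2 n (n + 1) (Nat.le_succ n))⟩⟩

lemma limit_π_tr {i j : ℕ} (h : i ≤ j) (x : (limit X : ModuleCat.{u} A)) :
    (ARSys.tr X h).hom ((limit.π X (op j)).hom x) = (limit.π X (op i)).hom x :=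
  LinearMap.congr_fun (congrArg ModuleCat.Hom.hom (limit.w X (homOfLE h).op)) x

lemma exists_ker_le (hI : I.FG) (hle : ∀ n, n ≤ m n) (hN : IsModSys I N) (ha : DerCA.IsProIso a) (k : ℕ) :
    ∃ n : ℕ, LinearMap.ker (limit.π X (op n)).hom ≤ I ^ k • (⊤ : Submodule A ↑(limit X)) := by
  rcases k with _ | k
  · exact ⟨0, by simp⟩
  choose K hK b hb hb' using exists_inv ha
  let φ : (limit X : ModuleCat.{u} A) →ₗ[A] sec N :=
    LinearMap.codRestrict (sec N) (LinearMap.pi fun j => (am a j).comp (limit.π X (op (m j))).hom)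
      (fun x i j h => by
        show (ARSys.tr N h).hom ((am a j) _) = (am a i) _
        rw [a_nat, limit_π_tr])
  let q : ∀ n, sec N →ₗ[A] X.obj (op n) := fun n =>
    (ARSys.tr X (hle n)).hom.comp ((b n).comp ((LinearMap.proj (K n)).comp (sec N).subtype))
  have hq : ∀ i j (h : i ≤ j) (y : sec N), (ARSys.tr X h).hom (q j y) = q i y := by
    intro i j h y
    obtain ⟨l, hl, hl'⟩ : ∃ l, K i ≤ l ∧ K j ≤ l := ⟨_, le_max_left _ _, le_max_right _ _⟩
    have hy : ∀ t (ht : K t ≤ l), b t (y.1 (K t)) =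
        (ARSys.tr X (hm ((hK t).trans ht))).hom (b l (y.1 (K l))) := by
      intro t ht
      rw [← y.2 (K t) (K l) (ht.trans (hK l)), ← tr_apply N ht (hK l), ← hb', a_nat, hb, tr_apply]
    show (ARSys.tr X h).hom ((ARSys.tr X (hle j)).hom (b j (y.1 (K j)))) =
      (ARSys.tr X (hle i)).hom (b i (y.1 (K i)))
    rw [hy i hl, hy j hl', tr_apply, tr_apply, tr_apply]
  let c : Cone X := ⟨ModuleCat.of A (sec N),
    { app := fun n => ModuleCat.ofHom (q n.unop)
      naturality := by
        rintro ⟨j⟩ ⟨i⟩ f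
        ext y
        exact (hq i j (leOfHom f.unop) y).symm }⟩
  refine ⟨m k, fun x hx => ?_⟩
  have h1 : φ x ∈ I ^ (k + 1) • (⊤ : Submodule A (sec N)) := by
    refine sec_ker hI hN k (φ x) ?_
    show (am a k) ((limit.π X (op (m k))).hom x) = 0
    rw [LinearMap.mem_ker.1 hx, map_zero]
  have h2 : (limit.lift X c).hom (φ x) = x := by
    refine Concrete.limit_ext X _ _ fun n => ?_
    obtain ⟨n⟩ := n
    refine (LinearMap.congr_fun (congrArg ModuleCat.Hom.hom (limit.lift_π c (op n))) (φ x)).trans ?_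
    show (ARSys.tr X (hle n)).hom (b n ((am a (K n)) ((limit.π X (op (m (K n)))).hom x))) = _
    rw [hb, tr_apply, limit_π_tr]
  rw [← h2]
  have := Submodule.mem_map_of_mem (f := (limit.lift X c).hom) h1
  rw [Submodule.map_smul''] at this
  exact Submodule.smul_mono le_rfl le_top this

end Groth.MiscGeom.AlgzSys

namespace Groth.MiscGeom.AlgzSys

variable {A : Type u} [CommRing A] (I : Ideal A) (M : Type u) [AddCommGroup M] [Module A M]

/-- The system `M / I^(n+1) M`. -/
noncomputable def quotSys : ℕᵒᵖ ⥤ ModuleCat.{u} A where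
  obj k := ModuleCat.of A (M ⧸ (I ^ (k.unop + 1) • (⊤ : Submodule A M)))
  map f := ModuleCat.ofHom (Submodule.factor (Submodule.smul_mono
    (Ideal.pow_le_pow_right (Nat.add_le_add_right (leOfHom f.unop) 1)) le_rfl))
  map_id k := by
    refine ModuleCat.hom_ext (LinearMap.ext fun x => ?_)
    obtain ⟨y, rfl⟩ := Submodule.mkQ_surjective _ x
    rw [ModuleCat.hom_ofHom, Submodule.factor_mk, ModuleCat.hom_id, LinearMap.id_apply]
  map_comp f g := by
    refine ModuleCat.hom_ext (LinearMap.ext fun x => ?_)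
    obtain ⟨y, rfl⟩ := Submodule.mkQ_surjective _ x
    rw [ModuleCat.hom_comp, LinearMap.comp_apply]
    simp only [ModuleCat.hom_ofHom]
    rw [Submodule.factor_mk, Submodule.factor_mk, Submodule.factor_mk]

lemma quotSys_tr {i j : ℕ} (h : i ≤ j) (x : M) :
    (ARSys.tr (quotSys I M) h).hom (Submodule.Quotient.mk x) = Submodule.Quotient.mk x := rfl

lemma isModSys_quotSys (hfin : ∀ n, Module.Finite A (M ⧸ (I ^ (n + 1) • (⊤ : Submodule A M)))) :
    AlgzSheaf.IsModSys I (quotSys I M) := by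
  refine ⟨hfin, fun i j h y => ?_, fun i j h => le_antisymm ?_ ?_⟩
  · obtain ⟨x, rfl⟩ := Submodule.mkQ_surjective _ y
    exact ⟨Submodule.Quotient.mk x, rfl⟩
  · intro y hy
    obtain ⟨x, rfl⟩ := Submodule.mkQ_surjective _ y
    rw [LinearMap.mem_ker] at hy
    have hx : x ∈ I ^ (i + 1) • (⊤ : Submodule A M) := (Submodule.Quotient.mk_eq_zero _).1 hy
    have h2 := Submodule.mem_map_of_mem
      (f := (I ^ (j + 1) • (⊤ : Submodule A M)).mkQ) hx
    rw [Submodule.map_smul'', Submodule.map_top, Submodule.range_mkQ] at h2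
    exact h2
  · refine Submodule.smul_le.2 fun r hr y _ => ?_
    obtain ⟨x, rfl⟩ := Submodule.mkQ_surjective _ y
    rw [LinearMap.mem_ker]
    exact (Submodule.Quotient.mk_eq_zero _).2 (Submodule.smul_mem_smul hr trivial)

theorem exists_isModSys {X : ℕᵒᵖ ⥤ ModuleCat.{u} A} (hML : ARSys.IsML X)
    (hb : ∀ k : ℕ, ∃ n : ℕ, LinearMap.ker (limit.π X (op n)).hom ≤ I ^ k • (⊤ : Submodule A ↑(limit X)))
    (hc : ∀ n : ℕ, Module.Finite A ↥(LinearMap.range (limit.π X (op n)).hom))
    (hkill : ∀ n, ∀ r ∈ I ^ (n + 1), ∀ x : X.obj (op n), r • x = 0) :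
    ∃ N, AlgzSheaf.IsModSys I N ∧ Algz.IsProIsomorphic X N := by
  let L := (limit X : ModuleCat.{u} A)
  have hfin : ∀ n, Module.Finite A (L ⧸ (I ^ (n + 1) • (⊤ : Submodule A L))) := fun n => by
    obtain ⟨p, hp⟩ := hb (n + 1)
    have := hc p
    let π := (limit.π X (op p)).hom
    have : Module.Finite A (L ⧸ LinearMap.ker π) :=
      Module.Finite.equiv π.quotKerEquivRange.symm
    exact Module.Finite.of_surjective (Submodule.factor hp) (Submodule.factor_surjective hp)
  choose p₀ hp₀ using fun n => hb (n + 1)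
  have hp' : ∀ n, ∃ p, n ≤ p ∧
      LinearMap.ker (limit.π X (op p)).hom ≤ I ^ (n + 1) • (⊤ : Submodule A L) := fun n => by
    refine ⟨max n (p₀ n), le_max_left _ _, fun x hx => hp₀ n ?_⟩
    rw [LinearMap.mem_ker] at hx ⊢
    rw [← limit_π_tr (le_max_right n (p₀ n)), hx, map_zero]
  choose p₁ hp₁n hp₁ using hp'
  let p : ℕ → ℕ := fun n => (Finset.range (n + 1)).sup p₁
  have hp₁p : ∀ n, p₁ n ≤ p n := fun n =>
    Finset.le_sup (f := p₁) (Finset.mem_range.2 (Nat.lt_succ_self n))
  have hpm : Monotone p := fun i j h => Finset.sup_mono (Finset.range_mono (Nat.add_le_add_right h 1))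
  have hpn : ∀ n, n ≤ p n := fun n => (hp₁n n).trans (hp₁p n)
  have hpk : ∀ n, LinearMap.ker (limit.π X (op (p n))).hom ≤ I ^ (n + 1) • (⊤ : Submodule A L) :=
    fun n x hx => hp₁ n (by
      rw [LinearMap.mem_ker] at hx ⊢
      rw [← limit_π_tr (hp₁p n), hx, map_zero])
  choose e he hes using fun n => Groth.Agent.S9551.Aux.exists_le_range_π X hML (p n)
  let m : ℕ → ℕ := fun n => (Finset.range (n + 1)).sup e
  have hem : ∀ n, e n ≤ m n := fun n => Finset.le_sup (f := e) (Finset.mem_range.2 (Nat.lt_succ_self n))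
  have hm : Monotone m := fun i j h => Finset.sup_mono (Finset.range_mono (Nat.add_le_add_right h 1))
  have hmp : ∀ n, p n ≤ m n := fun n => (he n).trans (hem n)
  -- the component map
  have ha : ∀ n, ∃ f : X.obj (op (m n)) →ₗ[A] (L ⧸ (I ^ (n + 1) • (⊤ : Submodule A L))),
      ∀ x y, (limit.π X (op (p n))).hom y = (ARSys.tr X (hmp n)).hom x →
        f x = Submodule.Quotient.mk y := by
    intro n
    let π := (limit.π X (op (p n))).hom
    have hr : ∀ x, (ARSys.tr X (hmp n)).hom x ∈ LinearMap.range π := fun x => hes n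
      ⟨(ARSys.tr X (hem n)).hom x, Groth.Agent.S9551.Aux.tr_apply X _ _ x⟩
    refine ⟨(Submodule.factor (hpk n)).comp (π.quotKerEquivRange.symm.toLinearMap.comp
      ((ARSys.tr X (hmp n)).hom.codRestrict _ hr)), fun x y hy => ?_⟩
    have : π.quotKerEquivRange.symm ⟨(ARSys.tr X (hmp n)).hom x, hr x⟩ = Submodule.Quotient.mk y := by
      rw [LinearEquiv.symm_apply_eq]
      exact Subtype.ext hy.symm
    show Submodule.factor (hpk n) (π.quotKerEquivRange.symm ⟨_, hr x⟩) = _
    rw [this]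
    rfl
  choose f hf using ha
  have hex : ∀ n x, ∃ y, (limit.π X (op (p n))).hom y = (ARSys.tr X (hmp n)).hom x := fun n x =>
    hes n ⟨(ARSys.tr X (hem n)).hom x, Groth.Agent.S9551.Aux.tr_apply X _ _ x⟩
  let a : DerCA.reindex X hm ⟶ quotSys I L :=
    { app := fun n => ModuleCat.ofHom (f n.unop)
      naturality := by
        rintro ⟨j⟩ ⟨i⟩ g
        have h : i ≤ j := leOfHom g.unop
        ext x
        show f i ((ARSys.tr X (hm h)).hom x) = (ARSys.tr (quotSys I L) h).hom (f j x)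
        obtain ⟨y, hy⟩ := hex j x
        rw [hf j x y hy, hf i _ y ?_]
        · rfl
        rw [← limit_π_tr (hpm h), hy, Groth.Agent.S9551.Aux.tr_apply, Groth.Agent.S9551.Aux.tr_apply] }
  refine ⟨quotSys I L, isModSys_quotSys I L hfin, m, hm, fun n => (hpn n).trans (hmp n), a, fun n => ?_⟩
  have hkm : I ^ (max n (m n) + 1) • (⊤ : Submodule A L) ≤ LinearMap.ker (limit.π X (op (m n))).hom :=
    Submodule.smul_le.2 fun r hr y _ => by
      rw [LinearMap.mem_ker, map_smul]
      exact hkill _ r (Ideal.pow_le_pow_right (by omega) hr) _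
  refine ⟨max n (m n), le_max_left _ _,
    ModuleCat.ofHom (Submodule.liftQ _ (limit.π X (op (m n))).hom hkm), ?_, ?_⟩
  · ext x
    obtain ⟨y, hy⟩ := hex (max n (m n)) x
    show Submodule.liftQ _ _ hkm (f _ x) = (ARSys.tr X (hm (le_max_left n (m n)))).hom x
    rw [hf _ x y hy, Submodule.liftQ_apply,
      ← limit_π_tr ((le_max_right n (m n)).trans (hpn _)), hy, Groth.Agent.S9551.Aux.tr_apply]
  · ext z
    show f n (Submodule.liftQ _ _ hkm z) = (ARSys.tr (quotSys I L) (le_max_left n (m n))).hom z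
    obtain ⟨y, rfl⟩ := Submodule.mkQ_surjective _ z
    rw [Submodule.mkQ_apply, Submodule.liftQ_apply, hf n _ y (limit_π_tr (hmp n) y).symm]
    rfl

end Groth.MiscGeom.AlgzSys

namespace Groth.MiscGeom.AlgzSys

lemma exists_image_quot {A : Type u} [CommRing A] {L X : ModuleCat.{u} A} (π : L ⟶ X) (P : Submodule A L)
    (h : LinearMap.ker π.hom ≤ P) :
    ∃ (W : ModuleCat.{u} A) (g : W ⟶ X) (q : W ⟶ ModuleCat.of A (L ⧸ P)),
      Function.Injective g.hom ∧ Function.Surjective q.hom :=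
  ⟨ModuleCat.of A (L ⧸ LinearMap.ker π.hom),
    ModuleCat.ofHom ((LinearMap.range π.hom).subtype.comp π.hom.quotKerEquivRange.toLinearMap),
    ModuleCat.ofHom (Submodule.factor h),
    Subtype.val_injective.comp π.hom.quotKerEquivRange.injective, Submodule.factor_surjective h⟩

end Groth.MiscGeom.AlgzSys
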