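import Groth.Agent.MiscGeom.AlgzDescUnit
import Groth.Agent.MiscGeom.AlgzPull
import Groth.Agent.MiscGeom.AlgzSys
import Groth.Agent.QCohMod.Coherent
import Groth.Agent.CohC3.ModIdeal
import Groth.Agent.RefRank.BigOpen
import Groth.Agent.AdicLinTop.CompletionQuot

/-! Coherent formal modules on an open of `Spec A` and on its preimage in `Spec B`, when
`A/I^n = B/I^n B` for all `n`. -/

set_option autoImplicit false

universe u

open CategoryTheory CategoryTheory.Limits AlgebraicGeometry Opposite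

namespace Groth.MiscGeom.AlgzDesc

open Groth.CohC3
open AlgzDescUnit (Cond)

variable {A B : Type u} [CommRing A] [CommRing B]

/-- The structure morphism of `Spec A` over itself. -/
noncomputable local instance selfOver : (Spec (CommRingCat.of A)).Over (Spec (CommRingCat.of A)) := ⟨𝟙 _⟩

lemma cond_adicCompletion [IsNoetherianRing A] (I : Ideal A) (n : ℕ) :
    Cond (algebraMap A (AdicCompletion I A)) (I ^ n) := by
  have hk := Groth.AdicLinTop.CompletionQuot.ker_evalₐ I (IsNoetherian.noetherian I) n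
  rw [← Ideal.map_pow] at hk
  refine ⟨?_, fun b => ?_⟩
  · rw [← hk]
    ext a
    rw [Ideal.mem_comap, RingHom.mem_ker]
    show AdicCompletion.evalₐ I n _ = 0 ↔ _
    rw [Groth.AdicLinTop.CompletionQuot.evalₐ_algebraMap, Ideal.Quotient.eq_zero_iff_mem]
  · obtain ⟨a, ha⟩ := Ideal.Quotient.mk_surjective (AdicCompletion.evalₐ I n b)
    refine ⟨a, ?_⟩
    rw [← hk, RingHom.mem_ker]
    show AdicCompletion.evalₐ I n _ = 0
    rw [map_sub, Groth.AdicLinTop.CompletionQuot.evalₐ_algebraMap, ha, sub_self]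

variable {φ : A →+* B} {I : Ideal A} (hφ : ∀ n, Cond φ (I ^ n))

include hφ in
lemma isIso_unit_sys {S : ℕᵒᵖ ⥤ (Spec (CommRingCat.of A)).Modules} (hq : ∀ k, (S.obj k).IsQuasicoherent)
    (hk : ∀ n, Formal.KilledBy (I ^ (n + 1)) (S.obj (op n))) (k : ℕᵒᵖ) :
    IsIso ((Scheme.Modules.pullbackPushforwardAdjunction (Spec.map (CommRingCat.ofHom φ))).unit.app (S.obj k)) :=
  @AlgzDescUnit.isIso_unit A B _ _ _ φ (hφ (k.unop + 1)) _ (hq k) (hk k.unop)

include hφ in
lemma nonempty_unit_iso {S : ℕᵒᵖ ⥤ (Spec (CommRingCat.of A)).Modules} (hq : ∀ k, (S.obj k).IsQuasicoherent)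
    (hk : ∀ n, Formal.KilledBy (I ^ (n + 1)) (S.obj (op n))) :
    Nonempty (S ≅ (S ⋙ Scheme.Modules.pullback (Spec.map (CommRingCat.ofHom φ))) ⋙
      Scheme.Modules.pushforward (Spec.map (CommRingCat.ofHom φ))) := by
  have := isIso_unit_sys hφ hq hk
  exact ⟨NatIso.ofComponents (fun k => asIso
      ((Scheme.Modules.pullbackPushforwardAdjunction (Spec.map (CommRingCat.ofHom φ))).unit.app (S.obj k)))
    fun f => (Scheme.Modules.pullbackPushforwardAdjunction (Spec.map (CommRingCat.ofHom φ))).unit.naturality (S.map f)⟩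

variable (U : (Spec (CommRingCat.of A)).Opens)

include hφ in
theorem nonempty_iso_of_pullback [QuasiCompact U.ι] [Flat (Spec.map (CommRingCat.ofHom φ))]
    {G H : ℕᵒᵖ ⥤ (U : Scheme.{u}).Modules}
    (hG : ∀ k, (G.obj k).IsQuasicoherent) (hH : ∀ k, (H.obj k).IsQuasicoherent)
    (hGk : ∀ n, Formal.KilledBy (I ^ (n + 1)) (G.obj (op n)))
    (hHk : ∀ n, Formal.KilledBy (I ^ (n + 1)) (H.obj (op n)))
    (e : G ⋙ Scheme.Modules.pullback (morphismRestrict (Spec.map (CommRingCat.ofHom φ)) U) ≅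
      H ⋙ Scheme.Modules.pullback (morphismRestrict (Spec.map (CommRingCat.ofHom φ)) U)) :
    Nonempty (G ≅ H) := by
  let g := Spec.map (CommRingCat.ofHom φ)
  have hι : U.ι ≫ ((Spec (CommRingCat.of A)) ↘ Spec (CommRingCat.of A)) =
      (U : Scheme.{u}) ↘ Spec (CommRingCat.of A) := Category.comp_id _
  have key : ∀ (K : ℕᵒᵖ ⥤ (U : Scheme.{u}).Modules), (∀ k, (K.obj k).IsQuasicoherent) →
      (∀ n, Formal.KilledBy (I ^ (n + 1)) (K.obj (op n))) →
      Nonempty (K ⋙ Scheme.Modules.pushforward U.ι ≅ ((K ⋙ Scheme.Modules.pullback (morphismRestrict g U)) ⋙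
        Scheme.Modules.pushforward (g ⁻¹ᵁ U).ι) ⋙ Scheme.Modules.pushforward g) := by
    intro K hK hKk
    obtain ⟨u1⟩ := nonempty_unit_iso hφ (S := K ⋙ Scheme.Modules.pushforward U.ι)
      (fun k => have := hK k; Groth.QCohMod.isQCoh_pushforward (M := K.obj k) U.ι)
      (fun n a ha => by
        change Formal.smulMod A ((Scheme.Modules.pushforward U.ι).obj (K.obj (op n))) a = 0
        rw [← pushforward_map_smulMod hι, hKk n a ha, Functor.map_zero])
    obtain ⟨b⟩ := AlgzPull.nonempty_iso_push_pull U.ι g (morphismRestrict g U) (g ⁻¹ᵁ U).ι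
      (isPullback_morphismRestrict g U) K hK
    exact ⟨u1 ≪≫ Functor.isoWhiskerRight b (Scheme.Modules.pushforward g)⟩
  obtain ⟨a⟩ := key G hG hGk
  obtain ⟨b⟩ := key H hH hHk
  let t : G ⋙ Scheme.Modules.pushforward U.ι ≅ H ⋙ Scheme.Modules.pushforward U.ι :=
    a ≪≫ Functor.isoWhiskerRight (Functor.isoWhiskerRight e (Scheme.Modules.pushforward (g ⁻¹ᵁ U).ι))
      (Scheme.Modules.pushforward g) ≪≫ b.symm
  exact ⟨(Functor.rightUnitor G).symm ≪≫
    Functor.isoWhiskerLeft G (Scheme.Modules.restrictFunctorAdjCounitIso U.ι).symm ≪≫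
    Functor.isoWhiskerRight t (Scheme.Modules.restrictFunctor U.ι) ≪≫
    Functor.isoWhiskerLeft H (Scheme.Modules.restrictFunctorAdjCounitIso U.ι) ≪≫ Functor.rightUnitor H⟩

/-- Restriction to the open commutes with pullback. -/
noncomputable def restrictPullIso (g : Spec (CommRingCat.of B) ⟶ Spec (CommRingCat.of A)) :
    Scheme.Modules.restrictFunctor U.ι ⋙ Scheme.Modules.pullback (morphismRestrict g U) ≅
      Scheme.Modules.pullback g ⋙ Scheme.Modules.restrictFunctor (g ⁻¹ᵁ U).ι :=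
  Functor.isoWhiskerRight (Scheme.Modules.restrictFunctorIsoPullback U.ι) _ ≪≫
    Scheme.Modules.pullbackComp (morphismRestrict g U) U.ι ≪≫
    Scheme.Modules.pullbackCongr (morphismRestrict_ι g U) ≪≫
    (Scheme.Modules.pullbackComp (g ⁻¹ᵁ U).ι g).symm ≪≫
    Functor.isoWhiskerLeft _ (Scheme.Modules.restrictFunctorIsoPullback (g ⁻¹ᵁ U).ι).symm

include hφ in
/-- A completion on `Spec B` comes from a coherent formal module on `Spec A`. -/
theorem exists_cohFormal_pullback_iso [IsNoetherianRing A]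
    {C : ℕᵒᵖ ⥤ (Spec (CommRingCat.of B)).Modules}
    (hC : @Formal.IsCohFormal B _ (Spec (CommRingCat.of B)) ⟨𝟙 _⟩ (I.map φ) C) :
    ∃ G0, Formal.IsCohFormal I G0 ∧
      Nonempty (G0 ⋙ Scheme.Modules.pullback (Spec.map (CommRingCat.ofHom φ)) ≅ C) := by
  let g := Spec.map (CommRingCat.ofHom φ)
  letI oA : (Spec (CommRingCat.of B)).Over (Spec (CommRingCat.of A)) := ⟨g⟩
  letI oB : (Spec (CommRingCat.of B)).Over (Spec (CommRingCat.of B)) := ⟨𝟙 _⟩
  have hg : g ≫ ((Spec (CommRingCat.of A)) ↘ Spec (CommRingCat.of A)) =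
      (Spec (CommRingCat.of B)) ↘ Spec (CommRingCat.of A) := Category.comp_id _
  have hsm : ∀ (M : (Spec (CommRingCat.of B)).Modules) (a : A),
      Formal.smulMod A M a = Formal.smulMod B M (φ a) := fun M a => by
    unfold Formal.smulMod
    congr 1
    exact (congrArg (fun q => Coh.toGlobal q a) (Category.id_comp g).symm).trans
      (AlgzPull.toGlobal_comp φ (𝟙 _) a)
  have hqc : ∀ n, (C.obj (op n)).IsQuasicoherent := fun n => (hC.1 n).1
  have hsB : @IsSys B _ (Spec (CommRingCat.of B)) oB (I.map φ) C :=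
    isSys_of_isCohFormal (A := B) hC
  have hann : ∀ {M N : (Spec (CommRingCat.of B)).Modules} (p : M ⟶ N) (J : Ideal A),
      J.map φ ≤ annHom (A := B) p ↔ J ≤ annHom (A := A) p := fun p J => by
    rw [Ideal.map_le_iff_le_comap]
    refine ⟨fun h a ha => ?_, fun h a ha => ?_⟩
    · rw [mem_annHom, hsm]; exact (mem_annHom p (φ a)).1 (h ha)
    · rw [Ideal.mem_comap, mem_annHom, ← hsm]; exact (mem_annHom p a).1 (h ha)
  have hkA : ∀ n, Formal.KilledBy (A := A) (I ^ (n + 1)) (C.obj (op n)) := fun n a ha => by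
    rw [hsm]
    exact hsB.killed n (φ a) (by rw [← Ideal.map_pow]; exact Ideal.mem_map_of_mem φ ha)
  have hqA : ∀ n, IsQuot (A := A) (I ^ (n + 1)) (sysMap C (Nat.le_succ n)) := fun n => by
    have h := hsB.isQuot_succ n
    rw [← Ideal.map_pow] at h
    exact ⟨(hann _ _).1 h.le_ann, h.epi, fun ψ hψ => h.desc ψ ((hann _ _).2 hψ)⟩
  let S := C ⋙ Scheme.Modules.pushforward g
  have hSk : ∀ n, Formal.KilledBy (I ^ (n + 1)) (S.obj (op n)) := fun n a ha => by
    change Formal.smulMod A ((Scheme.Modules.pushforward g).obj (C.obj (op n))) a = 0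
    rw [← pushforward_map_smulMod hg, hkA n a ha, Functor.map_zero]
  have hSq : ∀ k, (S.obj k).IsQuasicoherent := fun k => by
    have := hqc k.unop
    exact Groth.QCohMod.isQCoh_pushforward (M := C.obj k) g
  let eΓ : ∀ M : (Spec (CommRingCat.of B)).Modules,
      (moduleSpecΓFunctor (R := CommRingCat.of B)).obj M ≃+
        (moduleSpecΓFunctor (R := CommRingCat.of A)).obj ((Scheme.Modules.pushforward g).obj M) := fun M =>
    { toFun := fun x => x
      invFun := fun x => x
      left_inv := fun _ => rfl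
      right_inv := fun _ => rfl
      map_add' := fun _ _ => rfl }
  have hsmul : ∀ (M : (Spec (CommRingCat.of B)).Modules) (a : A)
      (y : (moduleSpecΓFunctor (R := CommRingCat.of B)).obj M), eΓ M (φ a • y) = a • eΓ M y := fun M a y => by
    refine Eq.trans ?_ (AlgzSheaf.gMap_smulMod ((Scheme.Modules.pushforward g).obj M) a (eΓ M y))
    refine (congrArg (eΓ M) (AlgzSheaf.gMap_smulMod M (φ a) y).symm).trans ?_
    rw [← hsm, ← pushforward_map_smulMod hg]
    rfl
  have hSs : IsSys I S := ⟨hSk, fun n => by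
    have := hqc (n + 1)
    have := hqc n
    refine @AlgzSheaf.isQuot_of_gMap A _ _ _ _ (hSq _) (hSq _) (sysMap S (Nat.le_succ n)) ?_ ?_
    · have := (hsB.isQuot_succ n).epi
      exact AlgzSheaf.surjective_gMap (A := B) (sysMap C (Nat.le_succ n))
    · refine le_antisymm (fun x hx => ?_) (AlgzSheaf.smul_top_le fun a ha => ?_)
      · obtain ⟨y, rfl⟩ := (eΓ (C.obj (op (n + 1)))).surjective x
        have hy : y ∈ ((I ^ (n + 1)).map φ) • (⊤ : Submodule B _) := by
          rw [Ideal.map_pow]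
          exact (AlgzSheaf.ker_gMap (A := B) (hsB.isQuot_succ n)).le (LinearMap.mem_ker.2 hx)
        exact AlgzDescUnit.mem_smul_of_semilinear (eΓ _) (hsmul _) _ hy
      · rw [mem_annHom]
        change Formal.smulMod A ((Scheme.Modules.pushforward g).obj (C.obj (op (n + 1)))) a ≫
          (Scheme.Modules.pushforward g).map (sysMap C (Nat.le_succ n)) = 0
        rw [← pushforward_map_smulMod hg, ← Functor.map_comp, (mem_annHom _ a).1 ((hqA n).le_ann ha),
          Functor.map_zero]⟩
  have hcounit : ∀ k, IsIso ((Scheme.Modules.pullbackPushforwardAdjunction g).counit.app (C.obj k)) := by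
    intro k
    have := hqc k.unop
    have hq1 : ((Scheme.Modules.pushforward g).obj (C.obj k)).IsQuasicoherent := hSq k
    have hu := isIso_unit_sys hφ hSq hSk k
    have hP : IsIso ((Scheme.Modules.pushforward g).map
        ((Scheme.Modules.pullbackPushforwardAdjunction g).counit.app (C.obj k))) := by
      have e := (Scheme.Modules.pullbackPushforwardAdjunction g).right_triangle_components (C.obj k)
      exact @IsIso.of_isIso_fac_left _ _ _ _ _ _ _ (𝟙 _) hu inferInstance e
    have hb := ConcreteCategory.bijective_of_isIso ((moduleSpecΓFunctor (R := CommRingCat.of A)).map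
      ((Scheme.Modules.pushforward g).map
        ((Scheme.Modules.pullbackPushforwardAdjunction g).counit.app (C.obj k))))
    exact @AlgzSheaf.isIso_of_bijective B _ _ _
      (Groth.QCohMod.isQCoh_pullback_obj g ((Scheme.Modules.pushforward g).obj (C.obj k))) (hqc k.unop) _ hb
  have hSc : ∀ n, Coh.IsCoh (S.obj (op n)) := fun n => by
    have := hSq (op n)
    let N := (moduleSpecΓFunctor (R := CommRingCat.of A)).obj (S.obj (op n))
    have hfin : Module.Finite B ((moduleSpecΓFunctor (R := CommRingCat.of B)).obj (C.obj (op n))) :=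
      AlgzSheaf.finite_gamma (R := CommRingCat.of B) (hC.1 n)
    have hkill : ∀ b ∈ (I ^ (n + 1)).map φ,
        ∀ x : (moduleSpecΓFunctor (R := CommRingCat.of B)).obj (C.obj (op n)), b • x = 0 := fun b hb => by
      have := hqc n
      exact (AlgzSheaf.killedBy_iff (C.obj (op n))).1 (hsB.killed n) b (by rwa [← Ideal.map_pow])
    have : Module.Finite A N :=
      @AlgzDescUnit.finite_of_semilinear A B _ _ _ _ φ _ _ _ _ hfin (eΓ (C.obj (op n))) (hsmul _) _ (hφ (n + 1)) hkill
    have hi := AlgzTilde.isIso_fromTildeΓ_app (R := CommRingCat.of A) (S.obj (op n))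
    exact Groth.QCohMod.isCoh_of_iso (@asIso _ _ _ _ _ hi) (AlgzSheaf.isCoh_tilde N)
  refine ⟨S, ⟨hSc, hSs.killed, fun n => (hSs.isQuot_succ n).isIso_desc⟩, ?_⟩
  exact ⟨NatIso.ofComponents (fun k => @asIso _ _ _ _ _ (hcounit k))
    fun f => (Scheme.Modules.pullbackPushforwardAdjunction g).counit.naturality (C.map f)⟩

/-- An extendable system over a complete ring is a completion. -/
theorem exists_completion_iso [IsNoetherianRing A] (I : Ideal A) [IsAdicComplete I A]
    (U : (Spec (CommRingCat.of A)).Opens) (G : ℕᵒᵖ ⥤ (U : Scheme.{u}).Modules)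
    (h : Algz.Extends I U G) :
    ∃ F : (U : Scheme.{u}).Modules, Coh.IsCoh F ∧ Nonempty (Formal.completion I F ≅ G) := by
  obtain ⟨G', hG', ⟨e⟩⟩ := h
  let R := Scheme.Modules.restrictFunctor U.ι
  let T := tilde.functor (CommRingCat.of A)
  let N := G' ⋙ moduleSpecΓFunctor (R := CommRingCat.of A)
  have hN : AlgzSheaf.IsModSys I N := AlgzSheaf.isModSys_gamma hG'
  obtain ⟨L, π, hL, hπ'⟩ := AlgzSys.exists_finite_lim (IsNoetherian.noetherian I) hN
  let M := T.obj L
  have hM : Coh.IsCoh M := AlgzSheaf.isCoh_tilde _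
  have hcoh : ∀ n, Coh.IsCoh (T.obj (N.obj (op n))) := fun n =>
    have := hN.finite n; AlgzSheaf.isCoh_tilde _
  have hc : ∀ n, IsIso ((Scheme.Modules.fromTildeΓNatTrans (R := CommRingCat.of A)).app
      (G'.obj (op n))) := fun n =>
    @AlgzTilde.isIso_fromTildeΓ_app (CommRingCat.of A) _ (hG'.1 n).1
  let p : ∀ n, M ⟶ G'.obj (op n) := fun n =>
    T.map (π n) ≫ (Scheme.Modules.fromTildeΓNatTrans (R := CommRingCat.of A)).app (G'.obj (op n))
  have hp : ∀ n, IsQuot (I ^ (n + 1)) (p n) := fun n =>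
    haveI := hc n
    (@AlgzSheaf.isQuot_of_gMap _ _ _ _ _ hM.1 (hcoh n).1 (T.map (π n))
      (AlgzSheaf.gMap_tilde_surjective _ (hπ' n).1)
      (AlgzSheaf.ker_gMap_tilde _ (hπ' n).2.1)).comp_iso _
  have hcomm : ∀ n, p (n + 1) ≫ sysMap G' (Nat.le_succ n) = p n := fun n =>
    (Category.assoc _ _ _).trans ((congrArg (T.map (π (n + 1)) ≫ ·)
      ((Scheme.Modules.fromTildeΓNatTrans (R := CommRingCat.of A)).naturality
        (sysMap G' (Nat.le_succ n))).symm).trans ((Category.assoc _ _ _).symm.trans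
      (congrArg (· ≫ _) ((T.map_comp _ _).symm.trans (congrArg T.map (hπ' n).2.2)))))
  have hι : U.ι ≫ ((Spec (CommRingCat.of A)) ↘ Spec (CommRingCat.of A)) =
      (U : Scheme.{u}) ↘ Spec (CommRingCat.of A) := Category.comp_id _
  have adj : R ⊣ Scheme.Modules.pushforward U.ι := Scheme.Modules.restrictAdjunction U.ι
  obtain ⟨e'⟩ := nonempty_completion_iso I (R.obj M) (G' ⋙ R)
    (fun n => R.map (p n)) (fun n => (hp n).map_adj adj hι)
    (fun n => (R.map_comp _ _).symm.trans (congrArg R.map (hcomm n)))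
  exact ⟨R.obj M, Groth.RefRank.isCoh_restrict hM _, ⟨e' ≪≫ e⟩⟩

/-- A completion of a coherent module on an open extends. -/
theorem extends_completion [IsNoetherianRing A] (I : Ideal A)
    (U : (Spec (CommRingCat.of A)).Opens) {F : (U : Scheme.{u}).Modules} (hF : Coh.IsCoh F) :
    Algz.Extends I U (Formal.completion I F) := by
  let R := Scheme.Modules.restrictFunctor U.ι
  obtain ⟨M, _, _, hM, ⟨eF⟩⟩ := (Groth.Agent.S2269.result A U F).1 hF
  let T := tilde (R := CommRingCat.of A) (ModuleCat.of A M)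
  have hT : Coh.IsCoh T := AlgzSheaf.isCoh_tilde (ModuleCat.of A M)
  have hs := isSys_completion I T
  have hι : U.ι ≫ ((Spec (CommRingCat.of A)) ↘ Spec (CommRingCat.of A)) =
      (U : Scheme.{u}) ↘ Spec (CommRingCat.of A) := Category.comp_id _
  have adj : R ⊣ Scheme.Modules.pushforward U.ι := Scheme.Modules.restrictAdjunction U.ι
  obtain ⟨e'⟩ := nonempty_completion_iso I F (Formal.completion I T ⋙ R)
    (fun n => eF.hom ≫ R.map (Formal.modPowπ I (n + 1) T))
    (fun n => ((isQuot_modPowπ I (n + 1) T).map_adj adj hι).iso_comp eF.hom)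
    (fun n => (Category.assoc _ _ _).trans (congrArg (eF.hom ≫ ·)
      ((R.map_comp _ _).symm.trans (congrArg R.map (modPowπ_sysMap_succ I T n)))))
  exact ⟨Formal.completion I T, ⟨fun n => isCoh_modPow' hT I (n + 1), hs.killed,
    fun n => (hs.isQuot_succ n).isIso_desc⟩, ⟨e'.symm⟩⟩

end Groth.MiscGeom.AlgzDesc
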