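import Groth.Agent.LocFree.ExtPullback
import Groth.Agent.MiscGeom.AlgzSheaf
import Mathlib.LinearAlgebra.TensorProduct.Quotient

/-! The unit `M ⟶ g_* g^* M` is invertible for modules killed by `J` when `A/J = B/JB`. -/

set_option autoImplicit false

universe u

open CategoryTheory CategoryTheory.Limits AlgebraicGeometry Opposite
open scoped TensorProduct

namespace Groth.MiscGeom.AlgzDescUnit

/-- `A/J → B/JB` is bijective. -/
structure Cond {A B : Type u} [CommRing A] [CommRing B] (f : A →+* B) (J : Ideal A) : Prop where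
  comap : (J.map f).comap f = J
  surj : ∀ b, ∃ a, b - f a ∈ J.map f

lemma Cond.transport {A B A₀ B₀ : Type u} [CommRing A] [CommRing B] [CommRing A₀] [CommRing B₀]
    {φ : A →+* B} {J : Ideal A} (h : Cond φ J) (e : A →+* A₀) (e' : B →+* B₀)
    (he : Function.Bijective e) (he' : Function.Bijective e') (f : A₀ →+* B₀)
    (w : ∀ a, f (e a) = e' (φ a)) : Cond f (J.map e) := by
  have hmap : (J.map e).map f = (J.map φ).map e' := by
    rw [Ideal.map_map, Ideal.map_map]
    exact congrArg (fun r => Ideal.map r J) (RingHom.ext w)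
  have hinj : ∀ {x}, e' x ∈ (J.map φ).map e' ↔ x ∈ J.map φ := fun {x} => by
    refine ⟨fun hx => ?_, Ideal.mem_map_of_mem _⟩
    obtain ⟨y, hy, hye⟩ := (Ideal.mem_map_iff_of_surjective e' he'.2).1 hx
    rwa [he'.1 hye] at hy
  refine ⟨le_antisymm (fun x hx => ?_) Ideal.le_comap_map, fun b => ?_⟩
  · obtain ⟨a, rfl⟩ := he.2 x
    rw [Ideal.mem_comap, w, hmap, hinj, ← Ideal.mem_comap, h.comap] at hx
    exact Ideal.mem_map_of_mem e hx
  · obtain ⟨b, rfl⟩ := he'.2 b
    obtain ⟨a, ha⟩ := h.surj b
    exact ⟨e a, by rw [w, ← map_sub, hmap]; exact Ideal.mem_map_of_mem _ ha⟩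

theorem bijective_of_isBaseChange {A B M P : Type u} [CommRing A] [CommRing B] [Algebra A B]
    [AddCommGroup M] [Module A M] [AddCommGroup P] [Module A P] [Module B P] [IsScalarTower A B P]
    (f : M →ₗ[A] P) (hf : IsBaseChange B f) {J : Ideal A} (h : Cond (algebraMap A B) J)
    (hM : ∀ a ∈ J, ∀ m : M, a • m = 0) : Function.Bijective f := by
  have hJ : ∀ z ∈ J.map (algebraMap A B), ∀ m : M, z • f m = 0 := fun z hz m => by
    induction hz using Submodule.span_induction with
    | mem z hz =>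
      obtain ⟨a, ha, rfl⟩ := hz
      rw [algebraMap_smul, ← map_smul, hM a ha m, map_zero]
    | zero => rw [zero_smul]
    | add x y _ _ hx hy => rw [add_smul, hx, hy, add_zero]
    | smul c x _ hx => rw [smul_eq_mul, mul_smul, hx, smul_zero]
  constructor
  · rw [injective_iff_map_eq_zero]
    intro m hm
    let g : (A ⧸ J) →ₗ[A] (B ⧸ J.map (algebraMap A B)) :=
      Submodule.liftQ J (Algebra.linearMap A (B ⧸ J.map (algebraMap A B))) fun a ha => by
        rw [LinearMap.mem_ker, Algebra.linearMap_apply, IsScalarTower.algebraMap_apply A B _,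
          Ideal.Quotient.algebraMap_eq, Ideal.Quotient.eq_zero_iff_mem]
        exact Ideal.mem_map_of_mem _ ha
    have hg : Function.Bijective g := by
      refine ⟨(injective_iff_map_eq_zero _).2 fun x hx => ?_, fun y => ?_⟩
      · obtain ⟨a, rfl⟩ := Submodule.mkQ_surjective _ x
        rw [Submodule.mkQ_apply, Submodule.liftQ_apply, Algebra.linearMap_apply,
          IsScalarTower.algebraMap_apply A B _, Ideal.Quotient.algebraMap_eq,
          Ideal.Quotient.eq_zero_iff_mem, ← Ideal.mem_comap, h.comap] at hx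
        exact (Submodule.Quotient.mk_eq_zero _).2 hx
      · obtain ⟨b, rfl⟩ := Ideal.Quotient.mk_surjective y
        obtain ⟨a, ha⟩ := h.surj b
        refine ⟨Submodule.Quotient.mk a, ?_⟩
        rw [Submodule.liftQ_apply, Algebra.linearMap_apply, IsScalarTower.algebraMap_apply A B _,
          Ideal.Quotient.algebraMap_eq]
        exact (Ideal.Quotient.eq.2 ha).symm
    let ψ : B →ₗ[A] (A ⧸ J) :=
      (LinearEquiv.ofBijective g hg).symm.toLinearMap.comp
        (Ideal.Quotient.mkₐ A (J.map (algebraMap A B))).toLinearMap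
    have h1 : ψ 1 = Submodule.Quotient.mk 1 := by
      apply (LinearEquiv.ofBijective g hg).injective
      simp only [ψ, LinearMap.comp_apply, LinearEquiv.coe_coe, LinearEquiv.apply_symm_apply]
      show Ideal.Quotient.mk _ 1 = g (Submodule.Quotient.mk 1)
      rw [Submodule.liftQ_apply, Algebra.linearMap_apply, map_one, map_one]
    have h2 : (1 : B) ⊗ₜ[A] m = 0 := by
      apply hf.equiv.injective
      rw [map_zero, IsBaseChange.equiv_tmul, one_smul]
      exact hm
    have h3 := congrArg (TensorProduct.quotTensorEquivQuotSMul M J) (congrArg (ψ.rTensor M) h2)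
    rw [LinearMap.rTensor_tmul, h1, map_zero, map_zero] at h3
    have h4 : Submodule.Quotient.mk (p := J • (⊤ : Submodule A M)) m = 0 := by
      rw [show Submodule.Quotient.mk (p := J) (1 : A) = Ideal.Quotient.mk J 1 from rfl,
        TensorProduct.quotTensorEquivQuotSMul_mk_tmul, one_smul] at h3
      exact h3
    rw [Submodule.Quotient.mk_eq_zero] at h4
    have : J • (⊤ : Submodule A M) ≤ ⊥ :=
      Submodule.smul_le.2 fun a ha x _ => (Submodule.mem_bot A).2 (hM a ha x)
    exact (Submodule.mem_bot A).1 (this h4)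
  · intro y
    induction y using hf.inductionOn with
    | zero => exact ⟨0, map_zero f⟩
    | tmul m => exact ⟨m, rfl⟩
    | smul b n hn =>
      obtain ⟨m, rfl⟩ := hn
      obtain ⟨a, ha⟩ := h.surj b
      refine ⟨a • m, ?_⟩
      have e := hJ _ ha m
      rw [sub_smul, algebraMap_smul, sub_eq_zero] at e
      rw [e, map_smul]
    | add x y hx hy =>
      obtain ⟨a, rfl⟩ := hx
      obtain ⟨b, rfl⟩ := hy
      exact ⟨a + b, map_add f a b⟩

theorem finite_of_semilinear {A B N N' : Type u} [CommRing A] [CommRing B] {φ : A →+* B}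
    [AddCommGroup N] [Module A N] [AddCommGroup N'] [Module B N'] [hfin : Module.Finite B N']
    (e : N' ≃+ N) (he : ∀ a y, e (φ a • y) = a • e y) {J : Ideal A} (hJ : Cond φ J)
    (hk : ∀ b ∈ J.map φ, ∀ y : N', b • y = 0) : Module.Finite A N := by
  classical
  obtain ⟨s, hs⟩ := hfin
  refine ⟨⟨s.image e, eq_top_iff.2 fun x _ => ?_⟩⟩
  obtain ⟨y, rfl⟩ := e.surjective x
  have hy : y ∈ Submodule.span B (s : Set N') := hs ▸ trivial
  induction hy using Submodule.span_induction with
  | mem z hz => exact Submodule.subset_span (Finset.mem_image_of_mem e hz)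
  | zero => rw [map_zero]; exact Submodule.zero_mem _
  | add z w _ _ hz hw => rw [map_add]; exact Submodule.add_mem _ (hz trivial) (hw trivial)
  | smul b z _ hz =>
    obtain ⟨a, ha⟩ := hJ.surj b
    rw [show b • z = φ a • z by rw [← sub_eq_zero, ← sub_smul]; exact hk _ ha z, he]
    exact Submodule.smul_mem _ a (hz trivial)

theorem mem_smul_of_semilinear {A B N N' : Type u} [CommRing A] [CommRing B] {φ : A →+* B}
    [AddCommGroup N] [Module A N] [AddCommGroup N'] [Module B N']
    (e : N' ≃+ N) (he : ∀ a y, e (φ a • y) = a • e y) (J : Ideal A) {y : N'}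
    (hy : y ∈ J.map φ • (⊤ : Submodule B N')) : e y ∈ J • (⊤ : Submodule A N) := by
  refine Submodule.smul_induction_on hy (fun b hb z _ => ?_)
    (fun z w hz hw => by rw [map_add]; exact Submodule.add_mem _ hz hw)
  induction hb using Submodule.span_induction generalizing z with
  | mem b hb =>
    obtain ⟨a, ha, rfl⟩ := hb
    rw [he]
    exact Submodule.smul_mem_smul ha trivial
  | zero => rw [zero_smul, map_zero]; exact Submodule.zero_mem _
  | add b c _ _ hb hc => rw [add_smul, map_add]; exact Submodule.add_mem _ (hb z trivial) (hc z trivial)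
  | smul c b _ hb => rw [smul_eq_mul, mul_comm, mul_smul]; exact hb _ trivial

variable {A B : Type u} [CommRing A] [CommRing B]

noncomputable local instance selfOver : (Spec (CommRingCat.of A)).Over (Spec (CommRingCat.of A)) := ⟨𝟙 _⟩

theorem isIso_unit {J : Ideal A} (φ : A →+* B) (h : Cond φ J)
    (M : (Spec (CommRingCat.of A)).Modules) [M.IsQuasicoherent] (hM : Formal.KilledBy J M) :
    IsIso ((Scheme.Modules.pullbackPushforwardAdjunction (Spec.map (CommRingCat.ofHom φ))).unit.app M) := by
  let g := Spec.map (CommRingCat.ofHom φ)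
  have : ((Scheme.Modules.pullback g).obj M).IsQuasicoherent := Groth.QCohMod.isQCoh_pullback_obj g M
  have : ((Scheme.Modules.pushforward g).obj ((Scheme.Modules.pullback g).obj M)).IsQuasicoherent :=
    Groth.QCohMod.isQCoh_pushforward (M := (Scheme.Modules.pullback g).obj M) g
  refine @AlgzSheaf.isIso_of_bijective _ _ M _ ‹_› ‹_›
    ((Scheme.Modules.pullbackPushforwardAdjunction g).unit.app M) ?_
  letI alg := Groth.QCohMod.sectionsAlg g (le_refl (g ⁻¹ᵁ (⊤ : (Spec (CommRingCat.of A)).Opens)))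
  letI mod : Module Γ(Spec (CommRingCat.of A), ⊤) Γ((Scheme.Modules.pullback g).obj M, g ⁻¹ᵁ ⊤) :=
    Module.compHom _ (g.appLE ⊤ (g ⁻¹ᵁ ⊤) le_rfl).hom
  haveI : IsScalarTower Γ(Spec (CommRingCat.of A), ⊤) Γ(Spec (CommRingCat.of B), g ⁻¹ᵁ ⊤)
      Γ((Scheme.Modules.pullback g).obj M, g ⁻¹ᵁ ⊤) := IsScalarTower.of_algebraMap_smul fun _ _ => rfl
  have hb := Groth.LocFree.isBaseChange_pullSecₗ g M (le_refl (g ⁻¹ᵁ (⊤ : (Spec (CommRingCat.of A)).Opens)))
    (isAffineOpen_top _) ((isAffineOpen_top _).preimage g)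
  have hc : Cond (algebraMap Γ(Spec (CommRingCat.of A), ⊤) Γ(Spec (CommRingCat.of B), g ⁻¹ᵁ ⊤))
      (J.map (Scheme.ΓSpecIso (CommRingCat.of A)).inv.hom) :=
    h.transport _ (Scheme.ΓSpecIso (CommRingCat.of B)).inv.hom
      (ConcreteCategory.bijective_of_isIso _) (ConcreteCategory.bijective_of_isIso _) _ fun a => by
      show g.appLE ⊤ (g ⁻¹ᵁ ⊤) le_rfl _ = _
      rw [← Scheme.Hom.app_eq_appLE]
      exact congr($(Scheme.ΓSpecIso_inv_naturality (CommRingCat.ofHom φ)) a).symm
  have := bijective_of_isBaseChange _ hb hc fun x hx m => by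
    obtain ⟨a, ha, rfl⟩ := (Ideal.mem_map_iff_of_surjective _
      (ConcreteCategory.bijective_of_isIso (Scheme.ΓSpecIso (CommRingCat.of A)).inv).2).1 hx
    have e := (AlgzSheaf.killedBy_iff M).1 hM a ha m
    refine Eq.trans ?_ e
    refine Eq.trans ?_ (Scheme.Modules.smul_Spec_def (R := CommRingCat.of A) (M := M) a m).symm
    congr 1
  have hfun : ∀ m, (Groth.LocFree.pullSecₗ g M (le_refl (g ⁻¹ᵁ ⊤))) m =
      AlgzSheaf.gMap ((Scheme.Modules.pullbackPushforwardAdjunction g).unit.app M) m := fun m => by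
    show Groth.PicAux.res _ le_rfl _ = _
    exact (congr($(((Scheme.Modules.pullback g).obj M).presheaf.map_id (op (g ⁻¹ᵁ ⊤))) _))
  rwa [show ⇑(AlgzSheaf.gMap ((Scheme.Modules.pullbackPushforwardAdjunction g).unit.app M)) =
    ⇑(Groth.LocFree.pullSecₗ g M (le_refl (g ⁻¹ᵁ ⊤))) from funext fun m => (hfun m).symm]

end Groth.MiscGeom.AlgzDescUnit
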