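import Groth.Agent.CohC3.GradedFG

/-! Stabilisation for towers with finitely generated sequences of graded pieces. -/

set_option autoImplicit false

universe u v

namespace Groth.MiscGeom.AlgzGr

variable {A : Type u} [CommRing A] [IsNoetherianRing A] {r : ℕ}
  {N : ℕ → Type v} [∀ n, AddCommGroup (N n)] [∀ n, Module A (N n)]
  (op : Fin r → ∀ n, N n →ₗ[A] N (n + 1))
  (hcomm : ∀ i j n (x : N n), op i (n + 1) (op j n x) = op j (n + 1) (op i n x))

include hcomm in
/-- A stable family is eventually contained in the subspaces it reaches by the operators. -/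
theorem exists_kill [∀ n, Module.Finite A (N n)]
    (hgen : ∀ n, (⊤ : Submodule A (N (n + 1))) ≤ ⨆ i, LinearMap.range (op i n))
    (Z : ∀ n, Submodule A (N n)) (hZ : ∀ i n, ∀ x ∈ Z n, op i n x ∈ Z (n + 1))
    (W : ∀ m k, k ≤ m → Submodule A (N m))
    (h0 : ∀ i m, ∀ x ∈ Z m, op i m x ∈ W (m + 1) 0 (Nat.zero_le _))
    (hs : ∀ i m k (h : k ≤ m), ∀ x ∈ W m k h, op i m x ∈ W (m + 1) (k + 1) (Nat.succ_le_succ h)) :
    ∃ c : ℕ, ∀ m k (h : k ≤ m), k + c ≤ m → Z m ≤ W m k h := by
  obtain ⟨d, hd⟩ := Groth.CohC3.exists_bound_of_stable op hcomm 0 (fun n _ => hgen n) Z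
    (fun i n => by rintro _ ⟨x, hx, rfl⟩; exact hZ i n x hx)
  refine ⟨d + 1, fun m => ?_⟩
  induction m with
  | zero => intro k h hk; omega
  | succ m ih =>
    intro k h hk
    refine (hd m (by omega)).trans (iSup_le fun i => ?_)
    rintro _ ⟨x, hx, rfl⟩
    rcases k with _ | k
    · exact h0 i m x hx
    · exact hs i m k (Nat.le_of_succ_le_succ h) x (ih k _ (by omega) hx)

variable {H : ℕ → Type v} [∀ n, AddCommGroup (H n)] [∀ n, Module A (H n)]
  (tr : ∀ n, H (n + 1) →ₗ[A] H n)

/-- Compatible families in a tower. -/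
def thread : Submodule A (∀ n, H n) where
  carrier := {y | ∀ n, tr n (y (n + 1)) = y n}
  add_mem' := by intro x y hx hy n; simp [hx n, hy n]
  zero_mem' := by intro n; simp
  smul_mem' := by intro c x hx n; simp [hx n]

/-- The projection. -/
def proj (n : ℕ) : thread tr →ₗ[A] H n := (LinearMap.proj n).comp (thread tr).subtype

omit [IsNoetherianRing A] in
lemma tr_proj (y : thread tr) (n : ℕ) : tr n (proj tr (n + 1) y) = proj tr n y := y.2 n

omit [IsNoetherianRing A] in
lemma proj_eq_zero {y : thread tr} {i j : ℕ} (h : i ≤ j) (hy : proj tr j y = 0) : proj tr i y = 0 := by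
  induction j, h using Nat.le_induction with
  | base => exact hy
  | succ j h ih => exact ih (by rw [← tr_proj, hy, map_zero])

variable (ι : ∀ n, N n →ₗ[A] H (n + 1)) (hι : ∀ n x, tr n (ι n x) = 0)
  (hex : ∀ n y, tr n y = 0 → ∃ x, ι n x = y) (t : Fin r → A) (I : Ideal A) (ht : ∀ i, t i ∈ I)
  (raise : Fin r → ∀ n, H n →ₗ[A] H (n + 1)) (hrtr : ∀ i n y, raise i n (tr n y) = t i • y)
  (hop : ∀ i n x, ι (n + 1) (op i n x) = raise i (n + 1) (ι n x))

include hcomm hι hex ht hrtr hop in
/-- The kernels of the projections are adically small. -/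
theorem exists_ker_le [∀ n, Module.Finite A (N n)]
    (hgen : ∀ n, (⊤ : Submodule A (N (n + 1))) ≤ ⨆ i, LinearMap.range (op i n)) :
    ∃ c : ℕ, ∀ k : ℕ, LinearMap.ker (proj tr (c + k)) ≤ I ^ k • (⊤ : Submodule A (thread tr)) := by
  let Q : ∀ n, Submodule A (N n) := fun n => (LinearMap.range (proj tr (n + 1))).comap (ι n)
  have key : ∀ (n : ℕ) (i : Fin r) (z : thread tr),
      proj tr (n + 1 + 1) (t i • z) = raise i (n + 1) (proj tr (n + 1) z) := fun n i z => by
    rw [map_smul, ← hrtr, tr_proj]
  obtain ⟨c, hc⟩ := Groth.CohC3.exists_bound_of_stable op hcomm 0 (fun n _ => hgen n) Q (fun i n => by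
    rintro _ ⟨x, ⟨z, hz⟩, rfl⟩
    exact ⟨t i • z, by rw [key n i z, hz, hop]⟩)
  have step : ∀ m, c ≤ m → ∀ y ∈ LinearMap.ker (proj tr (m + 1)),
      ∃ z : Fin r → thread tr, (∀ i, z i ∈ LinearMap.ker (proj tr m)) ∧
        y - ∑ i, t i • z i ∈ LinearMap.ker (proj tr (m + 1 + 1)) := by
    intro m hm y hy
    obtain ⟨x, hx⟩ := hex (m + 1) (proj tr (m + 1 + 1) y) ((tr_proj tr y _).trans hy)
    obtain ⟨μ, hμ⟩ := (Submodule.mem_iSup_iff_exists_finsupp _ x).1 (hc m hm ⟨y, hx.symm⟩)
    choose x' hx' he using fun i => hμ.1 i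
    choose z hz using hx'
    refine ⟨z, fun i => ?_, ?_⟩
    · rw [LinearMap.mem_ker, ← tr_proj, hz, hι]
    · rw [LinearMap.mem_ker, map_sub, map_sum, sub_eq_zero, ← hx, ← hμ.2,
        Finsupp.sum_fintype _ _ (fun _ => rfl), map_sum]
      exact Finset.sum_congr rfl fun i _ => by rw [key m i (z i), hz, ← he, hop]
  have main : ∀ m, c ≤ m → LinearMap.ker (proj tr (m + 1)) ≤ I • LinearMap.ker (proj tr m) := by
    intro m hm y hy
    choose! z hz hz' using step
    let Y : ℕ → thread tr := fun j => Nat.rec y (fun j w => w - ∑ i, t i • z (m + j) w i) j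
    have hY : ∀ j, Y j ∈ LinearMap.ker (proj tr (m + j + 1)) := by
      intro j
      induction j with
      | zero => exact hy
      | succ j ih => exact hz' (m + j) (by omega) (Y j) ih
    let v : Fin r → ℕ → thread tr := fun i k => ∑ j ∈ Finset.range k, z (m + j) (Y j) i
    have hv : ∀ i n, tr n (proj tr (n + 1) (v i (n + 1))) = proj tr n (v i n) := by
      intro i n
      rw [tr_proj]
      simp only [v, Finset.sum_range_succ, map_add]
      rw [proj_eq_zero tr (show n ≤ m + n by omega) (hz (m + n) (by omega) (Y n) (hY n) i), add_zero]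
    let w : Fin r → thread tr := fun i => ⟨fun n => proj tr n (v i n), hv i⟩
    have hw : ∀ i, w i ∈ LinearMap.ker (proj tr m) := fun i => by
      rw [LinearMap.mem_ker]
      change proj tr m (v i m) = 0
      rw [map_sum]
      exact Finset.sum_eq_zero fun j _ =>
        proj_eq_zero tr (show m ≤ m + j by omega) (hz (m + j) (by omega) (Y j) (hY j) i)
    have hYe : ∀ k, Y k = y - ∑ i, t i • v i k := by
      intro k
      induction k with
      | zero => simp [v, Y]
      | succ k ih =>
        show Y k - ∑ i, t i • z (m + k) (Y k) i = _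
        simp only [v, Finset.sum_range_succ, smul_add, Finset.sum_add_distrib]
        conv_lhs => arg 1; rw [ih]
        abel
    have hsum : y = ∑ i, t i • w i := by
      refine Subtype.ext (funext fun n => ?_)
      change proj tr n y = proj tr n (∑ i, t i • w i)
      have := proj_eq_zero tr (show n ≤ m + n + 1 by omega) (hY n)
      rw [hYe, map_sub, sub_eq_zero] at this
      rw [this, map_sum, map_sum]
      simp only [map_smul]
      rfl
    rw [hsum]
    exact Submodule.sum_mem _ fun i _ => Submodule.smul_mem_smul (ht i) (hw i)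
  refine ⟨c, fun k => ?_⟩
  induction k with
  | zero => rw [pow_zero, Ideal.one_eq_top, Submodule.top_smul]; exact le_top
  | succ k ih =>
    rw [pow_succ', Submodule.mul_smul]
    exact (main (c + k) (Nat.le_add_right c k)).trans (Submodule.smul_mono le_rfl ih)

include hex in
theorem finite_tower [∀ n, Module.Finite A (N n)] (hι : ∀ n x, tr n (ι n x) = 0)
    (h0 : Module.Finite A (H 0)) (n : ℕ) : Module.Finite A (H n) := by
  induction n with
  | zero => exact h0
  | succ n ih =>
    have hk : LinearMap.range (ι n) = LinearMap.ker (tr n) :=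
      le_antisymm (by rintro _ ⟨x, rfl⟩; exact hι n x) fun x hx => hex n x hx
    have := isNoetherian_of_range_eq_ker _ _ hk
    infer_instance

end Groth.MiscGeom.AlgzGr
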