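import Groth.Agent.CohC3.FullyFaithful

/-! Cohomology in degrees of interest, bundled as modules over the base ring. -/

set_option autoImplicit false

universe u

open CategoryTheory CategoryTheory.Limits AlgebraicGeometry Opposite TopologicalSpace

namespace Groth.MiscGeom.AlgzHMod

open Groth.CohC3

variable {A : Type u} [CommRing A] {X : Scheme.{u}} [X.Over (Spec (CommRingCat.of A))]

variable (A) in
/-- `H^p(X, M)` as a module. -/
noncomputable def Hm (M : X.Modules) (p : ℕ) : ModuleCat.{u} A := ModuleCat.of A (Coh.HH X M p)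

variable (A) in
/-- The induced map. -/
noncomputable def hm {M N : X.Modules} (φ : M ⟶ N) (p : ℕ) : Hm A M p →ₗ[A] Hm A N p := hmap A φ p

lemma hm_comp {M N P : X.Modules} (φ : M ⟶ N) (ψ : N ⟶ P) (p : ℕ) (x : Hm A M p) :
    hm A ψ p (hm A φ p x) = hm A (φ ≫ ψ) p x :=
  hmap_comp φ ψ p x

lemma hm_id (M : X.Modules) (p : ℕ) (x : Hm A M p) : hm A (𝟙 M) p x = x := hmap_id M p x

lemma hm_zero (M N : X.Modules) (p : ℕ) (x : Hm A M p) : hm A (0 : M ⟶ N) p x = 0 := hmap_zero M N p x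

lemma hm_smulMod (M : X.Modules) (a : A) (p : ℕ) (x : Hm A M p) :
    hm A (Formal.smulMod A M a) p x = a • x := hmap_smulMod M a p x

lemma hm_add {M N : X.Modules} (φ ψ : M ⟶ N) (p : ℕ) (x : Hm A M p) :
    hm A (φ + ψ) p x = hm A φ p x + hm A ψ p x := by
  change Sheaf.H.map ((CohBase.toAbF X).map (φ + ψ)) p x = _
  rw [Functor.map_add]
  exact Sheaf.H.map_add_apply _ _ x

lemma hm_sum {M N : X.Modules} {J : Type*} (s : Finset J) (φ : J → (M ⟶ N)) (p : ℕ) (x : Hm A M p) :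
    hm A (∑ j ∈ s, φ j) p x = ∑ j ∈ s, hm A (φ j) p x := by
  classical
  induction s using Finset.induction_on with
  | empty => rw [Finset.sum_empty, Finset.sum_empty, hm_zero]
  | insert j s hj ih => rw [Finset.sum_insert hj, Finset.sum_insert hj, hm_add, ih]

lemma exists_of_hm_g_eq_zero {S : ShortComplex X.Modules} (hS : S.ShortExact) (p : ℕ) (x : Hm A S.X₂ p)
    (hx : hm A S.g p x = 0) : ∃ y, hm A S.f p y = x :=
  exists_of_hmap_g_eq_zero (A := A) hS x hx

/-- Lifting along the last map of a sequence, through a map of sequences. -/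
lemma exists_lift {S S' : ShortComplex X.Modules} (hS : S.ShortExact) (hS' : S'.ShortExact) (φ : S ⟶ S')
    (p : ℕ) (hk : LinearMap.ker (hm A S.f (p + 1)) ≤ LinearMap.ker (hm A φ.τ₁ (p + 1))) (s : Hm A S.X₃ p) :
    ∃ y : Hm A S'.X₂ p, hm A S'.g p y = hm A φ.τ₃ p s :=
  exists_of_hdelta_eq_zero (A := A) hS' _
    ((hdelta_naturality (A := A) hS hS' φ s).symm.trans (hk (x := hdelta hS p s) (hmap_f_hdelta hS s)))

lemma finite_iff (M : X.Modules) (p : ℕ) : Module.Finite A (Hm A M p) ↔ Module.Finite A (Coh.HH X M p) :=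
  Iff.rfl

/-- Degree zero classes as sections. -/
noncomputable def sec₀ (M : X.Modules) : Hm A M 0 ≃+ Γ(M, ⊤) := secEquiv₀ M

lemma sec₀_hm {M N : X.Modules} (φ : M ⟶ N) (x : Hm A M 0) : sec₀ N (hm A φ 0 x) = φ.app ⊤ (sec₀ M x) :=
  secEquiv₀_hmap φ x

/-- The formal properties of cohomology in low degrees. -/
structure HData (A : Type u) [CommRing A] (X : Scheme.{u}) [X.Over (Spec (CommRingCat.of A))] where
  /-- the groups -/
  H : X.Modules → ℕ → ModuleCat.{u} A
  /-- the maps -/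
  map : ∀ {M N : X.Modules}, (M ⟶ N) → ∀ p, H M p →ₗ[A] H N p
  map_comp : ∀ {M N P : X.Modules} (φ : M ⟶ N) (ψ : N ⟶ P) (p : ℕ) (x : H M p),
    map ψ p (map φ p x) = map (φ ≫ ψ) p x
  map_id : ∀ (M : X.Modules) (p : ℕ) (x : H M p), map (𝟙 M) p x = x
  map_zero : ∀ (M N : X.Modules) (p : ℕ) (x : H M p), map (0 : M ⟶ N) p x = 0
  map_sum : ∀ {M N : X.Modules} {J : Type} (s : Finset J) (φ : J → (M ⟶ N)) (p : ℕ) (x : H M p),
    map (∑ j ∈ s, φ j) p x = ∑ j ∈ s, map (φ j) p x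
  map_add : ∀ {M N : X.Modules} (φ ψ : M ⟶ N) (p : ℕ) (x : H M p),
    map (φ + ψ) p x = map φ p x + map ψ p x
  map_smulMod : ∀ (M : X.Modules) (a : A) (p : ℕ) (x : H M p), map (Formal.smulMod A M a) p x = a • x
  exact : ∀ {S : ShortComplex X.Modules}, S.ShortExact → ∀ (p : ℕ) (x : H S.X₂ p),
    map S.g p x = 0 → ∃ y, map S.f p y = x
  lift : ∀ {S S' : ShortComplex X.Modules}, S.ShortExact → S'.ShortExact → ∀ (φ : S ⟶ S') (p : ℕ),
    LinearMap.ker (map S.f (p + 1)) ≤ LinearMap.ker (map φ.τ₁ (p + 1)) → ∀ s : H S.X₃ p,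
    ∃ y : H S'.X₂ p, map S'.g p y = map φ.τ₃ p s

variable (A X) in
/-- Sheaf cohomology has them. -/
noncomputable def cohData : HData A X where
  H := Hm A
  map := hm A
  map_comp := hm_comp
  map_id := hm_id
  map_zero := hm_zero
  map_sum s φ := hm_sum s φ
  map_add := hm_add
  map_smulMod := hm_smulMod
  exact := exists_of_hm_g_eq_zero
  lift := exists_lift

end Groth.MiscGeom.AlgzHMod
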