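import Groth.Agent.CohC3.GrSeq
import Groth.Agent.CohC3.FullyFaithful
import Groth.Agent.MiscGeom.AlgzCanon
import Groth.Agent.S9534
import Groth.Agent.MiscGeom.AlgzGrAlg
import Groth.Agent.MiscGeom.AlgzHMod

/-! Canonical extension from finitely generated cohomology of the graded pieces of a formal module. -/

set_option autoImplicit false

universe u

open CategoryTheory CategoryTheory.Limits AlgebraicGeometry Opposite TopologicalSpace

namespace Groth.MiscGeom.AlgzGr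

open Groth.CohC3 AlgzHMod

variable {A : Type u} [CommRing A] {X : Scheme.{u}} [X.Over (Spec (CommRingCat.of A))]
  {I : Ideal A} {G : ℕᵒᵖ ⥤ X.Modules} (hG : IsSys I G)

/-- The sequence `0 → kernel → G_j → G_i → 0`. -/
noncomputable abbrev seq (G : ℕᵒᵖ ⥤ X.Modules) {i j : ℕ} (h : i ≤ j) : ShortComplex X.Modules :=
  ShortComplex.mk (kernel.ι (sysMap G h)) (sysMap G h) (kernel.condition _)

include hG in
lemma seq_shortExact {i j : ℕ} (h : i ≤ j) : (seq G h).ShortExact where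
  exact := ShortComplex.exact_of_f_is_kernel _ (kernelIsKernel (sysMap G h))
  mono_f := equalizer.ι_mono (f := sysMap G h) (g := 0)
  epi_g := (hG.isQuot h).epi

/-- The inclusion of a graded piece into a larger kernel. -/
noncomputable def incl (G : ℕᵒᵖ ⥤ X.Modules) {k m : ℕ} (h : k ≤ m) :
    grObj G m ⟶ kernel (sysMap G (h.trans (Nat.le_succ m))) :=
  kernel.lift _ (kernel.ι (sysMap G (Nat.le_succ m)))
    (by rw [← sysMap_comp G h (Nat.le_succ m), kernel.condition_assoc, zero_comp])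

omit [X.Over (Spec (CommRingCat.of A))] in
@[reassoc]
lemma incl_ι (G : ℕᵒᵖ ⥤ X.Modules) {k m : ℕ} (h : k ≤ m) :
    incl G h ≫ kernel.ι (sysMap G (h.trans (Nat.le_succ m))) = kernel.ι (sysMap G (Nat.le_succ m)) :=
  kernel.lift_ι _ _ _

/-- The map of sequences. -/
noncomputable def seqHom (G : ℕᵒᵖ ⥤ X.Modules) {k m : ℕ} (h : k ≤ m) :
    seq G (Nat.le_succ m) ⟶ seq G (h.trans (Nat.le_succ m)) where
  τ₁ := incl G h
  τ₂ := 𝟙 _
  τ₃ := sysMap G h
  comm₁₂ := (incl_ι G h).trans (Category.comp_id _).symm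
  comm₂₃ := (Category.id_comp _).trans (sysMap_comp G h (Nat.le_succ m)).symm

lemma raiseSys_sys {a : A} (ha : a ∈ I) {k j : ℕ} (h : k ≤ j) :
    raiseSys hG ha j ≫ sysMap G (Nat.succ_le_succ h) = sysMap G h ≫ raiseSys hG ha k :=
  (hG.isQuot_succ j).hom_ext (by
    rw [sysMap_raiseSys_assoc, ← smulMod_naturality, ← Category.assoc (sysMap G (Nat.le_succ j)), sysMap_comp,
      ← sysMap_comp G (Nat.le_succ k) (Nat.succ_le_succ h), Category.assoc, sysMap_raiseSys])

/-! ### Multiplication from the first term into the graded pieces -/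

include hG in
lemma exists_mu {n : ℕ} {a : A} (ha : a ∈ I ^ (n + 1)) :
    ∃ ψ : G.obj (op 0) ⟶ grObj G n,
      sysMap G (Nat.zero_le (n + 1)) ≫ ψ ≫ kernel.ι (sysMap G (Nat.le_succ n)) = Formal.smulMod A _ a := by
  have hq := hG.isQuot (Nat.zero_le (n + 1))
  obtain ⟨ψ, hψ⟩ := hq.desc (Formal.smulMod A _ a) (mul_le_annHom_smulMod (hG.killed (n + 1))
    fun b hb => by rw [pow_succ I (n + 1)]; exact Ideal.mul_mem_mul ha (by simpa using hb))
  have h0 : ψ ≫ sysMap G (Nat.le_succ n) = 0 := hq.hom_ext (by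
    rw [← Category.assoc, hψ, ← smulMod_naturality, show Formal.smulMod A (G.obj (op n)) a = 0 from
      hG.killed n a ha, comp_zero, comp_zero])
  exact ⟨kernel.lift _ ψ h0, by rw [kernel.lift_ι, hψ]⟩

/-- Multiplication by an element of `I^(n+1)`, from the first term to the `n`-th graded piece. -/
noncomputable def mu {n : ℕ} {a : A} (ha : a ∈ I ^ (n + 1)) : G.obj (op 0) ⟶ grObj G n :=
  (exists_mu hG ha).choose

lemma mu_spec {n : ℕ} {a : A} (ha : a ∈ I ^ (n + 1)) :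
    sysMap G (Nat.zero_le (n + 1)) ≫ mu hG ha ≫ kernel.ι (sysMap G (Nat.le_succ n)) =
      Formal.smulMod A _ a :=
  (exists_mu hG ha).choose_spec

include hG in
lemma mu_ext {n : ℕ} {φ ψ : G.obj (op 0) ⟶ grObj G n}
    (h : sysMap G (Nat.zero_le (n + 1)) ≫ φ ≫ kernel.ι (sysMap G (Nat.le_succ n)) =
      sysMap G (Nat.zero_le (n + 1)) ≫ ψ ≫ kernel.ι (sysMap G (Nat.le_succ n))) : φ = ψ :=
  (cancel_mono (kernel.ι (sysMap G (Nat.le_succ n)))).1 ((hG.isQuot (Nat.zero_le (n + 1))).hom_ext h)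

lemma mu_congr {n : ℕ} {a b : A} (ha : a ∈ I ^ (n + 1)) (e : a = b) :
    mu hG ha = mu hG (e ▸ ha : b ∈ I ^ (n + 1)) := by subst e; rfl

lemma mu_add {n : ℕ} {a b : A} (ha : a ∈ I ^ (n + 1)) (hb : b ∈ I ^ (n + 1)) :
    mu hG (add_mem ha hb) = mu hG ha + mu hG hb :=
  mu_ext hG (by rw [mu_spec, Preadditive.add_comp, Preadditive.comp_add, mu_spec, mu_spec, smulMod_add])

lemma mu_zero {n : ℕ} : mu hG (zero_mem (I ^ (n + 1))) = 0 :=
  mu_ext hG (by rw [mu_spec, zero_comp, comp_zero, smulMod_zero])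

lemma mu_grOp {n : ℕ} {a c : A} (ha : a ∈ I) (hc : c ∈ I ^ (n + 1)) (hac : a * c ∈ I ^ (n + 1 + 1)) :
    mu hG hac = mu hG hc ≫ grOp hG ha n := by
  refine mu_ext hG ?_
  rw [mu_spec, Category.assoc, grOp_ι,
    ← sysMap_comp G (Nat.zero_le (n + 1)) (Nat.le_succ (n + 1)), Category.assoc,
    reassoc_of% (mu_spec hG hc), ← Category.assoc, smulMod_naturality, Category.assoc,
    sysMap_raiseSys, ← smulMod_mul]

variable (D : HData A X)
variable {r : ℕ} (t : Fin r → A) (ht : ∀ i, t i ∈ I)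

include hG in
lemma range_mu_le (hspan : Ideal.span (Set.range t) = I) {n : ℕ} {a : A} (ha : a ∈ I ^ (n + 1 + 1))
    (p : ℕ) :
    LinearMap.range (D.map (mu hG ha) p) ≤ ⨆ i, LinearMap.range (D.map (grOp hG (ht i) n) p) := by
  rintro _ ⟨x, rfl⟩
  set W := ⨆ i, LinearMap.range (D.map (grOp hG (ht i) n) p)
  have ha' : a ∈ I * I ^ (n + 1) := by rwa [← pow_succ']
  suffices ∀ b ∈ I * I ^ (n + 1), ∃ hb : b ∈ I ^ (n + 1 + 1), D.map (mu hG hb) p x ∈ W from
    (this a ha').choose_spec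
  intro b hb
  refine Submodule.mul_induction_on hb (fun s hs c hc => ?_) fun b₁ b₂ ⟨h₁, e₁⟩ ⟨h₂, e₂⟩ =>
    ⟨add_mem h₁ h₂, by rw [mu_add hG h₁ h₂, D.map_add]; exact add_mem e₁ e₂⟩
  rw [← hspan] at hs
  induction hs using Submodule.span_induction generalizing c with
  | zero =>
    refine ⟨by simp, ?_⟩
    rw [mu_congr hG _ (zero_mul c), mu_zero, D.map_zero]
    exact zero_mem _
  | add s₁ s₂ _ _ h₁ h₂ =>
    obtain ⟨g₁, e₁⟩ := h₁ c hc
    obtain ⟨g₂, e₂⟩ := h₂ c hc
    refine ⟨by rw [add_mul]; exact add_mem g₁ g₂, ?_⟩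
    rw [mu_congr hG _ (add_mul s₁ s₂ c), mu_add hG g₁ g₂, D.map_add]
    exact add_mem e₁ e₂
  | smul e s _ h =>
    obtain ⟨g, eg⟩ := h (e * c) (Ideal.mul_mem_left _ _ hc)
    have he : s * (e * c) = e • s * c := by rw [smul_eq_mul]; ring
    exact ⟨he ▸ g, by rw [← mu_congr hG g he]; exact eg⟩
  | mem s hs =>
    obtain ⟨i, rfl⟩ := hs
    have hmem : t i * c ∈ I ^ (n + 1 + 1) := by rw [pow_succ' I (n + 1)]; exact Ideal.mul_mem_mul (ht i) hc
    refine ⟨hmem, ?_⟩
    rw [mu_grOp hG (ht i) hc hmem, ← D.map_comp]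
    exact Submodule.mem_iSup_of_mem i ⟨_, rfl⟩

/-- The graded pieces are sums of copies of the first term, by multiplication. -/
def IsFree : Prop :=
  ∀ n, ∃ (J : Type) (_ : Fintype J) (a : J → A) (ha : ∀ j, a j ∈ I ^ (n + 1)),
    IsIso (biproduct.desc fun j => mu hG (ha j))

variable {hG}

lemma IsFree.range_eq (h : IsFree hG) (n p : ℕ) :
    ∃ (J : Type) (_ : Fintype J) (a : J → A) (ha : ∀ j, a j ∈ I ^ (n + 1)),
      (⊤ : Submodule A (D.H (grObj G n) p)) ≤ ⨆ j, LinearMap.range (D.map (mu hG (ha j)) p) := by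
  classical
  obtain ⟨J, _, a, ha, _⟩ := h n
  refine ⟨J, inferInstance, a, ha, fun y _ => ?_⟩
  let d := biproduct.desc fun j => mu hG (ha j)
  have e : 𝟙 (grObj G n) = ∑ j, (inv d ≫ biproduct.π (fun _ : J => G.obj (op 0)) j) ≫ mu hG (ha j) := by
    rw [← IsIso.inv_hom_id d]
    conv_lhs => arg 2; rw [show d = ∑ j, biproduct.π (fun _ : J => G.obj (op 0)) j ≫ mu hG (ha j) from
      biproduct.desc_eq]
    rw [Preadditive.comp_sum]
    simp only [Category.assoc]
  rw [← D.map_id (A := A) (grObj G n) p y, e, D.map_sum]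
  refine Submodule.sum_mem _ fun j _ => ?_
  rw [← D.map_comp]
  exact Submodule.mem_iSup_of_mem j ⟨_, rfl⟩

lemma IsFree.finite (h : IsFree hG) (p : ℕ) (h0 : Module.Finite A (D.H (G.obj (op 0)) p)) (n : ℕ) :
    Module.Finite A (D.H (grObj G n) p) := by
  obtain ⟨J, _, a, ha, hle⟩ := h.range_eq D n p
  refine ⟨?_⟩
  rw [← top_le_iff.1 hle]
  exact Submodule.fg_iSup _ fun j => by rw [LinearMap.range_eq_map]; exact h0.fg_top.map _

lemma IsFree.gen (h : IsFree hG) (hspan : Ideal.span (Set.range t) = I) (p n : ℕ) :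
    (⊤ : Submodule A (D.H (grObj G (n + 1)) p)) ≤
      ⨆ i, LinearMap.range (D.map (grOp hG (ht i) n) p) := by
  obtain ⟨J, _, a, ha, hle⟩ := h.range_eq D (n + 1) p
  exact hle.trans (iSup_le fun j => range_mu_le hG D t ht hspan (ha j) p)

/-! ### Consequences of generation -/

section Main

include hG in
lemma exists_factor_zero (i : Fin r) (m : ℕ) : ∃ l,
    grOp hG (ht i) m ≫ incl G (Nat.zero_le (m + 1)) = kernel.ι (sysMap G (Nat.le_succ m)) ≫ l := by
  refine ⟨kernel.lift _ (raiseSys hG (ht i) (m + 1)) ?_, ?_⟩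
  · rw [← sysMap_comp G (Nat.zero_le (m + 1)) (Nat.le_succ (m + 1)), raiseSys_sysMap_assoc,
      ← smulMod_naturality, show Formal.smulMod A (G.obj (op 0)) (t i) = 0 from
        hG.killed 0 (t i) (by rw [zero_add, pow_one]; exact ht i), comp_zero]
  · apply (cancel_mono (kernel.ι _)).1
    rw [Category.assoc, Category.assoc, incl_ι, kernel.lift_ι, grOp_ι]

include hG in
lemma exists_factor_succ (i : Fin r) {m k : ℕ} (h : k ≤ m) : ∃ l,
    grOp hG (ht i) m ≫ incl G (Nat.succ_le_succ h) = incl G h ≫ l := by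
  refine ⟨kernel.lift _ (kernel.ι _ ≫ raiseSys hG (ht i) (m + 1)) ?_, ?_⟩
  · rw [Category.assoc, raiseSys_sys hG (ht i) (h.trans (Nat.le_succ m)), kernel.condition_assoc, zero_comp]
  · apply (cancel_mono (kernel.ι _)).1
    rw [Category.assoc, Category.assoc, incl_ι, kernel.lift_ι, incl_ι_assoc, grOp_ι]

lemma hm_comm {a b : A} (ha : a ∈ I) (hb : b ∈ I) (p n : ℕ) (x : D.H (grObj G n) p) :
    D.map (grOp hG ha (n + 1)) p (D.map (grOp hG hb n) p x) =
      D.map (grOp hG hb (n + 1)) p (D.map (grOp hG ha n) p x) := by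
  rw [D.map_comp, D.map_comp]
  exact congrArg (fun φ => D.map φ p x) ((cancel_mono (kernel.ι _)).1 (by
    simp only [Category.assoc, grOp_ι, grOp_ι_assoc, raiseSys_comm hG hb ha]))

variable [IsNoetherianRing A] (hfin : ∀ p ≤ 1, ∀ n, Module.Finite A (D.H (grObj G n) p))
  (hgen : ∀ p ≤ 1, ∀ n, (⊤ : Submodule A (D.H (grObj G (n + 1)) p)) ≤
      ⨆ i, LinearMap.range (D.map (grOp hG (ht i) n) p))

include hfin hgen in
/-- Obstructions vanish after a bounded shift. -/
theorem exists_shift : ∃ c : ℕ, ∀ (k m : ℕ) (h : k ≤ m), k + c ≤ m →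
    ∀ s : D.H (G.obj (op m)) 0, ∃ y : D.H (G.obj (op (m + 1))) 0,
      D.map (sysMap G (h.trans (Nat.le_succ m))) 0 y = D.map (sysMap G h) 0 s := by
  haveI := hfin 1 le_rfl
  obtain ⟨c, hc⟩ := exists_kill (N := fun n => (D.H (grObj G n) 1 : Type u))
    (fun i n => D.map (grOp hG (ht i) n) 1) (fun i j n => hm_comm D (ht i) (ht j) 1 n) (hgen 1 le_rfl)
    (fun n => LinearMap.ker (D.map (kernel.ι (sysMap G (Nat.le_succ n))) 1))
    (fun i n x hx => by
      rw [LinearMap.mem_ker] at hx ⊢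
      rw [D.map_comp, grOp_ι, ← D.map_comp, hx, map_zero])
    (fun m k h => LinearMap.ker (D.map (incl G h) 1))
    (fun i m x hx => by
      obtain ⟨l, e⟩ := exists_factor_zero (hG := hG) t ht i m
      rw [LinearMap.mem_ker] at hx ⊢
      rw [D.map_comp, e, ← D.map_comp, hx, map_zero])
    (fun i m k h x hx => by
      obtain ⟨l, e⟩ := exists_factor_succ (hG := hG) t ht i h
      rw [LinearMap.mem_ker] at hx ⊢
      rw [D.map_comp, e, ← D.map_comp, hx, map_zero])
  exact ⟨c, fun k m h hk s => D.lift (seq_shortExact hG (Nat.le_succ m))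
    (seq_shortExact hG (h.trans (Nat.le_succ m))) (seqHom G h) 0 (hc m k h hk) s⟩

/-- The tower of global sections. -/
noncomputable abbrev trH {A : Type u} [CommRing A] {X : Scheme.{u}} [X.Over (Spec (CommRingCat.of A))] (D : HData A X)
    (G : ℕᵒᵖ ⥤ X.Modules) (n : ℕ) : D.H (G.obj (op (n + 1))) 0 →ₗ[A] D.H (G.obj (op n)) 0 :=
  D.map (sysMap G (Nat.le_succ n)) 0

/-- Compatible families of global sections. -/
noncomputable abbrev Thr {A : Type u} [CommRing A] {X : Scheme.{u}} [X.Over (Spec (CommRingCat.of A))] (D : HData A X)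
    (G : ℕᵒᵖ ⥤ X.Modules) : Submodule A (∀ n, (D.H (G.obj (op n)) 0 : Type u)) :=
  thread (H := fun n => (D.H (G.obj (op n)) 0 : Type u)) (trH D G)

/-- The projection. -/
noncomputable abbrev pr {A : Type u} [CommRing A] {X : Scheme.{u}} [X.Over (Spec (CommRingCat.of A))] (D : HData A X)
    (G : ℕᵒᵖ ⥤ X.Modules) (n : ℕ) : Thr D G →ₗ[A] D.H (G.obj (op n)) 0 :=
  proj (H := fun n => (D.H (G.obj (op n)) 0 : Type u)) (trH D G) n

omit [IsNoetherianRing A] in
lemma thread_tr (y : Thr D G) {i j : ℕ} (h : i ≤ j) :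
    D.map (sysMap G h) 0 (pr D G j y) = pr D G i y := by
  induction j, h using Nat.le_induction with
  | base => rw [sysMap_refl, D.map_id]
  | succ j h ih =>
    rw [← ih, ← sysMap_comp G h (Nat.le_succ j), ← D.map_comp]
    exact congrArg _ (tr_proj (H := fun n => (D.H (G.obj (op n)) 0 : Type u)) (trH D G) y j)

include hfin hgen in
/-- The kernels of the projections form a good filtration. -/
theorem exists_ker_le_hm : ∃ c : ℕ, ∀ k : ℕ,
    LinearMap.ker (pr D G (c + k)) ≤ I ^ k • (⊤ : Submodule A (Thr D G)) := by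
  haveI := hfin 0 zero_le_one
  exact exists_ker_le (N := fun n => (D.H (grObj G n) 0 : Type u))
    (H := fun n => (D.H (G.obj (op n)) 0 : Type u))
    (fun i n => D.map (grOp hG (ht i) n) 0) (fun i j n => hm_comm D (ht i) (ht j) 0 n)
    (trH D G) (fun n => D.map (kernel.ι (sysMap G (Nat.le_succ n))) 0)
    (fun n x => by rw [D.map_comp, kernel.condition, D.map_zero])
    (fun n y hy => D.exact (seq_shortExact hG (Nat.le_succ n)) 0 y hy)
    t I ht (fun i n => D.map (raiseSys hG (ht i) n) 0)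
    (fun i n y => by rw [D.map_comp, sysMap_raiseSys, D.map_smulMod])
    (fun i n x => by rw [D.map_comp, grOp_ι, ← D.map_comp]) (hgen 0 zero_le_one)

include hG hfin in
theorem finite_h0 (h0 : Module.Finite A (D.H (G.obj (op 0)) 0)) (n : ℕ) :
    Module.Finite A (D.H (G.obj (op n)) 0) := by
  haveI := hfin 0 zero_le_one
  exact finite_tower (N := fun n => (D.H (grObj G n) 0 : Type u))
    (H := fun n => (D.H (G.obj (op n)) 0 : Type u)) (trH D G)
    (fun n => D.map (kernel.ι (sysMap G (Nat.le_succ n))) 0)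
    (fun n y hy => D.exact (seq_shortExact hG (Nat.le_succ n)) 0 y hy)
    (fun n x => by rw [D.map_comp, kernel.condition, D.map_zero]) h0 n

end Main

/-! ### Open subschemes of the spectrum -/

section Open

variable [IsNoetherianRing A] {𝔞 : Ideal A}

omit [IsNoetherianRing A] in
lemma exists_sectEquiv (F : ℕᵒᵖ ⥤ (↑(LocCoh.puncturedOpen A 𝔞) : Scheme.{u}).Modules) :
    ∃ θ : ∀ n, Hm A (F.obj (op n)) 0 →ₗ[A]
        ((Algz.sectMod A (LocCoh.puncturedOpen A 𝔞) F).obj (op n) : ModuleCat.{u} A),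
      (∀ n, Function.Bijective (θ n)) ∧ ∀ i j (h : i ≤ j) x,
        (ARSys.tr (Algz.sectMod A (LocCoh.puncturedOpen A 𝔞) F) h).hom (θ j x) =
          θ i (hm A (sysMap F h) 0 x) := by
  letI : (Spec (CommRingCat.of A)).Over (Spec (CommRingCat.of A)) := ⟨𝟙 _⟩
  have hι : (LocCoh.puncturedOpen A 𝔞).ι ≫ ((Spec (CommRingCat.of A)) ↘ Spec (CommRingCat.of A)) =
      (↑(LocCoh.puncturedOpen A 𝔞) : Scheme.{u}) ↘ Spec (CommRingCat.of A) := Category.comp_id _
  refine ⟨fun n =>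
    { toFun := fun x => sec₀ (F.obj (op n)) x
      map_add' := fun x y => map_add (sec₀ (F.obj (op n))) x y
      map_smul' := fun a x => ?_ }, fun n => (sec₀ (F.obj (op n))).bijective,
    fun i j h x => (sec₀_hm (A := A) (sysMap F h) x).symm⟩
  rw [← hm_smulMod, sec₀_hm]
  exact (congrArg (fun φ => AlgzSheaf.gMap φ (show AlgzSheaf.ΓA.obj ((Scheme.Modules.pushforward (LocCoh.puncturedOpen A 𝔞).ι).obj (F.obj (op n))) from sec₀ (F.obj (op n)) x))
    (Groth.CohC3.pushforward_map_smulMod hι (F.obj (op n)) a)).trans (AlgzSheaf.gMap_smulMod _ a _)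

lemma exists_hData (F : ℕᵒᵖ ⥤ (↑(LocCoh.puncturedOpen A 𝔞) : Scheme.{u}).Modules)
    (h0 : Module.Finite A (Coh.HH _ (F.obj (op 0)) 0))
    (h1 : Module.Finite A (Coh.HH _ (F.obj (op 0)) 1)) :
    ∃ (D : HData A (↑(LocCoh.puncturedOpen A 𝔞) : Scheme.{u})) (θ : ∀ n, D.H (F.obj (op n)) 0 →ₗ[A]
        ((Algz.sectMod A (LocCoh.puncturedOpen A 𝔞) F).obj (op n) : ModuleCat.{u} A)),
      (∀ p ≤ 1, Module.Finite A (D.H (F.obj (op 0)) p)) ∧
      (∀ n, Function.Bijective (θ n)) ∧ ∀ i j (h : i ≤ j) x,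
        (ARSys.tr (Algz.sectMod A (LocCoh.puncturedOpen A 𝔞) F) h).hom (θ j x) =
          θ i (D.map (sysMap F h) 0 x) := by
  obtain ⟨θ, hθ, hθt⟩ := exists_sectEquiv F
  refine ⟨cohData A _, θ, fun p hp => ?_, hθ, hθt⟩
  interval_cases p
  · exact (AlgzHMod.finite_iff _ _).2 h0
  · exact (AlgzHMod.finite_iff _ _).2 h1

omit [IsNoetherianRing A] in
lemma ker_le_of_thread {Y : Scheme.{u}} [Y.Over (Spec (CommRingCat.of A))] {F : ℕᵒᵖ ⥤ Y.Modules}
    (D : HData A Y) (L : ℕᵒᵖ ⥤ ModuleCat.{u} A) (e : ∀ n, D.H (F.obj (op n)) 0 ≃ₗ[A] L.obj (op n))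
    (he : ∀ i j (h : i ≤ j) z, (ARSys.tr L h).hom (e j z) = e i (D.map (sysMap F h) 0 z)) (m : ℕ)
    (J : Ideal A) (hk : LinearMap.ker (pr D F m) ≤ J • (⊤ : Submodule A (Thr D F))) :
    LinearMap.ker (limit.π L (op m)).hom ≤ J • (⊤ : Submodule A ↑(limit L)) := by
  intro x hx
  let y : Thr D F := ⟨fun n => (e n).symm ((limit.π L (op n)).hom x), fun n => by
    apply (e n).injective
    refine (he n (n + 1) (Nat.le_succ n) _).symm.trans ?_
    refine (congrArg (ARSys.tr L (Nat.le_succ n)).hom ((e (n + 1)).apply_symm_apply _)).trans ?_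
    exact (AlgzSys.limit_π_tr (Nat.le_succ n) x).trans ((e n).apply_symm_apply _).symm⟩
  let cn : Cone L := ⟨ModuleCat.of A (Thr D F),
    { app := fun n => ModuleCat.ofHom ((e n.unop).toLinearMap.comp (pr D F n.unop))
      naturality := by
        rintro ⟨j⟩ ⟨i⟩ g
        ext z
        exact ((he i j (leOfHom g.unop) _).trans (congrArg (e i) (thread_tr D z _))).symm }⟩
  have h2 : (limit.lift L cn).hom y = x := by
    refine Concrete.limit_ext L _ _ fun n => ?_
    obtain ⟨n⟩ := n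
    refine (LinearMap.congr_fun (congrArg ModuleCat.Hom.hom (limit.lift_π cn (op n))) y).trans ?_
    exact (e n).apply_symm_apply _
  rw [← h2]
  have hy : y ∈ LinearMap.ker (pr D F m) := by
    rw [LinearMap.mem_ker]
    show (e m).symm ((limit.π L (op m)).hom x) = 0
    rw [show (limit.π L (op m)).hom x = 0 from LinearMap.mem_ker.1 hx, map_zero]
  have := Submodule.mem_map_of_mem (f := (limit.lift L cn).hom) (hk hy)
  rw [Submodule.map_smul''] at this
  exact Submodule.smul_mono le_rfl le_top this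

theorem canonicallyExtends_aux {I : Ideal A} (hI𝔞 : I ≤ 𝔞)
    {F : ℕᵒᵖ ⥤ (↑(LocCoh.puncturedOpen A 𝔞) : Scheme.{u}).Modules} (hF : Formal.IsCohFormal I F)
    (hfree : IsFree (isSys_of_isCohFormal hF)) (D : HData A (↑(LocCoh.puncturedOpen A 𝔞) : Scheme.{u}))
    (θ : ∀ n, D.H (F.obj (op n)) 0 →ₗ[A]
        ((Algz.sectMod A (LocCoh.puncturedOpen A 𝔞) F).obj (op n) : ModuleCat.{u} A))
    (hfin0 : ∀ p ≤ 1, Module.Finite A (D.H (F.obj (op 0)) p))
    (hθ : ∀ n, Function.Bijective (θ n))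
    (hθt : ∀ i j (h : i ≤ j) x, (ARSys.tr (Algz.sectMod A (LocCoh.puncturedOpen A 𝔞) F) h).hom (θ j x) =
          θ i (D.map (sysMap F h) 0 x)) :
    Algz.CanonicallyExtends A I (LocCoh.puncturedOpen A 𝔞) F := by
  obtain ⟨r, t, hspan⟩ := Submodule.fg_iff_exists_fin_generating_family.1 (IsNoetherian.noetherian I)
  have ht : ∀ i, t i ∈ I := fun i => hspan ▸ Submodule.subset_span ⟨i, rfl⟩
  have hfin : ∀ p ≤ 1, ∀ n, Module.Finite A (D.H (grObj F n) p) := fun p hp =>
    hfree.finite D p (hfin0 p hp)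
  have hgen := fun p (_ : p ≤ 1) n => hfree.gen D t ht hspan p n
  obtain ⟨c, hc⟩ := exists_shift D t ht hfin hgen
  obtain ⟨c', hc'⟩ := exists_ker_le_hm D t ht hfin hgen
  let L := Algz.sectMod A (LocCoh.puncturedOpen A 𝔞) F
  let e : ∀ n, D.H (F.obj (op n)) 0 ≃ₗ[A] (L.obj (op n) : ModuleCat.{u} A) :=
    fun n => LinearEquiv.ofBijective (θ n) (hθ n)
  have he : ∀ i j (h : i ≤ j) z, (ARSys.tr L h).hom (e j z) = e i (D.map (sysMap F h) 0 z) := hθt
  refine Groth.Agent.S9534.result A I 𝔞 hI𝔞 F hF (fun n => ⟨c, fun s hs => ?_⟩) (fun k => ⟨c' + k, ?_⟩)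
    (fun n => ?_)
  · refine AlgzSys.imageSubobject_eq_of_range_eq _ _ (le_antisymm ?_ ?_)
    · rintro _ ⟨x, rfl⟩
      exact ⟨(ARSys.tr L (by omega : n + c ≤ n + s)).hom x, Groth.Agent.S9551.Aux.tr_apply L _ _ x⟩
    · rintro _ ⟨x, rfl⟩
      obtain ⟨x, rfl⟩ := (e _).surjective x
      have : ∀ s, c ≤ s → ∃ y : D.H (F.obj (op (n + s))) 0,
          D.map (sysMap F (Nat.le_add_right n s)) 0 y = D.map (sysMap F (Nat.le_add_right n c)) 0 x := by
        intro s hs
        induction s, hs using Nat.le_induction with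
        | base => exact ⟨x, rfl⟩
        | succ s hs ih =>
          obtain ⟨y, hy⟩ := ih
          obtain ⟨y', hy'⟩ := hc n (n + s) (Nat.le_add_right n s) (by omega) y
          exact ⟨y', hy'.trans hy⟩
      obtain ⟨y, hy⟩ := this s hs
      exact ⟨e _ y, (he _ _ _ y).trans ((congrArg (e n) hy).trans (he _ _ _ x).symm)⟩
  · exact ker_le_of_thread D L e he (c' + k) _ (hc' k)
  · have := finite_h0 (hG := isSys_of_isCohFormal hF) D hfin (hfin0 0 zero_le_one) n
    have : Module.Finite A (L.obj (op n) : ModuleCat.{u} A) := Module.Finite.equiv (e n)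
    infer_instance

/-- The criterion. -/
theorem canonicallyExtends {I : Ideal A} (hI𝔞 : I ≤ 𝔞)
    {F : ℕᵒᵖ ⥤ (↑(LocCoh.puncturedOpen A 𝔞) : Scheme.{u}).Modules} (hF : Formal.IsCohFormal I F)
    (hfree : IsFree (isSys_of_isCohFormal hF))
    (h0 : Module.Finite A (Coh.HH _ (F.obj (op 0)) 0))
    (h1 : Module.Finite A (Coh.HH _ (F.obj (op 0)) 1)) :
    Algz.CanonicallyExtends A I (LocCoh.puncturedOpen A 𝔞) F := by
  obtain ⟨D, θ, hfin0, hθ, hθt⟩ := exists_hData F h0 h1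
  exact canonicallyExtends_aux hI𝔞 hF hfree D θ hfin0 hθ hθt

end Open

end Groth.MiscGeom.AlgzGr
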