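import Groth.Agent.MiscGeom.AlgzPull
import Groth.Agent.CohC3.Completion

/-! Maps with kernel and cokernel killed by a power of `I`, under pullback. -/

set_option autoImplicit false

universe u

open CategoryTheory CategoryTheory.Limits AlgebraicGeometry Opposite

namespace Groth.MiscGeom.AlgzKill

open Groth.CohC3

variable {A A' : Type u} [CommRing A] [CommRing A'] (φ : A →+* A')

theorem kerCokerKilled_pullback {X Y : Scheme.{u}} [Y.Over (Spec (CommRingCat.of A))]
    [oA' : X.Over (Spec (CommRingCat.of A'))] (g : X ⟶ Y)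
    (hg : g ≫ (Y ↘ Spec (CommRingCat.of A)) = (X ↘ Spec (CommRingCat.of A')) ≫ Spec.map (CommRingCat.ofHom φ))
    {I : Ideal A} {F G : ℕᵒᵖ ⥤ Y.Modules} (α : F ⟶ G) (hα : Formal2.KerCokerKilledByIPow I α) :
    Formal2.KerCokerKilledByIPow (I.map φ) (Functor.whiskerRight α (Scheme.Modules.pullback g)) := by
  letI : X.Over (Spec (CommRingCat.of A)) := ⟨g ≫ (Y ↘ Spec (CommRingCat.of A))⟩
  have hsm : ∀ (M : X.Modules) (a : A), Formal.smulMod A M a = Formal.smulMod A' M (φ a) := fun M a => by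
    unfold Formal.smulMod
    congr 1
    exact (congrArg (fun q => Coh.toGlobal q a) hg).trans (AlgzPull.toGlobal_comp φ _ a)
  let P := Scheme.Modules.pullback g
  have adj : P ⊣ Scheme.Modules.pushforward g := Scheme.Modules.pullbackPushforwardAdjunction g
  obtain ⟨t, ht⟩ := hα
  refine ⟨2 * t + 1, fun n => ?_⟩
  let f := α.app (op n)
  obtain ⟨hk, hc⟩ := ht n
  -- kills both
  have key : ∀ b ∈ I ^ (t + 1), ∀ c ∈ I ^ (t + 1), ∃ v : P.obj (G.obj (op n)) ⟶ P.obj (F.obj (op n)),
      P.map f ≫ v = Formal.smulMod A' _ (φ (b * c)) ∧ v ≫ P.map f = Formal.smulMod A' _ (φ (b * c)) := by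
    intro b hb c hc'
    have hb' : b ∈ annHom (kernel.ι f) := by
      rw [mem_annHom, hk b hb, zero_comp]
    have hc'' : c ∈ annHom (cokernel.π f) := by
      rw [mem_annHom, ← smulMod_naturality, hc c hc', comp_zero]
    refine ⟨P.map (aInv f hb' hc''), ?_, ?_⟩
    · rw [← P.map_comp, comp_aInv, map_smulMod_of_adj adj rfl, hsm]
    · rw [← P.map_comp, aInv_comp, map_smulMod_of_adj adj rfl, hsm]
  have hgen : ∀ {J : Ideal A'}, (∀ b ∈ I ^ (t + 1), ∀ c ∈ I ^ (t + 1), φ (b * c) ∈ J) →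
      (I.map φ) ^ (2 * t + 1 + 1) ≤ J := fun {J} h => by
    rw [← Ideal.map_pow, Ideal.map_le_iff_le_comap, show 2 * t + 1 + 1 = (t + 1) + (t + 1) by omega,
      pow_add]
    exact Ideal.mul_le.2 h
  refine ⟨(killedBy_iff_le _ _).2 (hgen fun b hb c hc' => ?_),
    (killedBy_iff_le _ _).2 (hgen fun b hb c hc' => ?_)⟩
  · obtain ⟨v, hv, -⟩ := key b hb c hc'
    rw [mem_annHom, Category.comp_id, ← cancel_mono (kernel.ι (P.map f)), zero_comp]
    refine (smulMod_naturality _ _).symm.trans ?_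
    rw [← hv, ← Category.assoc, kernel.condition, zero_comp]
  · obtain ⟨v, -, hv⟩ := key b hb c hc'
    rw [mem_annHom, Category.comp_id, ← cancel_epi (cokernel.π (P.map f)), comp_zero]
    refine (smulMod_naturality _ _).trans ?_
    rw [← hv, Category.assoc, cokernel.condition, comp_zero]

end Groth.MiscGeom.AlgzKill
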