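import Groth.Agent.CohC3.QuotSections
import Groth.Agent.QCohMod.Coherent
import Groth.Agent.QCohMod.QCQS
import Groth.Agent.RefRank.BigOpen

/-! Sections of tilde modules on basic opens. -/

set_option autoImplicit false

universe u

open CategoryTheory CategoryTheory.Limits AlgebraicGeometry Opposite

namespace Groth.MiscGeom.AlgzLoc

variable {R : CommRingCat.{u}}

/-- The sections over `D(f)` as an `R`-module. -/
noncomputable abbrev secD (P : (Spec R).Modules) (f : R) : ModuleCat R :=
  (modulesSpecToSheaf.obj P).1.obj (op (PrimeSpectrum.basicOpen f : (Spec R).Opens))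

/-- A morphism on sections over `D(f)`, `R`-linearly. -/
noncomputable abbrev mapD {P P' : (Spec R).Modules} (φ : P ⟶ P') (f : R) : secD P f →ₗ[R] secD P' f :=
  ((modulesSpecToSheaf.map φ).1.app (op (PrimeSpectrum.basicOpen f : (Spec R).Opens))).hom

noncomputable abbrev toD (Q : ModuleCat.{u} R) (f : R) : Q →ₗ[R] secD (tilde Q) f :=
  (tilde.toOpen Q (PrimeSpectrum.basicOpen f : (Spec R).Opens)).hom

lemma exists_toD (Q : ModuleCat.{u} R) (f : R) (y : secD (tilde Q) f) :
    ∃ (q : Q) (s : ℕ), f ^ s • y = toD Q f q := by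
  obtain ⟨⟨q, ⟨_, s, rfl⟩⟩, h⟩ := IsLocalizedModule.surj (Submonoid.powers f) (toD Q f) y
  exact ⟨q, s, h⟩

lemma smul_cancel (Q : ModuleCat.{u} R) (f : R) (s : ℕ) {y : secD (tilde Q) f} (h : f ^ s • y = 0) :
    y = 0 := by
  have hu := IsLocalizedModule.map_units (toD Q f) (⟨f ^ s, s, rfl⟩ : Submonoid.powers f)
  refine ((Module.End.isUnit_iff _).1 hu).1 ?_
  change f ^ s • y = f ^ s • (0 : secD (tilde Q) f)
  rw [h, smul_zero]

lemma mapD_toD {Q Q' : ModuleCat.{u} R} (g : Q ⟶ Q') (f : R) (q : Q) :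
    mapD ((tilde.functor R).map g) f (toD Q f q) = toD Q' f (g.hom q) :=
  LinearMap.congr_fun (congrArg ModuleCat.Hom.hom
    (tilde.toOpen_map_app g (PrimeSpectrum.basicOpen f : (Spec R).Opens))) q

/-- If the adjoint of `l` kills the section `q / f^s`, some `f^t` kills `l q`. -/
lemma exists_pow_smul_eq_zero {Q : ModuleCat.{u} R} {P : (Spec R).Modules} [P.IsQuasicoherent]
    (l : Q ⟶ (moduleSpecΓFunctor (R := R)).obj P) (f : R) (y : secD (tilde Q) f) (q : Q) (s : ℕ)
    (hs : f ^ s • y = toD Q f q)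
    (hy : mapD (((tilde.adjunction (R := R)).homEquiv Q P).symm l) f y = 0) :
    ∃ t : ℕ, f ^ t • l.hom q = 0 := by
  have h0 : mapD (((tilde.adjunction (R := R)).homEquiv Q P).symm l) f (toD Q f q) = 0 := by
    refine (congrArg (mapD _ f) hs.symm).trans ((LinearMap.map_smul _ _ _).trans ?_)
    exact (congrArg (f ^ s • ·) hy).trans (smul_zero _)
  rw [Adjunction.homEquiv_counit] at h0
  have e1 : mapD (((tilde.functor R).map l) ≫ (tilde.adjunction (R := R)).counit.app P) f (toD Q f q) =
      mapD ((tilde.adjunction (R := R)).counit.app P) f (toD _ f (l.hom q)) := by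
    refine Eq.trans ?_ (congrArg (mapD _ f) (mapD_toD l f q))
    exact LinearMap.congr_fun (congrArg (fun φ => (φ.1.app (op (PrimeSpectrum.basicOpen f : (Spec R).Opens))).hom)
      (modulesSpecToSheaf.map_comp ((tilde.functor R).map l) ((tilde.adjunction (R := R)).counit.app P))) _
  have h1 : ((modulesSpecToSheaf.obj P).1.map
      (homOfLE le_top : (PrimeSpectrum.basicOpen f : (Spec R).Opens) ⟶ ⊤).op).hom (l.hom q) = 0 :=
    (LinearMap.congr_fun (congrArg ModuleCat.Hom.hom (Scheme.Modules.toOpen_fromTildeΓ_app P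
      (PrimeSpectrum.basicOpen f : (Spec R).Opens))) (l.hom q)).symm.trans (e1.symm.trans h0)
  have hI : IsIso P.fromTildeΓ := inferInstance
  have hloc := (isIso_fromTildeΓ_iff_isLocalizing P).1 hI f
  obtain ⟨⟨_, t, rfl⟩, ht⟩ := (@IsLocalizedModule.eq_zero_iff R _ (Submonoid.powers f) _ _ _ _ _ _ _ hloc _).1 h1
  exact ⟨t, ht⟩

/-- Compatible sections of a system over `D(f)` killed at a later stage by the adjoint of `l`. -/
theorem eq_zero_of_compatible {Q : ℕ → ModuleCat.{u} R} (g : ∀ i, Q (i + 1) ⟶ Q i) (f : R)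
    (x : ∀ i, secD (tilde (Q i)) f) (hxc : ∀ i, mapD ((tilde.functor R).map (g i)) f (x (i + 1)) = x i)
    {n p : ℕ} (hnp : n ≤ p) {P : (Spec R).Modules} (hP : P.IsQuasicoherent)
    (l : Q p ⟶ (moduleSpecΓFunctor (R := R)).obj P)
    (h0 : mapD (((tilde.adjunction (R := R)).homEquiv (Q p) P).symm l) f (x p) = 0)
    (hlift : ∀ q : Q p, ∃ z : ∀ i, Q i, z p = q ∧ ∀ i, (g i).hom (z (i + 1)) = z i)
    (hker : ∀ z : ∀ i, Q i, (∀ i, (g i).hom (z (i + 1)) = z i) →
      ∀ t : ℕ, f ^ t • l.hom (z p) = 0 → f ^ t • z n = 0) :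
    x n = 0 := by
  obtain ⟨q, s, hq⟩ := exists_toD (Q p) f (x p)
  obtain ⟨t, ht⟩ := @exists_pow_smul_eq_zero R _ _ hP l f (x p) q s hq h0
  obtain ⟨z, rfl, hz⟩ := hlift q
  have key : ∀ i, i ≤ p → f ^ s • x i = toD (Q i) f (z i) := by
    intro i hi
    induction hi using Nat.decreasingInduction with
    | of_succ k hk ih =>
      have h1 := (mapD ((tilde.functor R).map (g k)) f).map_smul (f ^ s) (x (k + 1))
      exact (congrArg (f ^ s • ·) (hxc k).symm).trans (h1.symm.trans
        ((congrArg (mapD ((tilde.functor R).map (g k)) f) ih).trans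
          ((mapD_toD (g k) f _).trans (congrArg (toD (Q k) f) (hz k)))))
    | self => exact hq
  refine smul_cancel (Q n) f (t + s) ?_
  rw [pow_add, mul_smul, key n hnp, ← LinearMap.map_smul, hker z hz t ht, LinearMap.map_zero]

lemma mono_restrict {X Y : Scheme.{u}} (j : Y ⟶ X) [IsOpenImmersion j] {M N : X.Modules} (φ : M ⟶ N)
    [Mono φ] : Mono ((Scheme.Modules.restrictFunctor j).map φ) := by
  refine ⟨fun g h e => Scheme.Modules.hom_ext _ _ fun V => ?_⟩
  ext x
  exact Groth.QCohMod.app_injective_of_mono φ (j ''ᵁ V) (congr(($e).app V x))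

lemma mono_of_gamma {M G : (Spec R).Modules} [M.IsQuasicoherent] [G.IsQuasicoherent] (p : M ⟶ G)
    (h : Function.Injective (p.app ⊤)) : Mono p := by
  refine Preadditive.mono_of_kernel_zero (Groth.CohC3.hom_ext_top fun x => ?_)
  show (kernel.ι p).app ⊤ x = 0
  apply h
  rw [map_zero]
  exact congr(($(kernel.condition p)).app ⊤ x)

lemma mono_tilde {Q Q' : ModuleCat.{u} R} (g : Q ⟶ Q') (hg : Function.Injective g.hom) :
    Mono ((tilde.functor R).map g) := by
  refine mono_of_gamma _ fun x y hxy => ?_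
  obtain ⟨a, rfl⟩ := (ConcreteCategory.bijective_of_isIso
    ((tilde.toTildeΓNatIso (R := R)).hom.app Q)).2 x
  obtain ⟨b, rfl⟩ := (ConcreteCategory.bijective_of_isIso
    ((tilde.toTildeΓNatIso (R := R)).hom.app Q)).2 y
  have n := fun z => LinearMap.congr_fun (congrArg ModuleCat.Hom.hom
    ((tilde.toTildeΓNatIso (R := R)).hom.naturality g)) z
  refine congrArg _ (hg ((ConcreteCategory.bijective_of_isIso
    ((tilde.toTildeΓNatIso (R := R)).hom.app Q')).1 ?_))
  exact (n a).trans (hxy.trans (n b).symm)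

/-- A module dominated by sections of a coherent module on an open is coherent there. -/
lemma isCoh_restrict_tilde [IsLocallyNoetherian (Spec R)] (U : (Spec R).Opens) [QuasiCompact U.ι]
    [QuasiSeparated U.ι] {F : (U : Scheme.{u}).Modules} (hF : Coh.IsCoh F) {W Q : ModuleCat.{u} R}
    (g : W ⟶ (moduleSpecΓFunctor (R := R)).obj ((Scheme.Modules.pushforward U.ι).obj F))
    (hg : Function.Injective g.hom) (h : W ⟶ Q) (hh : Function.Surjective h.hom) :
    Coh.IsCoh ((Scheme.Modules.restrictFunctor U.ι).obj (tilde Q)) := by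
  haveI : IsLocallyNoetherian (U : Scheme.{u}) := isLocallyNoetherian_of_isOpenImmersion U.ι
  let P := (Scheme.Modules.pushforward U.ι).obj F
  have := hF.1
  haveI : P.IsQuasicoherent := Groth.QCohMod.isQCoh_pushforward (M := F) U.ι
  haveI hI : IsIso P.fromTildeΓ := inferInstance
  let j := (Scheme.Modules.restrictFunctor U.ι).map ((tilde.functor R).map g) ≫
    (Scheme.Modules.restrictFunctor U.ι).map P.fromTildeΓ ≫
    (Scheme.Modules.restrictAdjunction U.ι).counit.app F
  haveI := mono_tilde g hg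
  have hW : Coh.IsCoh ((Scheme.Modules.restrictFunctor U.ι).obj (tilde W)) := by
    have m1 : Mono ((Scheme.Modules.restrictFunctor U.ι).map ((tilde.functor R).map g)) :=
      mono_restrict U.ι _
    have m2 : IsIso ((Scheme.Modules.restrictFunctor U.ι).map P.fromTildeΓ) := @Functor.map_isIso _ _ _ _ _ _ (Scheme.Modules.restrictFunctor U.ι) _ hI
    have m3 : IsIso ((Scheme.Modules.restrictAdjunction U.ι).counit.app F) := NatIso.isIso_app_of_isIso _ F
    have hj : Mono j := by
      have : Mono ((Scheme.Modules.restrictFunctor U.ι).map P.fromTildeΓ) := @IsIso.mono_of_iso _ _ _ _ _ m2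
      have : Mono ((Scheme.Modules.restrictAdjunction U.ι).counit.app F) := @IsIso.mono_of_iso _ _ _ _ _ m3
      exact @mono_comp _ _ _ _ _ _ m1 _ (@mono_comp _ _ _ _ _ _ ‹_› _ ‹_›)
    exact @Groth.QCohMod.isCoh_of_mono _ _ _ _ j hj inferInstance hF
  haveI : Epi h := (ModuleCat.epi_iff_surjective h).2 hh
  have e1 : Epi ((tilde.functor R).map h) := Functor.map_epi (tilde.functor R) h
  have e2 : Epi ((Scheme.Modules.restrictFunctor U.ι).map ((tilde.functor R).map h)) :=
    Functor.map_epi (Scheme.Modules.restrictFunctor U.ι) _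
  exact ⟨inferInstance, @Groth.QCohMod.isFT_of_epi _ _ _
    ((Scheme.Modules.restrictFunctor U.ι).map ((tilde.functor R).map h)) e2 hW.2⟩

end Groth.MiscGeom.AlgzLoc
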