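import Mathlib

/-! The locus over which an etale separated morphism has exactly one geometric point, and
sections over henselian local rings. -/

set_option autoImplicit false

universe u

open CategoryTheory CategoryTheory.Limits AlgebraicGeometry Topology

namespace Groth.MiscGeom.AlgzLocus

variable {W V : Scheme.{u}} (w : W ⟶ V)

/-- The pairs of distinct geometric points in a common fibre. -/
def offDiag : Set ↥(pullback w w) := (Set.range (pullback.diagonal w))ᶜ

/-- The points of `V` with exactly one geometric point above. -/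
def uniq : Set V := Set.range w \ ((pullback.fst w w ≫ w) '' offDiag w)

lemma comp3_apply {A B C D : Scheme.{u}} (a : A ⟶ B) (b : B ⟶ C) (c : C ⟶ D) (x : A) :
    ((a ≫ b) ≫ c) x = (b ≫ c) (a x) := rfl

/-- Two points with values in a field, over a point of `uniq w`, coincide. -/
theorem eq_of_mem_uniq [Etale w] {K : Type u} [Field K] (g₁ g₂ : Spec (CommRingCat.of K) ⟶ W)
    (e : g₁ ≫ w = g₂ ≫ w) (h : (g₁ ≫ w) (IsLocalRing.closedPoint K) ∈ uniq w) : g₁ = g₂ := by
  let g := pullback.lift g₁ g₂ e
  have hr : Set.range g ⊆ Set.range (pullback.diagonal w) := by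
    rintro _ ⟨t, rfl⟩
    obtain rfl : t = IsLocalRing.closedPoint K := Subsingleton.elim _ _
    by_contra hc
    refine h.2 ⟨g (IsLocalRing.closedPoint K), hc, ?_⟩
    rw [← Scheme.Hom.comp_apply, ← Category.assoc, pullback.lift_fst]
  let l := IsOpenImmersion.lift (pullback.diagonal w) g hr
  have hl : l ≫ pullback.diagonal w = g := IsOpenImmersion.lift_fac _ _ _
  have e1 := congrArg (· ≫ pullback.fst w w) hl
  have e2 := congrArg (· ≫ pullback.snd w w) hl
  simp only [g, Category.assoc, pullback.diagonal_fst, pullback.diagonal_snd, Category.comp_id,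
    pullback.lift_fst, pullback.lift_snd] at e1 e2
  exact e1.symm.trans e2

theorem mem_range_diagonal (z : ↥(pullback w w))
    (e : (pullback w w).fromSpecResidueField z ≫ pullback.fst w w =
      (pullback w w).fromSpecResidueField z ≫ pullback.snd w w) :
    z ∈ Set.range (pullback.diagonal w) := by
  have hfac : (pullback w w).fromSpecResidueField z =
      ((pullback w w).fromSpecResidueField z ≫ pullback.fst w w) ≫ pullback.diagonal w := by
    apply pullback.hom_ext
    · simp
    · simpa using e.symm
  have hz := Scheme.fromSpecResidueField_apply z (IsLocalRing.closedPoint ((pullback w w).residueField z))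
  rw [hfac, Scheme.Hom.comp_apply] at hz
  exact ⟨_, hz⟩

/-- A point of the image over which geometric points are unique lies in `uniq w`. -/
theorem mem_uniq {v : V} (hv : v ∈ Set.range w)
    (h : ∀ (K : Type u) (_ : Field K) (g₁ g₂ : Spec (CommRingCat.of K) ⟶ W),
      g₁ ≫ w = g₂ ≫ w → (g₁ ≫ w) (IsLocalRing.closedPoint K) = v → g₁ = g₂) : v ∈ uniq w := by
  refine ⟨hv, ?_⟩
  rintro ⟨z, hz, rfl⟩
  refine hz (mem_range_diagonal w z (h _ _ _ _ ?_ ?_))
  · exact (Category.assoc _ _ _).trans ((congrArg (_ ≫ ·) pullback.condition).trans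
      (Category.assoc _ _ _).symm)
  · exact (comp3_apply _ _ _ _).trans
      (congrArg (pullback.fst w w ≫ w) (Scheme.fromSpecResidueField_apply z _))

/-- The locus is open in the constructible topology. -/
theorem isOpen_uniq [Etale w] [IsSeparated w] [CompactSpace W] [IsAffine V] :
    IsOpen[constructibleTopology V] (uniq w) := by
  haveI : QuasiCompact w := quasiCompact_of_compactSpace w
  haveI : CompactSpace ↥(pullback w w) := QuasiCompact.compactSpace_of_compactSpace (pullback.fst w w)
  haveI : Etale (pullback.fst w w ≫ w) := inferInstance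
  have h1 : IsOpen (Set.range w) := w.isOpenMap.isOpen_range
  have h2 : IsCompact (Set.range w) := isCompact_range w.continuous
  have hD : IsOpen (offDiag w) := (pullback.diagonal w).isClosedEmbedding.isClosed_range.isOpen_compl
  have hD' : IsClosed (offDiag w) := by
    rw [offDiag, isClosed_compl_iff]
    exact (pullback.diagonal w).isOpenEmbedding.isOpen_range
  have h3 : IsOpen ((pullback.fst w w ≫ w) '' offDiag w) := (pullback.fst w w ≫ w).isOpenMap _ hD
  have h4 : IsCompact ((pullback.fst w w ≫ w) '' offDiag w) :=
    hD'.isCompact.image (pullback.fst w w ≫ w).continuous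
  exact @IsOpen.inter _ (constructibleTopology V) _ _ (h2.isOpen_constructibleTopology_of_isOpen h1)
    (IsCompact.isOpen_constructibleTopology_of_isClosed (show IsCompact (((pullback.fst w w ≫ w) '' offDiag w)ᶜ)ᶜ by rw [compl_compl]; exact h4) h3.isClosed_compl)

/-- A morphism with exactly one geometric point in the fibre over a field point has a section there. -/
theorem exists_section_field [Etale w] {k : Type u} [Field k] (q : Spec (CommRingCat.of k) ⟶ V)
    (hne : ∃ (K : Type u) (_ : Field K) (φ : CommRingCat.of k ⟶ CommRingCat.of K)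
      (g : Spec (CommRingCat.of K) ⟶ W), g ≫ w = Spec.map φ ≫ q)
    (huniq : ∀ (K : Type u) (_ : Field K) (g₁ g₂ : Spec (CommRingCat.of K) ⟶ W),
      g₁ ≫ w = g₂ ≫ w → (g₁ ≫ w) (IsLocalRing.closedPoint K) = q (IsLocalRing.closedPoint k) → g₁ = g₂) :
    ∃ s : Spec (CommRingCat.of k) ⟶ W, s ≫ w = q := by
  let π := pullback.snd w q
  haveI : Etale π := MorphismProperty.pullback_snd _ _ inferInstance
  haveI : Surjective π := ⟨fun t => by
    obtain ⟨K, _, φ, g, hg⟩ := hne
    exact ⟨pullback.lift g (Spec.map φ) hg (IsLocalRing.closedPoint K), Subsingleton.elim _ _⟩⟩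
  haveI : Surjective (pullback.diagonal π) := ⟨fun z => by
    refine mem_range_diagonal π z ?_
    have hc : ((pullback π π).fromSpecResidueField z ≫ pullback.fst π π) ≫ π =
        ((pullback π π).fromSpecResidueField z ≫ pullback.snd π π) ≫ π := by
      rw [Category.assoc, Category.assoc, pullback.condition]
    refine pullback.hom_ext (huniq _ _ _ _ ?_ ?_) hc
    · have e0 : pullback.fst w q ≫ w = π ≫ q := pullback.condition
      exact ((Category.assoc _ _ _).trans ((congrArg (_ ≫ ·) e0).trans
        ((Category.assoc _ _ _).symm.trans ((congrArg (· ≫ q) hc).trans ((Category.assoc _ _ _).trans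
          ((congrArg (_ ≫ ·) e0.symm).trans (Category.assoc _ _ _).symm))))))
    · have e0 : pullback.fst w q ≫ w = π ≫ q := pullback.condition
      refine (comp3_apply _ _ _ _).trans ?_
      rw [e0]
      exact congrArg q (Subsingleton.elim _ _)⟩
  haveI : IsIso (pullback.diagonal π) :=
    (isIso_iff_isOpenImmersion_and_surjective _).2 ⟨inferInstance, inferInstance⟩
  haveI : Mono π := (pullback.isIso_diagonal_iff π).1 inferInstance
  haveI : IsOpenImmersion π := IsOpenImmersion.of_flat_of_mono π
  haveI : IsIso π := (isIso_iff_isOpenImmersion_and_surjective _).2 ⟨inferInstance, inferInstance⟩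
  exact ⟨inv π ≫ pullback.fst w q, by rw [Category.assoc, pullback.condition, IsIso.inv_hom_id_assoc]⟩

end Groth.MiscGeom.AlgzLocus
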