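import Groth.Agent.MiscGeom.AlgzLocus
import Groth.Agent.AlgSpBasic.Points
import Groth.Agent.AlgSp2.FieldPts
import Groth.Agent.AlgSp2.SigmaGlue
import Groth.Agent.Hensel1.Local
import Groth.Agent.S10350
import Groth.Agent.S10374
import Groth.Agent.S17856

/-! Lifting points of a quasi-compact quasi-separated algebraic space with values in henselian local
rings to finitely many affine etale charts. -/

set_option autoImplicit false
set_option backward.isDefEq.respectTransparency.types false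

universe u

open CategoryTheory CategoryTheory.Limits AlgebraicGeometry Topology AlgSp

namespace Groth.MiscGeom.AlgzPiPoints

open Groth.AlgSpBasic Groth.MiscGeom.AlgzLocus

noncomputable section

variable {S : Scheme.{u}}

/-- There is exactly one geometric point of the chart over the point `x`. -/
def UniqOver {F : Sp S} {U : Over S} (a : (yon S).obj U ⟶ F) (x : AlgSp.Points F) : Prop :=
  x ∈ Set.range (AlgSp.Points.ofPt a) ∧
    ∀ (K : Type u) (_ : Field K) (str : Spec (CommRingCat.of K) ⟶ S) (s₁ s₂ : Over.mk str ⟶ U),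
      (yon S).map s₁ ≫ a = (yon S).map s₂ ≫ a →
        AlgSp.Points.mk (AlgSp2.ofHom ((yon S).map s₁ ≫ a)) = x → s₁ = s₂

/-- The inclusion of the residue field point. -/
abbrev rpt {U : Over S} (u : ↥U.left) : Over.mk (U.left.fromSpecResidueField u ≫ U.hom) ⟶ U :=
  Over.homMk (U.left.fromSpecResidueField u) rfl

theorem mk_ofHom_eq_ofPt {F : Sp S} {U : Over S} (a : (yon S).obj U ⟶ F) {K : Type u} [Field K]
    {str : Spec (CommRingCat.of K) ⟶ S} (s : Over.mk str ⟶ U) :
    AlgSp.Points.mk (AlgSp2.ofHom ((yon S).map s ≫ a)) =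
      AlgSp.Points.ofPt a (s.left (IsLocalRing.closedPoint K)) :=
  AlgSp2.mk_eq_ofPt_of_factor a (AlgSp2.ofHom ((yon S).map s ≫ a)) (show (AlgSp2.ofHom ((yon S).map s ≫ a)).pt ⟶ U from s)
    (AlgSp2.toHom_ofHom ((yon S).map s ≫ a)).symm

theorem exists_factor {U : Over S} {K : Type u} [Field K] {str : Spec (CommRingCat.of K) ⟶ S}
    (s : Over.mk str ⟶ U) {u : ↥U.left} (hs : s.left (IsLocalRing.closedPoint K) = u) :
    ∃ t : Over.mk str ⟶ Over.mk (U.left.fromSpecResidueField u ≫ U.hom), t ≫ rpt u = s := by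
  subst hs
  let m : Spec (CommRingCat.of K) ⟶ U.left := s.left
  have key := Scheme.descResidueField_stalkClosedPointTo_fromSpecResidueField K U.left m
  obtain ⟨t, ht⟩ : ∃ t, t ≫ U.left.fromSpecResidueField (m (IsLocalRing.closedPoint K)) = m :=
    ⟨_, key⟩
  exact ⟨Over.homMk t ((Category.assoc _ _ _).symm.trans ((congrArg (· ≫ U.hom) ht).trans (Over.w s))),
    Over.OverMorphism.ext ht⟩

theorem uniqOver_of_elementary {F : Sp S} {U : Over S} (a : (yon S).obj U ⟶ F) (u : ↥U.left)
    (x : AlgSp.Points F) (ha : IsElemEtaleNbhd a u x) (hu : AlgSp.Points.ofPt a ⁻¹' {x} = {u}) :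
    UniqOver a x := by
  refine ⟨⟨u, ha.ofPt_eq⟩, fun K _ str s₁ s₂ e h₁ => ?_⟩
  have h₂ : AlgSp.Points.mk (AlgSp2.ofHom ((yon S).map s₂ ≫ a)) = x := by rw [← e]; exact h₁
  rw [mk_ofHom_eq_ofPt] at h₁ h₂
  obtain ⟨t₁, rfl⟩ := exists_factor s₁ (hu.le h₁)
  obtain ⟨t₂, rfl⟩ := exists_factor s₂ (hu.le h₂)
  have := ha.mono
  congr 1
  apply (yon S).map_injective
  refine (cancel_mono (FieldPt.ofPt a u).toHom).1 ?_
  rw [Functor.map_comp, Functor.map_comp, Category.assoc, Category.assoc] at e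
  exact (congrArg (_ ≫ ·) (FieldPt.toHom_ofPt a u)).trans
    (e.trans (congrArg (_ ≫ ·) (FieldPt.toHom_ofPt a u)).symm)

theorem eq_of_field_extension {Z : Scheme.{u}} [IsAffine Z] {K Ω : Type u} [Field K] [Field Ω]
    (q : Spec (CommRingCat.of Ω) ⟶ Spec (CommRingCat.of K))
    (s₁ s₂ : Spec (CommRingCat.of K) ⟶ Z) (h : q ≫ s₁ = q ≫ s₂) : s₁ = s₂ := by
  rw [← cancel_mono Z.isoSpec.hom, ← Spec.map_preimage (s₁ ≫ _), ← Spec.map_preimage (s₂ ≫ _)]
  have h' : Spec.preimage (s₁ ≫ Z.isoSpec.hom) ≫ Spec.preimage q =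
      Spec.preimage (s₂ ≫ Z.isoSpec.hom) ≫ Spec.preimage q := by
    apply Spec.map_injective
    simp only [Spec.map_comp, Spec.map_preimage, ← Category.assoc, h]
  congr 1
  exact CommRingCat.hom_ext (RingHom.ext fun x =>
    (Spec.preimage q).hom.injective (congrArg (fun φ => φ.hom x) h'))

variable {X : AlgSp.Space S}

/-- The fibre product of two affine charts, one of them etale. -/
theorem exists_fibre [IsAffine S] (hqs : IsQuasiSeparatedSp X.obj) {U V : Over S} [IsAffine U.left]
    [IsAffine V.left] (a : (yon S).obj U ⟶ X.obj) (ha : RepWith @Etale a)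
    (p : (yon S).obj V ⟶ X.obj) :
    ∃ (W : Over S) (f : W ⟶ U) (w : W ⟶ V), IsPullback ((yon S).map f) ((yon S).map w) a p ∧
      Etale w.left ∧ IsSeparated w.left ∧ CompactSpace ↥W.left := by
  let W : Over S := ha.rep.pullback p
  let f : W ⟶ U := ha.rep.fst' p
  let w : W ⟶ V := ha.rep.snd p
  have sq : IsPullback ((yon S).map f) ((yon S).map w) a p := ha.rep.isPullback' p
  have hr := X.property.diag
  let R : Over S := Over.mk (pullback.fst U.hom V.hom ≫ U.hom)
  let π₁ : R ⟶ U := Over.homMk (pullback.fst U.hom V.hom) rfl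
  let π₂ : R ⟶ V := Over.homMk (pullback.snd U.hom V.hom) pullback.condition.symm
  haveI : IsAffine R.left := inferInstanceAs (IsAffine (pullback U.hom V.hom))
  let l : (yon S).obj R ⟶ X.obj ⨯ X.obj :=
    prod.lift ((yon S).map π₁ ≫ a) ((yon S).map π₂ ≫ p)
  let v : hr.pullback l ⟶ R := hr.snd l
  have hmono : Mono ((yon S).map v) := by
    haveI : Mono (Limits.diag X.obj) := inferInstance
    exact MorphismProperty.of_isPullback (P := MorphismProperty.monomorphisms _) (hr.isPullback l)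
      (MorphismProperty.monomorphisms.infer_property (Limits.diag X.obj))
  haveI : Mono v := (yon S).mono_of_mono_map hmono
  haveI : Mono v.left := (Over.forget S).map_mono v
  haveI : QuasiCompact v.left := hqs.property_snd l
  haveI : CompactSpace ↥(hr.pullback l).left := QuasiCompact.compactSpace_of_compactSpace v.left
  let m : W ⟶ R := Over.homMk (pullback.lift f.left w.left ((Over.w f).trans (Over.w w).symm))
    (show pullback.lift _ _ _ ≫ pullback.fst U.hom V.hom ≫ U.hom = W.hom by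
      rw [pullback.lift_fst_assoc, Over.w f])
  have hm₁ : m ≫ π₁ = f := Over.OverMorphism.ext (pullback.lift_fst _ _ _)
  have hm₂ : m ≫ π₂ = w := Over.OverMorphism.ext (pullback.lift_snd _ _ _)
  have e₁ : ((yon S).map f ≫ a) ≫ Limits.diag X.obj = (yon S).map m ≫ l := by
    refine prod.hom_ext ?_ ?_
    · rw [Category.assoc, Category.assoc, prod.lift_fst, Category.comp_id]
      refine Eq.trans ?_ (congrArg (_ ≫ ·) (prod.lift_fst _ _)).symm
      rw [← Category.assoc, ← Functor.map_comp, hm₁]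
    · rw [Category.assoc, Category.assoc, prod.lift_snd, Category.comp_id]
      refine Eq.trans ?_ (congrArg (_ ≫ ·) (prod.lift_snd _ _)).symm
      rw [← Category.assoc, ← Functor.map_comp, hm₂]
      exact sq.w
  let α : W ⟶ hr.pullback l := hr.lift _ _ e₁
  have hα : α ≫ v = m := hr.lift_snd _ _ e₁
  have hl₁ : hr.fst l = (yon S).map (v ≫ π₁) ≫ a := by
    have := congrArg (· ≫ prod.fst) (hr.w l)
    rw [Category.assoc, Category.assoc, prod.lift_fst, Category.comp_id] at this
    exact this.trans ((congrArg (_ ≫ ·) (prod.lift_fst _ _)).trans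
      (by rw [← Category.assoc, ← Functor.map_comp]))
  have hl₂ : hr.fst l = (yon S).map (v ≫ π₂) ≫ p := by
    have := congrArg (· ≫ prod.snd) (hr.w l)
    rw [Category.assoc, Category.assoc, prod.lift_snd, Category.comp_id] at this
    exact this.trans ((congrArg (_ ≫ ·) (prod.lift_snd _ _)).trans
      (by rw [← Category.assoc, ← Functor.map_comp]))
  let β : hr.pullback l ⟶ W := ha.rep.lift' (v ≫ π₁) (v ≫ π₂) (hl₁.symm.trans hl₂)
  have hαβ : α ≫ β = 𝟙 W := by
    apply ha.rep.hom_ext'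
    · rw [Category.assoc, ha.rep.lift'_fst, ← Category.assoc, hα, hm₁, Category.id_comp]
    · rw [Category.assoc, ha.rep.lift'_snd, ← Category.assoc, hα, hm₂, Category.id_comp]
  haveI : IsSplitMono α := IsSplitMono.mk' ⟨β, hαβ⟩
  haveI : Mono m := hα ▸ inferInstance
  haveI : Mono m.left := (Over.forget S).map_mono m
  refine ⟨W, f, w, sq, ha.property_snd p, ?_, ?_⟩
  · rw [← hm₂, Over.comp_left]
    exact MorphismProperty.comp_mem _ _ _ (inferInstance : IsSeparated m.left)
      (inferInstanceAs (IsSeparated (pullback.snd U.hom V.hom)))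
  · have hs : Function.Surjective β.left := fun z => ⟨α.left z, by
      rw [← Scheme.Hom.comp_apply, ← Over.comp_left, hαβ]; rfl⟩
    exact hs.compactSpace β.left.continuous

/-- In terms of a fibre product, the points with a unique geometric point above form the locus `uniq`. -/
theorem uniqOver_iff {F : Sp S} {U V W : Over S} [IsAffine U.left] {a : (yon S).obj U ⟶ F}
    {p : (yon S).obj V ⟶ F} {f : W ⟶ U} {w : W ⟶ V}
    (sq : IsPullback ((yon S).map f) ((yon S).map w) a p) [Etale w.left] (v : ↥V.left) :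
    UniqOver a (AlgSp.Points.ofPt p v) ↔ v ∈ uniq w.left := by
  have hlift : ∀ {Z : Over S} (s : Z ⟶ U) (t : Z ⟶ V), (yon S).map s ≫ a = (yon S).map t ≫ p →
      ∃ g : Z ⟶ W, g ≫ f = s ∧ g ≫ w = t := fun s t e => by
    obtain ⟨g, hg⟩ := (yon S).map_surjective (sq.lift _ _ e)
    exact ⟨g, (yon S).map_injective (by rw [Functor.map_comp, hg, sq.lift_fst]),
      (yon S).map_injective (by rw [Functor.map_comp, hg, sq.lift_snd])⟩
  constructor
  · rintro ⟨⟨u, hu⟩, h⟩
    obtain ⟨Ω, _, str, a', b', e⟩ :=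
      (AlgSp2.rel_iff _ _).1 (AlgSp.Points.mk_eq_mk_iff.1 hu)
    rw [FieldPt.toHom_ofPt, FieldPt.toHom_ofPt, ← Category.assoc, ← Category.assoc,
      ← Functor.map_comp, ← Functor.map_comp] at e
    obtain ⟨g, -, hg⟩ := hlift _ _ e
    refine mem_uniq _ ⟨g.left (IsLocalRing.closedPoint Ω), ?_⟩ fun K _ g₁ g₂ he hv => ?_
    · rw [← Scheme.Hom.comp_apply, ← Over.comp_left, hg, Over.comp_left, Scheme.Hom.comp_apply]
      exact Scheme.fromSpecResidueField_apply _ _
    · have hstr : g₂ ≫ W.hom = g₁ ≫ W.hom := by rw [← Over.w w, ← Category.assoc, ← Category.assoc, he]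
      let G₁ : Over.mk (g₁ ≫ W.hom) ⟶ W := Over.homMk g₁ rfl
      let G₂ : Over.mk (g₁ ≫ W.hom) ⟶ W := Over.homMk g₂ hstr
      have hw : G₁ ≫ w = G₂ ≫ w := Over.OverMorphism.ext he
      have hb : ∀ G : Over.mk (g₁ ≫ W.hom) ⟶ W,
          (yon S).map (G ≫ f) ≫ a = (yon S).map (G ≫ w) ≫ p := fun G => by
        rw [Functor.map_comp, Functor.map_comp, Category.assoc, Category.assoc, sq.w]
      have hf : G₁ ≫ f = G₂ ≫ f := by
        refine h K _ _ _ _ ((hb G₁).trans ((congrArg (fun t => (yon S).map t ≫ p) hw).trans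
          (hb G₂).symm)) ?_
        rw [hb G₁]
        exact (mk_ofHom_eq_ofPt p (G₁ ≫ w)).trans (congrArg (AlgSp.Points.ofPt p) hv)
      refine congrArg CommaMorphism.left (show G₁ = G₂ from (yon S).map_injective (sq.hom_ext ?_ ?_))
      · rw [← Functor.map_comp, ← Functor.map_comp, hf]
      · rw [← Functor.map_comp, ← Functor.map_comp, hw]
  · intro hv
    obtain ⟨z, rfl⟩ := hv.1
    refine ⟨⟨f.left z, ?_⟩, fun K _ str s₁ s₂ e hx => ?_⟩
    · rw [← ofPt_comp_yon, sq.w, ofPt_comp_yon]
    · obtain ⟨Ω, _, str', a', b', e'⟩ := (AlgSp2.rel_iff _ _).1 (AlgSp.Points.mk_eq_mk_iff.1 hx)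
      change Over.mk str' ⟶ Over.mk str at a'
      change Over.mk str' ⟶ Over.mk (V.left.fromSpecResidueField (w.left z) ≫ V.hom) at b'
      replace e' : (yon S).map (Y := Over.mk str) a' ≫ (yon S).map s₁ ≫ a =
          (yon S).map b' ≫ (yon S).map (rpt (w.left z)) ≫ p :=
        ((congrArg (_ ≫ ·) (AlgSp2.toHom_ofHom _)).symm.trans e').trans
          (congrArg (_ ≫ ·) (FieldPt.toHom_ofPt p (w.left z)))
      rw [← Category.assoc, ← Category.assoc, ← Functor.map_comp, ← Functor.map_comp] at e'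
      have e'' : (yon S).map (a' ≫ s₂) ≫ a = (yon S).map (b' ≫ rpt (w.left z)) ≫ p := by
        rw [(yon S).map_comp a' s₂, Category.assoc, ← e, ← Category.assoc, ← Functor.map_comp]
        exact e'
      obtain ⟨g₁, hf₁, hw₁⟩ := hlift _ _ e'
      obtain ⟨g₂, hf₂, hw₂⟩ := hlift _ _ e''
      have hg : g₁.left = g₂.left := by
        refine eq_of_mem_uniq w.left (K := Ω) g₁.left g₂.left ?_ ?_
        · rw [← Over.comp_left, hw₁, ← Over.comp_left, hw₂]
        · rw [← Over.comp_left, hw₁, Over.comp_left, Scheme.Hom.comp_apply]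
          exact (congrArg (· ∈ uniq w.left) (Scheme.fromSpecResidueField_apply _ _)).mpr hv
      refine Over.OverMorphism.ext (eq_of_field_extension (K := K) (Ω := Ω) a'.left _ _ ?_)
      rw [← Over.comp_left, ← Over.comp_left, ← hf₁, ← hf₂, Over.comp_left, Over.comp_left, hg]

/-- The locus of unique lifting is open in the constructible topology of an affine chart. -/
theorem isOpen_uniqOver [IsAffine S] (hqs : IsQuasiSeparatedSp X.obj) {U V : Over S} [IsAffine U.left]
    [IsAffine V.left] (a : (yon S).obj U ⟶ X.obj) (ha : RepWith @Etale a)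
    (p : (yon S).obj V ⟶ X.obj) :
    IsOpen[constructibleTopology V.left] {v | UniqOver a (AlgSp.Points.ofPt p v)} := by
  obtain ⟨W, f, w, sq, h₁, h₂, h₃⟩ := exists_fibre hqs a ha p
  rw [show {v | UniqOver a (AlgSp.Points.ofPt p v)} = uniq w.left from
    Set.ext fun v => uniqOver_iff sq v]
  exact isOpen_uniq w.left

/-- Sections over henselian local rings of an etale map, through a point of `uniq`. -/
theorem exists_section_henselian {A : CommRingCat.{u}} [HenselianLocalRing A] {W : Scheme.{u}}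
    (w : W ⟶ Spec A) [Etale w] (h : IsLocalRing.closedPoint A ∈ uniq w) :
    ∃ s : Spec A ⟶ W, s ≫ w = 𝟙 _ := by
  let k := IsLocalRing.ResidueField A
  let res : A ⟶ CommRingCat.of k := CommRingCat.ofHom (IsLocalRing.residue A)
  have hq : Spec.map res (IsLocalRing.closedPoint k) = IsLocalRing.closedPoint A :=
    PrimeSpectrum.ext (by
      change Ideal.comap (IsLocalRing.residue A) (IsLocalRing.maximalIdeal k) = IsLocalRing.maximalIdeal A
      rw [IsLocalRing.maximalIdeal_eq_bot]
      exact IsLocalRing.ker_residue)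
  obtain ⟨s, hs⟩ : ∃ s : Spec (CommRingCat.of k) ⟶ W, s ≫ w = Spec.map res := by
    refine exists_section_field w (Spec.map res) ?_ fun K _ g₁ g₂ e hg =>
      eq_of_mem_uniq w g₁ g₂ e (by rw [hg, hq]; exact h)
    obtain ⟨z, hz⟩ := h.1
    let ψ := Spec.preimage (W.fromSpecResidueField z ≫ w)
    have hψ : Ideal.comap ψ.hom (IsLocalRing.maximalIdeal (W.residueField z)) =
        IsLocalRing.maximalIdeal A := by
      have := congrArg PrimeSpectrum.asIdeal
        (show Spec.map ψ (IsLocalRing.closedPoint (W.residueField z)) = IsLocalRing.closedPoint A by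
          rw [Spec.map_preimage, Scheme.Hom.comp_apply, Scheme.fromSpecResidueField_apply, hz])
      exact this
    haveI : IsLocalHom ψ.hom :=
      ((IsLocalRing.local_hom_TFAE ψ.hom).out 0 4).2 hψ
    refine ⟨W.residueField z, inferInstance, CommRingCat.ofHom (IsLocalRing.ResidueField.lift ψ.hom),
      W.fromSpecResidueField z, ?_⟩
    rw [← Spec.map_comp]
    exact (Spec.map_preimage _).symm.trans (congrArg Spec.map (CommRingCat.hom_ext
      (IsLocalRing.ResidueField.lift_comp_residue ψ.hom).symm))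
  obtain ⟨O, hO, hsO, -⟩ := exists_isAffineOpen_mem_and_subset (X := W)
    (x := s (IsLocalRing.closedPoint k)) (U := ⊤) trivial
  have hr : Set.range s ⊆ Set.range hO.fromSpec := by
    rw [hO.range_fromSpec]
    rintro _ ⟨t, rfl⟩
    rwa [Subsingleton.elim t (IsLocalRing.closedPoint k)]
  let σ := Spec.preimage (IsOpenImmersion.lift hO.fromSpec s hr)
  let χ := Spec.preimage (hO.fromSpec ≫ w)
  have hcomp : χ ≫ σ = res := Spec.map_injective (by
    rw [Spec.map_comp, Spec.map_preimage, Spec.map_preimage, IsOpenImmersion.lift_fac_assoc, hs])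
  have het : χ.hom.Etale := by
    refine (HasRingHomProperty.Spec_iff (P := @Etale)).1 ?_
    rw [Spec.map_preimage]
    infer_instance
  let _ : Algebra A Γ(W, O) := χ.hom.toAlgebra
  haveI : Algebra.Etale A Γ(W, O) := het
  let σ' : Γ(W, O) →ₐ[A] k := { σ.hom with commutes' := fun r => congrArg (fun φ => φ.hom r) hcomp }
  obtain ⟨g, -, -⟩ := Groth.Hensel1.existsUnique_algHom_lift_residue (R := A) (T := A) σ'
  refine ⟨Spec.map (CommRingCat.ofHom g.toRingHom) ≫ hO.fromSpec, ?_⟩
  rw [Category.assoc, ← Spec.map_preimage (hO.fromSpec ≫ w), ← Spec.map_comp, ← Spec.map_id]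
  exact congrArg Spec.map (CommRingCat.hom_ext (RingHom.ext g.commutes))

/-- A point with values in a henselian local ring lifts to every chart with a unique point over its
closed point. -/
theorem exists_lift [IsAffine S] (hqs : IsQuasiSeparatedSp X.obj) {U : Over S} [IsAffine U.left]
    (a : (yon S).obj U ⟶ X.obj) (ha : RepWith @Etale a) {A : CommRingCat.{u}} [HenselianLocalRing A]
    (str : Spec A ⟶ S) (y : (yon S).obj (Over.mk str) ⟶ X.obj)
    (h : UniqOver a (AlgSp.Points.ofPt y (IsLocalRing.closedPoint A))) :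
    ∃ s : Over.mk str ⟶ U, (yon S).map s ≫ a = y := by
  haveI : IsAffine (Over.mk str).left := inferInstanceAs (IsAffine (Spec A))
  obtain ⟨W, f, w, sq, h₁, h₂, h₃⟩ := exists_fibre hqs a ha y
  obtain ⟨s, hs⟩ := exists_section_henselian (A := A) w.left ((uniqOver_iff sq _).1 h)
  have hsw : s ≫ W.hom = str := by
    rw [← Over.w w, ← Category.assoc, hs]
    exact Category.id_comp _
  let σ : Over.mk str ⟶ W := Over.homMk s hsw
  have hσ : σ ≫ w = 𝟙 _ := Over.OverMorphism.ext hs
  refine ⟨σ ≫ f, ?_⟩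
  rw [Functor.map_comp, Category.assoc, sq.w, ← Category.assoc, ← Functor.map_comp, hσ]
  exact (congrArg (· ≫ y) ((yon S).map_id _)).trans (Category.id_comp _)

/-- Finitely many affine etale charts have a unique point over every point of the space. -/
theorem exists_finite_charts [IsAffine S] (hqc : IsQuasiCompactSp X.obj)
    (hqs : IsQuasiSeparatedSp X.obj) :
    ∃ (J : Type u) (_ : Finite J) (U : J → Over S) (a : ∀ j, (yon S).obj (U j) ⟶ X.obj),
      (∀ j, IsAffine (U j).left) ∧ (∀ j, RepWith @Etale (a j)) ∧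
        ∀ x : AlgSp.Points X.obj, ∃ j, UniqOver (a j) x := by
  have hdec := Groth.Agent.S10350.result X hqs
  choose U a u hU hel hu using Groth.Agent.S10374.result X hdec
  obtain ⟨U₀, p₀, -, hsurj, hU₀⟩ := hqc
  obtain ⟨t₀, ht₀, hcov⟩ : ∃ t₀ : Set ↥U₀.left.affineOpens, t₀.Finite ∧
      ∀ x, ∃ O ∈ t₀, x ∈ (O : U₀.left.Opens) := by
    obtain ⟨t, ht⟩ := isCompact_univ.elim_finite_subcover
      (fun O : ↥U₀.left.affineOpens => ((O : U₀.left.Opens) : Set ↥U₀.left))
      (fun O => (O : U₀.left.Opens).2) (fun x _ => by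
        obtain ⟨O, hO, hx, -⟩ := exists_isAffineOpen_mem_and_subset (X := U₀.left) (x := x) (U := ⊤) trivial
        exact Set.mem_iUnion.2 ⟨⟨O, hO⟩, hx⟩)
    refine ⟨↑t, t.finite_toSet, fun x => ?_⟩
    obtain ⟨O, hO, hx⟩ := Set.mem_iUnion₂.1 (ht (Set.mem_univ x))
    exact ⟨O, hO, hx⟩
  let V : ↥U₀.left.affineOpens → Over S := fun O => Over.mk ((O : U₀.left.Opens).ι ≫ U₀.hom)
  let p : ∀ O, (yon S).obj (V O) ⟶ X.obj := fun O =>
    (yon S).map (Over.homMk (O : U₀.left.Opens).ι rfl : V O ⟶ U₀) ≫ p₀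
  have hfin : ∀ O : ↥U₀.left.affineOpens, ∃ t : Set ↥(V O).left, t.Finite ∧
      ∀ v : ↥(V O).left, ∃ v' ∈ t,
        UniqOver (a (AlgSp.Points.ofPt (p O) v')) (AlgSp.Points.ofPt (p O) v) := by
    intro O
    haveI : IsAffine (V O).left := O.2
    let T := WithConstructibleTopology ↥(V O).left
    let s : ↥(V O).left → Set T := fun v' =>
      (WithTopology.ofTopology (t := constructibleTopology ↥(V O).left)) ⁻¹'
        {v | UniqOver (a (AlgSp.Points.ofPt (p O) v')) (AlgSp.Points.ofPt (p O) v)}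
    obtain ⟨t, ht⟩ := (isCompact_univ (X := T)).elim_finite_subcover s
      (fun v' => by
        haveI := hU (AlgSp.Points.ofPt (p O) v')
        exact @Continuous.isOpen_preimage _ _ _ (constructibleTopology _) _
          (WithTopology.continuous_ofTopology _) _ (isOpen_uniqOver hqs _ (hel _).etale (p O)))
      (fun v _ => Set.mem_iUnion.2 ⟨v.ofTopology, uniqOver_of_elementary _ _ _ (hel _) (hu _)⟩)
    refine ⟨↑t, t.finite_toSet, fun v => ?_⟩
    obtain ⟨v', hv', hv⟩ := Set.mem_iUnion₂.1 (ht (Set.mem_univ (WithTopology.toTopology _ v)))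
    exact ⟨v', hv', hv⟩
  choose t ht htcov using hfin
  haveI := ht₀.to_subtype
  haveI := fun O => (ht O).to_subtype
  refine ⟨Σ O : t₀, t O.1, inferInstance, fun j => U (AlgSp.Points.ofPt (p j.1.1) j.2.1),
    fun j => a _, fun j => hU _, fun j => (hel _).etale, fun x => ?_⟩
  obtain ⟨x₀, rfl⟩ := surjective_ofPt_of_repWith hsurj x
  obtain ⟨O, hO, hx⟩ := hcov x₀
  obtain ⟨v', hv', hv⟩ := htcov O ⟨x₀, hx⟩
  refine ⟨⟨⟨O, hO⟩, ⟨v', hv'⟩⟩, ?_⟩
  rwa [show AlgSp.Points.ofPt (p O) ⟨x₀, hx⟩ = AlgSp.Points.ofPt p₀ x₀ from ofPt_comp_yon _ _ _] at hv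

/-- Families of henselian local points come from a point of the product ring. -/
theorem exists_pi_point [IsAffine S] (hqc : IsQuasiCompactSp X.obj)
    (hqs : IsQuasiSeparatedSp X.obj) {ι : Type u} (A : ι → CommRingCat.{u})
    [∀ i, HenselianLocalRing (A i)] (h : Spec (CommRingCat.of (∀ i, A i)) ⟶ S)
    (y : ∀ i, (yon S).obj (Over.mk
      (Spec.map (CommRingCat.ofHom (Pi.evalRingHom (fun j => (A j : Type u)) i)) ≫ h)) ⟶ X.obj) :
    ∃ g : (yon S).obj (Over.mk h) ⟶ X.obj, ∀ i, (yon S).map (Over.homMk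
      (Spec.map (CommRingCat.ofHom (Pi.evalRingHom (fun j => (A j : Type u)) i))) rfl :
        Over.mk (Spec.map (CommRingCat.ofHom (Pi.evalRingHom (fun j => (A j : Type u)) i)) ≫ h) ⟶
          Over.mk h) ≫ g = y i := by
  obtain ⟨J, _, U, a, hU, ha, hcov⟩ := exists_finite_charts hqc hqs
  choose j hj using fun i => hcov (AlgSp.Points.ofPt (y i) (IsLocalRing.closedPoint (A i)))
  have hs : ∀ i, ∃ s, (yon S).map s ≫ a (j i) = y i := fun i =>
    haveI := hU (j i)
    exists_lift hqs (a (j i)) (ha (j i)) _ (y i) (hj i)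
  choose s hs using hs
  obtain ⟨G, hG, -⟩ := AlgSp2.exists_glue U a
  haveI : ∀ k, IsAffine (U k).left := hU
  haveI : IsAffine (AlgSp2.sigmaObj U).left := inferInstanceAs (IsAffine (∐ fun k => (U k).left))
  let r := fun i => s i ≫ AlgSp2.sigmaIncl U (j i)
  obtain ⟨Q, hQ⟩ := (Groth.Agent.S17856.result (AlgSp2.sigmaObj U).left A).2 fun i => (r i).left
  have hQh : Q ≫ (AlgSp2.sigmaObj U).hom = h :=
    (Groth.Agent.S17856.result S A).1 (funext fun i => by
      have e : Spec.map (CommRingCat.ofHom (Pi.evalRingHom (fun j => (A j : Type u)) i)) ≫ Q =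
          (r i).left := congrFun hQ i
      dsimp only
      rw [← Category.assoc, e]
      exact Over.w (r i))
  refine ⟨(yon S).map (Over.homMk Q hQh : Over.mk h ⟶ AlgSp2.sigmaObj U) ≫ G, fun i => ?_⟩
  rw [← Category.assoc, ← Functor.map_comp, ← hs i, ← hG (j i), ← Category.assoc, ← Functor.map_comp]
  congr 2
  exact Over.OverMorphism.ext (congrFun hQ i)

end

end Groth.MiscGeom.AlgzPiPoints
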