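import Mathlib

/-! Regular sequences on a module are quasi-regular: monomials of a fixed degree by recursion. -/

set_option autoImplicit false

universe u v

namespace Groth.MiscGeom.AlgzQR

/-- Monomials of degree `n` in `c` variables, split along the last variable. -/
inductive Mon : ℕ → ℕ → Type
  | one (c : ℕ) : Mon c 0
  | skip {c n : ℕ} : Mon c (n + 1) → Mon (c + 1) (n + 1)
  | mul {c n : ℕ} : Mon (c + 1) n → Mon (c + 1) (n + 1)

instance isEmpty_zero (n : ℕ) : IsEmpty (Mon 0 (n + 1)) := ⟨fun a => by cases a⟩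

instance subsingleton_one (c : ℕ) : Subsingleton (Mon c 0) :=
  ⟨fun a b => by cases a; cases b; rfl⟩

/-- The splitting along the last variable. -/
def split (c n : ℕ) : Mon c (n + 1) ⊕ Mon (c + 1) n ≃ Mon (c + 1) (n + 1) where
  toFun := Sum.elim Mon.skip Mon.mul
  invFun a := match a with
    | Mon.skip a => Sum.inl a
    | Mon.mul b => Sum.inr b
  left_inv := by rintro (a | b) <;> rfl
  right_inv a := by cases a <;> rfl

/-- They are finitely many. -/
noncomputable instance fintypeMon : ∀ c n, Fintype (Mon c n)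
  | c, 0 => ⟨{Mon.one c}, fun a => by cases a; simp⟩
  | 0, _ + 1 => Fintype.ofIsEmpty
  | c + 1, n + 1 =>
    haveI := fintypeMon c (n + 1)
    haveI := fintypeMon (c + 1) n
    Fintype.ofEquiv _ (split c n)

variable {R : Type u} [CommRing R]

/-- The value of a monomial. -/
def val : ∀ {c : ℕ}, (Fin c → R) → ∀ n, Mon c n → R
  | _, _, _, Mon.one _ => 1
  | _ + 1, f, n + 1, Mon.skip a => val (f ∘ Fin.castSucc) (n + 1) a
  | _ + 1, f, n + 1, Mon.mul b => f (Fin.last _) * val f n b

theorem map_val {R' : Type*} [CommRing R'] (g : R →+* R') : ∀ {c : ℕ} (f : Fin c → R) (n : ℕ) (a : Mon c n),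
    g (val f n a) = val (g ∘ f) n a
  | _, _, _, Mon.one _ => by simp [val]
  | _ + 1, f, n + 1, Mon.skip a => by simp only [val]; exact map_val g (f ∘ Fin.castSucc) (n + 1) a
  | _ + 1, f, n + 1, Mon.mul b => by
    simp only [val, Function.comp_apply]
    rw [map_mul, map_val g f n b]

theorem sum_split {M : Type v} [AddCommMonoid M] (c n : ℕ) (F : Mon (c + 1) (n + 1) → M) :
    ∑ a, F a = (∑ a, F (Mon.skip a)) + ∑ b, F (Mon.mul b) := by
  rw [← (split c n).sum_comp F, Fintype.sum_sum_type]
  rfl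

theorem span_succ {c : ℕ} (f : Fin (c + 1) → R) :
    Ideal.span (Set.range f) = Ideal.span (Set.range (f ∘ Fin.castSucc)) ⊔ Ideal.span {f (Fin.last c)} := by
  rw [← Ideal.span_union]
  congr 1
  ext x
  constructor
  · rintro ⟨i, rfl⟩
    induction i using Fin.lastCases with
    | last => exact Or.inr rfl
    | cast i => exact Or.inl ⟨i, rfl⟩
  · rintro (⟨i, rfl⟩ | rfl) <;> exact ⟨_, rfl⟩

theorem sup_pow_succ (J : Ideal R) (x : R) (n : ℕ) :
    (J ⊔ Ideal.span {x}) ^ (n + 1) = J ^ (n + 1) ⊔ Ideal.span {x} * (J ⊔ Ideal.span {x}) ^ n := by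
  induction n with
  | zero => simp
  | succ n ih =>
    refine le_antisymm ?_ (sup_le (Ideal.pow_right_mono le_sup_left _) ?_)
    · conv_lhs => rw [pow_succ', Ideal.sup_mul]
      refine sup_le ?_ le_sup_right
      rw [ih, Ideal.mul_sup, ← pow_succ']
      refine sup_le le_sup_left (le_trans ?_ le_sup_right)
      rw [mul_left_comm]
      refine Ideal.mul_mono le_rfl ?_
      rw [← ih, pow_succ']
      exact Ideal.mul_mono le_sup_left le_rfl
    · rw [pow_succ' (J ⊔ Ideal.span {x}) (n + 1)]
      exact Ideal.mul_mono le_sup_right le_rfl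

theorem val_mem : ∀ {c : ℕ} (f : Fin c → R) (n : ℕ) (a : Mon c n), val f n a ∈ Ideal.span (Set.range f) ^ n
  | _, _, _, Mon.one _ => by simp
  | _ + 1, f, n + 1, Mon.skip a => by
    simp only [val]
    refine Ideal.pow_right_mono ?_ _ (val_mem (f ∘ Fin.castSucc) (n + 1) a)
    rw [span_succ f]
    exact le_sup_left
  | _ + 1, f, n + 1, Mon.mul b => by
    simp only [val]
    rw [pow_succ']
    exact Ideal.mul_mem_mul (Ideal.subset_span ⟨_, rfl⟩) (val_mem f n b)

theorem pow_le_span : ∀ {c : ℕ} (f : Fin c → R) (n : ℕ),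
    Ideal.span (Set.range f) ^ n ≤ Ideal.span (Set.range (val f n))
  | c, f, 0 => by
    rw [pow_zero, Ideal.one_eq_top, top_le_iff, Ideal.eq_top_iff_one]
    exact Ideal.subset_span ⟨Mon.one c, by simp [val]⟩
  | 0, f, n + 1 => by simp [Set.range_eq_empty, pow_succ]
  | c + 1, f, n + 1 => by
    rw [span_succ f, sup_pow_succ]
    refine sup_le ((pow_le_span (f ∘ Fin.castSucc) (n + 1)).trans (Ideal.span_mono ?_)) ?_
    · rintro _ ⟨a, rfl⟩
      exact ⟨Mon.skip a, by simp [val]⟩
    · rw [← span_succ f]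
      refine (Ideal.mul_mono le_rfl (pow_le_span f n)).trans ?_
      rw [Ideal.span_mul_span']
      refine Ideal.span_mono ?_
      rintro _ ⟨x, rfl, _, ⟨b, rfl⟩, rfl⟩
      exact ⟨Mon.mul b, by simp [val]⟩

variable {M : Type v} [AddCommGroup M] [Module R M]

theorem exists_sum_of_mem {c : ℕ} (f : Fin c → R) (n : ℕ) {y : M}
    (hy : y ∈ Ideal.span (Set.range f) ^ n • (⊤ : Submodule R M)) :
    ∃ Y : Mon c n → M, y = ∑ a, val f n a • Y a := by
  classical
  have h := Submodule.smul_mono (pow_le_span f n) (le_refl (⊤ : Submodule R M)) hy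
  refine Submodule.smul_induction_on h (fun r hr m _ => ?_) fun a b ⟨Y, hY⟩ ⟨Z, hZ⟩ =>
    ⟨Y + Z, by rw [hY, hZ, ← Finset.sum_add_distrib]; simp [smul_add]⟩
  obtain ⟨w, hw⟩ := (Submodule.mem_span_range_iff_exists_fun R).1 hr
  exact ⟨fun a => w a • m, by rw [← hw, Finset.sum_smul]; simp [smul_smul, mul_comm]⟩

/-- The quasi-regularity property on a module. -/
def QR {c : ℕ} (f : Fin c → R) (M : Type v) [AddCommGroup M] [Module R M] : Prop :=
  ∀ (n : ℕ) (X : Mon c n → M), ∑ a, val f n a • X a ∈ Ideal.span (Set.range f) ^ (n + 1) • (⊤ : Submodule R M) →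
    ∀ a, X a ∈ Ideal.span (Set.range f) • (⊤ : Submodule R M)

theorem mem_pow_of_mul_mem {c : ℕ} {f : Fin c → R} (hf : QR f M) {x : R}
    (hx : ∀ y : M, x • y ∈ Ideal.span (Set.range f) • (⊤ : Submodule R M) →
      y ∈ Ideal.span (Set.range f) • (⊤ : Submodule R M)) :
    ∀ (m : ℕ) (y : M), x • y ∈ Ideal.span (Set.range f) ^ m • (⊤ : Submodule R M) →
      y ∈ Ideal.span (Set.range f) ^ m • (⊤ : Submodule R M) := by
  intro m
  induction m with
  | zero => intro y _; simp
  | succ m ih =>
    intro y hy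
    obtain ⟨Y, rfl⟩ := exists_sum_of_mem f m
      (ih y (Submodule.smul_mono (Ideal.pow_le_pow_right (Nat.le_succ m)) le_rfl hy))
    rw [Finset.smul_sum] at hy
    simp only [smul_comm x] at hy
    have h := hf m (fun a => x • Y a) hy
    refine Submodule.sum_mem _ fun a _ => ?_
    rw [pow_succ, Submodule.mul_smul]
    exact Submodule.smul_mem_smul (val_mem f m a) (hx _ (h a))

theorem qr_succ {c : ℕ} {f : Fin (c + 1) → R} (hf : QR (f ∘ Fin.castSucc) M)
    (hx : ∀ y : M, f (Fin.last c) • y ∈ Ideal.span (Set.range (f ∘ Fin.castSucc)) • (⊤ : Submodule R M) →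
      y ∈ Ideal.span (Set.range (f ∘ Fin.castSucc)) • (⊤ : Submodule R M)) : QR f M := by
  intro n
  induction n with
  | zero =>
    intro X hX a
    have e : ∑ b : Mon (c + 1) 0, val f 0 b • X b = X a := by
      rw [Fintype.sum_subsingleton _ a]
      cases a
      simp [val]
    rw [e, pow_one] at hX
    exact hX
  | succ n ih =>
    intro X hX
    let x := f (Fin.last c)
    let J' := Ideal.span (Set.range (f ∘ Fin.castSucc))
    let J := Ideal.span (Set.range f)
    have hle : J' ≤ J := (span_succ f).ge.trans' le_sup_left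
    let S : M := ∑ b, val f n b • X (Mon.mul b)
    let S' : M := ∑ a, val (f ∘ Fin.castSucc) (n + 1) a • X (Mon.skip a)
    have hsum : ∑ a, val f (n + 1) a • X a = S' + x • S := by
      rw [sum_split, Finset.smul_sum]
      simp only [smul_smul, val, S', x]
    rw [hsum, show Ideal.span (Set.range f) ^ (n + 1 + 1) =
      J' ^ (n + 1 + 1) ⊔ Ideal.span {x} * J ^ (n + 1) by
        simp only [J, J', x, span_succ f]; exact sup_pow_succ _ _ _,
      Submodule.sup_smul, Submodule.mul_smul] at hX
    obtain ⟨T, hT, V, hV, hTV⟩ := Submodule.mem_sup.1 hX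
    obtain ⟨U, hU, rfl⟩ : ∃ U ∈ J ^ (n + 1) • (⊤ : Submodule R M), x • U = V := by
      rw [Submodule.ideal_span_singleton_smul] at hV
      exact (Submodule.mem_smul_pointwise_iff_exists _ _ _).1 hV
    have h1 : x • (S - U) ∈ J' ^ (n + 1) • (⊤ : Submodule R M) := by
      rw [smul_sub, show x • S - x • U = T - S' by rw [sub_eq_sub_iff_add_eq_add, hTV]; abel]
      exact sub_mem (Submodule.smul_mono (Ideal.pow_le_pow_right (Nat.le_succ _)) le_rfl hT)
        (Submodule.sum_mem _ fun a _ => Submodule.smul_mem_smul (val_mem _ _ a) trivial)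
    have h2 := mem_pow_of_mul_mem hf hx _ _ h1
    have hS : S ∈ J ^ (n + 1) • (⊤ : Submodule R M) := by
      have := Submodule.add_mem _ (Submodule.smul_mono (Ideal.pow_right_mono hle (n + 1)) le_rfl h2) hU
      rwa [sub_add_cancel] at this
    obtain ⟨H, hH⟩ := exists_sum_of_mem (f ∘ Fin.castSucc) (n + 1) h2
    have h3 := hf (n + 1) (fun a => X (Mon.skip a) + x • H a) (by
      have e : ∑ a, val (f ∘ Fin.castSucc) (n + 1) a • (X (Mon.skip a) + x • H a) = S' + x • (S - U) := by
        simp only [smul_add, Finset.sum_add_distrib, hH, Finset.smul_sum, smul_comm x]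
        rfl
      rw [e, show S' + x • (S - U) = T by rw [smul_sub, ← add_sub_assoc, ← hTV, add_sub_cancel_right]]
      exact hT)
    intro d
    cases d with
    | skip a =>
      have := sub_mem (Submodule.smul_mono hle le_rfl (h3 a))
        (Submodule.smul_mem_smul (N := (⊤ : Submodule R M)) (show x ∈ J from Ideal.subset_span ⟨_, rfl⟩)
          (Submodule.mem_top : H a ∈ (⊤ : Submodule R M)))
      rwa [add_sub_cancel_right] at this
    | mul b => exact ih (fun b => X (Mon.mul b)) hS b

/-- Weakly regular sequences are quasi-regular. -/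
theorem qr_of_isWeaklyRegular : ∀ {c : ℕ} (f : Fin c → R),
    RingTheory.Sequence.IsWeaklyRegular M (List.ofFn f) → QR f M
  | 0, f, _ => fun n => by
    cases n with
    | zero =>
      intro X hX a
      have : ∑ b : Mon 0 0, val f 0 b • X b = X a := by
        rw [Fintype.sum_subsingleton _ a]
        cases a
        simp [val]
      rwa [this, pow_one] at hX
    | succ n => exact fun X _ a => isEmptyElim a
  | c + 1, f, h => by
    rw [List.ofFn_succ_last, RingTheory.Sequence.isWeaklyRegular_append_iff] at h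
    refine qr_succ (qr_of_isWeaklyRegular (f ∘ Fin.castSucc) h.1) fun y hy => ?_
    have h2 := (RingTheory.Sequence.isWeaklyRegular_cons_iff _ _ _).1 h.2
    have e : Ideal.ofList (List.ofFn (f ∘ Fin.castSucc)) = Ideal.span (Set.range (f ∘ Fin.castSucc)) := by
      simp [Ideal.ofList, List.mem_ofFn', Set.range]
    rw [← e] at hy ⊢
    have h3 := h2.1.right_eq_zero_of_smul
      (x := Submodule.Quotient.mk (p := Ideal.ofList (List.ofFn (f ∘ Fin.castSucc)) • (⊤ : Submodule R M)) y)
    rw [← Submodule.Quotient.mk_smul, Submodule.Quotient.mk_eq_zero, Submodule.Quotient.mk_eq_zero] at h3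
    exact h3 hy

end Groth.MiscGeom.AlgzQR
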