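import Groth.Agent.MiscGeom.AlgzGr
import Groth.Agent.HensScheme.Separated
import Groth.Agent.S2291
import Groth.Prelude.Def_Algz2

/-! Stalks of formal modules, completed stalks, and the freeness of the graded pieces stalkwise. -/

set_option autoImplicit false
set_option backward.isDefEq.respectTransparency.types false

universe u

open CategoryTheory CategoryTheory.Limits AlgebraicGeometry Opposite TopologicalSpace
open Groth.CohC3

namespace Groth.MiscGeom.AlgzStalk

variable {A : Type u} [CommRing A] {X : Scheme.{u}} [X.Over (Spec (CommRingCat.of A))]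

/-- The stalk of the `n`-th term. -/
noncomputable abbrev St (G : ℕᵒᵖ ⥤ X.Modules) (n : ℕ) (y : X) : Type u := (G.obj (op n)).presheaf.stalk y

/-- The transition map on stalks. -/
noncomputable abbrev str (G : ℕᵒᵖ ⥤ X.Modules) {i j : ℕ} (h : i ≤ j) (y : X) :
    St G j y →ₗ[X.presheaf.stalk y] St G i y :=
  Algz.stalkMapₗ (sysMap G h) y

lemma stalkMapₗ_eq {M N : X.Modules} (φ : M ⟶ N) (y : X) :
    ∀ x, Algz.stalkMapₗ φ y x = RefHull.stalkMapₗ φ y x := fun _ => rfl

lemma stalkMapₗ_comp {M N P : X.Modules} (φ : M ⟶ N) (ψ : N ⟶ P) (y : X) (x : M.presheaf.stalk y) :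
    Algz.stalkMapₗ ψ y (Algz.stalkMapₗ φ y x) = Algz.stalkMapₗ (φ ≫ ψ) y x :=
  (ConcreteCategory.congr_hom ((QCohMod.stalk y).map_comp φ ψ) x).symm

lemma stalkMapₗ_id {M : X.Modules} (y : X) (x : M.presheaf.stalk y) :
    Algz.stalkMapₗ (𝟙 M) y x = x :=
  ConcreteCategory.congr_hom ((QCohMod.stalk y).map_id M) x

lemma stalkBase_eq_toStalk (y : X) : Groth.HensScheme.stalkBase (A := A) y = Algz.toStalk A X y := by
  refine RingHom.ext fun a => ?_
  show X.presheaf.germ ⊤ y trivial (baseApp X ⊤ a) = X.presheaf.germ ⊤ y trivial _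
  exact TopCat.Presheaf.germ_res_apply X.presheaf (homOfLE (le_top : (⊤ : X.Opens) ≤ ⊤)) y trivial _

lemma stalkMapₗ_smulMod (M : X.Modules) (a : A) (y : X) (x : M.presheaf.stalk y) :
    Algz.stalkMapₗ (Formal.smulMod A M a) y x = Algz.toStalk A X y a • x := by
  obtain ⟨U, hy, m, rfl⟩ := QCohMod.exists_germ M y x
  rw [← stalkBase_eq_toStalk, Groth.HensScheme.stalkBase_eq hy, ← QCohMod.germ_smul]
  exact (QCohMod.stalk_map_germ (Formal.smulMod A M a) y hy m).trans
    (congrArg (QCohMod.germ M y hy) (smulMod_app M a U m))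

section Sys

variable {I : Ideal A} {G : ℕᵒᵖ ⥤ X.Modules} (hS : IsSys I G) (hq : ∀ n, (G.obj (op n)).IsQuasicoherent)
  (y : X)

lemma str_str {i j k : ℕ} (h : i ≤ j) (h' : j ≤ k) (x : St G k y) :
    str G h y (str G h' y x) = str G (h.trans h') y x := by
  rw [str, str, stalkMapₗ_comp, sysMap_comp]

include hS hq in
lemma str_surjective {i j : ℕ} (h : i ≤ j) : Function.Surjective (str G h y) :=
  haveI := hq j
  Groth.HensScheme.stalkMap_surjective_of_isQuot (hS.isQuot h) y

include hS in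
lemma str_smul_eq_zero {i j : ℕ} (h : i ≤ j) {k : X.presheaf.stalk y}
    (hk : k ∈ Algz.stalkIdeal I y ^ (i + 1)) (x : St G j y) : k • str G h y x = 0 := by
  rw [Algz.stalkIdeal, ← Ideal.map_pow, ← stalkBase_eq_toStalk] at hk
  exact Groth.HensScheme.smul_stalk_eq_zero (hS.isQuot h) y hk x

include hS in
lemma smul_eq_zero {n : ℕ} {k : X.presheaf.stalk y} (hk : k ∈ Algz.stalkIdeal I y ^ (n + 1)) (x : St G n y) :
    k • x = 0 := by
  have h := str_smul_eq_zero hS y (le_refl n) hk x
  rwa [str, sysMap_refl, stalkMapₗ_id] at h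

include hS hq in
lemma ker_str {i j : ℕ} (h : i ≤ j) :
    LinearMap.ker (str G h y) = Algz.stalkIdeal I y ^ (i + 1) • (⊤ : Submodule _ (St G j y)) := by
  refine le_antisymm (fun x hx => ?_) (Submodule.smul_le.2 fun k hk x _ => ?_)
  · haveI := hq j
    have := Groth.HensScheme.mem_smul_of_stalkMap_eq_zero (hS.isQuot h) y (LinearMap.mem_ker.1 hx)
    rwa [stalkBase_eq_toStalk, Ideal.map_pow] at this
  · rw [LinearMap.mem_ker, map_smul]
    exact str_smul_eq_zero hS y h hk x

include hS in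
lemma isAdicComplete_st (n : ℕ) : IsAdicComplete (Algz.stalkIdeal I y) (St G n y) where
  haus' x hx := by
    have h := SModEq.zero.1 (hx (n + 1))
    rwa [eq_bot_iff.2 (Submodule.smul_le.2 fun k hk z _ => (Submodule.mem_bot _).2 (smul_eq_zero hS y hk z)),
      Submodule.mem_bot] at h
  prec' f hf := by
    refine ⟨f (n + 1), fun m => ?_⟩
    rcases le_total m (n + 1) with h | h
    · exact hf h
    · have h2 := hf h
      rw [eq_bot_iff.2 (Submodule.smul_le.2 fun k hk z _ => (Submodule.mem_bot _).2 (smul_eq_zero hS y hk z)),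
        SModEq.bot] at h2
      rw [h2]

include hS in
lemma of_bijective_st (n : ℕ) : Function.Bijective (AdicCompletion.of (Algz.stalkIdeal I y) (St G n y)) :=
  haveI := isAdicComplete_st hS y n
  AdicCompletion.of_bijective _ _

include hS in
/-- The projections of the completed stalk. -/
theorem exists_proj : ∃ π : ∀ n, Algz.hatStalk I G y →ₗ[X.presheaf.stalk y] St G n y,
    (∀ n (x : Algz.hatStalk I G y), AdicCompletion.of (Algz.stalkIdeal I y) (St G n y) (π n x) = x.1 n) ∧
    (∀ n x, str G (Nat.le_succ n) y (π (n + 1) x) = π n x) ∧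
    (∀ x, (∀ n, π n x = 0) → x = 0) ∧
    ∀ z : ∀ n, St G n y, (∀ n, str G (Nat.le_succ n) y (z (n + 1)) = z n) → ∃ x, ∀ n, π n x = z n := by
  let e := fun n => LinearEquiv.ofBijective _ (of_bijective_st hS y n)
  let π : ∀ n, Algz.hatStalk I G y →ₗ[X.presheaf.stalk y] St G n y := fun n =>
    { toFun := fun x => (e n).symm (x.1 n)
      map_add' := fun a b => map_add (e n).symm (a.1 n) (b.1 n)
      map_smul' := fun r a => map_smul (e n).symm r (a.1 n) }
  have hπ : ∀ n (x : Algz.hatStalk I G y), AdicCompletion.of _ (St G n y) (π n x) = x.1 n :=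
    fun n x => (e n).apply_symm_apply _
  have hT : ∀ n (w : St G (n + 1) y), Algz.hatTrans I G y n (AdicCompletion.of _ _ w) =
      AdicCompletion.of _ _ (str G (Nat.le_succ n) y w) := fun n w => AdicCompletion.map_of _ _ w
  refine ⟨π, hπ, fun n x => (of_bijective_st hS y n).1 ?_, fun x hx => ?_, fun z hz => ?_⟩
  · rw [hπ, ← hT, hπ]
    exact x.2 n
  · refine Subtype.ext (funext fun n => ?_)
    rw [← hπ, hx, map_zero]
    rfl
  · refine ⟨⟨fun n => AdicCompletion.of _ _ (z n), fun n => (hT n _).trans (by rw [hz])⟩, fun n => ?_⟩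
    exact (e n).symm_apply_apply (z n)

include hS hq in
/-- The completed stalk is the limit, with the expected kernels. -/
theorem exists_proj' (hI : I.FG) : ∃ π : ∀ n, Algz.hatStalk I G y →ₗ[X.presheaf.stalk y] St G n y,
    (∀ n (x : Algz.hatStalk I G y), AdicCompletion.of (Algz.stalkIdeal I y) (St G n y) (π n x) = x.1 n) ∧
    (∀ n x, str G (Nat.le_succ n) y (π (n + 1) x) = π n x) ∧
    ∀ n, Function.Surjective (π n) ∧ LinearMap.ker (π n) =
      Algz.stalkIdeal I y ^ (n + 1) • (⊤ : Submodule _ (Algz.hatStalk I G y)) := by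
  obtain ⟨π, h1, h2, h3, h4⟩ := exists_proj hS y
  exact ⟨π, h1, h2, (Groth.Agent.S2291.result (X.presheaf.stalk y) (Algz.stalkIdeal I y) (hI.map _)
    (fun n => St G n y) (fun n => str G (Nat.le_succ n) y) (fun n => str_surjective hS hq y _)
    (fun n => ker_str hS hq y _) (Algz.hatStalk I G y) π (fun n => LinearMap.ext (h2 n)) h3
    (fun z hz => h4 z hz)).2.1⟩

include hq in
/-- Freeness of the graded pieces, checked on stalks. -/
theorem isFree_of_stalk (hn : ∀ n : ℕ, ∃ (J : Type) (_ : Fintype J) (a : J → A), (∀ j, a j ∈ I ^ (n + 1)) ∧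
      ∀ y : X, Algz.stalkIdeal I y ^ (n + 1) ≤
        Ideal.span (Set.range fun j => Algz.toStalk A X y (a j)) ⊔ Algz.stalkIdeal I y ^ (n + 1 + 1) ∧
        ∀ Z : J → St G (n + 1) y, ∑ j, Algz.toStalk A X y (a j) • Z j = 0 →
          ∀ j, str G (Nat.zero_le (n + 1)) y (Z j) = 0) :
    AlgzGr.IsFree hS := by
  intro n
  obtain ⟨J, _, a, ha, h⟩ := hn n
  refine ⟨J, inferInstance, a, ha, ?_⟩
  set D := biproduct.desc fun j => AlgzGr.mu hS (ha j)
  refine QCohMod.isIso_of_stalk D fun y => (ConcreteCategory.isIso_iff_bijective _).2 ?_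
  show Function.Bijective (Algz.stalkMapₗ D y)
  let ι := kernel.ι (sysMap G (Nat.le_succ n))
  have hι : Function.Injective (Algz.stalkMapₗ ι y) := (QCohMod.mono_iff_stalk ι).1 inferInstance y
  have hcomp : ∀ j (w : St G (n + 1) y), Algz.stalkMapₗ ι y (Algz.stalkMapₗ (AlgzGr.mu hS (ha j)) y
      (str G (Nat.zero_le (n + 1)) y w)) = Algz.toStalk A X y (a j) • w := fun j w => by
    rw [str, stalkMapₗ_comp, stalkMapₗ_comp, AlgzGr.mu_spec, stalkMapₗ_smulMod]
  let P := fun j => biproduct.π (fun _ : J => G.obj (op 0)) j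
  let Q := fun j => biproduct.ι (fun _ : J => G.obj (op 0)) j
  have hdec : ∀ x, x = ∑ j, Algz.stalkMapₗ (Q j) y (Algz.stalkMapₗ (P j) y x) := fun x => by
    have e : (QCohMod.stalk y).map (∑ j, P j ≫ Q j) =
        ∑ j, (QCohMod.stalk y).map (P j) ≫ (QCohMod.stalk y).map (Q j) := by
      rw [Functor.map_sum]
      simp only [Functor.map_comp]
    rw [biproduct.total, CategoryTheory.Functor.map_id] at e
    refine (ConcreteCategory.congr_hom e x).trans ?_
    let ev : ((QCohMod.stalk y).obj (biproduct fun _ : J => G.obj (op 0)) ⟶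
        (QCohMod.stalk y).obj (biproduct fun _ : J => G.obj (op 0))) →+
          (QCohMod.stalk y).obj (biproduct fun _ : J => G.obj (op 0)) :=
      { toFun := fun φ => φ x
        map_zero' := rfl
        map_add' := fun _ _ => rfl }
    exact map_sum ev _ _
  have hD : ∀ x, Algz.stalkMapₗ D y x = ∑ j, Algz.stalkMapₗ (AlgzGr.mu hS (ha j)) y (Algz.stalkMapₗ (P j) y x) := by
    intro x
    conv_lhs => rw [hdec x]
    rw [map_sum]
    refine Finset.sum_congr rfl fun j _ => ?_
    rw [stalkMapₗ_comp, show Q j ≫ D = AlgzGr.mu hS (ha j) from biproduct.ι_desc _ _]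
  refine ⟨(injective_iff_map_eq_zero _).2 fun x hx => ?_, fun t => ?_⟩
  · choose Z hZ using fun j => str_surjective hS hq y (Nat.zero_le (n + 1)) (Algz.stalkMapₗ (P j) y x)
    have h0 := (h y).2 Z (by
      have := congrArg (Algz.stalkMapₗ ι y) hx
      rw [hD, map_zero, map_sum] at this
      simp only [← hZ, hcomp] at this
      exact this)
    rw [hdec x]
    exact Finset.sum_eq_zero fun j _ => by rw [← hZ, h0 j, map_zero]
  · have ht : Algz.stalkMapₗ ι y t ∈ LinearMap.ker (str G (Nat.le_succ n) y) := by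
      rw [LinearMap.mem_ker, str, stalkMapₗ_comp, kernel.condition]
      show (QCohMod.stalk y).map 0 t = 0
      rw [Functor.map_zero]; rfl
    rw [ker_str hS hq y] at ht
    have : ∀ z ∈ Algz.stalkIdeal I y ^ (n + 1) • (⊤ : Submodule (X.presheaf.stalk y) (St G (n + 1) y)),
        z ∈ LinearMap.range ((Algz.stalkMapₗ ι y).comp (Algz.stalkMapₗ D y)) := by
      intro z hz
      refine Submodule.smul_induction_on hz (fun k hk w _ => ?_) fun p q hp hq => add_mem hp hq
      obtain ⟨k₁, hk₁, k₂, hk₂, rfl⟩ := Submodule.mem_sup.1 ((h y).1 hk)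
      rw [add_smul, smul_eq_zero hS y hk₂, add_zero]
      obtain ⟨c, rfl⟩ := (Submodule.mem_span_range_iff_exists_fun _).1 hk₁
      rw [Finset.sum_smul]
      refine Submodule.sum_mem _ fun j _ => ?_
      rw [smul_eq_mul, mul_smul]
      refine Submodule.smul_mem _ _ ⟨Algz.stalkMapₗ (Q j) y (str G (Nat.zero_le (n + 1)) y w), ?_⟩
      rw [LinearMap.comp_apply, stalkMapₗ_comp (Q j) D, show Q j ≫ D = AlgzGr.mu hS (ha j) from biproduct.ι_desc _ _]
      exact hcomp j w
    obtain ⟨x, hx⟩ := this _ ht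
    exact ⟨x, hι hx⟩

omit hS hq in
/-- A compatible family of projections is compatible with all the transition maps. -/
theorem str_proj {M : Type*} (π : ∀ n, M → St G n y)
    (h : ∀ n x, str G (Nat.le_succ n) y (π (n + 1) x) = π n x) (x : M) :
    ∀ m, str G (Nat.zero_le m) y (π m x) = π 0 x
  | 0 => by rw [str, sysMap_refl, stalkMapₗ_id]
  | m + 1 => by rw [← str_str y (Nat.zero_le m) (Nat.le_succ m), h, str_proj π h x m]

end Sys

theorem mem_map_smul_top {R S M : Type*} [CommRing R] [CommRing S] [Algebra R S] [AddCommGroup M] [Module R M]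
    [Module S M] [IsScalarTower R S M] (K : Ideal R) {x : M} (hx : x ∈ K • (⊤ : Submodule R M)) :
    x ∈ K.map (algebraMap R S) • (⊤ : Submodule S M) := by
  refine Submodule.smul_induction_on hx (fun k hk w _ => ?_) fun _ _ => add_mem
  rw [← algebraMap_smul S k w]
  exact Submodule.smul_mem_smul (Ideal.mem_map_of_mem _ hk) Submodule.mem_top

/-- Outside the zero locus the ideal generates the unit ideal. -/
theorem stalkIdeal_eq_top_of_notMem {U : (Spec (CommRingCat.of A)).Opens} (I : Ideal A) (y : (U : Scheme.{u}))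
    (hy : U.ι.base y ∉ PrimeSpectrum.zeroLocus (R := A) I) : Algz.stalkIdeal I y = ⊤ := by
  obtain ⟨a, ha, ha'⟩ : ∃ a ∈ I, a ∉ (U.ι.base y).asIdeal := by
    by_contra h
    push Not at h
    exact hy ((PrimeSpectrum.mem_zeroLocus _ _).2 h)
  refine Ideal.eq_top_of_isUnit_mem _ (Ideal.mem_map_of_mem _ ha) ?_
  show IsUnit ((U : Scheme.{u}).presheaf.germ ⊤ y trivial (Coh.toGlobal ((U : Scheme.{u}) ↘ Spec (CommRingCat.of A)) a))
  rw [← Scheme.mem_basicOpen_top]
  show y ∈ (U : Scheme.{u}).basicOpen ((((U : Scheme.{u}) ↘ Spec (CommRingCat.of A)).appTop)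
    ((Scheme.ΓSpecIso (CommRingCat.of A)).inv a))
  rw [← Scheme.preimage_basicOpen_top]
  show ((U : Scheme.{u}) ↘ Spec (CommRingCat.of A)).base y ∈ (Spec (CommRingCat.of A)).basicOpen _
  rw [basicOpen_eq_of_affine]
  exact ha'

/-- Freeness of the graded pieces needs only be tested at the points of the zero locus. -/
theorem isFree_of_stalk_open {I : Ideal A} {U : (Spec (CommRingCat.of A)).Opens}
    {G : ℕᵒᵖ ⥤ (U : Scheme.{u}).Modules} (hS : IsSys I G) (hq : ∀ n, (G.obj (op n)).IsQuasicoherent)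
    (hn : ∀ n : ℕ, ∃ (J : Type) (_ : Fintype J) (a : J → A), (∀ j, a j ∈ I ^ (n + 1)) ∧
      ∀ y : (U : Scheme.{u}), U.ι.base y ∈ PrimeSpectrum.zeroLocus (R := A) I →
        Algz.stalkIdeal I y ^ (n + 1) ≤ Ideal.span (Set.range fun j => Algz.toStalk A (U : Scheme.{u}) y (a j)) ⊔
          Algz.stalkIdeal I y ^ (n + 1 + 1) ∧
        ∀ Z : J → St G (n + 1) y, ∑ j, Algz.toStalk A (U : Scheme.{u}) y (a j) • Z j = 0 →
          ∀ j, str G (Nat.zero_le (n + 1)) y (Z j) = 0) :
    AlgzGr.IsFree hS := by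
  refine isFree_of_stalk hS hq fun n => ?_
  obtain ⟨J, hJ, a, ha, h⟩ := hn n
  refine ⟨J, hJ, a, ha, fun y => ?_⟩
  by_cases hy : U.ι.base y ∈ PrimeSpectrum.zeroLocus (R := A) I
  · exact h y hy
  · have ht := stalkIdeal_eq_top_of_notMem I y hy
    refine ⟨?_, fun Z _ j => ?_⟩
    · rw [ht, Ideal.top_pow, Ideal.top_pow, sup_top_eq]
    · rw [← one_smul ((U : Scheme.{u}).presheaf.stalk y) (str G (Nat.zero_le (n + 1)) y (Z j))]
      exact smul_eq_zero hS y (by rw [ht, Ideal.top_pow]; exact Submodule.mem_top) _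

end Groth.MiscGeom.AlgzStalk
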