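import Groth.Agent.MiscGeom.CechAlg
import Groth.Agent.MiscGeom.AdeqAmitsur
import Groth.Agent.MiscGeom.AdeqDescent
import Mathlib.RingTheory.Flat.FaithfullyFlat.Algebra

/-!
# Čech exactness of adequate functors for a faithfully flat algebra
-/

universe u

open CategoryTheory CategoryTheory.Limits Opposite TensorProduct

noncomputable section

namespace Groth.MiscGeom.Adq.Cech

open Adeq

variable {A : Type u} [CommRing A]

/-- the abelian functor of a module valued functor -/
abbrev abF (F : MVF A) : Alg A ⥤ AddCommGrpCat.{u + 1} := MVF.toAb F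

/-- a morphism as a transformation of abelian functors -/
def abMap {F G : MVF A} (φ : F ⟶ G) : abF F ⟶ abF G :=
  Functor.whiskerLeft (opOp (Alg A)) ((PresheafOfModules.toPresheaf _).map φ)

theorem abMap_app {F G : MVF A} (φ : F ⟶ G) (C : Alg A) (x : F.obj (pt C)) : (abMap φ).app C x = ap φ C x := rfl

/-- the initial algebra -/
abbrev base (A : Type u) [CommRing A] : Alg A := algOf A A

/-- the structure map -/
def str (C : Alg A) : base A ⟶ C := CommAlgCat.ofHom (Algebra.ofId A C)

theorem base_hom_ext {C : Alg A} (g h : base A ⟶ C) : g = h :=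
  CommAlgCat.hom_ext (AlgHom.ext fun a => (g.hom.commutes a).trans (h.hom.commutes a).symm)

/-- degree zero exactness -/
def IsGlue (F : Alg A ⥤ AddCommGrpCat.{u + 1}) (V : Alg A) : Prop :=
  ∀ b : Cochain F V 0, IsCocycle b → ∃ x : F.obj (base A), ∀ C p, b.val C p = F.map (str C) x

/-- the constant cochain -/
def const {F : Alg A ⥤ AddCommGrpCat.{u + 1}} (V : Alg A) (x : F.obj (base A)) (n : ℕ) : Cochain F V n where
  val C _ := F.map (str C) x
  nat {C C'} h p := by
    rw [← ConcreteCategory.comp_apply, ← F.map_comp, base_hom_ext (str C ≫ h) (str C')]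

theorem dVal_zero {F : Alg A ⥤ AddCommGrpCat.{u + 1}} {V : Alg A} (b : Cochain F V 0) (C : Alg A) (p : Tup V C 1) :
    dVal b C p = b.val C (fun _ => p 1) - b.val C (fun _ => p 0) := by
  show ∑ i : Fin (0 + 2), (-1 : ℤ) ^ (i : ℕ) • b.val C (face p i) = _
  have h0 : face p 0 = fun _ => p 1 := funext fun j => by rw [Subsingleton.elim (α := Fin 1) j 0]; rfl
  have h1 : face p 1 = fun _ => p 0 := funext fun j => by rw [Subsingleton.elim (α := Fin 1) j 0]; rfl
  rw [Fin.sum_univ_two, h0, h1]
  simp [sub_eq_add_neg]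

variable (A' : Type u) [CommRing A'] [Algebra A A']

theorem unit_ff [Module.FaithfullyFlat A A'] (C : Alg A) : (rh (Alg.unit A A' C)).FaithfullyFlat := by
  have h : (Algebra.TensorProduct.includeRight (R := A) (A := A') (B := C)).toRingHom.FaithfullyFlat := by
    let e : (C : Type u) ⊗[A] A' ≃+* A' ⊗[A] (C : Type u) := (Algebra.TensorProduct.comm A (C : Type u) A').toRingEquiv
    have h1 : (algebraMap (C : Type u) ((C : Type u) ⊗[A] A')).FaithfullyFlat :=
      RingHom.faithfullyFlat_algebraMap_iff.2 inferInstance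
    have h2 : e.toRingHom.FaithfullyFlat := RingHom.FaithfullyFlat.of_bijective e.bijective
    have h3 := RingHom.FaithfullyFlat.stableUnderComposition _ _ h1 h2
    convert h3 using 1
    exact RingHom.ext fun c => rfl
  exact h

/-- the left factor as a map of algebras -/
def leftIn (C : Alg A) : algOf A A' ⟶ (Alg.restr A A').obj ((Alg.baseChange A A').obj C) :=
  letI : Algebra A (A' ⊗[A] (C : Type u)) :=
    ((algebraMap A' (A' ⊗[A] (C : Type u))).comp (algebraMap A A')).toAlgebra
  CommAlgCat.ofHom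
    { (Algebra.TensorProduct.includeLeftRingHom : A' →+* A' ⊗[A] (C : Type u)) with commutes' := fun _ => rfl }

theorem rh_leftIn (C : Alg A) (r : A') : rh (leftIn A' C) r = r ⊗ₜ[A] (1 : C) := rfl

/-- the base change as an algebra over the base -/
abbrev rb (C : Alg A) : Alg A := (Alg.restr A A').obj ((Alg.baseChange A A').obj C)

/-- the defining property of a map out of a base change -/
def IsBCLift (R : Type u) [CommRing R] [Algebra A R] (Z C : Alg A) (q' : R →ₐ[A] C) (p : Z ⟶ C)
    (φ : rb R Z ⟶ C) : Prop := ∀ (r : R) (z : Z), rh φ (r ⊗ₜ[A] z) = q' r * p.hom z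

/-- `A' ⊗ (A' ⊗ C) → A' ⊗ C` -/
theorem exists_mul (C : Alg A) :
    ∃ μ : rb A' (rb A' C) ⟶ rb A' C, IsBCLift A' (rb A' C) (rb A' C) (leftIn A' C).hom (𝟙 _) μ :=
  exists_bcLift A' _ _ (leftIn A' C).hom (𝟙 _)

/-- `A' ⊗ (A' ⊗ C) → A' ⊗ C` -/
def mu (C : Alg A) := (exists_mul A' C).choose

theorem mu_spec (C : Alg A) : IsBCLift A' (rb A' C) (rb A' C) (leftIn A' C).hom (𝟙 _) (mu A' C) :=
  (exists_mul A' C).choose_spec

theorem unit_mu (C : Alg A) :
    (Alg.restr A A').map ((Alg.baseChange A A').map (Alg.unit A A' C)) ≫ mu A' C = 𝟙 _ := by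
  refine CommAlgCat.hom_ext (DFunLike.ext _ _ fun z => ?_)
  have key : RingHom.comp (rh (mu A' C)) (rh (A := A') ((Alg.baseChange A A').map (Alg.unit A A' C))) = RingHom.id _ := by
    refine RingHom.ext fun z => ?_
    induction (z : A' ⊗[A] (C : Type u)) using TensorProduct.induction_on with
    | zero => exact map_zero _
    | add z z' hz hz' => exact (map_add _ z z').trans (congrArg₂ (· + ·) hz hz')
    | tmul r c =>
      refine (mu_spec A' C r ((1 : A') ⊗ₜ[A] c : A' ⊗[A] (C : Type u))).trans ?_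
      show (r ⊗ₜ[A] (1 : C)) * ((1 : A') ⊗ₜ[A] c : A' ⊗[A] (C : Type u)) = _
      rw [Algebra.TensorProduct.tmul_mul_tmul, mul_one, one_mul]
      rfl
  exact DFunLike.congr_fun key z

theorem bc_map_tmul {Z Z' : Alg A} (g : Z ⟶ Z') (r : A') (z : Z) :
    rh (A := A) ((Alg.restr A A').map ((Alg.baseChange A A').map g)) (r ⊗ₜ[A] z) = r ⊗ₜ[A] (g.hom z) :=
  Algebra.TensorProduct.map_tmul (AlgHom.id A' A') g.hom r z

/-- ring maps out of a base change agree if they agree on pure tensors -/
theorem rb_ext {Z : Alg A} {Y : Type u} [CommRing Y] (g g' : (rb A' Z : Type u) →+* Y)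
    (h : ∀ (r : A') (z : Z), g (r ⊗ₜ[A] z) = g' (r ⊗ₜ[A] z)) : g = g' := by
  refine RingHom.ext fun x => ?_
  induction (x : A' ⊗[A] (Z : Type u)) using TensorProduct.induction_on with
  | zero => exact (map_zero g).trans (map_zero g').symm
  | add a b ha hb => exact (map_add g a b).trans ((congrArg₂ (· + ·) ha hb).trans (map_add g' a b).symm)
  | tmul r z => exact h r z

theorem mu_nat_key {C C' : Alg A} (h : C ⟶ C') :
    rh (mu A' C ≫ (Alg.restr A A').map ((Alg.baseChange A A').map h)) =
      rh ((Alg.restr A A').map ((Alg.baseChange A A').map ((Alg.restr A A').map ((Alg.baseChange A A').map h))) ≫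
        mu A' C') := by
  refine rb_ext A' _ _ fun r x => ?_
  let H := rh (A := A) ((Alg.restr A A').map ((Alg.baseChange A A').map h))
  refine (congrArg H (mu_spec A' C r x)).trans ((map_mul H _ _).trans (Eq.trans ?_
    ((congrArg (rh (mu A' C')) (bc_map_tmul A' ((Alg.restr A A').map ((Alg.baseChange A A').map h)) r x)).trans
      (mu_spec A' C' r _)).symm))
  refine congrArg (· * _) ?_
  exact (bc_map_tmul A' h r (1 : C)).trans (congrArg (r ⊗ₜ[A] ·) (map_one h.hom))

theorem mu_nat {C C' : Alg A} (h : C ⟶ C') :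
    mu A' C ≫ (Alg.restr A A').map ((Alg.baseChange A A').map h) =
      (Alg.restr A A').map ((Alg.baseChange A A').map ((Alg.restr A A').map ((Alg.baseChange A A').map h))) ≫ mu A' C' := by
  refine CommAlgCat.hom_ext (DFunLike.ext _ _ fun z => ?_)
  exact DFunLike.congr_fun (mu_nat_key A' h) z

theorem isExact_pushRestr (F : MVF A) (n : ℕ) :
    IsExact (abF ((Adeq.push A A').obj ((Adeq.restr A A').obj F))) (algOf A A') n := by
  intro δ hδ
  let X : Alg A → Alg A := fun C => (Alg.restr A A').obj ((Alg.baseChange A A').obj C)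
  let aug : ∀ (C : Alg A), Tup (algOf A A') C n → Tup (algOf A A') (X C) (n + 1) := fun C p =>
    Fin.cons (leftIn A' C) fun i => p i ≫ Alg.unit A A' C
  let bv : ∀ (C : Alg A), Tup (algOf A A') C n → F.obj (pt (X C)) := fun C p =>
    tr F (mu A' C) (δ.val (X C) (aug C p) : F.obj (pt (X (X C))))
  have haug : ∀ {C C' : Alg A} (h : C ⟶ C') p,
      tmap (aug C p) ((Alg.restr A A').map ((Alg.baseChange A A').map h)) = aug C' (tmap p h) := fun {C C'} h p => by
    funext i
    refine Fin.cases ?_ (fun j => ?_) i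
    · show leftIn A' C ≫ _ = leftIn A' C'
      refine CommAlgCat.hom_ext (DFunLike.ext _ _ fun r => ?_)
      exact (Algebra.TensorProduct.map_tmul (AlgHom.id A' A') h.hom r (1 : C)).trans
        (congrArg (r ⊗ₜ[A] ·) (map_one h.hom))
    · show (p j ≫ Alg.unit A A' C) ≫ _ = (p j ≫ h) ≫ Alg.unit A A' C'
      rw [Category.assoc, Category.assoc, unit_naturality]
  refine ⟨⟨bv, fun {C C'} h p => ?_⟩, fun C p => ?_⟩
  · show tr F ((Alg.restr A A').map ((Alg.baseChange A A').map h)) (tr F (mu A' C) _) = tr F (mu A' C') _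
    rw [tr_comp, tr_congr F (mu_nat A' h), ← tr_comp]
    exact congrArg (tr F (mu A' C')) ((δ.nat _ _).trans (congrArg (δ.val _) (haug h p)))
  · have h0 := hδ (X C) (Fin.cons (leftIn A' C) fun i => p i ≫ Alg.unit A A' C)
    simp only [dVal, Fin.sum_univ_succ (n := n + 2)] at h0
    have hf0 : face (Fin.cons (leftIn A' C) fun i => p i ≫ Alg.unit A A' C) 0 = tmap p (Alg.unit A A' C) := by
      funext j
      simp only [face, Fin.succAbove_zero, Fin.cons_succ]
    have hfs : ∀ i : Fin (n + 2), face (Fin.cons (leftIn A' C) fun i => p i ≫ Alg.unit A A' C) i.succ =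
        aug C (face p i) := fun i => by
      funext j
      refine Fin.cases ?_ (fun k => ?_) j
      · simp only [face, Fin.succ_succAbove_zero, Fin.cons_zero, aug]
      · simp only [face, Fin.succ_succAbove_succ, Fin.cons_succ, aug]
    rw [hf0, ← δ.nat] at h0
    simp only [hfs, Fin.val_zero, pow_zero, one_smul, Fin.val_succ, pow_succ, mul_neg, mul_one, neg_smul,
      Finset.sum_neg_distrib, add_neg_eq_zero] at h0
    let δx : F.obj (pt (X C)) := δ.val C p
    show ∑ i : Fin (n + 2), (-1 : ℤ) ^ (i : ℕ) • bv C (face p i) = δx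
    have h1 : tr F (mu A' C) (tr F ((Alg.restr A A').map ((Alg.baseChange A A').map (Alg.unit A A' C))) δx) =
        tr F (mu A' C) (∑ i : Fin (n + 2), (-1 : ℤ) ^ (i : ℕ) • (δ.val (X C) (aug C (face p i)) : F.obj (pt (X (X C))))) :=
      congrArg (tr F (mu A' C)) h0
    rw [tr_comp, tr_congr F (unit_mu A' C), tr_id, map_sum] at h1
    rw [h1]
    simp only [bv]
    exact Finset.sum_congr rfl fun i _ => (map_zsmul (tr F (mu A' C)) _ _).symm

variable [Module.FaithfullyFlat A A'] {F : MVF A}

theorem isGlue_adequate (hF : adequate A F) : IsGlue (abF F) (algOf A A') := by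
  intro b hb
  have hf : (str (algOf A A')).hom.toRingHom.FaithfullyFlat := RingHom.faithfullyFlat_algebraMap_iff.2 inferInstance
  let y : F.obj (pt (algOf A A')) := b.val (algOf A A') fun _ => 𝟙 _
  have hy : ∀ C (q : algOf A A' ⟶ C), tr F q y = b.val C fun _ => q := fun C q =>
    (b.nat q _).trans (congrArg (b.val C) (funext fun _ => Category.id_comp q))
  obtain ⟨x, hx⟩ := glue_single hF (str (algOf A A')) hf y fun C p q _ => by
    have h := hb C ![p, q]
    rw [dVal_zero, sub_eq_zero] at h
    rw [hy, hy]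
    exact h.symm
  refine ⟨x, fun C p => ?_⟩
  have hp : p = fun _ => p 0 := funext fun j => congrArg p (Subsingleton.elim (α := Fin 1) j 0)
  rw [hp]
  refine (hy C (p 0)).symm.trans ?_
  rw [← hx, tr_comp, tr_congr F (base_hom_ext (str (algOf A A') ≫ p 0) (str C))]
  rfl

theorem isExact_adequate : ∀ (n : ℕ) {F : MVF A}, adequate A F → IsExact (abF F) (algOf A A') n := by
  have setup : ∀ {F : MVF A}, adequate A F → ∃ Q : MVF A, adequate A Q ∧
      ∃ π : (Adeq.push A A').obj ((Adeq.restr A A').obj F) ⟶ Q, (∀ C, Function.Injective (ap (pushUnit A A' F) C)) ∧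
        (∀ C, Function.Exact (ap (pushUnit A A' F) C) (ap π C)) ∧ ∀ C, Function.Surjective (ap π C) := fun {F} hF =>
    ⟨cokernel (pushUnit A A' F), adequate_cokernel _ hF (adequate_push A A' (adequate_restr A A' hF)),
      cokernel.π (pushUnit A A' F), fun C => (injective_iff_map_eq_zero _).2 fun x hx =>
        sep_single hF (Alg.unit A A' C) (unit_ff A' C) x hx,
      fun C => cokernel_exact _ C, fun C => surj_of_epi _ C⟩
  intro n
  induction n with
  | zero =>
    intro F hF
    obtain ⟨Q, hQ, π, hι, he, hπ⟩ := setup hF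
    intro δ hδ
    obtain ⟨b, hb⟩ := isExact_pushRestr A' F 0 (cmap (abMap (pushUnit A A' F)) δ) fun C p => by
      rw [dVal_cmap, hδ, map_zero]
    obtain ⟨x, hx⟩ := isGlue_adequate A' hQ (cmap (abMap π) b) fun C p => by
      rw [dVal_cmap, hb, cmap_val]
      exact (he C).apply_apply_eq_zero _
    obtain ⟨e, rfl⟩ := hπ (base A) x
    let k : Cochain (abF ((Adeq.push A A').obj ((Adeq.restr A A').obj F))) (algOf A A') 0 := const _ e 0
    obtain ⟨c, hc⟩ := exists_factor (abMap (pushUnit A A' F)) hι (b - k) fun C p => (he C _).1 (by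
      rw [sub_val]
      refine (map_sub (ap π C) _ _).trans (sub_eq_zero.2 ((hx C p).trans ?_))
      exact (ap_tr π (str C) e).symm)
    refine ⟨c, fun C p => hι C ?_⟩
    show (abMap (pushUnit A A' F)).app C (dVal c C p) = _
    rw [← dVal_cmap]
    refine Eq.trans ?_ (hb C p)
    trans dVal (b - k) C p
    · simp only [dVal, cmap_val, hc]
    · rw [dVal_sub]
      exact (congrArg (dVal b C p - ·) ((dVal_zero k C p).trans (sub_self _))).trans (sub_zero _)
  | succ n ih =>
    intro F hF
    obtain ⟨Q, hQ, π, hι, he, hπ⟩ := setup hF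
    exact isExact_sub (abMap (pushUnit A A' F)) (abMap π) hι he hπ (ih hQ) (isExact_pushRestr A' F (n + 1))

end Groth.MiscGeom.Adq.Cech

end
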