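import Groth.Agent.MiscGeom.CechComplexCmp

/-!
# Čech complexes of adequate modules
-/

universe u

open CategoryTheory CategoryTheory.Limits AlgebraicGeometry Opposite

noncomputable section

namespace Groth.MiscGeom.Adq.Cech

open Adeq

variable {P : MorphismProperty Scheme.{u}} {S : Scheme.{u}} [BigSite.OSh (Scheme.precoverage P)]

theorem isExact_pull_adequate (hP : GoodProp P) (M : BigSite.Mod (Scheme.precoverage P) S)
    (hM : adequateMod (Scheme.precoverage P) S M) {R : CommRingCat.{u}} (a : Spec R ⟶ S)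
    (A' : Type u) [CommRing A'] [Algebra R A'] [Module.FaithfullyFlat R A'] (n : ℕ) :
    IsExact (affF (𝟙 (Spec R)) ((Over.map a).op ⋙ M.val.presheaf)) (algOf R A') n := by
  let G := (Over.map a).op ⋙ M.val.presheaf
  let s : affF (𝟙 (Spec R)) G ⟶ affF (𝟙 (Spec R) ≫ a) M.val.presheaf :=
    { app := fun D => M.val.presheaf.map (pullCmp a (𝟙 (Spec R)) D).hom.op
      naturality := fun D D' g => by
        show M.val.presheaf.map ((Over.map a).map ((specOver (𝟙 (Spec R))).map g.op)).op ≫
            M.val.presheaf.map (pullCmp a (𝟙 (Spec R)) D').hom.op =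
          M.val.presheaf.map (pullCmp a (𝟙 (Spec R)) D).hom.op ≫ M.val.presheaf.map ((specOver (𝟙 (Spec R) ≫ a)).map g.op).op
        rw [← M.val.presheaf.map_comp, ← M.val.presheaf.map_comp, ← op_comp, ← op_comp]
        congr 2 }
  haveI : ∀ D, IsIso (s.app D) := fun D => inferInstanceAs (IsIso (M.val.presheaf.map (pullCmp a (𝟙 (Spec R)) D).hom.op))
  haveI : IsIso s := NatIso.isIso_of_isIso_app s
  exact isExact_retract s (inv s) (fun D x => ConcreteCategory.congr_hom (congrArg (fun t => t.app D) (IsIso.hom_inv_id s)) x)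
    (isExact_adequate A' n (adequate_toMVF hP (𝟙 (Spec R) ≫ a) M hM))

end Groth.MiscGeom.Adq.Cech

end
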