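import Groth.Prelude.Def_Adeq
import Mathlib.Algebra.Category.Grp.Basic
import Mathlib.Algebra.Homology.ShortComplex.Ab
import Mathlib.AlgebraicTopology.AlternatingFaceMapComplex
import Mathlib.RingTheory.TensorProduct.Maps

/-!
# Čech cochains of an abelian functor on algebras, as natural families on tuples of maps
-/

universe u

open CategoryTheory

noncomputable section

namespace Groth.MiscGeom.Adq.Cech

open Adeq

variable {A : Type u} [CommRing A]

/-- tuples of maps out of the covering algebra -/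
abbrev Tup (V C : Alg A) (n : ℕ) : Type u := Fin (n + 1) → (V ⟶ C)

/-- push a tuple along a map -/
abbrev tmap {V C C' : Alg A} {n : ℕ} (p : Tup V C n) (h : C ⟶ C') : Tup V C' n := fun i => p i ≫ h

/-- omit one entry -/
abbrev face {V C : Alg A} {n : ℕ} (p : Tup V C (n + 1)) (i : Fin (n + 2)) : Tup V C n := fun j => p (i.succAbove j)

/-- natural cochains -/
@[ext]
structure Cochain (F : Alg A ⥤ AddCommGrpCat.{u + 1}) (V : Alg A) (n : ℕ) where
  val : ∀ C, Tup V C n → F.obj C
  nat : ∀ {C C' : Alg A} (h : C ⟶ C') (p : Tup V C n), F.map h (val C p) = val C' (tmap p h)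

variable {F G Q : Alg A ⥤ AddCommGrpCat.{u + 1}} {V : Alg A} {n : ℕ}

/-- the differential -/
def dVal (δ : Cochain F V n) (C : Alg A) (p : Tup V C (n + 1)) : F.obj C :=
  ∑ i : Fin (n + 2), (-1 : ℤ) ^ (i : ℕ) • δ.val C (face p i)

/-- the differential as a cochain -/
def d (δ : Cochain F V n) : Cochain F V (n + 1) where
  val := dVal δ
  nat {C C'} h p := by
    simp only [dVal, map_sum, map_zsmul, δ.nat]

/-- cocycles -/
def IsCocycle (δ : Cochain F V n) : Prop := ∀ C p, dVal δ C p = 0

/-- exactness in positive degrees -/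
def IsExact (F : Alg A ⥤ AddCommGrpCat.{u + 1}) (V : Alg A) (n : ℕ) : Prop :=
  ∀ δ : Cochain F V (n + 1), IsCocycle δ → ∃ b : Cochain F V n, ∀ C p, dVal b C p = δ.val C p

instance : Sub (Cochain F V n) :=
  ⟨fun a b => ⟨fun C p => a.val C p - b.val C p, fun h p => by rw [map_sub, a.nat, b.nat]⟩⟩

instance : Add (Cochain F V n) :=
  ⟨fun a b => ⟨fun C p => a.val C p + b.val C p, fun h p => by rw [map_add, a.nat, b.nat]⟩⟩

theorem sub_val (a b : Cochain F V n) (C : Alg A) (p : Tup V C n) : (a - b).val C p = a.val C p - b.val C p := rfl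

theorem add_val (a b : Cochain F V n) (C : Alg A) (p : Tup V C n) : (a + b).val C p = a.val C p + b.val C p := rfl

theorem dVal_sub (a b : Cochain F V n) (C : Alg A) (p : Tup V C (n + 1)) :
    dVal (a - b) C p = dVal a C p - dVal b C p := by
  simp only [dVal, sub_val, zsmul_sub, Finset.sum_sub_distrib]

theorem dVal_add (a b : Cochain F V n) (C : Alg A) (p : Tup V C (n + 1)) :
    dVal (a + b) C p = dVal a C p + dVal b C p := by
  simp only [dVal, add_val, zsmul_add, Finset.sum_add_distrib]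

/-- push a cochain along a natural transformation -/
def cmap (φ : F ⟶ G) (δ : Cochain F V n) : Cochain G V n where
  val C p := φ.app C (δ.val C p)
  nat {C C'} h p := by
    rw [← δ.nat h p]
    exact (ConcreteCategory.congr_hom (φ.naturality h) (δ.val C p)).symm

theorem cmap_val (φ : F ⟶ G) (δ : Cochain F V n) (C : Alg A) (p : Tup V C n) :
    (cmap φ δ).val C p = φ.app C (δ.val C p) := rfl

theorem dVal_cmap (φ : F ⟶ G) (δ : Cochain F V n) (C : Alg A) (p : Tup V C (n + 1)) :
    dVal (cmap φ δ) C p = φ.app C (dVal δ C p) := by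
  simp only [dVal, map_sum, map_zsmul, cmap_val]

theorem dVal_d (δ : Cochain F V n) (C : Alg A) (p : Tup V C (n + 2)) : dVal (d δ) C p = 0 := by
  show ∑ i : Fin (n + 3), (-1 : ℤ) ^ (i : ℕ) • ∑ j : Fin (n + 2), (-1 : ℤ) ^ (j : ℕ) • δ.val C (face (face p i) j) = 0
  simp only [Finset.smul_sum, smul_smul, ← pow_add]
  rw [← Fintype.sum_prod_type']
  let S := Finset.univ.filter fun ij : Fin (n + 3) × Fin (n + 2) => (ij.2 : ℕ) < (ij.1 : ℕ)
  rw [← Finset.sum_add_sum_compl S, ← eq_neg_iff_add_eq_zero, ← Finset.sum_neg_distrib]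
  refine Finset.sum_bij (fun ij hij => (ij.2.castSucc, ij.1.pred (fun h => by
      have := (Finset.mem_filter.1 hij).2; simp [h] at this)))
    (fun ij hij => ?_) (fun a ha b hb h => ?_) (fun b hb => ?_) (fun ij hij => ?_)
  · have := (Finset.mem_filter.1 hij).2
    simp only [S, Finset.mem_compl, Finset.mem_filter, Finset.mem_univ, true_and, not_lt, Fin.val_pred,
      Fin.val_castSucc]
    omega
  · simp only [Prod.mk.injEq, Fin.ext_iff, Fin.val_castSucc, Fin.val_pred] at h
    have := (Finset.mem_filter.1 ha).2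
    have := (Finset.mem_filter.1 hb).2
    exact Prod.ext (Fin.ext (by omega)) (Fin.ext h.1)
  · simp only [S, Finset.mem_compl, Finset.mem_filter, Finset.mem_univ, true_and, not_lt] at hb
    refine ⟨(b.2.succ, ⟨b.1, by have := b.2.isLt; omega⟩), ?_, ?_⟩
    · simp only [S, Finset.mem_filter, Finset.mem_univ, true_and, Fin.val_succ]
      omega
    · exact Prod.ext (Fin.ext rfl) (Fin.ext (by simp))
  · obtain ⟨i, j⟩ := ij
    have hlt := (Finset.mem_filter.1 hij).2
    simp only at hlt
    have he : face (face p i) j = face (face p j.castSucc) (i.pred (fun h => by simp [h] at hlt)) := by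
      funext k
      refine congrArg p (Fin.ext ?_)
      simp only [Fin.succAbove, Fin.lt_def, Fin.val_castSucc, Fin.val_pred]
      split_ifs <;> simp only [Fin.val_succ, Fin.val_castSucc] at * <;> omega
    rw [he, ← neg_zsmul]
    congr 1
    simp only [Fin.val_castSucc, Fin.val_pred]
    rw [show (i : ℕ) + j = (j + ((i : ℕ) - 1)) + 1 by omega, pow_succ, mul_neg, mul_one]

/-! ### universal tuples -/

/-- the universal tuple -/
structure IsUniv (V U : Alg A) (u : Tup V U n) : Prop where
  lift : ∀ (C : Alg A) (p : Tup V C n), ∃ φ : U ⟶ C, ∀ i, u i ≫ φ = p i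
  uniq : ∀ (C : Alg A) (φ ψ : U ⟶ C), (∀ i, u i ≫ φ = u i ≫ ψ) → φ = ψ

variable (V) in
theorem exists_univ : ∀ n : ℕ, ∃ (U : Alg A) (u : Tup V U n), IsUniv V U u
  | 0 => ⟨V, fun _ => 𝟙 V, fun C p => ⟨p 0, fun i => by rw [Category.id_comp, Subsingleton.elim (α := Fin 1) i 0]⟩,
      fun C φ ψ h => by simpa using h 0⟩
  | n + 1 => by
    obtain ⟨U, u, hu⟩ := exists_univ n
    let W : Alg A := algOf A (TensorProduct A (V : Type u) (U : Type u))
    let l : V ⟶ W := CommAlgCat.ofHom Algebra.TensorProduct.includeLeft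
    let r : U ⟶ W := CommAlgCat.ofHom Algebra.TensorProduct.includeRight
    refine ⟨W, Fin.cons l fun i => u i ≫ r, fun C p => ?_, fun C φ ψ h => ?_⟩
    · obtain ⟨ρ, hρ⟩ := hu.lift C fun i => p i.succ
      refine ⟨CommAlgCat.ofHom (Algebra.TensorProduct.lift (p 0).hom ρ.hom fun _ _ => mul_comm _ _), Fin.cases ?_ fun i => ?_⟩
      · rw [Fin.cons_zero]
        exact CommAlgCat.hom_ext (Algebra.TensorProduct.lift_comp_includeLeft (p 0).hom ρ.hom fun _ _ => mul_comm _ _)
      · rw [Fin.cons_succ, Category.assoc, ← hρ i]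
        exact congrArg (u i ≫ ·) (CommAlgCat.hom_ext (Algebra.TensorProduct.lift_comp_includeRight (p 0).hom ρ.hom fun _ _ => mul_comm _ _))
    · have h0 := h 0
      rw [Fin.cons_zero] at h0
      have h1 : r ≫ φ = r ≫ ψ := hu.uniq C _ _ fun i => by
        have := h i.succ
        rwa [Fin.cons_succ, Category.assoc, Category.assoc] at this
      exact CommAlgCat.hom_ext (Algebra.TensorProduct.ext (congrArg CommAlgCat.Hom.hom h0)
        (congrArg CommAlgCat.Hom.hom h1))

/-- a cochain from its value at a universal tuple -/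
theorem exists_of_univ {U : Alg A} {u : Tup V U n} (hu : IsUniv V U u) (x : F.obj U) :
    ∃ δ : Cochain F V n, δ.val U u = x := by
  choose φ hφ using hu.lift
  refine ⟨⟨fun C p => F.map (φ C p) x, fun {C C'} h p => ?_⟩, ?_⟩
  · rw [← ConcreteCategory.comp_apply, ← F.map_comp, hu.uniq C' (φ C p ≫ h) (φ C' (tmap p h)) fun i => by
      rw [← Category.assoc, hφ, hφ]]
  · show F.map (φ U u) x = x
    rw [hu.uniq U (φ U u) (𝟙 U) fun i => by rw [hφ, Category.comp_id], F.map_id]
    rfl

theorem eq_of_univ {U : Alg A} {u : Tup V U n} (hu : IsUniv V U u) {δ ε : Cochain F V n}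
    (h : δ.val U u = ε.val U u) (C : Alg A) (p : Tup V C n) : δ.val C p = ε.val C p := by
  obtain ⟨φ, hφ⟩ := hu.lift C p
  have e : tmap u φ = p := funext hφ
  rw [← e, ← δ.nat, ← ε.nat, h]

/-- lifting of cochains along pointwise surjections -/
theorem exists_lift (φ : F ⟶ G) (hφ : ∀ C, Function.Surjective (φ.app C)) (δ : Cochain G V n) :
    ∃ ε : Cochain F V n, ∀ C p, φ.app C (ε.val C p) = δ.val C p := by
  obtain ⟨U, u, hu⟩ := exists_univ V n
  obtain ⟨x, hx⟩ := hφ U (δ.val U u)
  obtain ⟨ε, hε⟩ := exists_of_univ (F := F) hu x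
  exact ⟨ε, fun C p => eq_of_univ hu (δ := cmap φ ε) (by rw [cmap_val, hε, hx]) C p⟩

/-- a cochain with values in the image of a pointwise injection -/
theorem exists_factor (ι : F ⟶ G) (hι : ∀ C, Function.Injective (ι.app C)) (δ : Cochain G V n)
    (h : ∀ C p, δ.val C p ∈ Set.range (ι.app C)) : ∃ ε : Cochain F V n, ∀ C p, ι.app C (ε.val C p) = δ.val C p := by
  choose e he using h
  refine ⟨⟨e, fun {C C'} g p => hι C' ?_⟩, he⟩
  rw [he]
  refine (ConcreteCategory.congr_hom (ι.naturality g) (e C p)).trans ?_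
  rw [ConcreteCategory.comp_apply, he, δ.nat]

/-- the quotient of exact functors is exact -/
theorem isExact_quotient (ι : F ⟶ G) (π : G ⟶ Q) (hι : ∀ C, Function.Injective (ι.app C))
    (he : ∀ C, Function.Exact (ι.app C) (π.app C)) (hπ : ∀ C, Function.Surjective (π.app C))
    (hF : IsExact F V (n + 1)) (hG : IsExact G V n) : IsExact Q V n := by
  intro δ hδ
  obtain ⟨ε, hε⟩ := exists_lift π hπ δ
  obtain ⟨η, hη⟩ := exists_factor ι hι (d ε) fun C p => (he C _).1 (by
    show π.app C (dVal ε C p) = 0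
    rw [← dVal_cmap]
    refine Eq.trans ?_ (hδ C p)
    simp only [dVal, cmap_val, hε])
  obtain ⟨b, hb⟩ := hF η fun C p => hι C (by
    rw [← dVal_cmap, map_zero, ← dVal_d ε C p]
    simp only [dVal, cmap_val, hη])
  obtain ⟨c, hc⟩ := hG (ε - cmap ι b) fun C p => by
    rw [dVal_sub, dVal_cmap, hb, hη]
    exact sub_self _
  refine ⟨cmap π c, fun C p => ?_⟩
  rw [dVal_cmap, hc, sub_val, map_sub, hε, cmap_val, (he C).apply_apply_eq_zero, sub_zero]

/-- the subfunctor of exact functors is exact, in the next degree -/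
theorem isExact_sub (ι : F ⟶ G) (π : G ⟶ Q) (hι : ∀ C, Function.Injective (ι.app C))
    (he : ∀ C, Function.Exact (ι.app C) (π.app C)) (hπ : ∀ C, Function.Surjective (π.app C))
    (hQ : IsExact Q V n) (hG : IsExact G V (n + 1)) : IsExact F V (n + 1) := by
  intro δ hδ
  obtain ⟨b, hb⟩ := hG (cmap ι δ) fun C p => by rw [dVal_cmap, hδ, map_zero]
  obtain ⟨e, he'⟩ := hQ (cmap π b) fun C p => by
    rw [dVal_cmap, hb, cmap_val, (he C).apply_apply_eq_zero]
  obtain ⟨e', he''⟩ := exists_lift π hπ e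
  obtain ⟨c, hc⟩ := exists_factor ι hι (b - d e') fun C p => (he C _).1 (by
    rw [sub_val, map_sub, sub_eq_zero, ← cmap_val π b, ← he']
    show dVal e C p = π.app C (dVal e' C p)
    rw [← dVal_cmap]
    simp only [dVal, cmap_val, he''])
  refine ⟨c, fun C p => hι C ?_⟩
  rw [← dVal_cmap]
  refine Eq.trans ?_ (hb C p)
  trans dVal (b - d e') C p
  · simp only [dVal, cmap_val, hc]
  · rw [dVal_sub, dVal_d, sub_zero]

/-- retracts of exact functors are exact -/
theorem isExact_retract (s : F ⟶ G) (r : G ⟶ F) (hsr : ∀ C x, r.app C (s.app C x) = x) (hG : IsExact G V n) :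
    IsExact F V n := fun δ hδ => by
  obtain ⟨b, hb⟩ := hG (cmap s δ) fun C p => by rw [dVal_cmap, hδ, map_zero]
  exact ⟨cmap r b, fun C p => by rw [dVal_cmap, hb, cmap_val, hsr]⟩

end Groth.MiscGeom.Adq.Cech

end
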