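import Groth.Agent.MiscGeom.CechCohom
import Mathlib.CategoryTheory.Sites.SheafCohomology.Cech
import Mathlib.Algebra.Category.Grp.Limits
import Mathlib.Algebra.Homology.ShortComplex.HomologicalComplex

/-!
# The Čech complex of an affine cover via natural cochains
-/

universe u

open CategoryTheory CategoryTheory.Limits AlgebraicGeometry Opposite

noncomputable section

namespace Groth.MiscGeom.Adq.Cech

open Adeq

variable {R : CommRingCat.{u}} (G : (Over (Spec R))ᵒᵖ ⥤ AddCommGrpCat.{u + 1}) (V : Alg R)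

/-- the covering object -/
abbrev coverObj (_ : PUnit.{u + 2}) : Over (Spec R) := Over.mk (bB V)

/-- an affine object mapped to the covering object -/
def toCover {D : Alg R} (p : V ⟶ D) : (specOver (𝟙 (Spec R))).obj (op D) ⟶ Over.mk (bB V) :=
  Over.homMk (specHom p) ((specHom_bB p).trans (Category.comp_id _).symm)

/-- an affine object mapped to a power of the covering object -/
def toPower {D : Alg R} {n : ℕ} (p : Tup V D n) :
    (specOver (𝟙 (Spec R))).obj (op D) ⟶ ∏ᶜ (fun _ : Fin (n + 1) => Over.mk (bB V)) :=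
  Pi.lift fun i => toCover V (p i)

theorem toPower_comp {D D' : Alg R} {n : ℕ} (p : Tup V D n) (h : D ⟶ D') :
    (specOver (𝟙 (Spec R))).map h.op ≫ toPower V p = toPower V (tmap p h) := by
  refine Pi.hom_ext _ _ fun i => ?_
  rw [Category.assoc, toPower, toPower, Pi.lift_π, Pi.lift_π]
  refine Over.OverMorphism.ext ?_
  exact (specHom_comp (p i) h).symm

theorem isIso_toPower {U : Alg R} {n : ℕ} {u : Tup V U n} (hu : IsUniv V U u) : IsIso (toPower V u) := by
  let Q := ∏ᶜ (fun _ : Fin (n + 1) => Over.mk (bB V))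
  obtain ⟨g, hg, -⟩ := univ_scheme hu Q.left (fun i => (Pi.π (fun _ : Fin (n + 1) => Over.mk (bB V)) i).left) Q.hom
    fun i => Over.w (Pi.π (fun _ : Fin (n + 1) => Over.mk (bB V)) i)
  let g' : Q ⟶ (specOver (𝟙 (Spec R))).obj (op U) := Over.homMk g (by
    show g ≫ Spec.map (CommRingCat.ofHom (algebraMap R U)) ≫ 𝟙 _ = Q.hom
    rw [Category.comp_id, show Spec.map (CommRingCat.ofHom (algebraMap R U)) = specHom (u 0) ≫ bB V from
      (bB_eq_of_hom (u 0)).symm, ← Category.assoc, hg 0]
    exact Over.w (Pi.π (fun _ : Fin (n + 1) => Over.mk (bB V)) 0))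
  refine ⟨g', ?_, ?_⟩
  · refine Over.OverMorphism.ext ?_
    obtain ⟨g₀, -, huniq⟩ := univ_scheme hu (Spec (CommRingCat.of U)) (fun i => specHom (u i)) (bB U)
      fun i => bB_eq_of_hom (u i)
    refine (huniq ((toPower V u).left ≫ g) fun i => ?_).trans (huniq (𝟙 _) fun i => Category.id_comp _).symm
    refine (Category.assoc _ _ _).trans ?_
    exact (congrArg ((toPower V u).left ≫ ·) (hg i)).trans
      (congrArg CommaMorphism.left (Pi.lift_π (fun i => toCover V (u i)) i))
  · refine Pi.hom_ext _ _ fun i => ?_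
    rw [Category.assoc, toPower, Pi.lift_π, Category.id_comp]
    exact Over.OverMorphism.ext (hg i)

/-- Mathlib's complex -/
abbrev cx : CochainComplex AddCommGrpCat.{u + 1} ℕ :=
  (cechComplexFunctor (A := AddCommGrpCat.{u + 1}) (coverObj V)).obj G

/-- the factors of the complex -/
abbrev tObj (n : ℕ) : (Fin (n + 1) → PUnit.{u + 2}) → AddCommGrpCat.{u + 1} :=
  fun x => G.obj (op (∏ᶜ (coverObj V ∘ x)))

/-- the only index -/
abbrev x₀ (n : ℕ) : Fin (n + 1) → PUnit.{u + 2} := fun _ => PUnit.unit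

/-- the only component -/
def comp₀ (n : ℕ) : (cx G V).X n ⟶ G.obj (op (∏ᶜ (fun _ : Fin (n + 1) => Over.mk (bB V)))) :=
  Pi.π (tObj G V n) (x₀ n)

theorem comp₀_bijective (n : ℕ) : Function.Bijective (comp₀ G V n) := by
  let j : G.obj (op (∏ᶜ (fun _ : Fin (n + 1) => Over.mk (bB V)))) ⟶ (cx G V).X n :=
    Pi.lift (f := tObj G V n) fun x => eqToHom (by rw [Subsingleton.elim x (x₀ n)]; rfl)
  have h1 : comp₀ G V n ≫ j = 𝟙 _ := by
    refine Pi.hom_ext (f := tObj G V n) _ _ fun x => ?_
    obtain rfl := Subsingleton.elim x (x₀ n)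
    erw [Category.assoc, Pi.lift_π, Category.id_comp, eqToHom_refl]
    exact Category.comp_id _
  have h2 : j ≫ comp₀ G V n = 𝟙 _ := by
    refine (Pi.lift_π (f := tObj G V n) _ (x₀ n)).trans ?_
    rfl
  haveI : IsIso (comp₀ G V n) := ⟨j, h1, h2⟩
  exact ConcreteCategory.bijective_of_isIso (comp₀ G V n)

/-- the natural cochain of an element of the complex -/
def cochOf {n : ℕ} (z : (cx G V).X n) : Cochain (affF (𝟙 (Spec R)) G) V n where
  val D p := G.map (toPower V p).op (comp₀ G V n z)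
  nat {D D'} h p := by
    show G.map ((specOver (𝟙 (Spec R))).map h.op).op (G.map (toPower V p).op _) = _
    rw [← ConcreteCategory.comp_apply, ← Functor.map_comp, ← op_comp, toPower_comp]

theorem exists_cochOf {n : ℕ} (δ : Cochain (affF (𝟙 (Spec R)) G) V n) :
    ∃ z, ∀ D p, (cochOf G V z).val D p = δ.val D p := by
  obtain ⟨U, u, hu⟩ := exists_univ V n
  haveI := isIso_toPower V hu
  obtain ⟨z, hz⟩ := (comp₀_bijective G V n).2 (G.map (inv (toPower V u)).op (δ.val U u))
  refine ⟨z, fun D p => eq_of_univ hu (δ := cochOf G V z) ?_ D p⟩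
  show G.map (toPower V u).op (comp₀ G V n z) = _
  rw [hz, ← ConcreteCategory.comp_apply, ← Functor.map_comp, ← op_comp, IsIso.hom_inv_id, op_id, G.map_id]
  rfl

theorem cochOf_injective {n : ℕ} {z z' : (cx G V).X n} (h : ∀ D p, (cochOf G V z).val D p = (cochOf G V z').val D p) :
    z = z' := by
  obtain ⟨U, u, hu⟩ := exists_univ V n
  haveI := isIso_toPower V hu
  exact (comp₀_bijective G V n).1 ((ConcreteCategory.bijective_of_isIso (G.map (toPower V u).op)).1 (h U u))

theorem cochOf_d {n : ℕ} (z : (cx G V).X n) (D : Alg R) (p : Tup V D (n + 1)) :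
    (cochOf G V ((cx G V).d n (n + 1) z)).val D p = dVal (cochOf G V z) D p := by
  have hd : (cx G V).d n (n + 1) =
      AlgebraicTopology.AlternatingCofaceMapComplex.objD
        ((FormalCoproduct.cosimplicialObjectFunctor (FormalCoproduct.mk _ (coverObj V)).cech).obj G) n :=
    CochainComplex.of_d _ (AlgebraicTopology.AlternatingCofaceMapComplex.objD
      ((FormalCoproduct.cosimplicialObjectFunctor (FormalCoproduct.mk _ (coverObj V)).cech).obj G)) n
  let C₀ := (FormalCoproduct.cosimplicialObjectFunctor (FormalCoproduct.mk _ (coverObj V)).cech).obj G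
  have key : ∀ i : Fin (n + 2), C₀.δ i ≫ comp₀ G V (n + 1) ≫ G.map (toPower V p).op =
      comp₀ G V n ≫ G.map (toPower V (face p i)).op := fun i => by
    have h : C₀.δ i ≫ comp₀ G V (n + 1) = comp₀ G V n ≫
        G.map (Pi.lift fun j : Fin (n + 1) => Pi.π (fun _ : Fin (n + 2) => Over.mk (bB V)) (i.succAbove j)).op :=
      Pi.lift_π _ _
    refine (Category.assoc _ _ _).symm.trans ((congrArg (· ≫ G.map (toPower V p).op) h).trans
      ((Category.assoc _ _ _).trans (congrArg (comp₀ G V n ≫ ·) ?_)))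
    rw [← G.map_comp, ← op_comp]
    refine congrArg (fun q : (specOver (𝟙 (Spec R))).obj (op D) ⟶ ∏ᶜ (fun _ : Fin (n + 1) => Over.mk (bB V)) => G.map q.op) ?_
    refine Pi.hom_ext _ _ fun j => ?_
    rw [Category.assoc, toPower, toPower, Pi.lift_π, Pi.lift_π, Pi.lift_π]
  show G.map (toPower V p).op (comp₀ G V (n + 1) ((cx G V).d n (n + 1) z)) =
    ∑ i : Fin (n + 2), (-1 : ℤ) ^ (i : ℕ) • G.map (toPower V (face p i)).op (comp₀ G V n z)
  rw [hd]
  have hs : AlgebraicTopology.AlternatingCofaceMapComplex.objD C₀ n ≫ comp₀ G V (n + 1) ≫ G.map (toPower V p).op =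
      ∑ i : Fin (n + 2), (-1 : ℤ) ^ (i : ℕ) • (comp₀ G V n ≫ G.map (toPower V (face p i)).op) := by
    rw [show AlgebraicTopology.AlternatingCofaceMapComplex.objD C₀ n =
      ∑ i : Fin (n + 2), (-1 : ℤ) ^ (i : ℕ) • C₀.δ i from rfl]
    refine (Preadditive.sum_comp _ _ _).trans (Finset.sum_congr rfl fun i _ => ?_)
    rw [Preadditive.zsmul_comp]
    exact congrArg _ (key i)
  refine (ConcreteCategory.congr_hom hs z).trans ?_
  refine (map_sum (({ toFun := fun φ => φ z, map_zero' := rfl, map_add' := fun _ _ => rfl } :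
    ((cx G V).X n ⟶ G.obj (op ((specOver (𝟙 (Spec R))).obj (op D)))) →+ _)) _ _).trans ?_
  rfl

theorem exactAt_cx (n : ℕ) (h : IsExact (affF (𝟙 (Spec R)) G) V n) : (cx G V).ExactAt (n + 1) := by
  rw [HomologicalComplex.exactAt_iff' _ n (n + 1) (n + 2) (by simp) (by simp), ShortComplex.ab_exact_iff]
  intro z hz
  obtain ⟨b, hb⟩ := h (cochOf G V z) fun D p => by
    refine (cochOf_d G V z D p).symm.trans ?_
    show G.map _ (comp₀ G V (n + 2) ((cx G V).d (n + 1) (n + 2) z)) = 0
    rw [show (cx G V).d (n + 1) (n + 2) z = 0 from hz, map_zero, map_zero]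
  obtain ⟨w, hw⟩ := exists_cochOf G V b
  refine ⟨w, cochOf_injective G V fun D p => ?_⟩
  refine (cochOf_d G V w D p).trans (Eq.trans ?_ (hb D p))
  exact Finset.sum_congr rfl fun i _ => congrArg _ (hw D _)

end Groth.MiscGeom.Adq.Cech

end
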