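import Groth.Agent.MiscGeom.CechSite
import Groth.Prelude.Def_Adeq2
import Mathlib.CategoryTheory.Preadditive.Injective.Basic

/-!
# Injective presheaves are Čech exact on affine covers
-/

universe u

open CategoryTheory CategoryTheory.Limits AlgebraicGeometry Opposite

noncomputable section

namespace Groth.MiscGeom.Adq.Cech

open Adeq

variable {S : Scheme.{u}} {R : CommRingCat.{u}} (a : Spec R ⟶ S)

/-- the functor on algebras of a presheaf on the big site -/
abbrev affF (F : (Over S)ᵒᵖ ⥤ AddCommGrpCat.{u + 1}) : Alg R ⥤ AddCommGrpCat.{u + 1} :=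
  opOp (Alg R) ⋙ (specOver a).op ⋙ F

/-- all functions on maps into an object -/
def coskyF (I : (Over S)ᵒᵖ ⥤ AddCommGrpCat.{u + 1}) : (Over S)ᵒᵖ ⥤ AddCommGrpCat.{u + 1} where
  obj X := AddCommGrpCat.of (∀ T : Over S, (T ⟶ X.unop) → I.obj (op T))
  map {X X'} h := AddCommGrpCat.ofHom
    { toFun := fun w T g => w T (g ≫ h.unop), map_zero' := rfl, map_add' := fun _ _ => rfl }
  map_id X := by
    refine AddCommGrpCat.hom_ext (DFunLike.ext _ _ fun w => ?_)
    funext T g
    exact congrArg (w T) (Category.comp_id g)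
  map_comp {X X' X''} h h' := by
    refine AddCommGrpCat.hom_ext (DFunLike.ext _ _ fun w => ?_)
    funext T g
    exact congrArg (w T) (Category.assoc g h'.unop h.unop).symm

/-- a presheaf embeds into `coskyF` -/
def toCosky (I : (Over S)ᵒᵖ ⥤ AddCommGrpCat.{u + 1}) : I ⟶ coskyF I where
  app X := AddCommGrpCat.ofHom
    { toFun := fun x T g => I.map g.op x
      map_zero' := funext fun T => funext fun g => map_zero (I.map g.op).hom
      map_add' := fun x y => funext fun T => funext fun g => map_add (I.map g.op).hom x y }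
  naturality {X X'} h := by
    refine AddCommGrpCat.hom_ext (DFunLike.ext _ _ fun x => ?_)
    funext T g
    show I.map g.op (I.map h x) = I.map (g ≫ h.unop).op x
    rw [← ConcreteCategory.comp_apply, ← Functor.map_comp]
    rfl

instance (I : (Over S)ᵒᵖ ⥤ AddCommGrpCat.{u + 1}) : Mono (toCosky I) := by
  haveI : ∀ X, Mono ((toCosky I).app X) := fun X => (AddCommGrpCat.mono_iff_injective _).2 fun x y h => by
    have h' : I.map (𝟙 X.unop).op x = I.map (𝟙 X.unop).op y := congrFun (congrFun h X.unop) (𝟙 _)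
    rwa [show (𝟙 X.unop).op = 𝟙 X from rfl, I.map_id] at h'
  exact NatTrans.mono_of_mono_app _

/-- compatible families of maps into an affine object -/
abbrev Fam (V : Alg R) (n : ℕ) (T : Over S) : Type u :=
  { y : Fin (n + 1) → (T ⟶ (specOver a).obj (op V)) // ∀ i, (y i).left ≫ bB V = (y 0).left ≫ bB V }

theorem glue_unique {V U : Alg R} {n : ℕ} {u : Tup V U n} (hu : IsUniv V U u) {T : Over S} (y : Fam a V n T) :
    ∃! g : T ⟶ (specOver a).obj (op U), ∀ i, g ≫ (specOver a).map (u i).op = y.1 i := by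
  obtain ⟨g, hg, huniq⟩ := univ_scheme hu T.left (fun i => (y.1 i).left) ((y.1 0).left ≫ bB V) y.2
  have hw : g ≫ Spec.map (CommRingCat.ofHom (algebraMap R U)) ≫ a = T.hom := by
    rw [show Spec.map (CommRingCat.ofHom (algebraMap R U)) = specHom (u 0) ≫ bB V from (bB_eq_of_hom (u 0)).symm,
      Category.assoc, ← Category.assoc g, hg 0]
    exact Over.w (y.1 0)
  refine ⟨Over.homMk g hw, fun i => Over.OverMorphism.ext (hg i), fun g' hg' => Over.OverMorphism.ext ?_⟩
  exact huniq g'.left fun i => congrArg CommaMorphism.left (hg' i)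

theorem over_comp {V C : Alg R} (p : V ⟶ C) {T : Over S} (g : T ⟶ (specOver a).obj (op C)) :
    (g ≫ (specOver a).map p.op).left ≫ bB V = g.left ≫ bB C :=
  (Category.assoc _ _ _).trans (congrArg (g.left ≫ ·) (bB_eq_of_hom p))

/-- the family of a map into an affine object and a tuple -/
def famOf {V C : Alg R} {n : ℕ} (p : Tup V C n) {T : Over S} (g : T ⟶ (specOver a).obj (op C)) : Fam a V n T :=
  ⟨fun i => g ≫ (specOver a).map (p i).op, fun i => (over_comp a (p i) g).trans (over_comp a (p 0) g).symm⟩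

theorem famOf_over {V C : Alg R} {n : ℕ} (p : Tup V C n) {T : Over S} (g : T ⟶ (specOver a).obj (op C)) :
    ((famOf a p g).1 0).left ≫ bB V = g.left ≫ bB C := over_comp a (p 0) g

theorem isExact_cosky (I : (Over S)ᵒᵖ ⥤ AddCommGrpCat.{u + 1}) (V : Alg R) (n : ℕ) :
    IsExact (affF a (coskyF I)) V n := by
  classical
  obtain ⟨U₁, u₁, hu₁⟩ := exists_univ V (n + 1)
  obtain ⟨U₂, u₂, hu₂⟩ := exists_univ V (n + 2)
  intro δ hδ
  choose gl hgl hgu using fun (T : Over S) (y : Fam a V (n + 1) T) => glue_unique a hu₁ y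
  let φ : ∀ T : Over S, Fam a V (n + 1) T → I.obj (op T) := fun T y =>
    (δ.val U₁ u₁ : ∀ T : Over S, (T ⟶ (specOver a).obj (op U₁)) → I.obj (op T)) T (gl T y)
  have hφ : ∀ (C : Alg R) (p : Tup V C (n + 1)) (T : Over S) (g : T ⟶ (specOver a).obj (op C)),
      (δ.val C p : ∀ T : Over S, (T ⟶ (specOver a).obj (op C)) → I.obj (op T)) T g = φ T (famOf a p g) := by
    intro C p T g
    obtain ⟨ψ, hψ⟩ := hu₁.lift C p
    have e : δ.val C p = (affF a (coskyF I)).map ψ (δ.val U₁ u₁) := by rw [δ.nat]; exact congrArg _ (funext hψ).symm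
    rw [e]
    refine congrArg ((δ.val U₁ u₁ : ∀ T : Over S, (T ⟶ (specOver a).obj (op U₁)) → I.obj (op T)) T) ?_
    refine hgu T (famOf a p g) _ fun i => ?_
    show (g ≫ (specOver a).map ψ.op) ≫ (specOver a).map (u₁ i).op = g ≫ (specOver a).map (p i).op
    rw [Category.assoc, ← Functor.map_comp, ← hψ i]
    rfl
  let Pr : ∀ (T : Over S), (T.left ⟶ Spec R) → Prop := fun T χ =>
    ∃ e : T ⟶ (specOver a).obj (op V), e.left ≫ bB V = χ
  let ext₀ : ∀ (T : Over S) (m : ℕ), Fam a V m T → Fam a V (m + 1) T := fun T m y =>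
    have hy : Pr T ((y.1 0).left ≫ bB V) := ⟨y.1 0, rfl⟩
    ⟨Fin.cons hy.choose y.1, fun i => by
      refine Fin.cases ?_ (fun j => ?_) i
      · rfl
      · rw [Fin.cons_succ, Fin.cons_zero, hy.choose_spec]
        exact y.2 j⟩
  have hb : ∀ {C C' : Alg R} (h : C ⟶ C') (q : Tup V C n) (T : Over S) (g : T ⟶ (specOver a).obj (op C')),
      ext₀ T n (famOf a q (g ≫ (specOver a).map h.op)) = ext₀ T n (famOf a (tmap q h) g) := fun {C C'} h q T g => by
    congr 1
    refine Subtype.ext (funext fun i => ?_)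
    show (g ≫ _) ≫ _ = g ≫ (specOver a).map (q i ≫ h).op
    rw [Category.assoc, ← Functor.map_comp]
    rfl
  refine ⟨⟨fun C q => show ∀ T : Over S, (T ⟶ (specOver a).obj (op C)) → I.obj (op T) from
    fun T g => φ T (ext₀ T n (famOf a q g)), fun {C C'} h q => funext fun T => funext fun g => congrArg (φ T) (hb h q T g)⟩,
    fun C p => funext fun T => funext fun g => ?_⟩
  let y := famOf a p g
  let y' := ext₀ T (n + 1) y
  obtain ⟨g₂, hg₂, -⟩ := glue_unique a hu₂ y'
  have h0 := congrFun (congrFun (hδ U₂ u₂) T) g₂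
  let ev : (affF a (coskyF I)).obj U₂ →+ I.obj (op T) :=
    { toFun := fun w => (w : ∀ T : Over S, (T ⟶ (specOver a).obj (op U₂)) → I.obj (op T)) T g₂
      map_zero' := rfl, map_add' := fun _ _ => rfl }
  let ev' : (affF a (coskyF I)).obj C →+ I.obj (op T) :=
    { toFun := fun w => (w : ∀ T : Over S, (T ⟶ (specOver a).obj (op C)) → I.obj (op T)) T g
      map_zero' := rfl, map_add' := fun _ _ => rfl }
  change ev (dVal δ U₂ u₂) = 0 at h0
  show ev' (dVal _ C p) = ev' (δ.val C p)
  rw [show ev' (δ.val C p) = φ T y from hφ C p T g]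
  simp only [dVal, map_sum, map_zsmul, map_add, Fin.sum_univ_succ (n := n + 2)] at h0
  rw [show ev (δ.val U₂ (face u₂ 0)) = φ T y from (hφ _ _ T g₂).trans (congrArg (φ T) (Subtype.ext (funext fun j => by
    show g₂ ≫ (specOver a).map (u₂ ((0 : Fin (n + 3)).succAbove j)).op = y.1 j
    rw [hg₂, Fin.succAbove_zero]
    simp only [y', ext₀, Fin.cons_succ])))] at h0
  have hs : ∀ i : Fin (n + 2), ev (δ.val U₂ (face u₂ i.succ)) = φ T (ext₀ T n (famOf a (face p i) g)) := fun i => by
    refine (hφ _ _ T g₂).trans (congrArg (φ T) (Subtype.ext (funext fun j => ?_)))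
    show g₂ ≫ (specOver a).map (u₂ (i.succ.succAbove j)).op = _
    rw [hg₂]
    refine Fin.cases ?_ (fun k => ?_) j
    · rw [Fin.succ_succAbove_zero]
      show Exists.choose _ = Exists.choose _
      congr 1
      funext e
      rw [famOf_over, famOf_over]
    · rw [Fin.succ_succAbove_succ]
      simp only [y', ext₀, Fin.cons_succ]
      rfl
  simp only [hs, Fin.val_zero, pow_zero, one_smul, Fin.val_succ, pow_succ, mul_neg, mul_one, neg_smul,
    Finset.sum_neg_distrib, add_neg_eq_zero] at h0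
  rw [h0]
  simp only [dVal, map_sum, map_zsmul]
  rfl

theorem isExact_injective (I : (Over S)ᵒᵖ ⥤ AddCommGrpCat.{u + 1}) [Injective I] (V : Alg R) (n : ℕ) :
    IsExact (affF a I) V n := by
  let r := Injective.factorThru (𝟙 I) (toCosky I)
  refine isExact_retract (Functor.whiskerLeft (opOp (Alg R) ⋙ (specOver a).op) (toCosky I))
    (Functor.whiskerLeft (opOp (Alg R) ⋙ (specOver a).op) r) (fun C x => ?_) (isExact_cosky a I V n)
  exact ConcreteCategory.congr_hom (congrArg (fun t => t.app (op ((specOver a).obj (op C)))) (Injective.comp_factorThru (𝟙 I) (toCosky I))) x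

end Groth.MiscGeom.Adq.Cech

end
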