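import Groth.Agent.MiscGeom.CechAdeq
import Groth.Agent.MiscGeom.AdeqPush

/-!
# Fibre powers of an affine cover
-/

universe u

open CategoryTheory CategoryTheory.Limits AlgebraicGeometry Opposite

noncomputable section

namespace Groth.MiscGeom.Adq.Cech

open Adeq

variable {R : CommRingCat.{u}}

theorem bB_eq_of_hom {B B' : Alg R} (g : B ⟶ B') : specHom g ≫ bB B = bB B' := specHom_bB g

/-- the universal tuple is a fibre power of schemes -/
theorem univ_scheme {V U : Alg R} {n : ℕ} {u : Tup V U n} (hu : IsUniv V U u) (T : Scheme.{u})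
    (y : Fin (n + 1) → (T ⟶ Spec (CommRingCat.of V))) (χ : T ⟶ Spec R) (hy : ∀ i, y i ≫ bB V = χ) :
    ∃! g : T ⟶ Spec (CommRingCat.of U), ∀ i, g ≫ specHom (u i) = y i := by
  let θ : ∀ {B : CommRingCat.{u}}, (T ⟶ Spec B) → (B ⟶ Γ(T, ⊤)) := fun {B} f =>
    (Scheme.ΓSpecIso B).inv ≫ f.appTop
  have hθ : ∀ {B : CommRingCat.{u}} (f : T ⟶ Spec B), T.toSpecΓ ≫ Spec.map (θ f) = f := fun {B} f => by
    rw [Spec.map_comp, ← Category.assoc, ← Scheme.toSpecΓ_naturality, Category.assoc,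
      toSpecΓ_SpecMap_ΓSpecIso_inv, Category.comp_id]
  have hθ' : ∀ {B B' : CommRingCat.{u}} (f : T ⟶ Spec B) (h : B' ⟶ B), θ (f ≫ Spec.map h) = h ≫ θ f :=
    fun {B B'} f h => by
      show _ ≫ (f ≫ Spec.map h).appTop = h ≫ _ ≫ f.appTop
      rw [Scheme.Hom.comp_appTop, ← Category.assoc, ← Category.assoc, Scheme.ΓSpecIso_inv_naturality]
  letI : Algebra R Γ(T, ⊤) := (θ χ).hom.toAlgebra
  let C : Alg R := algOf R Γ(T, ⊤)
  have hψ : ∀ i, ∃ ψ : V ⟶ C, CommRingCat.ofHom ψ.hom.toRingHom = θ (y i) := fun i => by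
    refine ⟨CommAlgCat.ofHom { (θ (y i)).hom with commutes' := fun r => ?_ }, rfl⟩
    have h := hθ' (y i) (CommRingCat.ofHom (algebraMap R V))
    rw [show y i ≫ Spec.map (CommRingCat.ofHom (algebraMap R V)) = χ from hy i] at h
    exact (DFunLike.congr_fun (congrArg CommRingCat.Hom.hom h) r).symm
  choose ψ hψ using hψ
  obtain ⟨φ, hφ⟩ := hu.lift C ψ
  have hcomp : ∀ i, T.toSpecΓ ≫ specHom (u i ≫ φ) = y i := fun i => by
    rw [hφ]
    show T.toSpecΓ ≫ Spec.map (CommRingCat.ofHom (ψ i).hom.toRingHom) = y i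
    rw [hψ, hθ]
  refine ⟨T.toSpecΓ ≫ specHom φ, fun i => ?_, fun g hg => ?_⟩
  · rw [Category.assoc, ← specHom_comp]
    exact hcomp i
  · have hgχ : g ≫ bB U = χ := by
      rw [← bB_eq_of_hom (u 0), ← Category.assoc, hg, hy]
    let γ : U ⟶ C := CommAlgCat.ofHom { (θ g).hom with
      commutes' := fun r => by
        have h := hθ' g (CommRingCat.ofHom (algebraMap R U))
        rw [show g ≫ Spec.map (CommRingCat.ofHom (algebraMap R U)) = χ from hgχ] at h
        exact (DFunLike.congr_fun (congrArg CommRingCat.Hom.hom h) r).symm }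
    have hγ : specHom γ = Spec.map (θ g) := rfl
    have e : γ = φ := hu.uniq C γ φ fun i => by
      rw [hφ]
      refine CommAlgCat.hom_ext (AlgHom.coe_ringHom_injective ?_)
      have h1 : θ (g ≫ specHom (u i)) = CommRingCat.ofHom (ψ i).hom.toRingHom := by rw [hg, hψ]
      rw [show specHom (u i) = Spec.map (CommRingCat.ofHom (u i).hom.toRingHom) from rfl, hθ'] at h1
      exact congrArg CommRingCat.Hom.hom h1
    rw [← e, hγ, hθ]

end Groth.MiscGeom.Adq.Cech

end
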