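import Groth.Agent.MiscGeom.CechInj
import Groth.Agent.MiscGeom.AdeqModExt
import Groth.Prelude.Def_BigSite
import Mathlib.CategoryTheory.Sites.EpiMono
import Mathlib.CategoryTheory.Sites.SheafCohomology.Basic
import Mathlib.Algebra.Homology.DerivedCategory.Ext.ExactSequences
import Mathlib.Algebra.Homology.DerivedCategory.Ext.EnoughInjectives
import Mathlib.CategoryTheory.Preadditive.Injective.Basic

/-!
# Cartan's criterion on big sites: vanishing of cohomology of affines
-/

universe u v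

open CategoryTheory CategoryTheory.Limits AlgebraicGeometry Opposite

noncomputable section

namespace Groth.MiscGeom.Adq.Cech

open Adeq

variable {P : MorphismProperty Scheme.{u}} {S : Scheme.{u}} {R : CommRingCat.{u}} (a : Spec R ⟶ S)
  {G : (Over S)ᵒᵖ ⥤ AddCommGrpCat.{u + 1}}

theorem affF_map_comp {B C D : Alg R} (p : B ⟶ C) (q : C ⟶ D) (x : (affF a G).obj B) :
    (affF a G).map q ((affF a G).map p x) = (affF a G).map (p ≫ q) x := by
  rw [Functor.map_comp (affF a G) p q]
  rfl

theorem ab_sep (hP : GoodProp P) (hG : Presheaf.IsSheaf (QuotSh.J (Scheme.precoverage P) S) G)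
    {B : Alg R} {κ : Type v} {Bk : κ → Alg R} (f : ∀ k, B ⟶ Bk k) (hf : ∀ k, P (specHom (f k)))
    (hsurj : ∀ x : PrimeSpectrum B, ∃ k, x ∈ Set.range (PrimeSpectrum.comap (f k).hom.toRingHom))
    (x : (affF a G).obj B) (hx : ∀ k, (affF a G).map (f k) x = 0) : x = 0 :=
  (sheafFor_family G hG _ (fun k => (specOver a).map (f k).op) (specHom_covering a hP f hf hsurj)).1 x hx

theorem ab_glue (hP : GoodProp P) (hG : Presheaf.IsSheaf (QuotSh.J (Scheme.precoverage P) S) G)
    {B : Alg R} {κ : Type v} {Bk : κ → Alg R} (f : ∀ k, B ⟶ Bk k) (hf : ∀ k, P (specHom (f k)))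
    (hsurj : ∀ x : PrimeSpectrum B, ∃ k, x ∈ Set.range (PrimeSpectrum.comap (f k).hom.toRingHom))
    (y : ∀ k, (affF a G).obj (Bk k))
    (hy : ∀ (k l : κ) (C : Alg R) (p : Bk k ⟶ C) (q : Bk l ⟶ C), f k ≫ p = f l ≫ q →
      (affF a G).map p (y k) = (affF a G).map q (y l)) :
    ∃ x, ∀ k, (affF a G).map (f k) x = y k := by
  refine (sheafFor_family G hG _ (fun k => (specOver a).map (f k).op) (specHom_covering a hP f hf hsurj)).2
    y fun k l W g h e => ?_
  let 𝒲 := W.left.affineCover
  let j : ∀ i, Over.mk (𝒲.f i ≫ W.hom) ⟶ W := fun i => Over.homMk (𝒲.f i)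
  refine sub_eq_zero.1 ((sheafFor_family G hG _ j ((Scheme.ofArrows_mem_precoverage_iff P).2
    ⟨fun x => ⟨𝒲.idx x, 𝒲.covers x⟩, fun i => hP.openImm _ (inferInstanceAs (IsOpenImmersion (𝒲.f i)))⟩)).1 _ fun i => ?_)
  rw [map_sub, sub_eq_zero, ← ConcreteCategory.comp_apply, ← ConcreteCategory.comp_apply, ← Functor.map_comp,
    ← Functor.map_comp, ← op_comp, ← op_comp]
  obtain ⟨C, ec, hC⟩ := exists_algObj _ (𝒲.f i ≫ g.left ≫ Spec.map (CommRingCat.ofHom (algebraMap R (Bk k))))
  let E : Over.mk (𝒲.f i ≫ W.hom) ⟶ (specOver a).obj (op C) := Over.homMk ec.hom (by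
    show ec.hom ≫ Spec.map (CommRingCat.ofHom (algebraMap R C)) ≫ a = 𝒲.f i ≫ W.hom
    rw [← Over.w g, ← Category.assoc ec.hom, hC, Category.assoc, Category.assoc]
    rfl)
  obtain ⟨p, hp⟩ := exists_algHom (B := Bk k) (C := C) (ec.inv ≫ 𝒲.f i ≫ g.left) (by
    rw [Category.assoc, Category.assoc, Iso.inv_comp_eq]
    exact hC.symm)
  have he : g.left ≫ specHom (f k) = h.left ≫ specHom (f l) := congrArg CommaMorphism.left e
  obtain ⟨q, hq⟩ := exists_algHom (B := Bk l) (C := C) (ec.inv ≫ 𝒲.f i ≫ h.left) (by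
    rw [Category.assoc, Category.assoc, Iso.inv_comp_eq]
    refine Eq.trans ?_ hC.symm
    have e1 : h.left ≫ bB (Bk l) = g.left ≫ bB (Bk k) := by
      rw [← specHom_bB (f l), ← specHom_bB (f k)]
      exact (Category.assoc _ _ _).symm.trans ((congrArg (· ≫ bB B) he.symm).trans (Category.assoc _ _ _))
    exact congrArg (𝒲.f i ≫ ·) e1)
  have hpq : f k ≫ p = f l ≫ q := by
    refine CommAlgCat.hom_ext (AlgHom.coe_ringHom_injective ?_)
    have h1 : specHom (f k ≫ p) = specHom (f l ≫ q) := by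
      rw [specHom_comp, specHom_comp, hp, hq, Category.assoc, Category.assoc, Category.assoc, Category.assoc]
      exact congrArg (fun z => ec.inv ≫ 𝒲.f i ≫ z) he
    exact congrArg CommRingCat.Hom.hom (Spec.map_injective h1)
  have key := hy k l C p q hpq
  have e1 : j i ≫ g = E ≫ (specOver a).map p.op := by
    refine Over.OverMorphism.ext ?_
    show 𝒲.f i ≫ g.left = ec.hom ≫ specHom p
    rw [hp, Iso.hom_inv_id_assoc]
    rfl
  have e2 : j i ≫ h = E ≫ (specOver a).map q.op := by
    refine Over.OverMorphism.ext ?_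
    show 𝒲.f i ≫ h.left = ec.hom ≫ specHom q
    rw [hq, Iso.hom_inv_id_assoc]
    rfl
  rw [e1, e2, op_comp, op_comp, Functor.map_comp, Functor.map_comp, ConcreteCategory.comp_apply,
    ConcreteCategory.comp_apply]
  exact congrArg (G.map E.op) key

theorem prodProj_covering (hP : GoodProp P) {κ : Type u} [Fintype κ] (Bk : κ → Alg R) :
    (∀ k, P (specHom (prodProj Bk k))) ∧
      ∀ x : PrimeSpectrum (prodAlg Bk), ∃ k, x ∈ Set.range (PrimeSpectrum.comap (prodProj Bk k).hom.toRingHom) := by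
  refine ⟨fun k => hP.openImm _ ?_, fun x => ?_⟩
  · change IsOpenImmersion (Spec.map (CommRingCat.ofHom (Pi.evalRingHom (fun k => (Bk k : Type u)) k)))
    infer_instance
  · obtain ⟨⟨k, y⟩, rfl⟩ := (PrimeSpectrum.sigmaToPi_bijective (fun k => (Bk k : Type u))).2 x
    exact ⟨k, y, rfl⟩

theorem ab_prod (hP : GoodProp P) (hG : Presheaf.IsSheaf (QuotSh.J (Scheme.precoverage P) S) G)
    {κ : Type u} [Fintype κ] (Bk : κ → Alg R) (y : ∀ k, (affF a G).obj (Bk k)) :
    ∃ z, ∀ k, (affF a G).map (prodProj Bk k) z = y k := by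
  classical
  refine ab_glue a hP hG (prodProj Bk) (prodProj_covering hP Bk).1 (prodProj_covering hP Bk).2 y fun k l C p q e => ?_
  by_cases hkl : k = l
  · subst hkl
    have : p = q := CommAlgCat.hom_ext (AlgHom.ext fun b => by
      obtain ⟨z, rfl⟩ : ∃ z : prodAlg Bk, (prodProj Bk k).hom z = b :=
        ⟨Pi.single k b, Pi.single_eq_same (M := fun k => (Bk k : Type u)) k b⟩
      exact DFunLike.congr_fun (congrArg CommAlgCat.Hom.hom e) z)
    rw [this]
  · have h1 : (1 : C) = 0 := by
      have h2 := DFunLike.congr_fun (congrArg CommAlgCat.Hom.hom e) (prodIdem Bk k)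
      have h3 : (prodProj Bk k).hom (prodIdem Bk k) = 1 := Pi.single_eq_same (M := fun k => (Bk k : Type u)) k 1
      have h4 : (prodProj Bk l).hom (prodIdem Bk k) = 0 := Pi.single_eq_of_ne (M := fun k => (Bk k : Type u)) (Ne.symm hkl) 1
      change p.hom ((prodProj Bk k).hom (prodIdem Bk k)) = q.hom ((prodProj Bk l).hom (prodIdem Bk k)) at h2
      rwa [h3, h4, map_one, map_zero] at h2
    haveI : Subsingleton (C : Type u) := subsingleton_of_zero_eq_one h1.symm
    refine (sub_eq_zero.1 (ab_sep a hP hG (B := C) (κ := PEmpty.{u + 1}) (Bk := fun k => k.elim) (fun k => k.elim)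
      (fun k => k.elim) (fun x => absurd (Subsingleton.elim (1 : C) 0) fun h => x.isPrime.ne_top
        (Ideal.eq_top_of_isUnit_mem _ x.asIdeal.zero_mem (h ▸ isUnit_one))) _ fun k => k.elim))

/-! ### exact sheaves -/

variable (P)

/-- exact Čech complexes for all affine covers -/
def CechAcyclic (F : (Over S)ᵒᵖ ⥤ AddCommGrpCat.{u + 1}) : Prop :=
  ∀ (R : CommRingCat.{u}) (a : Spec R ⟶ S) (V : Alg R), P (bB V) →
    (∀ x : PrimeSpectrum R, x ∈ Set.range (PrimeSpectrum.comap (algebraMap R V))) → ∀ n, IsExact (affF a F) V n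

variable {P}

/-- finite products of covers are covers -/
def StableProd (P : MorphismProperty Scheme.{u}) : Prop :=
  ∀ {R : CommRingCat.{u}} {κ : Type u} [Fintype κ] (Bk : κ → Alg R), (∀ k, P (bB (Bk k))) → P (bB (prodAlg Bk))

theorem stableProd_fppf : StableProd.{u} (@Flat ⊓ @LocallyOfFinitePresentation) := by
  intro R κ _ Bk h
  obtain ⟨hF, hL⟩ : (∀ k, Flat (bB (Bk k))) ∧ ∀ k, LocallyOfFinitePresentation (bB (Bk k)) :=
    ⟨fun k => (h k).1, fun k => (h k).2⟩
  let 𝒰 : (Spec (CommRingCat.of (prodAlg Bk))).OpenCover := Scheme.Cover.mkOfCovers κ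
    (fun k => Spec (CommRingCat.of (Bk k))) (fun k => specHom (prodProj Bk k))
    (fun x => by
      obtain ⟨k, y, hy⟩ := (prodProj_covering goodProp_fppf Bk).2 x
      exact ⟨k, y, hy⟩)
    (fun k => by
      change IsOpenImmersion (Spec.map (CommRingCat.ofHom (Pi.evalRingHom (fun k => (Bk k : Type u)) k)))
      infer_instance)
  refine ⟨(IsZariskiLocalAtSource.iff_of_openCover 𝒰).2 fun k => ?_, (IsZariskiLocalAtSource.iff_of_openCover 𝒰).2 fun k => ?_⟩
  · show Flat (specHom (prodProj Bk k) ≫ bB (prodAlg Bk))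
    rw [specHom_bB]; exact hF k
  · show LocallyOfFinitePresentation (specHom (prodProj Bk k) ≫ bB (prodAlg Bk))
    rw [specHom_bB]; exact hL k

variable [HasSheafify (QuotSh.J (Scheme.precoverage P) S) AddCommGrpCat.{u + 1}]

theorem cechAcyclic_injective (I : BigSite.Ab (Scheme.precoverage P) S) [Injective I] : CechAcyclic P I.obj := by
  intro R a V _ _ n
  haveI : Injective I.obj :=
    Injective.injective_of_adjoint (sheafificationAdjunction (QuotSh.J (Scheme.precoverage P) S) AddCommGrpCat.{u + 1}) I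
  exact isExact_injective a I.obj V n

theorem ab_leftExact (C : ShortComplex (BigSite.Ab (Scheme.precoverage P) S)) (hC : C.ShortExact) (U : (Over S)ᵒᵖ) :
    Function.Injective (C.f.hom.app U) ∧ Function.Exact (C.f.hom.app U) (C.g.hom.app U) := by
  haveI := hC.mono_f
  let E := sheafToPresheaf (QuotSh.J (Scheme.precoverage P) S) AddCommGrpCat.{u + 1} ⋙ (evaluation _ _).obj U
  haveI : PreservesFiniteLimits E := inferInstance
  haveI : Mono (E.map C.f) := preserves_mono_of_preservesLimit E C.f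
  haveI : E.PreservesZeroMorphisms := { map_zero := fun _ _ => rfl }
  exact ⟨(AddCommGrpCat.mono_iff_injective _).1 (inferInstanceAs (Mono (E.map C.f))),
    (ShortComplex.ab_exact_iff_function_exact _).1 (hC.exact.map_of_mono_of_preservesKernel E inferInstance inferInstance)⟩

theorem sections_surjective (hP : GoodProp P) (hPp : StableProd P)
    [(QuotSh.J (Scheme.precoverage P) S).WEqualsLocallyBijective AddCommGrpCat.{u + 1}]
    (C : ShortComplex (BigSite.Ab (Scheme.precoverage P) S)) (hC : C.ShortExact)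
    (h₁ : CechAcyclic P C.X₁.obj) (R : CommRingCat.{u}) (a : Spec R ⟶ S) :
    Function.Surjective (C.g.hom.app (op ((specOver a).obj (op (base R))))) := by
  classical
  intro s
  have := hC.epi_g
  haveI : Sheaf.IsLocallySurjective C.g := (Sheaf.isLocallySurjective_iff_epi' (φ := C.g)).2 hC.epi_g
  obtain ⟨κ, hκ, Bk, f, hf, hsurj, hT⟩ := exists_affine_refinement hP a
    (Presheaf.imageSieve_mem (QuotSh.J (Scheme.precoverage P) S) C.g.hom s)
  choose t ht using fun k => hT k
  let ι : affF a C.X₁.obj ⟶ affF a C.X₂.obj := Functor.whiskerLeft (opOp (Alg R) ⋙ (specOver a).op) C.f.hom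
  let π : affF a C.X₂.obj ⟶ affF a C.X₃.obj := Functor.whiskerLeft (opOp (Alg R) ⋙ (specOver a).op) C.g.hom
  have hι : ∀ D, Function.Injective (ι.app D) := fun D => (ab_leftExact C hC _).1
  have hex : ∀ D, Function.Exact (ι.app D) (π.app D) := fun D => (ab_leftExact C hC _).2
  have hπnat : ∀ {D D' : Alg R} (h : D ⟶ D') (x : (affF a C.X₂.obj).obj D),
      π.app D' ((affF a C.X₂.obj).map h x) = (affF a C.X₃.obj).map h (π.app D x) := fun h x =>
    ConcreteCategory.congr_hom (π.naturality h) x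
  have ht' : ∀ k, π.app (Bk k) (t k) = (affF a C.X₃.obj).map (f k) s := ht
  obtain ⟨z, hz⟩ := ab_prod a hP C.X₂.property Bk t
  have hfk : ∀ k, f k = str (Bk k) := fun k => base_hom_ext _ _
  let V := prodAlg Bk
  have hπz : π.app V z = (affF a C.X₃.obj).map (str V) s := by
    refine sub_eq_zero.1 (ab_sep a hP C.X₃.property (prodProj Bk) (prodProj_covering hP Bk).1
      (prodProj_covering hP Bk).2 _ fun k => ?_)
    rw [map_sub, ← hπnat, hz, ht', affF_map_comp, base_hom_ext (str V ≫ prodProj Bk k) (f k), sub_self]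
  obtain ⟨U, u, hu⟩ := exists_univ V 0
  let zc : Cochain (affF a C.X₂.obj) V 0 :=
    ⟨fun D p => (affF a C.X₂.obj).map (p 0) z, fun h p => affF_map_comp a _ _ _⟩
  obtain ⟨δ, hδ⟩ := exists_factor ι hι (d zc) fun D p => (hex D _).1 (by
    show π.app D (dVal zc D p) = 0
    rw [dVal_zero, map_sub, sub_eq_zero]
    show π.app D ((affF a C.X₂.obj).map (p 1) z) = π.app D ((affF a C.X₂.obj).map (p 0) z)
    rw [hπnat, hπnat, hπz, affF_map_comp, affF_map_comp, base_hom_ext (str V ≫ p 1) (str V ≫ p 0)])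
  have hPV : P (bB V) := hPp Bk fun k => by
    have := hf k
    rw [hfk k] at this
    exact this
  have hsV : ∀ x : PrimeSpectrum R, x ∈ Set.range (PrimeSpectrum.comap (algebraMap R V)) := fun x => by
    obtain ⟨k, y, rfl⟩ := hsurj x
    exact ⟨PrimeSpectrum.comap (prodProj Bk k).hom.toRingHom y, by
      rw [← PrimeSpectrum.comap_comp_apply]
      congr 1
      rw [hfk k]
      rfl⟩
  obtain ⟨b, hb⟩ := h₁ R a V hPV hsV 0 δ fun D p => hι D (by
    rw [← dVal_cmap, map_zero, ← dVal_d zc D p]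
    simp only [dVal, cmap_val, hδ])
  let z' : (affF a C.X₂.obj).obj V := z - ι.app V (b.val V fun _ => 𝟙 V)
  have hz' : ∀ (D : Alg R) (p q : V ⟶ D), (affF a C.X₂.obj).map p z' = (affF a C.X₂.obj).map q z' := by
    intro D p q
    have hb' : ∀ r : V ⟶ D, (affF a C.X₂.obj).map r (ι.app V (b.val V fun _ => 𝟙 V)) = ι.app D (b.val D fun _ => r) :=
      fun r => by
        rw [← show (fun _ : Fin (0 + 1) => 𝟙 V ≫ r) = (fun _ => r) from funext fun _ => Category.id_comp r,
          show (b.val D fun _ => 𝟙 V ≫ r) = (affF a C.X₁.obj).map r (b.val V fun _ => 𝟙 V) from (b.nat r _).symm]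
        exact (ConcreteCategory.congr_hom (ι.naturality r) _).symm
    have h := congrArg (ι.app D) (hb D ![p, q])
    rw [dVal_zero, hδ, map_sub] at h
    change _ = dVal zc D _ at h
    rw [dVal_zero] at h
    change ι.app D (b.val D fun _ => q) - ι.app D (b.val D fun _ => p) =
      (affF a C.X₂.obj).map q z - (affF a C.X₂.obj).map p z at h
    show (affF a C.X₂.obj).map p (z - _) = (affF a C.X₂.obj).map q (z - _)
    rw [map_sub, map_sub, hb', hb']
    linear_combination (norm := abel) h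
  obtain ⟨x, hx⟩ := ab_glue a hP C.X₂.property f hf hsurj (fun k => (affF a C.X₂.obj).map (prodProj Bk k) z')
    fun k l D p q _ => by
      rw [affF_map_comp, affF_map_comp]
      exact hz' D _ _
  refine ⟨x, ?_⟩
  show π.app (base R) x = s
  refine sub_eq_zero.1 (ab_sep a hP C.X₃.property f hf hsurj _ fun k => ?_)
  rw [map_sub, ← hπnat, hx, hπnat, map_sub, (hex V).apply_apply_eq_zero, sub_zero, hπz, affF_map_comp,
    base_hom_ext (str V ≫ prodProj Bk k) (f k), sub_self]

end Groth.MiscGeom.Adq.Cech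

end
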