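import Groth.Prelude.Def_Algz

/-!
# Basic monotonicity of the distance function `Algz.deltaZ`
-/

universe u

noncomputable section

namespace Groth.MiscGeom.Delta

open Algz

variable {Y : Type u} [TopologicalSpace Y]

theorem codimPt_pos [T0Space Y] {w v : Y} (h : w ⤳ v) (hne : w ≠ v) : 1 ≤ codimPt w v h := by
  rw [ENat.one_le_iff_ne_zero]
  intro h0
  have hmin := Order.height_eq_zero.1 h0
  have hle := hmin (b := ⟨Specialization.toEquiv v, Set.self_mem_Ici⟩) (Specialization.toEquiv_le_toEquiv.mpr h)
  exact hne (h.antisymm (Specialization.toEquiv_le_toEquiv.mp hle)).eq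

theorem eq_of_codimPt_eq_zero [T0Space Y] {w v : Y} (h : w ⤳ v) (h0 : codimPt w v h = 0) : w = v := by
  by_contra hne
  have := codimPt_pos h hne
  rw [h0] at this
  simp at this

theorem codimPt_self (v : Y) (h : v ⤳ v) : codimPt v v h = 0 :=
  Order.height_eq_zero.2 fun b _ => b.2

theorem codimPt_mono {w v v' : Y} (h : w ⤳ v) (h' : w ⤳ v') (hv : v ⤳ v') : codimPt w v h ≤ codimPt w v' h' :=
  Order.height_le_height_apply_of_strictMono
    (fun x : Set.Ici (Specialization.toEquiv v) =>
      (⟨x.1, le_trans (Specialization.toEquiv_le_toEquiv.mpr hv) x.2⟩ : Set.Ici (Specialization.toEquiv v')))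
    (fun _ _ hab => hab) ⟨Specialization.toEquiv w, Specialization.toEquiv_le_toEquiv.mpr h⟩

theorem codimPt_open {U : Type u} [TopologicalSpace U] {f : U → Y} (hf : Topology.IsOpenEmbedding f) {w v : U}
    (h : w ⤳ v) (h' : f w ⤳ f v) : codimPt (f w) (f v) h' = codimPt w v h := by
  have hmem : ∀ x : Set.Ici (Specialization.toEquiv (f v)), ∃ z : U, f z = Specialization.ofEquiv x.1 := fun x =>
    (Specialization.toEquiv_le_toEquiv.mp x.2).mem_open hf.isOpen_range ⟨v, rfl⟩
  choose g hg using hmem
  let e : Set.Ici (Specialization.toEquiv v) ≃o Set.Ici (Specialization.toEquiv (f v)) :=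
    { toFun := fun x => ⟨Specialization.toEquiv (f (Specialization.ofEquiv x.1)),
        Specialization.toEquiv_le_toEquiv.mpr ((Specialization.toEquiv_le_toEquiv.mp x.2).map hf.continuous)⟩
      invFun := fun x => ⟨Specialization.toEquiv (g x), Specialization.toEquiv_le_toEquiv.mpr
        (hf.toIsInducing.specializes_iff.1 (by rw [hg]; exact Specialization.toEquiv_le_toEquiv.mp x.2))⟩
      left_inv := fun x => Subtype.ext (congrArg Specialization.toEquiv (hf.injective (hg _)))
      right_inv := fun x => Subtype.ext (congrArg Specialization.toEquiv (hg x))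
      map_rel_iff' := fun {a b} => hf.toIsInducing.specializes_iff }
  exact Order.height_orderIso e ⟨Specialization.toEquiv w, Specialization.toEquiv_le_toEquiv.mpr h⟩

/-- push a system forward along an open embedding -/
theorem deltaZ_le_of_openEmbedding {U : Type u} [TopologicalSpace U] {f : U → Y} (hf : Topology.IsOpenEmbedding f)
    (Z : Set Y) (y : U) : deltaZ Z (f y) ≤ deltaZ (f ⁻¹' Z) y := by
  refine le_iInf₂ fun k S => ?_
  let T : DSystem Z (f y) k :=
    { v := fun i => f (S.v i)
      w := fun i => f (S.w i)
      spec := fun i => (S.spec i).map hf.continuous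
      spec_succ := fun i => (S.spec_succ i).map hf.continuous
      start_mem := S.start_mem
      last_eq := congrArg f S.last_eq }
  refine (iInf₂_le k T).trans (le_of_eq ?_)
  have hc : ∀ i, T.c i = S.c i := fun i => codimPt_open hf (S.spec i) _
  have hb : ∀ i, T.b i = S.b i := fun i => codimPt_open hf (S.spec_succ i) _
  simp only [DSystem.delta, hc, hb]

theorem sum_c_castSucc {k : ℕ} (c : Fin (k + 2) → ℕ∞) (i : Fin (k + 1)) :
    ∑ j ∈ Finset.univ.filter (fun j : Fin (k + 2) => i.castSucc ≤ j), c j =
      ∑ j ∈ Finset.univ.filter (fun j : Fin (k + 1) => i ≤ j), c j.castSucc + c (Fin.last (k + 1)) := by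
  rw [Finset.sum_filter, Finset.sum_filter, Fin.sum_univ_castSucc, if_pos (Fin.le_last _)]
  simp only [Fin.castSucc_le_castSucc_iff]

theorem sum_b_castSucc {k : ℕ} (b : Fin (k + 1) → ℕ∞) (i : Fin (k + 1)) :
    ∑ j ∈ Finset.univ.filter (fun j : Fin (k + 1) => (i.castSucc : Fin (k + 2)).val ≤ j.val), b j =
      ∑ j ∈ Finset.univ.filter (fun j : Fin k => i.val ≤ j.val), b j.castSucc + b (Fin.last k) := by
  rw [Finset.sum_filter, Finset.sum_filter, Fin.sum_univ_castSucc, if_pos (by simpa using Nat.lt_succ_iff.1 i.isLt)]
  simp only [Fin.val_castSucc]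

theorem deltaZ_le_of_specializes [T0Space Y] {Z : Set Y} (hZ : IsClosed Z) {y y' : Y} (h : y ⤳ y') :
    deltaZ Z y' ≤ deltaZ Z y := by
  classical
  rcases eq_or_ne y y' with rfl | hne
  · exact le_rfl
  refine le_iInf₂ fun k S => ?_
  let M : ℕ∞ := Finset.univ.sup fun i : Fin (k + 1) =>
    (∑ j ∈ Finset.univ.filter (fun j : Fin (k + 1) => i ≤ j), S.c j) -
      ∑ j ∈ Finset.univ.filter (fun j : Fin k => i.val ≤ j.val), S.b j
  have hdelta : S.delta = k + M := rfl
  by_cases hM : M = 0
  · have hlast : S.c (Fin.last k) = 0 := by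
      have hle := Finset.le_sup (f := fun i : Fin (k + 1) =>
        (∑ j ∈ Finset.univ.filter (fun j : Fin (k + 1) => i ≤ j), S.c j) -
          ∑ j ∈ Finset.univ.filter (fun j : Fin k => i.val ≤ j.val), S.b j) (Finset.mem_univ (Fin.last k))
      have e1 : Finset.univ.filter (fun j : Fin (k + 1) => Fin.last k ≤ j) = {Fin.last k} := by
        ext j; simp [Fin.last_le_iff]
      have e2 : Finset.univ.filter (fun j : Fin k => (Fin.last k).val ≤ j.val) = ∅ := by
        ext j; simp
      change _ ≤ M at hle
      rw [hM] at hle
      simp only [e1, e2, Finset.sum_singleton, Finset.sum_empty, tsub_zero] at hle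
      exact nonpos_iff_eq_zero.1 hle
    have hvy : S.v (Fin.last k) = y := by
      exact (eq_of_codimPt_eq_zero _ hlast).symm.trans S.last_eq
    let T : DSystem Z y' k :=
      { v := Function.update S.v (Fin.last k) y'
        w := Function.update S.w (Fin.last k) y'
        spec := fun i => by
          rcases eq_or_ne i (Fin.last k) with rfl | hi
          · rw [Function.update_self, Function.update_self]
          · rw [Function.update_of_ne hi, Function.update_of_ne hi]; exact S.spec i
        spec_succ := fun i => by
          rw [Function.update_of_ne i.castSucc_ne_last]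
          rcases eq_or_ne i.succ (Fin.last k) with hi | hi
          · rw [hi, Function.update_self]
            have h1 := S.spec_succ i
            rw [hi, hvy] at h1
            exact h1.trans h
          · rw [Function.update_of_ne hi]; exact S.spec_succ i
        start_mem := by
          rcases eq_or_ne (0 : Fin (k + 1)) (Fin.last k) with hi | hi
          · rw [hi, Function.update_self]
            have h1 := S.start_mem
            rw [hi, hvy] at h1
            exact h.mem_closed hZ h1
          · rw [Function.update_of_ne hi]; exact S.start_mem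
        last_eq := Function.update_self _ _ _ }
    refine (iInf₂_le k T).trans ?_
    refine add_le_add_right (Finset.sup_mono_fun fun i _ => tsub_le_tsub (le_of_eq ?_) ?_) _
    · refine Finset.sum_congr rfl fun j _ => ?_
      rcases eq_or_ne j (Fin.last k) with rfl | hj
      · rw [hlast]
        simp [DSystem.c, T, codimPt_self]
      · simp [DSystem.c, T, Function.update_of_ne hj]
    · refine Finset.sum_le_sum fun j _ => ?_
      rcases eq_or_ne j.succ (Fin.last k) with hj | hj
      · simp only [DSystem.b, T, Function.update_of_ne j.castSucc_ne_last, hj, Function.update_self, hvy]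
        exact codimPt_mono _ _ h
      · simp [DSystem.b, T, Function.update_of_ne j.castSucc_ne_last, Function.update_of_ne hj]
  · let T : DSystem Z y' (k + 1) :=
      { v := Fin.snoc S.v y'
        w := Fin.snoc S.w y'
        spec := Fin.lastCases (by rw [Fin.snoc_last, Fin.snoc_last]) fun i => by
          rw [Fin.snoc_castSucc, Fin.snoc_castSucc]; exact S.spec i
        spec_succ := Fin.lastCases (by rw [Fin.snoc_castSucc, Fin.succ_last, Fin.snoc_last, S.last_eq]; exact h)
          fun i => by
            rw [Fin.snoc_castSucc, Fin.succ_castSucc, Fin.snoc_castSucc]; exact S.spec_succ i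
        start_mem := by
          rw [show (0 : Fin (k + 2)) = (0 : Fin (k + 1)).castSucc from rfl, Fin.snoc_castSucc]
          exact S.start_mem
        last_eq := Fin.snoc_last _ _ }
    refine (iInf₂_le (k + 1) T).trans ?_
    have hcc : ∀ j : Fin (k + 1), T.c j.castSucc = S.c j := fun j => by
      simp [DSystem.c, T, Fin.snoc_castSucc]
    have hcl : T.c (Fin.last (k + 1)) = 0 := by
      simp [DSystem.c, T, Fin.snoc_last, codimPt_self]
    have hbb : ∀ j : Fin k, T.b j.castSucc = S.b j := fun j => by
      simp only [DSystem.b, T, Fin.snoc_castSucc, ← Fin.castSucc_succ]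
    have hbl : 1 ≤ T.b (Fin.last k) := by
      simp only [DSystem.b, T, Fin.succ_last, Fin.snoc_last, Fin.snoc_castSucc, S.last_eq]
      exact codimPt_pos h hne
    have hterm : ∀ i : Fin (k + 2), (∑ j ∈ Finset.univ.filter (fun j : Fin (k + 2) => i ≤ j), T.c j) -
        ∑ j ∈ Finset.univ.filter (fun j : Fin (k + 1) => i.val ≤ j.val), T.b j ≤ M - 1 := by
      refine Fin.lastCases ?_ fun i => ?_
      · have e1 : Finset.univ.filter (fun j : Fin (k + 2) => Fin.last (k + 1) ≤ j) = {Fin.last (k + 1)} := by
          ext j; simp [Fin.last_le_iff]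
        rw [e1, Finset.sum_singleton, hcl, zero_tsub]
        exact zero_le
      · rw [sum_c_castSucc, sum_b_castSucc, hcl, add_zero, ← tsub_tsub]
        simp only [hcc, hbb]
        exact tsub_le_tsub (Finset.le_sup (f := fun i : Fin (k + 1) =>
          (∑ j ∈ Finset.univ.filter (fun j : Fin (k + 1) => i ≤ j), S.c j) -
            ∑ j ∈ Finset.univ.filter (fun j : Fin k => i.val ≤ j.val), S.b j) (Finset.mem_univ i)) hbl
    calc T.delta ≤ ((k + 1 : ℕ) : ℕ∞) + (M - 1) := add_le_add_right (Finset.sup_le fun i _ => hterm i) _
      _ = k + (M - 1 + 1) := by push_cast; rw [add_assoc, add_comm (1 : ℕ∞)]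
      _ = k + M := by rw [tsub_add_cancel_of_le (ENat.one_le_iff_ne_zero.2 hM)]

end Groth.MiscGeom.Delta

end
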