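import Groth.Agent.MiscGeom.FlatOffDepth
import Groth.Agent.Ega4Algebra2.DepthFlat
import Groth.Agent.LocCohBase.Depth

/-!
# Depth of `M ⊗ Y` for flat `M` and `Y` of finite length
-/

universe u

open TensorProduct IsLocalRing

noncomputable section

namespace Groth.MiscGeom.QGor

variable {A B : Type u} [CommRing A] [CommRing B] [IsLocalRing A] [Algebra A B] [IsNoetherianRing B]
  (M : Type u) [AddCommGroup M] [Module B M] [Module A M] [IsScalarTower A B M] [Module.Finite B M]

omit [IsNoetherianRing B] [Module.Finite B M] in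
/-- `M ⊗ k ≅ M / m M` -/
theorem exists_tensor_residue : Nonempty (EGA4.FibMod A B M ≃ₗ[B] M ⊗[A] (A ⧸ maximalIdeal A)) :=
  Groth.Ega4b.exists_tensor_quotient (R := A) (S := B) M (maximalIdeal A)

theorem le_idealDepth_tensor [Module.Flat A M] (J : Ideal B) (c : ℕ∞)
    (hc : c ≤ LocCoh.idealDepth J (EGA4.FibMod A B M))
    {Y : Type u} [AddCommGroup Y] [Module A Y] [IsArtinian A Y] [IsNoetherian A Y] (X : Submodule A Y) :
    c ≤ LocCoh.idealDepth J (M ⊗[A] X) := by
  induction X using WellFoundedLT.induction with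
  | ind X ih =>
  rcases eq_or_ne X ⊥ with rfl | hX
  · rw [Groth.LocCohBase.idealDepth_eq_top_of_smul_top_eq_top (Subsingleton.elim _ _)]
    exact le_top
  haveI : Nontrivial X := Submodule.nontrivial_iff_ne_bot.2 hX
  obtain ⟨X₀, hX₀⟩ := IsCoatomic.exists_coatom (Submodule A X)
  haveI : IsSimpleModule A (X ⧸ X₀) := isSimpleModule_iff_isCoatom.2 hX₀
  obtain ⟨I, hI, ⟨e⟩⟩ := isSimpleModule_iff_quot_maximal.1 (inferInstance : IsSimpleModule A (X ⧸ X₀))
  obtain rfl := IsLocalRing.eq_maximalIdeal hI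
  let g : X →ₗ[A] A ⧸ maximalIdeal A := e.toLinearMap ∘ₗ X₀.mkQ
  let X' : Submodule A Y := X₀.map X.subtype
  have hle : X' ≤ X := Submodule.map_subtype_le X X₀
  have hlt : X' < X := lt_of_le_of_ne hle fun h => hX₀.1 (by
    refine Submodule.map_injective_of_injective X.injective_subtype ?_
    rw [Submodule.map_subtype_top]
    exact h)
  let i : X' →ₗ[A] X := Submodule.inclusion hle
  have hex : Function.Exact i g := fun v => by
    constructor
    · intro hv
      have : v ∈ X₀ := (Submodule.Quotient.mk_eq_zero X₀).1 (e.map_eq_zero_iff.1 hv)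
      exact ⟨⟨v.1, v, this, rfl⟩, rfl⟩
    · rintro ⟨⟨w, u, hu, rfl⟩, rfl⟩
      refine e.map_eq_zero_iff.2 ((Submodule.Quotient.mk_eq_zero X₀).2 ?_)
      have : i ⟨X.subtype u, u, hu, rfl⟩ = u := Subtype.ext rfl
      rw [this]
      exact hu
  have hg : Function.Surjective g := e.surjective.comp X₀.mkQ_surjective
  haveI : Module.Finite B (M ⊗[A] X') := Groth.FlatMorOne.finite_tensor_left
  haveI : Module.Finite B (M ⊗[A] X) := Groth.FlatMorOne.finite_tensor_left
  haveI : Module.Finite B (M ⊗[A] (A ⧸ maximalIdeal A)) := Groth.FlatMorOne.finite_tensor_left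
  obtain ⟨eM⟩ := exists_tensor_residue (A := A) (B := B) M
  refine le_trans (le_min (ih X' hlt) ?_) (Groth.LocCohBase.idealDepth_shortExact J
    (AlgebraTensorModule.lTensor B M i) (AlgebraTensorModule.lTensor B M g)
    (Module.Flat.lTensor_preserves_injective_linearMap i (Submodule.inclusion_injective hle))
    (LinearMap.lTensor_surjective M hg) (lTensor_exact M hex hg)).1
  exact hc.trans_eq (Groth.LocCohBase.idealDepth_congr eM)

theorem le_idealDepth_pow [Module.Flat A M] [IsNoetherianRing A] (J : Ideal B) (c : ℕ∞)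
    (hc : c ≤ LocCoh.idealDepth J (EGA4.FibMod A B M)) (n : ℕ) :
    c ≤ LocCoh.idealDepth J (M ⧸ ((EGA4.mB A B) ^ (n + 1) • (⊤ : Submodule B M))) := by
  let I := maximalIdeal A ^ (n + 1)
  haveI : Nontrivial (A ⧸ I) := Ideal.Quotient.nontrivial_iff.2 fun h =>
    (maximalIdeal.isMaximal A).ne_top (top_le_iff.1 (h.ge.trans (Ideal.pow_le_self n.succ_ne_zero)))
  haveI : IsLocalRing (A ⧸ I) := IsLocalRing.of_surjective' (Ideal.Quotient.mk I) Ideal.Quotient.mk_surjective
  haveI : IsArtinianRing (A ⧸ I) := by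
    rw [isArtinianRing_iff_isNilpotent_maximalIdeal]
    refine ⟨n + 1, ?_⟩
    rw [← IsLocalRing.map_maximalIdeal_of_surjective (Ideal.Quotient.mk I) Ideal.Quotient.mk_surjective,
      ← Ideal.map_pow, Ideal.map_quotient_self]
    rfl
  haveI : IsArtinian A (A ⧸ I) := isArtinian_of_surjective_algebraMap (Ideal.Quotient.mk_surjective (I := I))
  obtain ⟨e⟩ := Groth.Ega4b.exists_tensor_quotient (R := A) (S := B) M I
  let e' : M ⊗[A] (⊤ : Submodule A (A ⧸ I)) ≃ₗ[B] M ⊗[A] (A ⧸ I) :=
    AlgebraTensorModule.congr (LinearEquiv.refl B M) Submodule.topEquiv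
  let e'' : (M ⧸ ((EGA4.mB A B) ^ (n + 1) • (⊤ : Submodule B M))) ≃ₗ[B] M ⧸ (I.map (algebraMap A B) • (⊤ : Submodule B M)) :=
    Submodule.quotEquivOfEq _ _ (by rw [Ideal.map_pow])
  refine le_of_le_of_eq (le_idealDepth_tensor M J c hc (⊤ : Submodule A (A ⧸ I))) ?_
  exact Groth.LocCohBase.idealDepth_congr ((e'.trans e.symm).trans e''.symm)

end Groth.MiscGeom.QGor

end
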