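import Groth.Prelude.Def_Algz
import Groth.Agent.Cycles.DimJacobson
import Groth.Agent.SitesTopoi.Catenary
import Mathlib.AlgebraicGeometry.Stalk

/-!
# The distance function and dimension functions
-/

set_option autoImplicit false
universe u

open CategoryTheory AlgebraicGeometry Order

noncomputable section

namespace Groth.MiscGeom.Delta

open Algz

variable {X : Scheme.{u}} {δ : X → ℤ}

/-- For a dimension function the codimension of `v` under `w` is `δ w - δ v`. -/
theorem codimPt_eq_sub (hδ : Cyc.IsDimFun X δ) {w v : X} (h : w ⤳ v) :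
    codimPt w v h = ((δ w - δ v).toNat : ℕ∞) := by
  have hvw := Groth.Cycles.delta_le_of_specializes hδ h
  refine le_antisymm (Order.height_le fun p hp => ?_) ?_
  · have key : ∀ (a b : Set.Ici (Specialization.toEquiv v)), a < b →
        δ (Specialization.ofEquiv a.1) < δ (Specialization.ofEquiv b.1) := fun a b hab => by
      have h1 : Specialization.ofEquiv b.1 ⤳ Specialization.ofEquiv a.1 :=
        Specialization.toEquiv_le_toEquiv.mp hab.le
      refine Groth.Cycles.delta_strictMono hδ (Groth.Cycles.lt_iff_specializes.mpr ⟨h1, fun e => ?_⟩)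
      exact hab.ne (Subtype.ext (Specialization.ofEquiv.injective e))
    let q : LTSeries X := p.map (fun a => Specialization.ofEquiv a.1) fun a b hab => by
      refine Groth.Cycles.lt_iff_specializes.mpr ⟨Specialization.toEquiv_le_toEquiv.mp hab.le, fun e => ?_⟩
      exact hab.ne (Subtype.ext (Specialization.ofEquiv.injective e))
    have h1 := Groth.Cycles.length_le_delta_sub hδ q
    have h2 : δ v ≤ δ q.head :=
      Groth.Cycles.delta_le_of_specializes hδ (Specialization.toEquiv_le_toEquiv.mp p.head.2)
    have h3 : q.last = w := by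
      show Specialization.ofEquiv p.last.1 = w
      rw [hp]; rfl
    rw [h3] at h1
    have : p.length ≤ (δ w - δ v).toNat := by
      have : q.length = p.length := rfl
      omega
    exact_mod_cast this
  · obtain ⟨p, -, hl, hlen, hmem⟩ := Groth.Cycles.exists_series hδ (c := v) (b := w) h
    let q : LTSeries (Set.Ici (Specialization.toEquiv v)) :=
      ⟨p.length, fun i => ⟨Specialization.toEquiv (p i), Specialization.toEquiv_le_toEquiv.mpr (hmem i).1⟩,
        fun i => by
          have hi := Groth.Cycles.lt_iff_specializes.mp (p.step i)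
          refine lt_of_le_of_ne (Specialization.toEquiv_le_toEquiv.mpr hi.1) fun e => hi.2 ?_
          exact Specialization.toEquiv.injective e⟩
    have hq : q.last = ⟨Specialization.toEquiv w, Specialization.toEquiv_le_toEquiv.mpr h⟩ := by
      refine Subtype.ext ?_
      show Specialization.toEquiv p.last = _
      rw [hl]
    have := Order.length_le_height_last (p := q)
    rw [hq] at this
    have hl' : (δ w - δ v).toNat = q.length := by
      show _ = p.length
      omega
    rw [hl']
    exact this

/-- A finite value of the distance function bounds a dimension function. -/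
theorem exists_le_add (hδ : Cyc.IsDimFun X δ) (Z : Set X) (y : X) (n : ℕ) (hn : deltaZ Z y = n) :
    ∃ z ∈ Z, δ y ≤ n + δ z := by
  classical
  obtain ⟨k, S, hS⟩ : ∃ (k : ℕ) (S : DSystem Z y k), S.delta ≤ n := by
    by_contra hc
    push Not at hc
    have h1 : ((n + 1 : ℕ) : ℕ∞) ≤ deltaZ Z y := le_iInf₂ fun k S => by
      push_cast
      exact Order.add_one_le_of_lt (hc k S)
    rw [hn, Nat.cast_le] at h1
    omega
  refine ⟨S.v 0, S.start_mem, ?_⟩
  let C : Fin (k + 1) → ℕ := fun i => (δ (S.w i) - δ (S.v i)).toNat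
  let B : Fin k → ℕ := fun i => (δ (S.w i.castSucc) - δ (S.v i.succ)).toNat
  have hc : ∀ i, S.c i = (C i : ℕ∞) := fun i => codimPt_eq_sub hδ _
  have hb : ∀ i, S.b i = (B i : ℕ∞) := fun i => codimPt_eq_sub hδ _
  have hle : ((∑ j, C j - ∑ j, B j : ℕ) : ℕ∞) ≤ n := by
    refine le_trans ?_ hS
    refine le_trans ?_ (le_add_of_nonneg_left bot_le)
    refine le_trans ?_ (Finset.le_sup (f := fun i : Fin (k + 1) =>
      (∑ j ∈ Finset.univ.filter (fun j : Fin (k + 1) => i ≤ j), S.c j) -
        ∑ j ∈ Finset.univ.filter (fun j : Fin k => i.val ≤ j.val), S.b j) (Finset.mem_univ 0))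
    simp [hc, hb, ENat.coe_sub, Nat.cast_sum]
  rw [Nat.cast_le] at hle
  have hC : ∀ i, (C i : ℤ) = δ (S.w i) - δ (S.v i) := fun i =>
    Int.toNat_of_nonneg (sub_nonneg.mpr (Groth.Cycles.delta_le_of_specializes hδ (S.spec i)))
  have hB : ∀ i, (B i : ℤ) = δ (S.w i.castSucc) - δ (S.v i.succ) := fun i =>
    Int.toNat_of_nonneg (sub_nonneg.mpr (Groth.Cycles.delta_le_of_specializes hδ (S.spec_succ i)))
  have e1 : ((∑ j, C j : ℕ) : ℤ) - ((∑ j, B j : ℕ) : ℤ) = δ y - δ (S.v 0) := by
    push_cast
    simp only [hC, hB, Finset.sum_sub_distrib]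
    rw [Fin.sum_univ_castSucc (fun i => δ (S.w i)), Fin.sum_univ_succ (fun i => δ (S.v i)), S.last_eq]
    ring
  omega

/-- The one-step system. -/
def single {Z : Set X} {y z : X} (h : y ⤳ z) (hz : z ∈ Z) : DSystem Z y 0 where
  v _ := z
  w _ := y
  spec _ := h
  spec_succ i := i.elim0
  start_mem := hz
  last_eq := rfl

theorem deltaZ_le_codimPt {Z : Set X} {y z : X} (h : y ⤳ z) (hz : z ∈ Z) :
    deltaZ Z y ≤ codimPt y z h := by
  refine (iInf₂_le 0 (single h hz)).trans ?_
  simp [DSystem.delta, single, DSystem.c]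

end Groth.MiscGeom.Delta

end
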