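import Groth.Agent.MiscGeom.QGorDepth
import Mathlib

/-!
# Fibre local rings under base change: flatness and depth
-/

universe u

open IsLocalRing TensorProduct

noncomputable section

namespace Groth.MiscGeom.QGor

section Retraction

/-- an injective map of modules over a ring sitting over the fibre at `p` is split over `A` -/
theorem exists_retraction_of_fibre {A T : Type u} [CommRing A] [CommRing T] [Algebra A T] (p : Ideal A) [p.IsPrime]
    (h0 : ∀ a ∈ p, algebraMap A T a = 0) (h1 : ∀ a ∉ p, IsUnit (algebraMap A T a))
    {V W : Type u} [AddCommGroup V] [Module T V] [Module A V] [IsScalarTower A T V]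
    [AddCommGroup W] [Module T W] [Module A W] [IsScalarTower A T W]
    (u : V →ₗ[T] W) (hu : Function.Injective u) : ∃ r : W →ₗ[A] V, ∀ v, r (u v) = v := by
  let g : A ⧸ p →+* T := Ideal.Quotient.lift p (algebraMap A T) h0
  have hg : ∀ y : nonZeroDivisors (A ⧸ p), IsUnit (g y) := fun ⟨y, hy⟩ => by
    obtain ⟨a, rfl⟩ := Ideal.Quotient.mk_surjective y
    exact h1 a fun ha => nonZeroDivisors.ne_zero hy (Ideal.Quotient.eq_zero_iff_mem.2 ha)
  let φ : p.ResidueField →+* T := IsLocalization.lift hg
  have hφ : ∀ a : A, φ (algebraMap A p.ResidueField a) = algebraMap A T a := fun a => by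
    rw [IsScalarTower.algebraMap_apply A (A ⧸ p) p.ResidueField, IsLocalization.lift_eq]
    rfl
  letI : Module p.ResidueField V := Module.compHom V φ
  letI : Module p.ResidueField W := Module.compHom W φ
  let u' : V →ₗ[p.ResidueField] W := { toFun := u, map_add' := map_add u, map_smul' := fun c v => map_smul u (φ c) v }
  obtain ⟨r, hr⟩ := u'.exists_leftInverse_of_injective (LinearMap.ker_eq_bot.2 hu)
  refine ⟨{ toFun := r, map_add' := map_add r, map_smul' := fun a w => ?_ }, fun v => LinearMap.congr_fun hr v⟩
  have h := map_smul r (algebraMap A p.ResidueField a) w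
  change r (φ (algebraMap A p.ResidueField a) • w) = φ (algebraMap A p.ResidueField a) • r w at h
  rw [hφ, algebraMap_smul, algebraMap_smul] at h
  exact h

end Retraction

/-- scalars from a ring of fractions move across the tensor product -/
theorem compatibleSMul_of_fractions {B T : Type u} [CommRing B] [CommRing T] [Algebra B T] (T' : Type u) [CommRing T']
    [Algebra B T'] [Algebra T T'] [IsScalarTower B T T'] (X : Type u) [AddCommGroup X] [Module T X] [Module B X]
    [IsScalarTower B T X] (h : ∀ t : T, ∃ b s : B, algebraMap B T s * t = algebraMap B T b ∧ IsUnit (algebraMap B T' s)) :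
    TensorProduct.CompatibleSMul B T T' X := ⟨fun t m n => by
  obtain ⟨b, s, hbs, hs⟩ := h t
  refine hs.smul_left_cancel.1 ?_
  rw [algebraMap_smul, algebraMap_smul]
  calc s • ((t • m) ⊗ₜ[B] n) = ((algebraMap B T s * t) • m) ⊗ₜ[B] n := by
        rw [smul_tmul', mul_smul, algebraMap_smul]
    _ = m ⊗ₜ[B] ((algebraMap B T s * t) • n) := by
        rw [hbs, algebraMap_smul, algebraMap_smul, smul_tmul]
    _ = s • (m ⊗ₜ[B] (t • n)) := by
        rw [mul_smul, algebraMap_smul, ← smul_tmul, smul_tmul']⟩

variable {A B A' B' : Type u} [CommRing A] [CommRing B] [CommRing A'] [CommRing B'] [Algebra A B]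
  [Algebra A A'] [Algebra B B'] [Algebra A' B'] [Algebra A B'] [IsScalarTower A B B'] [IsScalarTower A A' B']
  [Algebra.IsPushout A B A' B']

/-- `B'/J'B' ⊗_B u` is injective for an injective `B`-map with an `A`-linear retraction -/
theorem lTensor_injective_of_retraction (J' : Ideal A') {V W : Type u} [AddCommGroup V] [Module B V] [Module A V]
    [IsScalarTower A B V] [AddCommGroup W] [Module B W] [Module A W] [IsScalarTower A B W]
    (u : V →ₗ[B] W) (r : W →ₗ[A] V) (hr : ∀ v, r (u v) = v) :
    Function.Injective (u.lTensor (B' ⧸ J'.map (algebraMap A' B'))) := by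
  haveI : Algebra.IsPushout A A' B B' := Algebra.IsPushout.symm inferInstance
  let I' : Ideal B' := J'.map (algebraMap A' B')
  let eV : B' ⊗[B] V ≃ₗ[A'] A' ⊗[A] V := Algebra.IsPushout.cancelBaseChange A A' B B' V
  let eW : B' ⊗[B] W ≃ₗ[A'] A' ⊗[A] W := Algebra.IsPushout.cancelBaseChange A A' B B' W
  let ρ : B' ⊗[B] W →ₗ[A'] B' ⊗[B] V := eV.symm.toLinearMap ∘ₗ r.baseChange A' ∘ₗ eW.toLinearMap
  have hsq : ∀ z, eW.symm ((u.restrictScalars A).baseChange A' z) = u.lTensor B' (eV.symm z) := fun z => by
    induction z with
    | zero => simp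
    | tmul a v => simp [eV, eW]
    | add a b ha hb => simp [ha, hb]
  have hρ : ∀ z, ρ (u.lTensor B' z) = z := fun z => by
    obtain ⟨z, rfl⟩ := eV.symm.surjective z
    rw [← hsq]
    simp only [ρ, LinearMap.comp_apply, LinearEquiv.coe_coe, LinearEquiv.apply_symm_apply]
    rw [← LinearMap.comp_apply, ← LinearMap.baseChange_comp,
      show r ∘ₗ u.restrictScalars A = LinearMap.id from LinearMap.ext hr, LinearMap.baseChange_id, LinearMap.id_apply]
  let π : B' →ₗ[B] B' ⧸ I' := (Submodule.mkQ I').restrictScalars B
  have hπ : Function.Surjective π := Submodule.mkQ_surjective I'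
  have hker : ∀ (X : Type u) [AddCommGroup X] [Module B X] (z : B' ⊗[B] X),
      π.rTensor X z = 0 ↔ z ∈ (J' • ⊤ : Submodule A' (B' ⊗[B] X)) := by
    intro X _ _ z
    constructor
    · intro hz
      obtain ⟨w, rfl⟩ := ((rTensor_exact X (f := (I'.subtype).restrictScalars B) (g := π)
        (LinearMap.exact_subtype_mkQ I') hπ) z).1 hz
      clear hz
      induction w with
      | zero => simp
      | add a b ha hb => rw [map_add]; exact add_mem ha hb
      | tmul y x =>
        have hy : (y : B') ∈ (I' • ⊤ : Submodule B' B') := by rw [Ideal.smul_top_eq_map, Algebra.algebraMap_self, Ideal.map_id]; exact y.2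
        rw [← Submodule.restrictScalars_mem A', Ideal.smul_restrictScalars, Submodule.restrictScalars_top] at hy
        rw [LinearMap.rTensor_tmul]
        show (y : B') ⊗ₜ[B] x ∈ _
        refine Submodule.smul_induction_on hy ?_ ?_
        · intro a ha b _
          rw [← smul_tmul']
          exact Submodule.smul_mem_smul ha trivial
        · intro a b ha hb
          rw [add_tmul]
          exact add_mem ha hb
    · intro hz
      refine Submodule.smul_induction_on hz ?_ ?_
      · intro a ha w hw
        clear hw
        induction w with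
        | zero => simp
        | add b c hb hc => rw [smul_add, map_add, hb, hc, add_zero]
        | tmul b x =>
          rw [smul_tmul', LinearMap.rTensor_tmul, show π (a • b) = 0 from ?_, zero_tmul]
          refine (Submodule.Quotient.mk_eq_zero I').2 ?_
          rw [Algebra.smul_def]
          exact Ideal.mul_mem_right _ _ (Ideal.mem_map_of_mem _ ha)
      · intro a b ha hb
        rw [map_add, ha, hb, add_zero]
  rw [injective_iff_map_eq_zero]
  intro z hz
  obtain ⟨z, rfl⟩ := LinearMap.rTensor_surjective V hπ z
  rw [← LinearMap.comp_apply, LinearMap.lTensor_comp_rTensor, ← LinearMap.rTensor_comp_lTensor,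
    LinearMap.comp_apply, hker] at hz
  rw [hker, ← hρ z]
  exact (Submodule.map_le_iff_le_comap.1 ((Submodule.map_smul'' J' (⊤ : Submodule A' (B' ⊗[B] W)) ρ).le.trans
    (Submodule.smul_mono le_rfl le_top))) hz

variable [IsNoetherianRing B] [IsNoetherianRing B']

theorem le_idealDepth_fibre_baseChange (q' : Ideal B') [q'.IsPrime] (M : Type u) [AddCommGroup M] [Module B M]
    [Module.Finite B M] :
    LocCoh.idealDepth ((q'.comap (algebraMap B B')).map (algebraMap B (EGA4.FibLocRing A B (q'.comap (algebraMap B B')))))
        (EGA4.FibLocMod A B (q'.comap (algebraMap B B')) M) ≤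
      LocCoh.idealDepth (q'.map (algebraMap B' (EGA4.FibLocRing A' B' q'))) (EGA4.FibLocMod A' B' q' (B' ⊗[B] M)) := by
  let q := q'.comap (algebraMap B B')
  let p := q.comap (algebraMap A B)
  let p' := q'.comap (algebraMap A' B')
  have hpp : p'.comap (algebraMap A A') = p := by
    simp only [p, p', q, Ideal.comap_comap, ← IsScalarTower.algebraMap_eq]
  let S := Localization.AtPrime q
  let S' := Localization.AtPrime q'
  let I : Ideal S := p.map (algebraMap A S)
  let I' : Ideal S' := p'.map (algebraMap A' S')
  let T := EGA4.FibLocRing A B q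
  let T' := EGA4.FibLocRing A' B' q'
  haveI := Groth.Ega4b.fibLocRing_isLocalRing A B q
  haveI := Groth.Ega4b.fibLocRing_isLocalRing A' B' q'
  let φ : S →+* S' := Localization.localRingHom q q' (algebraMap B B') rfl
  have hφA : φ.comp (algebraMap A S) = (algebraMap A' S').comp (algebraMap A A') := by
    rw [IsScalarTower.algebraMap_eq A B S, IsScalarTower.algebraMap_eq A' B' S', RingHom.comp_assoc,
      ← IsScalarTower.algebraMap_eq A A' B', IsScalarTower.algebraMap_eq A B B', ← RingHom.comp_assoc, ← RingHom.comp_assoc]
    congr 1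
    exact RingHom.ext fun b => Localization.localRingHom_to_map q q' _ rfl b
  have hI : I ≤ I'.comap φ := by
    rw [← Ideal.map_le_iff_le_comap, Ideal.map_map, hφA, ← Ideal.map_map]
    exact Ideal.map_mono (Ideal.map_le_iff_le_comap.2 hpp.ge)
  letI algT : Algebra T T' := (Ideal.quotientMap I' φ hI).toAlgebra
  haveI : IsScalarTower B T T' := IsScalarTower.of_algebraMap_eq (R := B) (S := T) (A := T') fun b => by
    rw [RingHom.algebraMap_toAlgebra]
    show Ideal.Quotient.mk I' (algebraMap B S' b) = Ideal.quotientMap I' φ hI (Ideal.Quotient.mk I (algebraMap B S b))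
    rw [Ideal.quotientMap_mk, Localization.localRingHom_to_map, IsScalarTower.algebraMap_apply B B' S']
  have hmaxT : q.map (algebraMap B T) = maximalIdeal T := by
    rw [← IsLocalRing.map_maximalIdeal_of_surjective (Ideal.Quotient.mk _) Ideal.Quotient.mk_surjective,
      ← Localization.AtPrime.map_eq_maximalIdeal, Ideal.map_map]
    rfl
  have hmaxT' : q'.map (algebraMap B' T') = maximalIdeal T' := by
    rw [← IsLocalRing.map_maximalIdeal_of_surjective (Ideal.Quotient.mk _) Ideal.Quotient.mk_surjective,
      ← Localization.AtPrime.map_eq_maximalIdeal, Ideal.map_map]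
    rfl
  haveI : IsLocalHom (algebraMap T T') := by
    refine ((local_hom_TFAE (algebraMap T T')).out 0 2 rfl rfl).mpr ?_
    rw [← hmaxT, ← hmaxT', Ideal.map_map, ← IsScalarTower.algebraMap_eq B T T',
      IsScalarTower.algebraMap_eq B B' T', ← Ideal.map_map]
    exact Ideal.map_mono Ideal.map_comap_le
  -- flatness of the map of fibre local rings
  haveI : Module.Flat T T' := by
    rw [Module.Flat.iff_lTensor_preserves_injective_linearMap]
    intro V W _ _ _ _ u hu
    letI : Module B V := Module.compHom V (algebraMap B T)
    letI : Module B W := Module.compHom W (algebraMap B T)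
    haveI : IsScalarTower B T V :=
      ⟨fun c t v => (congrArg (· • v) (Algebra.smul_def c t)).trans (mul_smul (algebraMap _ T c) t v)⟩
    haveI : IsScalarTower B T W :=
      ⟨fun c t v => (congrArg (· • v) (Algebra.smul_def c t)).trans (mul_smul (algebraMap _ T c) t v)⟩
    letI : Module A V := Module.compHom V (algebraMap A T)
    letI : Module A W := Module.compHom W (algebraMap A T)
    haveI : IsScalarTower A T V :=
      ⟨fun c t v => (congrArg (· • v) (Algebra.smul_def c t)).trans (mul_smul (algebraMap _ T c) t v)⟩
    haveI : IsScalarTower A T W :=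
      ⟨fun c t v => (congrArg (· • v) (Algebra.smul_def c t)).trans (mul_smul (algebraMap _ T c) t v)⟩
    haveI : IsScalarTower A B V := IsScalarTower.of_algebraMap_smul fun a v => by
      show algebraMap B T (algebraMap A B a) • v = algebraMap A T a • v
      rw [← IsScalarTower.algebraMap_apply]
    haveI : IsScalarTower A B W := IsScalarTower.of_algebraMap_smul fun a v => by
      show algebraMap B T (algebraMap A B a) • v = algebraMap A T a • v
      rw [← IsScalarTower.algebraMap_apply]
    obtain ⟨r, hr⟩ := exists_retraction_of_fibre (T := T) p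
      (fun a ha => Ideal.Quotient.eq_zero_iff_mem.2 (Ideal.mem_map_of_mem _ ha))
      (fun a ha => by
        have hu' : IsUnit (algebraMap B S (algebraMap A B a)) :=
          IsLocalization.map_units S (⟨algebraMap A B a, ha⟩ : q.primeCompl)
        rw [← IsScalarTower.algebraMap_apply] at hu'
        exact hu'.map (Ideal.Quotient.mk I))
      u hu
    let Y := B' ⧸ p'.map (algebraMap A' B')
    have h1 : Function.Injective ((u.restrictScalars B).lTensor Y) :=
      lTensor_injective_of_retraction p' (u.restrictScalars B) r hr
    let U : Y ⊗[B] V →ₗ[B'] Y ⊗[B] W := AlgebraTensorModule.lTensor B' Y (u.restrictScalars B)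
    have h2 : Function.Injective (U.lTensor S') := Module.Flat.lTensor_preserves_injective_linearMap U h1
    let aV := AlgebraTensorModule.assoc B B' B' S' Y V
    let aW := AlgebraTensorModule.assoc B B' B' S' Y W
    have h3 : Function.Injective ((u.restrictScalars B).lTensor (S' ⊗[B'] Y)) := by
      intro x y hxy
      refine aV.injective (h2 ?_)
      have key : ∀ z, U.lTensor S' (aV z) = aW ((u.restrictScalars B).lTensor (S' ⊗[B'] Y) z) := fun z => by
        induction z with
        | zero => simp
        | add a b ha hb => simp [ha, hb]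
        | tmul s v =>
          induction s with
          | zero => simp
          | add a b ha hb => simp [add_tmul, ha, hb]
          | tmul s y => rfl
      rw [key, key, hxy]
    obtain ⟨eY⟩ := Groth.Ega4b.exists_tensor_quotient (R := B') (S := S') S' (p'.map (algebraMap A' B'))
    let eT : T' ≃ₗ[S'] S' ⊗[B'] Y := (Submodule.quotEquivOfEq _ _ (by
      rw [smul_eq_mul, Ideal.mul_top, Ideal.map_map, ← IsScalarTower.algebraMap_eq])).trans eY
    have h4 : Function.Injective ((u.restrictScalars B).lTensor T') := by
      intro x y hxy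
      let e := (eT.restrictScalars B).rTensor V
      let e' := (eT.restrictScalars B).rTensor W
      refine e.injective (h3 ?_)
      have key : ∀ z, (u.restrictScalars B).lTensor (S' ⊗[B'] Y) (e z) = e' ((u.restrictScalars B).lTensor T' z) := fun z => by
        induction z with
        | zero => simp
        | add a b ha hb => simp [ha, hb]
        | tmul s v => simp [e, e']
      rw [key, key, hxy]
    have hcompat : ∀ (X : Type u) [AddCommGroup X] [Module T X] [Module B X] [IsScalarTower B T X],
        TensorProduct.CompatibleSMul B T T' X := fun X _ _ _ _ => compatibleSMul_of_fractions (B := B) (T := T) T' X fun t => by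
      obtain ⟨t, rfl⟩ := Ideal.Quotient.mk_surjective t
      obtain ⟨⟨b, s⟩, hbs⟩ := IsLocalization.surj q.primeCompl t
      refine ⟨b, s, ?_, ?_⟩
      · rw [mul_comm]
        exact (map_mul (Ideal.Quotient.mk I) t _).symm.trans (congrArg (Ideal.Quotient.mk I) hbs)
      · rw [IsScalarTower.algebraMap_apply B T T']
        exact (((IsLocalization.map_units S s).map (Ideal.Quotient.mk I))).map _
    haveI := hcompat V
    haveI := hcompat W
    intro x y hxy
    let cV := TensorProduct.equivOfCompatibleSMul B T B T' V
    let cW := TensorProduct.equivOfCompatibleSMul B T B T' W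
    refine cV.injective (h4 ?_)
    have key : ∀ z, (u.restrictScalars B).lTensor T' (cV z) = cW (u.lTensor T' z) := fun z => by
      induction z with
      | zero => simp
      | add a b ha hb => simp [ha, hb]
      | tmul s v => rfl
    rw [key, key, hxy]
  -- depth of the base change
  obtain ⟨e1⟩ : Nonempty (EGA4.FibLocMod A B q M ≃ₗ[T] T ⊗[B] M) := by
    refine ⟨LinearEquiv.extendScalarsOfSurjective (R := S) Ideal.Quotient.mk_surjective ?_⟩
    exact (TensorProduct.quotTensorEquivQuotSMul (LocalizedModule q.primeCompl M) I).symm.trans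
      ((AlgebraTensorModule.congr (LinearEquiv.refl S T) (LocalizedModule.equivTensorProduct q.primeCompl M)).trans
        (AlgebraTensorModule.cancelBaseChange B S S T M))
  obtain ⟨e2⟩ : Nonempty (EGA4.FibLocMod A' B' q' (B' ⊗[B] M) ≃ₗ[T'] T' ⊗[B] M) := by
    refine ⟨LinearEquiv.extendScalarsOfSurjective (R := S') Ideal.Quotient.mk_surjective ?_⟩
    exact (TensorProduct.quotTensorEquivQuotSMul (LocalizedModule q'.primeCompl (B' ⊗[B] M)) I').symm.trans
      ((AlgebraTensorModule.congr (LinearEquiv.refl S' T') (LocalizedModule.equivTensorProduct q'.primeCompl (B' ⊗[B] M))).trans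
        ((AlgebraTensorModule.cancelBaseChange B' S' S' T' (B' ⊗[B] M)).trans
          (AlgebraTensorModule.cancelBaseChange B B' S' T' M)))
  rw [hmaxT, hmaxT']
  show LocCoh.depth T (EGA4.FibLocMod A B q M) ≤ LocCoh.depth T' (EGA4.FibLocMod A' B' q' (B' ⊗[B] M))
  rw [Groth.Ega4b.depth_congr' e1,
    Groth.Ega4b.depth_congr' (e2.trans (AlgebraTensorModule.cancelBaseChange B T T' T' M).symm),
    Groth.Ega4b.depth_tensor' (S := T') T' (T ⊗[B] M)]
  exact le_self_add

end Groth.MiscGeom.QGor

end
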