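import Groth.Agent.DepthRefl.Basic
import Groth.Agent.MiscGeom.FibreBaseChange
import Mathlib

/-!
# Duals of maps which are isomorphisms off `V(J)`
-/

universe u

open TensorProduct

noncomputable section

namespace Groth.MiscGeom.QGor

variable {R : Type u} [CommRing R] [IsNoetherianRing R] (J : Ideal R)

/-- the dual of a finite module has depth two along `J` when the ring has -/
theorem two_le_depth_dual (hR : 2 ≤ LocCoh.idealDepth J R) (M : Type u) [AddCommGroup M] [Module R M] [Module.Finite R M] :
    2 ≤ LocCoh.idealDepth J (Module.Dual R M) := by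
  haveI : Module.FinitePresentation R M := Module.finitePresentation_of_finite R M
  obtain ⟨n, m, g, h, hg, hh⟩ := Module.FinitePresentation.exists_fin' R M
  refine Groth.DepthRefl.two_le_depth_of_exact J (g := h.dualMap) (LinearMap.dualMap_injective_of_surjective hg) (fun y => ?_)
    (hR.trans (Groth.DepthRefl.le_depth_dual_pi J n)) ((le_trans one_le_two hR).trans (Groth.DepthRefl.le_depth_dual_pi J m))
  constructor
  · intro hy
    have hker : LinearMap.ker g ≤ LinearMap.ker y := fun x hx => by
      obtain ⟨z, rfl⟩ := (hh x).1 hx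
      exact LinearMap.congr_fun hy z
    refine ⟨(Submodule.liftQ _ y hker) ∘ₗ (g.quotKerEquivOfSurjective hg).symm.toLinearMap, LinearMap.ext fun x => ?_⟩
    show Submodule.liftQ _ y hker ((g.quotKerEquivOfSurjective hg).symm (g x)) = y x
    rw [show (g.quotKerEquivOfSurjective hg).symm (g x) = Submodule.Quotient.mk x from
      (LinearEquiv.symm_apply_eq _).2 rfl]
    rfl
  · rintro ⟨z, rfl⟩
    refine LinearMap.ext fun x => ?_
    show z (g (h x)) = 0
    rw [hh.apply_apply_eq_zero, map_zero]

/-- a map is inverted up to scalars off `V(J)` -/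
def HasQuasiInverseOff {M N : Type u} [AddCommGroup M] [Module R M] [AddCommGroup N] [Module R N] (φ : M →ₗ[R] N) : Prop :=
  ∀ q : PrimeSpectrum R, ¬ J ≤ q.asIdeal → ∃ t ∉ q.asIdeal, ∃ ψ : N →ₗ[R] M,
    ψ ∘ₗ φ = t • LinearMap.id ∧ φ ∘ₗ ψ = t • LinearMap.id

theorem bijective_dualMap (hR : 2 ≤ LocCoh.idealDepth J R) {M N : Type u} [AddCommGroup M] [Module R M] [Module.Finite R M]
    [AddCommGroup N] [Module R N] [Module.Finite R N] (φ : M →ₗ[R] N) (hφ : HasQuasiInverseOff J φ) :
    Function.Bijective φ.dualMap := by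
  have hinj : Function.Injective φ.dualMap := by
    rw [injective_iff_map_eq_zero]
    intro g hg
    refine Groth.DepthRefl.eq_zero_of_killed J (le_trans one_le_two (two_le_depth_dual J hR N)) g fun q hq => ?_
    obtain ⟨t, ht, ψ, -, h2⟩ := hφ q hq
    refine ⟨t, ht, LinearMap.ext fun x => ?_⟩
    have := LinearMap.congr_fun hg (ψ x)
    rw [LinearMap.dualMap_apply, ← LinearMap.comp_apply φ ψ, h2] at this
    simpa using this
  refine ⟨hinj, fun g => ?_⟩
  have hC : 1 ≤ LocCoh.idealDepth J (Module.Dual R M ⧸ LinearMap.range φ.dualMap) := by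
    refine le_trans ?_ (Groth.LocCohBase.idealDepth_shortExact J φ.dualMap (LinearMap.range φ.dualMap).mkQ hinj
      (Submodule.mkQ_surjective _) (LinearMap.exact_iff.mpr (Submodule.ker_mkQ _))).2.1
    refine le_min (le_trans one_le_two (two_le_depth_dual J hR M)) ?_
    have := two_le_depth_dual J hR N
    revert this
    generalize LocCoh.idealDepth J (Module.Dual R N) = x
    cases x <;> intro this
    · exact le_top
    · norm_cast at this ⊢
      omega
  rw [← LinearMap.mem_range, ← Submodule.Quotient.mk_eq_zero]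
  refine Groth.DepthRefl.eq_zero_of_killed J hC _ fun q hq => ?_
  obtain ⟨t, ht, ψ, h1, -⟩ := hφ q hq
  refine ⟨t, ht, ?_⟩
  rw [← Submodule.Quotient.mk_smul, Submodule.Quotient.mk_eq_zero]
  refine ⟨g ∘ₗ ψ, LinearMap.ext fun x => ?_⟩
  rw [LinearMap.dualMap_apply, LinearMap.comp_apply, ← LinearMap.comp_apply ψ φ, h1]
  simp

theorem hasQuasiInverseOff_eval (F : Type u) [AddCommGroup F] [Module R F] [Module.Finite R F]
    (hU : ∀ q : PrimeSpectrum R, ¬ J ≤ q.asIdeal →
      Module.IsReflexive (Localization.AtPrime q.asIdeal) (LocalizedModule q.asIdeal.primeCompl F)) :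
    HasQuasiInverseOff J (Module.Dual.eval R F) := by
  intro q hq
  let e := Module.Dual.eval R F
  obtain ⟨hk, hc⟩ := Groth.DepthRefl.exists_kill F q.asIdeal (hU q hq)
  have h1 : q ∉ Module.support R (LinearMap.ker e) := fun hm => by
    obtain ⟨m, hm⟩ := Module.mem_support_iff'.1 hm
    obtain ⟨t, ht, htm⟩ := hk m m.2
    exact hm t ht (Subtype.ext htm)
  have h2 : q ∉ Module.support R (Module.Dual R (Module.Dual R F) ⧸ LinearMap.range e) := fun hm => by
    obtain ⟨m, hm⟩ := Module.mem_support_iff'.1 hm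
    obtain ⟨m, rfl⟩ := Submodule.Quotient.mk_surjective _ m
    obtain ⟨t, ht, htm⟩ := hc m
    exact hm t ht (by rw [← Submodule.Quotient.mk_smul, Submodule.Quotient.mk_eq_zero]; exact htm)
  rw [Module.mem_support_iff_of_finite, SetLike.not_le_iff_exists] at h1 h2
  obtain ⟨s, hs, hsq⟩ := h1
  obtain ⟨t, ht, htq⟩ := h2
  rw [Module.mem_annihilator] at hs ht
  let θ : Module.Dual R (Module.Dual R F) →ₗ[R] LinearMap.range e :=
    (t • LinearMap.id : _ →ₗ[R] Module.Dual R (Module.Dual R F)).codRestrict _ fun x => by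
      rw [← Submodule.Quotient.mk_eq_zero]
      exact (Submodule.Quotient.mk_smul _ t x).trans (ht _)
  have hkle : LinearMap.ker e ≤ LinearMap.ker (s • LinearMap.id : F →ₗ[R] F) := fun x hx => by
    simpa using congrArg Subtype.val (hs ⟨x, hx⟩)
  let L : LinearMap.range e →ₗ[R] F := Submodule.liftQ _ (s • LinearMap.id) hkle ∘ₗ e.quotKerEquivRange.symm.toLinearMap
  have hL : ∀ y (h : e y ∈ LinearMap.range e), L ⟨e y, h⟩ = s • y := fun y h => by
    simp only [L, LinearMap.comp_apply, LinearEquiv.coe_coe]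
    rw [show e.quotKerEquivRange.symm ⟨e y, h⟩ = Submodule.Quotient.mk y from (LinearEquiv.symm_apply_eq _).2 rfl]
    rfl
  refine ⟨s * t, fun h => ((inferInstance : q.asIdeal.IsPrime).mem_or_mem h).elim hsq htq, L ∘ₗ θ,
    LinearMap.ext fun y => ?_, LinearMap.ext fun x => ?_⟩
  · have : θ (e y) = ⟨e (t • y), LinearMap.mem_range_self e _⟩ := Subtype.ext (by simp [θ, map_smul])
    show L (θ (e y)) = _
    rw [this, hL]
    simp [mul_smul]
  · obtain ⟨y, hy⟩ := (θ x).2
    have : θ x = ⟨e y, LinearMap.mem_range_self e _⟩ := Subtype.ext hy.symm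
    show e (L (θ x)) = _
    rw [this, hL, map_smul, hy]
    simp [θ, mul_smul]

theorem HasQuasiInverseOff.baseChange {J : Ideal R} {M N : Type u} [AddCommGroup M] [Module R M] [AddCommGroup N] [Module R N]
    {φ : M →ₗ[R] N} (h : HasQuasiInverseOff J φ) (R' : Type u) [CommRing R'] [Algebra R R'] :
    HasQuasiInverseOff (J.map (algebraMap R R')) (φ.baseChange R') := by
  intro q hq
  obtain ⟨t, ht, ψ, h1, h2⟩ := h ⟨q.asIdeal.comap (algebraMap R R'), inferInstance⟩
    fun hle => hq (Ideal.map_le_iff_le_comap.2 hle)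
  refine ⟨algebraMap R R' t, ht, ψ.baseChange R', ?_, ?_⟩
  · rw [← LinearMap.baseChange_comp, h1, LinearMap.baseChange_smul, LinearMap.baseChange_id]
    exact (algebraMap_smul R' t _).symm
  · rw [← LinearMap.baseChange_comp, h2, LinearMap.baseChange_smul, LinearMap.baseChange_id]
    exact (algebraMap_smul R' t _).symm

omit [IsNoetherianRing R] in
theorem isReflexive_localized_baseChange {J : Ideal R} (R' : Type u) [CommRing R'] [Algebra R R'] (F : Type u) [AddCommGroup F]
    [Module R F] [Module.Finite R F]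
    (hU : ∀ q : PrimeSpectrum R, ¬ J ≤ q.asIdeal → Module.Free (Localization.AtPrime q.asIdeal) (LocalizedModule q.asIdeal.primeCompl F))
    (q' : PrimeSpectrum R') (hq : ¬ J.map (algebraMap R R') ≤ q'.asIdeal) :
    Module.IsReflexive (Localization.AtPrime q'.asIdeal) (LocalizedModule q'.asIdeal.primeCompl (R' ⊗[R] F)) := by
  let q := q'.asIdeal.comap (algebraMap R R')
  let S := Localization.AtPrime q
  let S' := Localization.AtPrime q'.asIdeal
  letI : Algebra S S' := (Localization.localRingHom q q'.asIdeal (algebraMap R R') rfl).toAlgebra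
  haveI : IsScalarTower R S S' := IsScalarTower.of_algebraMap_eq fun a => by
    rw [RingHom.algebraMap_toAlgebra, Localization.localRingHom_to_map, IsScalarTower.algebraMap_apply R R' S']
  haveI : Module.Free S (LocalizedModule q.primeCompl F) := hU ⟨q, inferInstance⟩
    fun hle => hq (Ideal.map_le_iff_le_comap.2 hle)
  let e : LocalizedModule q'.asIdeal.primeCompl (R' ⊗[R] F) ≃ₗ[S'] S' ⊗[S] LocalizedModule q.primeCompl F :=
    (LocalizedModule.equivTensorProduct q'.asIdeal.primeCompl (R' ⊗[R] F)).trans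
      ((AlgebraTensorModule.cancelBaseChange R R' S' S' F).trans
        ((AlgebraTensorModule.cancelBaseChange R S S' S' F).symm.trans
          (AlgebraTensorModule.congr (LinearEquiv.refl S' S') (LocalizedModule.equivTensorProduct q.primeCompl F).symm)))
  haveI : Module.Free S' (LocalizedModule q'.asIdeal.primeCompl (R' ⊗[R] F)) := Module.Free.of_equiv e.symm
  infer_instance

end Groth.MiscGeom.QGor

end
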