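import Groth.Agent.EGA43Topo.FlatDVRPoint
import Groth.Agent.FlatMorOne.UnivInj
import Groth.Prelude.Def_FlatCA
import Mathlib

/-!
# The valuative criterion of flatness at a point, for finite modules
-/

set_option autoImplicit false
universe u

open TensorProduct IsLocalRing

noncomputable section

namespace Groth.MiscGeom.QGor

/-- a reduced base: a finite module is flat at a point as soon as it is flat at the points over it and the closed
points of all dominating discrete valuation rings (EGA IV 11.8.1) -/
theorem flatAt_of_dvr {R C : Type u} [CommRing R] [CommRing C] [IsNoetherianRing R] [IsLocalRing R] [IsReduced R]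
    [Algebra R C] [Module.Flat R C] (hft : Algebra.FiniteType R C) (n : Ideal C) [n.IsPrime]
    (hn : n.comap (algebraMap R C) = maximalIdeal R) (G : Type u) [AddCommGroup G] [Module C G] [Module R G]
    [IsScalarTower R C G] [Module.Finite C G]
    (h : ∀ (D : Type u) [CommRing D] [IsDomain D] [IsDiscreteValuationRing D] [Algebra R D],
      IsLocalHom (algebraMap R D) →
      ∀ (C' : Type u) [CommRing C'] [Algebra C C'] [Algebra D C'] [Algebra R C'] [IsScalarTower R C C']
        [IsScalarTower R D C'], Algebra.IsPushout R C D C' →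
        ∀ (q' : Ideal C') [q'.IsPrime], q'.comap (algebraMap C C') = n → q'.comap (algebraMap D C') = maximalIdeal D →
          FlatCA.FlatAt D q' (C' ⊗[C] G)) :
    FlatCA.FlatAt R n G := by
  letI : Module Cᵐᵒᵖ G := Module.compHom G ((RingHom.id C).fromOpposite mul_comm)
  haveI : IsCentralScalar C G := ⟨fun _ _ => rfl⟩
  let L0 := TrivSqZeroExt C G
  haveI : Module.Finite C L0 := inferInstanceAs (Module.Finite C (C × G))
  haveI : Algebra.FiniteType R L0 := Algebra.FiniteType.trans (R := R) (S := C) (A := L0) hft inferInstance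
  let fst0 : L0 →ₐ[R] C := TrivSqZeroExt.fstHom R C G
  let N : Ideal L0 := n.comap fst0
  haveI : N.IsPrime := Ideal.IsPrime.comap _
  have hNC : N.comap (algebraMap C L0) = n := by
    ext c
    show TrivSqZeroExt.fst (algebraMap C L0 c) ∈ n ↔ _
    rw [TrivSqZeroExt.algebraMap_eq_inl, TrivSqZeroExt.fst_inl]
  let L := Localization.AtPrime N
  haveI : Algebra.EssFiniteType L0 L := Algebra.EssFiniteType.of_isLocalization L N.primeCompl
  haveI : Algebra.EssFiniteType R L := Algebra.EssFiniteType.comp R L0 L
  haveI : IsLocalHom (algebraMap R L) := ⟨fun a ha => by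
    by_contra hna
    have h1 : a ∈ n.comap (algebraMap R C) := hn ▸ hna
    have h2 : algebraMap R L0 a ∈ N := by
      show fst0 (algebraMap R L0 a) ∈ n
      rw [fst0.commutes]
      exact h1
    rw [IsScalarTower.algebraMap_apply R L0 L] at ha
    exact (IsLocalization.AtPrime.to_map_mem_maximal_iff L N _).2 h2 ha⟩
  haveI hL : Module.Flat R L := by
    refine Groth.EGA43Topo.FlatDVRPoint.flat_of_dvr_at R L fun D _ _ _ _ _ P _ hPD hPL => ?_
    let C' := D ⊗[R] C
    letI : Algebra C C' := Algebra.TensorProduct.rightAlgebra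
    let T0 := D ⊗[R] L0
    letI : Algebra L0 T0 := Algebra.TensorProduct.rightAlgebra
    let ψ : C' →ₐ[D] T0 := Algebra.TensorProduct.map (AlgHom.id D D) (IsScalarTower.toAlgHom R C L0)
    letI : Algebra C' T0 := ψ.toRingHom.toAlgebra
    letI : Algebra C T0 := ((algebraMap L0 T0).comp (algebraMap C L0)).toAlgebra
    haveI : IsScalarTower C L0 T0 := IsScalarTower.of_algebraMap_eq fun _ => rfl
    haveI : IsScalarTower C C' T0 := IsScalarTower.of_algebraMap_eq fun c => by
      show (1 : D) ⊗ₜ[R] algebraMap C L0 c = ψ ((1 : D) ⊗ₜ[R] c)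
      rw [Algebra.TensorProduct.map_tmul]
      rfl
    haveI : IsScalarTower D C' T0 := IsScalarTower.of_algebraMap_eq fun a => (ψ.commutes a).symm
    haveI : IsScalarTower R C' T0 := IsScalarTower.of_algebraMap_eq fun a => by
      rw [IsScalarTower.algebraMap_apply R D C', ← IsScalarTower.algebraMap_apply D C' T0,
        ← IsScalarTower.algebraMap_apply R D T0]
    haveI : Algebra.IsPushout R D C C' := TensorProduct.isPushout
    haveI : Algebra.IsPushout R D L0 T0 := TensorProduct.isPushout
    haveI : IsScalarTower R C T0 := IsScalarTower.of_algebraMap_eq fun a => by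
      show algebraMap R T0 a = algebraMap L0 T0 (algebraMap C L0 (algebraMap R C a))
      rw [← IsScalarTower.algebraMap_apply R C L0, ← IsScalarTower.algebraMap_apply R L0 T0]
    haveI : Algebra.IsPushout R C D C' := Algebra.IsPushout.symm inferInstance
    haveI : Algebra.IsPushout R L0 D T0 := Algebra.IsPushout.symm inferInstance
    haveI : Algebra.IsPushout C L0 C' T0 :=
      (Algebra.IsPushout.comp_iff (R := R) (S := C) (T := L0) (R' := D) (S' := C') (T' := T0)).1 inferInstance
    haveI : Algebra.IsPushout C C' L0 T0 := Algebra.IsPushout.symm inferInstance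
    -- the prime below
    let κ : T0 →ₐ[D] D ⊗[R] L := Algebra.TensorProduct.map (AlgHom.id D D) (IsScalarTower.toAlgHom R L0 L)
    have hκ : κ.toRingHom.Flat := RingHom.Flat.tensorProductMap (RingHom.Flat.id D)
      (RingHom.flat_algebraMap_iff.2 (IsLocalization.flat L N.primeCompl))
    let P0 : Ideal T0 := P.comap κ.toRingHom
    haveI : P0.IsPrime := Ideal.IsPrime.comap _
    let q' : Ideal C' := P0.comap (algebraMap C' T0)
    haveI : q'.IsPrime := Ideal.IsPrime.comap _
    have hq'D : q'.comap (algebraMap D C') = maximalIdeal D := by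
      rw [Ideal.comap_comap, ← IsScalarTower.algebraMap_eq D C' T0, ← hPD]
      ext a
      show κ (algebraMap D T0 a) ∈ P ↔ _
      rw [κ.commutes]
      rfl
    have hq'C : q'.comap (algebraMap C C') = n := by
      rw [Ideal.comap_comap, ← IsScalarTower.algebraMap_eq C C' T0]
      ext c
      show κ ((1 : D) ⊗ₜ[R] algebraMap C L0 c) ∈ P ↔ _
      rw [Algebra.TensorProduct.map_tmul, map_one]
      show algebraMap L0 L (algebraMap C L0 c) ∈
        P.comap (Algebra.TensorProduct.includeRight (R := R) (A := D) (B := L)).toRingHom ↔ _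
      rw [hPL, IsLocalization.AtPrime.to_map_mem_maximal_iff L N, ← Ideal.mem_comap, hNC]
    -- flatness of `(T0)_{q'}`
    haveI : Module.Flat D C' := inferInstance
    let S := Localization.AtPrime q'
    haveI : Module.Flat D S := Module.Flat.trans D C' S
    haveI : Module.Flat D (LocalizedModule q'.primeCompl (C' ⊗[C] G)) :=
      h D inferInstance C' inferInstance q' hq'C hq'D
    let eG : S ⊗[C] G ≃ₗ[S] LocalizedModule q'.primeCompl (C' ⊗[C] G) :=
      ((LocalizedModule.equivTensorProduct q'.primeCompl (C' ⊗[C] G)).trans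
        (AlgebraTensorModule.cancelBaseChange C C' S S G)).symm
    haveI : Module.Flat D (S ⊗[C] G) := Module.Flat.of_linearEquiv (eG.restrictScalars D)
    haveI : Module.Flat D (S ⊗[C] C) := Module.Flat.of_linearEquiv ((AlgebraTensorModule.rid C S S).restrictScalars D)
    let eL : L0 ≃ₗ[C] C × G :=
      { toFun := fun x => (x.fst, x.snd)
        invFun := fun x => (x.1, x.2)
        map_add' := fun _ _ => rfl
        map_smul' := fun _ _ => rfl }
    let eT : S ⊗[C] L0 ≃ₗ[S] (S ⊗[C] C) × (S ⊗[C] G) :=
      (AlgebraTensorModule.congr (LinearEquiv.refl S S) eL).trans (TensorProduct.prodRight C S S C G)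
    haveI : Module.Flat D ((S ⊗[C] C) × (S ⊗[C] G)) := Groth.FlatMorOne.flat_prod (S ⊗[C] C) (S ⊗[C] G)
    haveI : Module.Flat D (S ⊗[C] L0) := Module.Flat.of_linearEquiv (eT.restrictScalars D)
    let eP : C' ⊗[C] L0 ≃ₗ[C'] T0 := (Algebra.IsPushout.out (R := C) (S := C') (R' := L0) (S' := T0)).equiv
    let eS : LocalizedModule q'.primeCompl T0 ≃ₗ[S] S ⊗[C] L0 :=
      (LocalizedModule.equivTensorProduct q'.primeCompl T0).trans
        ((AlgebraTensorModule.congr (LinearEquiv.refl S S) eP.symm).trans
          (AlgebraTensorModule.cancelBaseChange C C' S S L0))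
    haveI : Module.Flat D (LocalizedModule q'.primeCompl T0) := Module.Flat.of_linearEquiv (eS.restrictScalars D)
    let Lc := Localization.AtPrime P0
    obtain ⟨π, hπ⟩ := IsDiscreteValuationRing.exists_irreducible D
    haveI : Module.Flat D Lc := (RingHom.flat_algebraMap_iff (R := D) (S := Lc)).1 (Groth.Ega43DVR.flat_of_regular (algebraMap D Lc) hπ fun (b : Lc) (hb : algebraMap D Lc π * b = 0) => by
      obtain ⟨x, s, rfl⟩ := IsLocalization.exists_mk'_eq P0.primeCompl b
      rw [IsScalarTower.algebraMap_apply D T0 Lc, IsLocalization.mul_mk'_eq_mk'_of_mul,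
        IsLocalization.mk'_eq_zero_iff] at hb
      obtain ⟨w, hw⟩ := hb
      let mk := LocalizedModule.mkLinearMap q'.primeCompl T0
      have hreg : IsSMulRegular (LocalizedModule q'.primeCompl T0) π :=
        Module.Flat.isSMulRegular_of_nonZeroDivisors (M := LocalizedModule q'.primeCompl T0) (mem_nonZeroDivisors_of_ne_zero hπ.ne_zero)
      have h0 : π • mk ((w : T0) * x) = 0 := by
        rw [← LinearMap.map_smul_of_tower, ← algebraMap_smul T0 π, smul_eq_mul, mul_left_comm, hw, map_zero]
      have h1 : mk ((w : T0) * x) = 0 := hreg (h0.trans (smul_zero π).symm)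
      obtain ⟨c, hc⟩ := (IsLocalizedModule.eq_zero_iff q'.primeCompl mk).1 h1
      rw [IsLocalization.mk'_eq_zero_iff]
      refine ⟨⟨algebraMap C' T0 c * w, fun hm => ((inferInstance : P0.IsPrime).mem_or_mem hm).elim c.2 w.2⟩, ?_⟩
      rw [Submonoid.smul_def, Algebra.smul_def, ← mul_assoc] at hc
      exact hc)
    refine (RingHom.flat_algebraMap_iff (R := D) (S := Localization.AtPrime P)).mp ?_
    convert RingHom.Flat.comp (RingHom.flat_algebraMap_iff.2 (inferInstance : Module.Flat D Lc))
      (RingHom.Flat.localRingHom hκ P P0 rfl) using 1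
    refine RingHom.ext fun a => ?_
    refine Eq.trans ?_ (Localization.localRingHom_to_map P0 P κ.toRingHom rfl (algebraMap D T0 a)).symm
    rw [IsScalarTower.algebraMap_apply D (D ⊗[R] L) (Localization.AtPrime P)]
    exact congrArg _ (κ.commutes a).symm
  -- `G_n` is a retract of `L`
  let Cn := Localization.AtPrime n
  let Gn := LocalizedModule n.primeCompl G
  let mkG := LocalizedModule.mkLinearMap n.primeCompl G
  letI : Module Cnᵐᵒᵖ Gn := Module.compHom Gn ((RingHom.id Cn).fromOpposite mul_comm)
  haveI : IsCentralScalar Cn Gn := ⟨fun _ _ => rfl⟩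
  let B := TrivSqZeroExt Cn Gn
  let γ : L0 →ₐ[C] B := TrivSqZeroExt.liftEquivOfComm
    ⟨(TrivSqZeroExt.inrHom Cn Gn).restrictScalars C ∘ₗ mkG, fun _ _ => TrivSqZeroExt.inr_mul_inr _ _ _⟩
  have hγf : ∀ z : L0, (γ z).fst = algebraMap C Cn z.fst := fun z => by
    show TrivSqZeroExt.fst (algebraMap C B z.fst + TrivSqZeroExt.inr (mkG z.snd)) = _
    rw [TrivSqZeroExt.fst_add, TrivSqZeroExt.fst_inr, add_zero]
    rfl
  have hu : ∀ z : N.primeCompl, IsUnit (γ.toRingHom z) := fun z => by
    show IsUnit (γ (z : L0))
    rw [TrivSqZeroExt.isUnit_iff_isUnit_fst, hγf]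
    exact IsLocalization.map_units Cn (⟨(z : L0).fst, z.2⟩ : n.primeCompl)
  let Λ : L →ₐ[R] B :=
    { IsLocalization.lift (M := N.primeCompl) (S := L) hu with
      commutes' := fun a => by
        show IsLocalization.lift (M := N.primeCompl) (S := L) hu (algebraMap R L a) = _
        rw [IsScalarTower.algebraMap_apply R L0 L, IsLocalization.lift_eq]
        show γ (algebraMap R L0 a) = _
        rw [IsScalarTower.algebraMap_apply R C L0, γ.commutes, ← IsScalarTower.algebraMap_apply] }
  let sn : L →ₗ[R] Gn := (TrivSqZeroExt.sndHom Cn Gn).restrictScalars R ∘ₗ Λ.toLinearMap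
  let i0 : G →ₗ[C] L := (IsScalarTower.toAlgHom C L0 L).toLinearMap ∘ₗ TrivSqZeroExt.inrHom C G
  have hunit : ∀ c : n.primeCompl, IsUnit (algebraMap C (Module.End C L) c) := fun c => by
    have hc : IsUnit (algebraMap C L c) := by
      rw [IsScalarTower.algebraMap_apply C L0 L]
      exact IsLocalization.map_units L (⟨algebraMap C L0 c, fun h => c.2 ((Ideal.ext_iff.1 hNC c).1 h)⟩ : N.primeCompl)
    rw [Module.End.isUnit_iff]
    convert (IsUnit.isUnit_iff_mulLeft_bijective.1 hc) using 1
    funext x
    show (c : C) • x = algebraMap C L c * x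
    exact Algebra.smul_def _ _
  let inj : Gn →ₗ[C] L := LocalizedModule.lift n.primeCompl i0 hunit
  refine Module.Flat.of_retract (inj.restrictScalars R) sn (LinearMap.ext fun x => ?_)
  induction x using LocalizedModule.induction_on with
  | _ g s =>
    have hsn : ∀ (c : C) (y : L), sn (c • y) = c • sn y := fun c y => by
      show TrivSqZeroExt.snd (Λ (c • y)) = c • TrivSqZeroExt.snd (Λ y)
      rw [Algebra.smul_def, map_mul, IsScalarTower.algebraMap_apply C L0 L]
      show TrivSqZeroExt.snd (IsLocalization.lift (M := N.primeCompl) (S := L) hu (algebraMap L0 L _) * Λ y) = _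
      rw [IsLocalization.lift_eq]
      show TrivSqZeroExt.snd (γ (algebraMap C L0 c) * Λ y) = _
      rw [γ.commutes, ← Algebra.smul_def, TrivSqZeroExt.snd_smul]
    have h1 : sn (inj (mkG g)) = mkG g := by
      show sn (LocalizedModule.lift n.primeCompl i0 hunit (LocalizedModule.mk g 1)) = _
      rw [LocalizedModule.lift_mk_one]
      show TrivSqZeroExt.snd (IsLocalization.lift (M := N.primeCompl) (S := L) hu
        (algebraMap L0 L (TrivSqZeroExt.inr g))) = _
      rw [IsLocalization.lift_eq]
      show TrivSqZeroExt.snd (algebraMap C B 0 + TrivSqZeroExt.inr (mkG g)) = _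
      simp [TrivSqZeroExt.algebraMap_eq_inl']
    refine ((Module.End.isUnit_iff _).1 (IsLocalizedModule.map_units mkG s)).1 ?_
    show (s : C) • sn (inj (LocalizedModule.mk g s)) = (s : C) • LocalizedModule.mk g s
    rw [← hsn, ← map_smul inj, show (s : C) • LocalizedModule.mk g s = mkG g by rw [LocalizedModule.smul'_mk]; exact LocalizedModule.mk_cancel s g]
    exact h1

end Groth.MiscGeom.QGor

end
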