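import Groth.Prelude.Def_EGA4b
import Groth.Prelude.Def_FlatCA
import Groth.Agent.FlatMorOne.LocalCriterion
import Groth.Agent.DepthRefl.Basic

/-!
# A module flat off `V(J)` with closed fibre of positive depth along `J` is flat
-/

universe u

open TensorProduct IsLocalRing

noncomputable section

namespace Groth.MiscGeom.QGor

variable {A B : Type u} [CommRing A] [CommRing B] [IsLocalRing A] [Algebra A B]
  {M : Type u} [AddCommGroup M] [Module B M] [Module A M] [IsScalarTower A B M]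

/-- a flat module over `A`: an element killed by `y` with `m y = 0`, `y ≠ 0` lies in `m M` -/
theorem mem_smul_top_of_tmul_eq_zero {N : Type u} [AddCommGroup N] [Module A N] [Module.Flat A N]
    {Y : Type u} [AddCommGroup Y] [Module A Y] (y : Y) (hy : y ≠ 0) (hmy : ∀ a ∈ maximalIdeal A, a • y = 0)
    (n : N) (h : n ⊗ₜ[A] y = 0) : n ∈ maximalIdeal A • (⊤ : Submodule A N) := by
  let φ : (A ⧸ maximalIdeal A) →ₗ[A] Y :=
    Submodule.liftQ (maximalIdeal A) (LinearMap.toSpanSingleton A Y y) fun a ha => hmy a ha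
  have hφ : Function.Injective φ := by
    rw [← LinearMap.ker_eq_bot]
    refine Submodule.ker_liftQ_eq_bot' _ _ (le_antisymm (fun a ha => hmy a ha) fun a ha => ?_)
    by_contra hna
    have hu : IsUnit a := by rwa [mem_maximalIdeal, mem_nonunits_iff, not_not] at hna
    exact hy (hu.smul_eq_zero.1 ha)
  have h1 : n ⊗ₜ[A] (Ideal.Quotient.mk (maximalIdeal A) 1) = 0 :=
    Module.Flat.lTensor_preserves_injective_linearMap (M := N) φ hφ (by
      rw [map_zero, LinearMap.lTensor_tmul]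
      show n ⊗ₜ[A] ((1 : A) • y) = 0
      rw [one_smul, h])
  have h2 := congrArg (TensorProduct.tensorQuotEquivQuotSMul N (maximalIdeal A)) h1
  rw [map_zero] at h2
  have h3 : TensorProduct.tensorQuotEquivQuotSMul N (maximalIdeal A) (n ⊗ₜ[A] Ideal.Quotient.mk (maximalIdeal A) 1) =
      Submodule.Quotient.mk n := by
    rw [TensorProduct.tensorQuotEquivQuotSMul_tmul_mk, one_smul]
  rw [h3, Submodule.Quotient.mk_eq_zero] at h2
  exact h2

/-- elements of `m M_q` come from `m M` -/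
theorem exists_smul_mem_of_mem_smul_top (q : Ideal B) [q.IsPrime] (z : LocalizedModule q.primeCompl M)
    (hz : z ∈ maximalIdeal A • (⊤ : Submodule A (LocalizedModule q.primeCompl M))) :
    ∃ w ∈ (EGA4.mB A B • (⊤ : Submodule B M)), ∃ s : q.primeCompl, z = LocalizedModule.mk w s := by
  refine Submodule.smul_induction_on hz ?_ ?_
  · intro a ha x _
    induction x using LocalizedModule.induction_on with
    | _ w s =>
      refine ⟨algebraMap A B a • w, Submodule.smul_mem_smul (Ideal.mem_map_of_mem _ ha) trivial, s, ?_⟩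
      rw [algebraMap_smul, LocalizedModule.smul'_mk]
  · intro z₁ z₂ h₁ h₂
    obtain ⟨w₁, hw₁, s₁, rfl⟩ := h₁
    obtain ⟨w₂, hw₂, s₂, rfl⟩ := h₂
    exact ⟨s₂ • w₁ + s₁ • w₂, add_mem (Submodule.smul_mem _ _ hw₁) (Submodule.smul_mem _ _ hw₂), s₁ * s₂,
      LocalizedModule.mk_add_mk⟩

variable [IsNoetherianRing B] [Module.Finite B M] (J : Ideal B)
  (hU : ∀ q : PrimeSpectrum B, ¬ J ≤ q.asIdeal → FlatCA.FlatAt A q.asIdeal M)
  (h1 : 1 ≤ LocCoh.idealDepth J (EGA4.FibMod A B M))
include hU h1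

/-- `k ⊗ M → Y ⊗ M` is injective -/
theorem mem_of_tmul_eq_zero {Y : Type u} [AddCommGroup Y] [Module A Y] (y : Y) (hy : y ≠ 0)
    (hmy : ∀ a ∈ maximalIdeal A, a • y = 0) (p : M) (hp : p ⊗ₜ[A] y = 0) :
    p ∈ (EGA4.mB A B • (⊤ : Submodule B M)) := by
  rw [← Submodule.Quotient.mk_eq_zero]
  refine Groth.DepthRefl.eq_zero_of_killed J h1 _ fun q hq => ?_
  haveI : Module.Flat A (LocalizedModule q.asIdeal.primeCompl M) := hU q hq
  let mk := (LocalizedModule.mkLinearMap q.asIdeal.primeCompl M).restrictScalars A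
  have h0 : mk p ⊗ₜ[A] y = 0 := by
    have := congrArg (LinearMap.rTensor Y mk) hp
    rwa [LinearMap.rTensor_tmul, map_zero] at this
  obtain ⟨w, hw, s, hws⟩ := exists_smul_mem_of_mem_smul_top q.asIdeal (mk p)
    (mem_smul_top_of_tmul_eq_zero y hy hmy (mk p) h0)
  obtain ⟨t, ht⟩ := LocalizedModule.mk_eq.1 (hws : LocalizedModule.mk p 1 = LocalizedModule.mk w s)
  refine ⟨(t : B) * s, (inferInstance : q.asIdeal.IsPrime).mem_or_mem.mt ?_, ?_⟩
  · rintro (h | h)
    exacts [t.2 h, s.2 h]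
  · rw [← Submodule.Quotient.mk_smul, Submodule.Quotient.mk_eq_zero, mul_smul]
    rw [one_smul] at ht
    rw [show (t : B) • (s : B) • p = t • s • p from rfl, ht]
    exact Submodule.smul_mem _ _ hw

/-- tensoring with `M` preserves injections into Artinian modules -/
theorem lTensor_injective_artinian {Y : Type u} [AddCommGroup Y] [Module A Y] [IsArtinian A Y] [IsNoetherian A Y]
    (X : Submodule A Y) : Function.Injective (X.subtype.lTensor M) := by
  induction X using WellFoundedLT.induction with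
  | ind X ih =>
  rcases eq_or_ne X ⊥ with rfl | hX
  · exact Function.injective_of_subsingleton _
  haveI : Nontrivial X := Submodule.nontrivial_iff_ne_bot.2 hX
  obtain ⟨X₀, hX₀⟩ := IsCoatomic.exists_coatom (Submodule A X)
  let X' : Submodule A Y := X₀.map X.subtype
  have hle : X' ≤ X := Submodule.map_subtype_le X X₀
  have hlt : X' < X := lt_of_le_of_ne hle fun h => hX₀.1 (by
    refine Submodule.map_injective_of_injective X.injective_subtype ?_
    rw [Submodule.map_subtype_top]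
    exact h)
  obtain ⟨x, hx⟩ : ∃ x : X, x ∉ X₀ := by
    by_contra hc
    push Not at hc
    exact hX₀.1 (eq_top_iff.2 fun x _ => hc x)
  have hgen : X₀ ⊔ Submodule.span A {x} = ⊤ := hX₀.2 _ (lt_of_le_of_ne le_sup_left fun h => hx (by
    rw [h]; exact Submodule.mem_sup_right (Submodule.mem_span_singleton_self x)))
  have hkill : ∀ a ∈ maximalIdeal A, a • x ∈ X₀ := fun a ha => by
    by_contra hax
    have hgen' : X₀ ⊔ Submodule.span A {a • x} = ⊤ := hX₀.2 _ (lt_of_le_of_ne le_sup_left fun h => hax (by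
      rw [h]; exact Submodule.mem_sup_right (Submodule.mem_span_singleton_self _)))
    obtain ⟨u, hu, v, hv, huv⟩ := Submodule.mem_sup.1 (hgen' ▸ trivial : x ∈ X₀ ⊔ Submodule.span A {a • x})
    obtain ⟨c, rfl⟩ := Submodule.mem_span_singleton.1 hv
    have hone : IsUnit (1 - c * a) := isUnit_one_sub_self_of_mem_nonunits _ (Ideal.mul_mem_left _ c ha)
    refine hx ?_
    have : (1 - c * a) • x = u := by rw [sub_smul, one_smul, mul_smul]; exact sub_eq_iff_eq_add.2 huv.symm
    rw [← inv_smul_smul hone.unit x]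
    exact Submodule.smul_mem _ _ (by rw [Units.smul_def, IsUnit.unit_spec, this]; exact hu)
  rw [injective_iff_map_eq_zero]
  intro z hz
  -- the image in `(X / X₀) ⊗ M`
  have key : ∀ w : M ⊗[A] X, ∃ (p : M) (w' : M ⊗[A] X₀), w = p ⊗ₜ x + X₀.subtype.lTensor M w' := by
    intro w
    induction w using TensorProduct.induction_on with
    | zero => exact ⟨0, 0, by simp⟩
    | tmul p v =>
      obtain ⟨u, hu, v', hv, rfl⟩ := Submodule.mem_sup.1 (hgen ▸ trivial : v ∈ X₀ ⊔ Submodule.span A {x})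
      obtain ⟨c, rfl⟩ := Submodule.mem_span_singleton.1 hv
      exact ⟨c • p, p ⊗ₜ ⟨u, hu⟩, by rw [tmul_add, LinearMap.lTensor_tmul, smul_tmul, add_comm]; rfl⟩
    | add w₁ w₂ h₁ h₂ =>
      obtain ⟨p₁, w₁', rfl⟩ := h₁
      obtain ⟨p₂, w₂', rfl⟩ := h₂
      exact ⟨p₁ + p₂, w₁' + w₂', by rw [add_tmul, map_add]; abel⟩
  obtain ⟨p, w, rfl⟩ := key z
  rw [map_add, LinearMap.lTensor_tmul] at hz
  let y : Y ⧸ X' := X'.mkQ (x : Y)
  have hy : y ≠ 0 := fun h => hx (by
    obtain ⟨x', hx', he⟩ := (Submodule.Quotient.mk_eq_zero X').1 h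
    rwa [← Subtype.ext he])
  have hmy : ∀ a ∈ maximalIdeal A, a • y = 0 := fun a ha => by
    show a • X'.mkQ (x : Y) = 0
    rw [← map_smul, Submodule.mkQ_apply, Submodule.Quotient.mk_eq_zero]
    exact ⟨a • x, hkill a ha, rfl⟩
  have hpy : p ⊗ₜ[A] y = 0 := by
    have h2 := congrArg (X'.mkQ.lTensor M) hz
    rw [map_add, map_zero, LinearMap.lTensor_tmul, ← LinearMap.lTensor_comp_apply, ← LinearMap.lTensor_comp_apply] at h2
    rw [show (X'.mkQ ∘ₗ X.subtype) ∘ₗ X₀.subtype = 0 from LinearMap.ext fun u =>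
      (Submodule.Quotient.mk_eq_zero X').2 ⟨u.1, u.2, rfl⟩, LinearMap.lTensor_zero, LinearMap.zero_apply, add_zero] at h2
    exact h2
  have hp := mem_of_tmul_eq_zero J hU h1 y hy hmy p hpy
  have hp' : ∀ q ∈ (EGA4.mB A B • (⊤ : Submodule B M)), ∃ w' : M ⊗[A] X₀, q ⊗ₜ[A] x = X₀.subtype.lTensor M w' := by
    intro q hq
    rw [← Submodule.restrictScalars_mem A, Ideal.smul_restrictScalars, Submodule.restrictScalars_top] at hq
    refine Submodule.smul_induction_on hq ?_ ?_
    · intro a ha v _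
      exact ⟨v ⊗ₜ ⟨a • x, hkill a ha⟩, by rw [LinearMap.lTensor_tmul, smul_tmul]; rfl⟩
    · intro v₁ v₂ h₁ h₂
      obtain ⟨w₁, e₁⟩ := h₁
      obtain ⟨w₂, e₂⟩ := h₂
      exact ⟨w₁ + w₂, by rw [add_tmul, e₁, e₂, map_add]⟩
  obtain ⟨w', hw'⟩ := hp' p hp
  rw [hw', ← map_add]
  let e : X₀ →ₗ[A] X' := LinearMap.codRestrict X' (X.subtype ∘ₗ X₀.subtype) fun u => ⟨u.1, u.2, rfl⟩
  have he : Function.Bijective e := ⟨fun u v h => Subtype.ext (Subtype.ext (congrArg (fun t : X' => (t : Y)) h)),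
    fun ⟨v, u, hu, huv⟩ => ⟨⟨u, hu⟩, Subtype.ext huv⟩⟩
  have h0 : e.lTensor M (w' + w) = 0 := ih X' hlt (by
    rw [map_zero, ← LinearMap.lTensor_comp_apply, show X'.subtype ∘ₗ e = X.subtype ∘ₗ X₀.subtype from rfl,
      LinearMap.lTensor_comp_apply, map_add, ← hw', map_add, LinearMap.lTensor_tmul]
    exact hz)
  rw [show w' + w = 0 from (LinearEquiv.lTensor M (LinearEquiv.ofBijective e he)).injective (h0.trans (map_zero _).symm),
    map_zero]

theorem flat_of_flatAt_off [IsNoetherianRing A] [IsLocalRing B] [IsLocalHom (algebraMap A B)] : Module.Flat A M := by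
  refine Groth.FlatMorOne.flat_of_forall_flat_mod_pow (S := B) (maximalIdeal A)
    (Groth.FlatMorOne.map_le_jacobson_of_isLocalHom (maximalIdeal.isMaximal A).ne_top) fun k hk I _ => ?_
  haveI : Nontrivial (A ⧸ maximalIdeal A ^ k) := Ideal.Quotient.nontrivial_iff.2 fun h =>
    (maximalIdeal.isMaximal A).ne_top (top_le_iff.1 (h.ge.trans (Ideal.pow_le_self hk.ne')))
  haveI : IsLocalRing (A ⧸ maximalIdeal A ^ k) :=
    IsLocalRing.of_surjective' (Ideal.Quotient.mk (maximalIdeal A ^ k)) Ideal.Quotient.mk_surjective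
  haveI : IsArtinianRing (A ⧸ maximalIdeal A ^ k) := by
    rw [isArtinianRing_iff_isNilpotent_maximalIdeal]
    refine ⟨k, ?_⟩
    rw [← IsLocalRing.map_maximalIdeal_of_surjective (Ideal.Quotient.mk (maximalIdeal A ^ k)) Ideal.Quotient.mk_surjective,
      ← Ideal.map_pow, Ideal.map_quotient_self]
    rfl
  haveI : IsArtinian A (A ⧸ maximalIdeal A ^ k) :=
    isArtinian_of_surjective_algebraMap (Ideal.Quotient.mk_surjective (I := maximalIdeal A ^ k))
  exact lTensor_injective_artinian J hU h1 _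

end Groth.MiscGeom.QGor

end
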