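import Groth.Agent.MiscGeom.FourTermFlat
import Groth.Agent.MiscGeom.FibreBaseChange
import Groth.Agent.FlatMorOne.FlatLocusBaseChange
import Groth.Agent.LocCohBase.DepthTower
import Groth.Agent.DepthRefl.Basic

/-!
# The four term criterion at a prime of a global situation
-/

universe u

open TensorProduct IsLocalRing

noncomputable section

namespace Groth.MiscGeom.QGor

/-- depth along an ideal under a surjective change of rings -/
theorem idealDepth_map_of_surjective {S T : Type u} [CommRing S] [CommRing T] [Algebra S T]
    (hf : Function.Surjective (algebraMap S T)) (I : Ideal S) (P : Type u)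
    [AddCommGroup P] [Module S P] [Module T P] [IsScalarTower S T P] :
    LocCoh.idealDepth (I.map (algebraMap S T)) P = LocCoh.idealDepth I P := by
  have htop : I • (⊤ : Submodule S P) = ⊤ ↔ I.map (algebraMap S T) • (⊤ : Submodule T P) = ⊤ := by
    rw [← Submodule.restrictScalars_eq_top_iff S T P (p := I.map (algebraMap S T) • (⊤ : Submodule T P)),
      Ideal.smul_restrictScalars, Submodule.restrictScalars_top]
  unfold LocCoh.idealDepth
  simp only [← htop]
  split_ifs with h
  · rfl
  refine le_antisymm (iSup₂_le fun rs hrs => ?_) (iSup₂_le fun rs hrs => ?_)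
  · have hl : ∀ r ∈ rs, ∃ a, a ∈ I ∧ algebraMap S T a = r := fun r hr =>
      (Ideal.mem_map_iff_of_surjective _ hf).1 (hrs.2 r hr)
    choose! g hg using hl
    have hmap : (rs.map g).map (algebraMap S T) = rs := by
      rw [List.map_map]
      exact (List.map_congr_left fun r hr => (hg r hr).2).trans (List.map_id rs)
    refine le_iSup₂_of_le (rs.map g) ⟨?_, ?_⟩ (by simp)
    · rw [← RingTheory.Sequence.isWeaklyRegular_map_algebraMap_iff T P, hmap]
      exact hrs.1
    · intro r hr
      obtain ⟨a, ha, rfl⟩ := List.mem_map.1 hr
      exact (hg a ha).1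
  · refine le_iSup₂_of_le (rs.map (algebraMap S T))
      ⟨(RingTheory.Sequence.isWeaklyRegular_map_algebraMap_iff T P rs).2 hrs.1, ?_⟩ (by simp)
    intro r hr
    obtain ⟨a, ha, rfl⟩ := List.mem_map.1 hr
    exact Ideal.mem_map_of_mem _ (hrs.2 a ha)

/-- the kernel of a surjection of projective modules is projective -/
theorem projective_of_exact {R : Type u} [CommRing R] {N P Q : Type u} [AddCommGroup N] [Module R N] [AddCommGroup P]
    [Module R P] [AddCommGroup Q] [Module R Q] [Module.Projective R P] [Module.Projective R Q] (f : N →ₗ[R] P)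
    (g : P →ₗ[R] Q) (hf : Function.Injective f) (hfg : Function.Exact f g) (hg : Function.Surjective g) :
    Module.Projective R N := by
  obtain ⟨s, hs⟩ := Module.projective_lifting_property g LinearMap.id hg
  have hs' : ∀ x, g (s x) = x := fun x => LinearMap.congr_fun hs x
  let e := LinearEquiv.ofInjective f hf
  let π : P →ₗ[R] LinearMap.range f := (LinearMap.id - s ∘ₗ g).codRestrict _ fun x => (hfg _).1 (by simp [hs'])
  refine Module.Projective.of_split f (e.symm.toLinearMap ∘ₗ π) (LinearMap.ext fun y => ?_)
  show e.symm (π (f y)) = y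
  rw [LinearEquiv.symm_apply_eq]
  exact Subtype.ext (by simp [π, e, hfg.apply_apply_eq_zero])

theorem projective_of_exact_four {R : Type u} [CommRing R] {N P₀ P₁ Q : Type u} [AddCommGroup N] [Module R N]
    [AddCommGroup P₀] [Module R P₀] [AddCommGroup P₁] [Module R P₁] [AddCommGroup Q] [Module R Q]
    [Module.Projective R P₀] [Module.Projective R P₁] [Module.Projective R Q] (f : N →ₗ[R] P₀) (U : P₀ →ₗ[R] P₁)
    (V : P₁ →ₗ[R] Q) (hf : Function.Injective f) (hfU : Function.Exact f U) (hUV : Function.Exact U V)
    (hV : Function.Surjective V) : Module.Projective R N := by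
  haveI : Module.Projective R (LinearMap.ker V) := projective_of_exact (LinearMap.ker V).subtype V
    Subtype.val_injective (LinearMap.exact_subtype_ker_map V) hV
  refine projective_of_exact f (U.codRestrict (LinearMap.ker V) fun x => hUV.apply_apply_eq_zero x) hf (fun x => ?_)
    fun y => ?_
  · rw [← hfU x]
    exact Subtype.ext_iff
  · obtain ⟨x, hx⟩ := (hUV y.1).1 y.2
    exact ⟨x, Subtype.ext hx⟩

/-- localised kernel of a map of projective modules with locally free cokernel -/
theorem isReflexive_localized_ker {B : Type u} [CommRing B] [IsNoetherianRing B] (T : Submonoid B)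
    {K E0 E1 G : Type u} [AddCommGroup K] [Module B K] [Module.Finite B K] [AddCommGroup E0] [Module B E0]
    [Module.Projective B E0] [AddCommGroup E1] [Module B E1] [Module.Projective B E1] [AddCommGroup G] [Module B G]
    (f : K →ₗ[B] E0) (u : E0 →ₗ[B] E1) (v : E1 →ₗ[B] G) (hf : Function.Injective f) (hfu : Function.Exact f u)
    (huv : Function.Exact u v) (hv : Function.Surjective v)
    (hG : Module.Free (Localization T) (LocalizedModule T G)) :
    Module.IsReflexive (Localization T) (LocalizedModule T K) := by
  haveI := hG
  haveI : Module.Projective (Localization T) (LocalizedModule T E0) :=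
    Module.Projective.of_equiv (LocalizedModule.equivTensorProduct T E0).symm
  haveI : Module.Projective (Localization T) (LocalizedModule T E1) :=
    Module.Projective.of_equiv (LocalizedModule.equivTensorProduct T E1).symm
  haveI : Module.Projective (Localization T) (LocalizedModule T K) :=
    projective_of_exact_four (LocalizedModule.map T f) (LocalizedModule.map T u) (LocalizedModule.map T v)
      (LocalizedModule.map_injective _ f hf) (LocalizedModule.map_exact _ f u hfu) (LocalizedModule.map_exact _ u v huv)
      (LocalizedModule.map_surjective _ v hv)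
  haveI : Module.Finite (Localization T) (LocalizedModule T K) :=
    Module.Finite.of_isLocalizedModule T (LocalizedModule.mkLinearMap T K)
  infer_instance

variable {A B : Type u} [CommRing A] [CommRing B] [Algebra A B]

/-- flatness at a generization, seen in the local ring of the specialization -/
theorem flat_localized_localized (q : Ideal B) [q.IsPrime] (Q : Ideal (Localization.AtPrime q)) [Q.IsPrime]
    {N : Type u} [AddCommGroup N] [Module B N] [Module A N] [IsScalarTower A B N]
    (h : FlatCA.FlatAt A (Q.comap (algebraMap B (Localization.AtPrime q))) N) :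
    Module.Flat A (LocalizedModule Q.primeCompl (LocalizedModule q.primeCompl N)) := by
  let S := Localization.AtPrime q
  let r := Q.comap (algebraMap B S)
  let S₂ := Localization.AtPrime Q
  haveI : IsLocalization.AtPrime S₂ r :=
    IsLocalization.isLocalization_isLocalization_atPrime_isLocalization q.primeCompl S₂ Q
  let φ : N →ₗ[B] S₂ ⊗[B] N := TensorProduct.mk B S₂ N 1
  haveI : IsLocalizedModule r.primeCompl φ :=
    (isLocalizedModule_iff_isBaseChange r.primeCompl S₂ φ).2 (TensorProduct.isBaseChange B N S₂)
  haveI : Module.Flat A (LocalizedModule r.primeCompl N) := h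
  let e1 : LocalizedModule r.primeCompl N ≃ₗ[A] S₂ ⊗[B] N :=
    (IsLocalizedModule.iso r.primeCompl φ).restrictScalars A
  let e2 : LocalizedModule Q.primeCompl (LocalizedModule q.primeCompl N) ≃ₗ[S₂] S₂ ⊗[B] N :=
    (LocalizedModule.equivTensorProduct Q.primeCompl (LocalizedModule q.primeCompl N)).trans
      ((AlgebraTensorModule.congr (LinearEquiv.refl S₂ S₂) (LocalizedModule.equivTensorProduct q.primeCompl N)).trans
        (AlgebraTensorModule.cancelBaseChange B S S₂ S₂ N))
  exact Module.Flat.of_linearEquiv ((e2.restrictScalars A).trans e1.symm)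

variable [IsNoetherianRing A] [IsNoetherianRing B]

/-- depth at a prime of `E ⊗ G` for `E` flat at that prime -/
theorem depth_localized_tensor_of_flatAt (r : Ideal B) [r.IsPrime] (E : Type u) [AddCommGroup E] [Module B E] [Module A E]
    [IsScalarTower A B E] [Module.Finite B E] (hE : FlatCA.FlatAt A r E) (G : Type u) [AddCommGroup G] [Module A G]
    [Module.Finite A G] :
    LocCoh.depth (Localization.AtPrime r) (LocalizedModule r.primeCompl (E ⊗[A] G)) =
      LocCoh.depth (Localization.AtPrime (r.comap (algebraMap A B)))
          (LocalizedModule (r.comap (algebraMap A B)).primeCompl G) +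
        LocCoh.idealDepth (r.map (algebraMap B (EGA4.FibLocRing A B r))) (EGA4.FibLocMod A B r E) := by
  let p := r.comap (algebraMap A B)
  let R := Localization.AtPrime p
  let S := Localization.AtPrime r
  let N := LocalizedModule r.primeCompl E
  letI : Algebra R S := (Localization.localRingHom p r (algebraMap A B) rfl).toAlgebra
  haveI : IsScalarTower A R S := IsScalarTower.of_algebraMap_eq fun a => by
    rw [RingHom.algebraMap_toAlgebra, Localization.localRingHom_to_map, IsScalarTower.algebraMap_apply A B S]
  haveI : IsLocalHom (algebraMap R S) := Localization.isLocalHom_localRingHom p r (algebraMap A B) rfl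
  letI : Module R N := Module.compHom N (algebraMap R S)
  haveI : IsScalarTower R S N := IsScalarTower.of_algebraMap_smul fun r x => rfl
  haveI : IsScalarTower A S N := IsScalarTower.of_algebraMap_smul fun a x => by
    rw [IsScalarTower.algebraMap_apply A B S, algebraMap_smul, algebraMap_smul]
  haveI : IsScalarTower A R N := IsScalarTower.of_algebraMap_smul fun a x => by
    show algebraMap R S (algebraMap A R a) • x = a • x
    rw [← IsScalarTower.algebraMap_apply A R S, algebraMap_smul]
  haveI : Module.Flat A N := hE
  haveI : Module.Flat R N := (Module.flat_iff_of_isLocalization R p.primeCompl N).2 inferInstance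
  let e : LocalizedModule r.primeCompl (E ⊗[A] G) ≃ₗ[S] N ⊗[R] LocalizedModule p.primeCompl G :=
    (LocalizedModule.equivTensorProduct r.primeCompl (E ⊗[A] G)).trans
      ((AlgebraTensorModule.assoc A B S S E G).symm.trans
        ((AlgebraTensorModule.congr (LocalizedModule.equivTensorProduct r.primeCompl E).symm (LinearEquiv.refl A G)).trans
          ((AlgebraTensorModule.cancelBaseChange A R S N G).symm.trans
            (AlgebraTensorModule.congr (LinearEquiv.refl S N) (LocalizedModule.equivTensorProduct p.primeCompl G).symm))))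
  have hI : (p.map (algebraMap A S) : Ideal S) = (maximalIdeal R).map (algebraMap R S) := by
    rw [← Localization.AtPrime.map_eq_maximalIdeal, Ideal.map_map, ← IsScalarTower.algebraMap_eq]
  haveI := Groth.Ega4b.fibLocRing_isLocalRing A B r
  have hmax : r.map (algebraMap B (EGA4.FibLocRing A B r)) = maximalIdeal (EGA4.FibLocRing A B r) := by
    rw [← IsLocalRing.map_maximalIdeal_of_surjective (Ideal.Quotient.mk _) Ideal.Quotient.mk_surjective,
      ← Localization.AtPrime.map_eq_maximalIdeal, Ideal.map_map]
    rfl
  let e' : EGA4.FibLocMod A B r E ≃ₗ[S] (N ⧸ (maximalIdeal R).map (algebraMap R S) • (⊤ : Submodule S N)) :=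
    Submodule.quotEquivOfEq _ _ (by rw [hI])
  rw [Groth.Ega4b.depth_congr' e, Groth.Ega4b.depth_tensor' (S := S) N (LocalizedModule p.primeCompl G), hmax,
    ← Groth.Ega4b.depth_congr' e']
  exact congrArg _ (Groth.Ega4b.depth_eq_of_surjective_algebraMap (A := S) (B := EGA4.FibLocRing A B r)
    Ideal.Quotient.mk_surjective (EGA4.FibLocMod A B r E))

/-- depth along `J` of a fibre stalk from the depths at the generizations in `V(J)` -/
theorem le_idealDepth_fibLocMod_of_pointwise (J : Ideal B) (q : Ideal B) [q.IsPrime] (E : Type u) [AddCommGroup E]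
    [Module B E] [Module A E] [IsScalarTower A B E] [Module.Finite B E] (c : ℕ)
    (h : ∀ r : PrimeSpectrum B, J ≤ r.asIdeal → r.asIdeal ≤ q → FlatCA.FlatAt A r.asIdeal E ∧
      (c : ℕ∞) ≤ LocCoh.idealDepth (r.asIdeal.map (algebraMap B (EGA4.FibLocRing A B r.asIdeal)))
        (EGA4.FibLocMod A B r.asIdeal E)) :
    (c : ℕ∞) ≤ LocCoh.idealDepth (J.map (algebraMap B (EGA4.FibLocRing A B q))) (EGA4.FibLocMod A B q E) := by
  let S := Localization.AtPrime q
  let p := q.comap (algebraMap A B)
  let G := A ⧸ p
  let X := LocalizedModule q.primeCompl (E ⊗[A] G)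
  haveI : Module.Finite S X :=
    Module.Finite.of_isLocalizedModule q.primeCompl (LocalizedModule.mkLinearMap q.primeCompl (E ⊗[A] G))
  obtain ⟨eq'⟩ := Groth.Ega4b.exists_tensor_quotient (R := A) (S := S) (LocalizedModule q.primeCompl E) p
  let e : EGA4.FibLocMod A B q E ≃ₗ[S] X :=
    eq'.trans ((AlgebraTensorModule.congr (LocalizedModule.equivTensorProduct q.primeCompl E) (LinearEquiv.refl A G)).trans
      ((AlgebraTensorModule.assoc A B S S E G).trans (LocalizedModule.equivTensorProduct q.primeCompl (E ⊗[A] G)).symm))
  have hJ : J.map (algebraMap B (EGA4.FibLocRing A B q)) =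
      (J.map (algebraMap B S)).map (algebraMap S (EGA4.FibLocRing A B q)) := by
    rw [Ideal.map_map]
    rfl
  rw [hJ, idealDepth_map_of_surjective (S := S) Ideal.Quotient.mk_surjective, Groth.LocCohBase.idealDepth_congr e]
  refine Groth.LocCohBase.le_idealDepth_of_forall_depth _ c X fun P hP hJP => ?_
  let r : Ideal B := P.comap (algebraMap B S)
  rw [Groth.LocCohBase.depth_localized_localized q P r rfl (E ⊗[A] G)]
  have hrq : r ≤ q := by
    have := Ideal.comap_mono (f := algebraMap B S) (IsLocalRing.le_maximalIdeal hP.ne_top)
    rwa [Groth.LocCohBase.comap_maximalIdeal_atPrime] at this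
  obtain ⟨h1, h2⟩ := h ⟨r, inferInstance⟩ (Ideal.map_le_iff_le_comap.1 hJP) hrq
  rw [depth_localized_tensor_of_flatAt r E h1 G]
  exact h2.trans le_add_self

/-- projective modules: fibre depth at least that of the fibre ring -/
theorem le_idealDepth_fibLocMod_projective (q : Ideal B) [q.IsPrime] (E : Type u) [AddCommGroup E] [Module B E]
    [Module.Finite B E] [Module.Projective B E] (I : Ideal (EGA4.FibLocRing A B q)) :
    LocCoh.idealDepth I (EGA4.FibLocRing A B q) ≤ LocCoh.idealDepth I (EGA4.FibLocMod A B q E) := by
  let S := Localization.AtPrime q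
  let T := EGA4.FibLocRing A B q
  haveI : IsLocalRing T := Groth.Ega4b.fibLocRing_isLocalRing A B q
  let e1 : EGA4.FibLocMod A B q E ≃ₗ[T] T ⊗[B] E :=
    LinearEquiv.extendScalarsOfSurjective (R := S) Ideal.Quotient.mk_surjective
      ((TensorProduct.quotTensorEquivQuotSMul (LocalizedModule q.primeCompl E)
          ((q.comap (algebraMap A B)).map (algebraMap A S))).symm.trans
        ((AlgebraTensorModule.congr (LinearEquiv.refl S T) (LocalizedModule.equivTensorProduct q.primeCompl E)).trans
          (AlgebraTensorModule.cancelBaseChange B S S T E)))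
  haveI : Module.FinitePresentation T (T ⊗[B] E) := Module.finitePresentation_of_finite T _
  haveI : Module.Free T (T ⊗[B] E) := Module.free_of_flat_of_isLocalRing
  rw [Groth.LocCohBase.idealDepth_congr e1,
    Groth.LocCohBase.idealDepth_congr (Module.finBasis T (T ⊗[B] E)).equivFun]
  exact Groth.DepthRefl.le_depth_pi I _

/-- the four term criterion at a prime -/
theorem fourTerm_at (J : Ideal B) {F E0 E1 G : Type u} [AddCommGroup F] [Module B F] [Module A F] [IsScalarTower A B F]
    [Module.Finite B F] [AddCommGroup E0] [Module B E0] [Module A E0] [IsScalarTower A B E0] [Module.Finite B E0]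
    [Module.Flat A E0] [AddCommGroup E1] [Module B E1] [Module A E1] [IsScalarTower A B E1] [Module.Finite B E1]
    [Module.Flat A E1] [AddCommGroup G] [Module B G] [Module A G] [IsScalarTower A B G]
    (f : F →ₗ[B] E0) (u : E0 →ₗ[B] E1) (v : E1 →ₗ[B] G)
    (hf : Function.Injective f) (hfu : Function.Exact f u) (huv : Function.Exact u v) (hv : Function.Surjective v)
    (hGU : ∀ r : PrimeSpectrum B, ¬ J ≤ r.asIdeal → FlatCA.FlatAt A r.asIdeal G) (q : Ideal B) [q.IsPrime]
    (h0 : 2 ≤ LocCoh.idealDepth (J.map (algebraMap B (EGA4.FibLocRing A B q))) (EGA4.FibLocMod A B q E0))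
    (h1 : 1 ≤ LocCoh.idealDepth (J.map (algebraMap B (EGA4.FibLocRing A B q))) (EGA4.FibLocMod A B q E1)) :
    (FlatCA.FlatAt A q G ↔
      2 ≤ LocCoh.idealDepth (J.map (algebraMap B (EGA4.FibLocRing A B q))) (EGA4.FibLocMod A B q F)) ∧
    (FlatCA.FlatAt A q G → FlatCA.FlatAt A q F) := by
  let p := q.comap (algebraMap A B)
  let R := Localization.AtPrime p
  let S := Localization.AtPrime q
  letI : Algebra R S := (Localization.localRingHom p q (algebraMap A B) rfl).toAlgebra
  haveI : IsScalarTower A R S := IsScalarTower.of_algebraMap_eq fun a => by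
    rw [RingHom.algebraMap_toAlgebra, Localization.localRingHom_to_map, IsScalarTower.algebraMap_apply A B S]
  haveI : IsLocalHom (algebraMap R S) := Localization.isLocalHom_localRingHom p q (algebraMap A B) rfl
  let F' := LocalizedModule q.primeCompl F
  let E0' := LocalizedModule q.primeCompl E0
  let E1' := LocalizedModule q.primeCompl E1
  let G' := LocalizedModule q.primeCompl G
  letI : Module R F' := Module.compHom F' (algebraMap R S)
  letI : Module R E0' := Module.compHom E0' (algebraMap R S)
  letI : Module R E1' := Module.compHom E1' (algebraMap R S)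
  letI : Module R G' := Module.compHom G' (algebraMap R S)
  haveI : IsScalarTower R S F' := IsScalarTower.of_algebraMap_smul fun r x => rfl
  haveI : IsScalarTower R S E0' := IsScalarTower.of_algebraMap_smul fun r x => rfl
  haveI : IsScalarTower R S E1' := IsScalarTower.of_algebraMap_smul fun r x => rfl
  haveI : IsScalarTower R S G' := IsScalarTower.of_algebraMap_smul fun r x => rfl
  have htow : ∀ (N : Type u) [AddCommGroup N] [Module B N] [Module A N] [IsScalarTower A B N] [Module S N]
      [IsScalarTower B S N] [Module R N] [IsScalarTower R S N], IsScalarTower A R N := fun N _ _ _ _ _ _ _ _ =>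
    IsScalarTower.of_algebraMap_smul fun a x => by
      rw [← algebraMap_smul S (algebraMap A R a), ← IsScalarTower.algebraMap_apply A R S,
        IsScalarTower.algebraMap_apply A B S, algebraMap_smul, algebraMap_smul]
  haveI := htow F'
  haveI := htow E0'
  haveI := htow E1'
  haveI := htow G'
  have hflat : ∀ (N : Type u) [AddCommGroup N] [Module A N] [Module R N] [IsScalarTower A R N],
      (Module.Flat R N ↔ Module.Flat A N) := fun N _ _ _ _ => Module.flat_iff_of_isLocalization R p.primeCompl N
  haveI : Module.Flat R E0' := (hflat E0').2 (flatAt_of_flat q E0)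
  haveI : Module.Flat R E1' := (hflat E1').2 (flatAt_of_flat q E1)
  haveI : Module.Finite S F' := Module.Finite.of_isLocalizedModule q.primeCompl (LocalizedModule.mkLinearMap q.primeCompl F)
  haveI : Module.Finite S E0' := Module.Finite.of_isLocalizedModule q.primeCompl (LocalizedModule.mkLinearMap q.primeCompl E0)
  haveI : Module.Finite S E1' := Module.Finite.of_isLocalizedModule q.primeCompl (LocalizedModule.mkLinearMap q.primeCompl E1)
  let f' : F' →ₗ[S] E0' := LocalizedModule.map q.primeCompl f
  let u' : E0' →ₗ[S] E1' := LocalizedModule.map q.primeCompl u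
  let v' : E1' →ₗ[S] G' := LocalizedModule.map q.primeCompl v
  have hf' : Function.Injective f' := LocalizedModule.map_injective _ f hf
  have hfu' : Function.Exact f' u' := LocalizedModule.map_exact _ f u hfu
  have huv' : Function.Exact u' v' := LocalizedModule.map_exact _ u v huv
  have hv' : Function.Surjective v' := LocalizedModule.map_surjective _ v hv
  let J' : Ideal S := J.map (algebraMap B S)
  have hGU' : ∀ Q : PrimeSpectrum S, ¬ J' ≤ Q.asIdeal → FlatCA.FlatAt R Q.asIdeal G' := fun Q hQ =>
    (hflat _).2 (flat_localized_localized q Q.asIdeal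
      (hGU ⟨Q.asIdeal.comap (algebraMap B S), inferInstance⟩ fun h => hQ (Ideal.map_le_iff_le_comap.2 h)))
  have hfib : ∀ (N : Type u) [AddCommGroup N] [Module B N] [Module.Finite B N],
      LocCoh.idealDepth J' (EGA4.FibMod R S (LocalizedModule q.primeCompl N)) =
        LocCoh.idealDepth (J.map (algebraMap B (EGA4.FibLocRing A B q))) (EGA4.FibLocMod A B q N) := fun N _ _ _ => by
    rw [show J.map (algebraMap B (EGA4.FibLocRing A B q)) = J'.map (algebraMap S (EGA4.FibLocRing A B q)) from
      by rw [Ideal.map_map]; rfl, idealDepth_map_of_surjective (S := S) Ideal.Quotient.mk_surjective]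
    refine Groth.LocCohBase.idealDepth_congr (Submodule.quotEquivOfEq _ _ ?_)
    rw [EGA4.mB, ← Localization.AtPrime.map_eq_maximalIdeal, Ideal.map_map, ← IsScalarTower.algebraMap_eq]
  rw [← hfib E0] at h0
  rw [← hfib E1] at h1
  rw [← hfib F]
  refine ⟨⟨fun hG => ?_, fun h2 => ?_⟩, fun hG => ?_⟩
  · haveI : Module.Flat R G' := (hflat G').2 hG
    exact fourTerm_depth_of_flat (A := R) J' f' u' v' hf' hfu' huv' hv' h0 h1
  · exact (hflat G').1 (fourTerm_flat_of_depth (A := R) J' f' u' v' hf' hfu' huv' hv' h0 hGU' h2)
  · haveI : Module.Flat R G' := (hflat G').2 hG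
    exact (hflat F').1 (fourTerm_flat_of_flat (A := R) f' u' v' hf' hfu' huv' hv')

end Groth.MiscGeom.QGor

end

namespace Groth.MiscGeom.QGor

theorem free_localized_baseChange {R : Type u} [CommRing R] {J : Ideal R} (R' : Type u) [CommRing R'] [Algebra R R']
    (F : Type u) [AddCommGroup F] [Module R F]
    (hU : ∀ q : PrimeSpectrum R, ¬ J ≤ q.asIdeal → Module.Free (Localization.AtPrime q.asIdeal) (LocalizedModule q.asIdeal.primeCompl F))
    (q' : PrimeSpectrum R') (hq : ¬ J.map (algebraMap R R') ≤ q'.asIdeal) :
    Module.Free (Localization.AtPrime q'.asIdeal) (LocalizedModule q'.asIdeal.primeCompl (R' ⊗[R] F)) := by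
  let q := q'.asIdeal.comap (algebraMap R R')
  let S := Localization.AtPrime q
  let S' := Localization.AtPrime q'.asIdeal
  letI : Algebra S S' := (Localization.localRingHom q q'.asIdeal (algebraMap R R') rfl).toAlgebra
  haveI : IsScalarTower R S S' := IsScalarTower.of_algebraMap_eq fun a => by
    rw [RingHom.algebraMap_toAlgebra, Localization.localRingHom_to_map, IsScalarTower.algebraMap_apply R R' S']
  haveI : Module.Free S (LocalizedModule q.primeCompl F) := hU ⟨q, inferInstance⟩
    fun hle => hq (Ideal.map_le_iff_le_comap.2 hle)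
  let e : LocalizedModule q'.asIdeal.primeCompl (R' ⊗[R] F) ≃ₗ[S'] S' ⊗[S] LocalizedModule q.primeCompl F :=
    (LocalizedModule.equivTensorProduct q'.asIdeal.primeCompl (R' ⊗[R] F)).trans
      ((AlgebraTensorModule.cancelBaseChange R R' S' S' F).trans
        ((AlgebraTensorModule.cancelBaseChange R S S' S' F).symm.trans
          (AlgebraTensorModule.congr (LinearEquiv.refl S' S') (LocalizedModule.equivTensorProduct q.primeCompl F).symm)))
  exact Module.Free.of_equiv e.symm

end Groth.MiscGeom.QGor
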