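import Groth.Prelude.Def_EGA4b
import Groth.Agent.Ega4Algebra2.DepthFlat
import Groth.Agent.Ega4Algebra2.SkFlat
import Groth.Agent.Calg5.RelGCI
import Groth.Agent.LocCohBase.DepthLocal

/-!
# Depth of modules flat over a base through the fibres
-/

universe u

open IsLocalRing

noncomputable section

namespace Groth.MiscGeom.QGor

variable (A : Type u) {B : Type u} [CommRing A] [CommRing B] [Algebra A B] [IsNoetherianRing A] [IsNoetherianRing B]

/-- depth of a flat module at a prime is depth of the base plus depth of the fibre -/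
theorem depth_localized_eq_add (q : Ideal B) [q.IsPrime] (E : Type u) [AddCommGroup E] [Module B E] [Module A E]
    [IsScalarTower A B E] [Module.Finite B E] [Module.Flat A E] :
    LocCoh.depth (Localization.AtPrime q) (LocalizedModule q.primeCompl E) =
      LocCoh.depth (Localization.AtPrime (q.comap (algebraMap A B))) (Localization.AtPrime (q.comap (algebraMap A B))) +
        LocCoh.idealDepth (q.map (algebraMap B (EGA4.FibLocRing A B q))) (EGA4.FibLocMod A B q E) := by
  let p := q.comap (algebraMap A B)
  let R := Localization.AtPrime p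
  let S := Localization.AtPrime q
  let N := LocalizedModule q.primeCompl E
  letI : Algebra R S := (Localization.localRingHom p q (algebraMap A B) rfl).toAlgebra
  haveI : IsScalarTower A R S := IsScalarTower.of_algebraMap_eq fun a => by
    rw [RingHom.algebraMap_toAlgebra, Localization.localRingHom_to_map, IsScalarTower.algebraMap_apply A B S]
  haveI : IsLocalHom (algebraMap R S) := Localization.isLocalHom_localRingHom p q (algebraMap A B) rfl
  letI : Module R N := Module.compHom N (algebraMap R S)
  haveI : IsScalarTower R S N := IsScalarTower.of_algebraMap_smul fun r x => rfl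
  haveI : IsScalarTower A S N := IsScalarTower.of_algebraMap_smul fun a x => by
    rw [IsScalarTower.algebraMap_apply A B S, algebraMap_smul, algebraMap_smul]
  haveI : IsScalarTower A R N := IsScalarTower.of_algebraMap_smul fun a x => by
    show algebraMap R S (algebraMap A R a) • x = a • x
    rw [← IsScalarTower.algebraMap_apply A R S, algebraMap_smul]
  haveI : Module.Flat A N := Groth.Calg5.RelGCI.flat_localizedModule q.primeCompl
  haveI : Module.Flat R N := (Module.flat_iff_of_isLocalization R p.primeCompl N).2 inferInstance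
  have hI : (p.map (algebraMap A S) : Ideal S) = (maximalIdeal R).map (algebraMap R S) := by
    rw [← Localization.AtPrime.map_eq_maximalIdeal, Ideal.map_map, ← IsScalarTower.algebraMap_eq]
  haveI := Groth.Ega4b.fibLocRing_isLocalRing A B q
  have hmax : q.map (algebraMap B (EGA4.FibLocRing A B q)) = maximalIdeal (EGA4.FibLocRing A B q) := by
    rw [← IsLocalRing.map_maximalIdeal_of_surjective (Ideal.Quotient.mk _) Ideal.Quotient.mk_surjective,
      ← Localization.AtPrime.map_eq_maximalIdeal, Ideal.map_map]
    rfl
  let e : EGA4.FibLocMod A B q E ≃ₗ[S] (N ⧸ (maximalIdeal R).map (algebraMap R S) • (⊤ : Submodule S N)) :=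
    Submodule.quotEquivOfEq _ _ (by rw [hI])
  rw [Groth.Ega4b.depth_congr' (LinearEquiv.refl S N), ← Groth.Ega4b.depth_congr' (TensorProduct.AlgebraTensorModule.rid R S N),
    Groth.Ega4b.depth_tensor' (S := S) N R, hmax, ← Groth.Ega4b.depth_congr' e]
  exact congrArg _ (Groth.Ega4b.depth_eq_of_surjective_algebraMap (A := S) (B := EGA4.FibLocRing A B q)
    Ideal.Quotient.mk_surjective (EGA4.FibLocMod A B q E))

theorem le_idealDepth_of_fibre (J : Ideal B) (E : Type u) [AddCommGroup E] [Module B E] [Module A E]
    [IsScalarTower A B E] [Module.Finite B E] [Module.Flat A E] (n : ℕ)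
    (h : ∀ q : PrimeSpectrum B, J ≤ q.asIdeal →
      (n : ℕ∞) ≤ LocCoh.idealDepth (q.asIdeal.map (algebraMap B (EGA4.FibLocRing A B q.asIdeal)))
        (EGA4.FibLocMod A B q.asIdeal E)) :
    (n : ℕ∞) ≤ LocCoh.idealDepth J E :=
  Groth.LocCohBase.le_idealDepth_of_forall_depth J n E fun q hq hJq => by
    rw [depth_localized_eq_add A q E]
    exact (h ⟨q, hq⟩ hJq).trans le_add_self

omit [IsNoetherianRing A] in
/-- a module with two-step copresentation by modules of depth two and one has depth two -/
theorem two_le_idealDepth_of_exact (J : Ideal B) {F E0 E1 : Type u} [AddCommGroup F] [Module B F] [Module.Finite B F]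
    [AddCommGroup E0] [Module B E0] [Module.Finite B E0] [AddCommGroup E1] [Module B E1] [Module.Finite B E1]
    (f : F →ₗ[B] E0) (u : E0 →ₗ[B] E1) (hf : Function.Injective f) (hfu : Function.Exact f u)
    (h0 : 2 ≤ LocCoh.idealDepth J E0) (h1 : 1 ≤ LocCoh.idealDepth J E1) : 2 ≤ LocCoh.idealDepth J F := by
  have hK : 1 ≤ LocCoh.idealDepth J (LinearMap.range u) := by
    have h := (Groth.LocCohBase.idealDepth_shortExact J (LinearMap.range u).subtype (LinearMap.range u).mkQ
      Subtype.val_injective (Submodule.mkQ_surjective _) (LinearMap.exact_subtype_mkQ _)).2.2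
    exact le_trans (le_min h1 le_add_self) h
  have hex : Function.Exact f u.rangeRestrict := fun x => by
    rw [← hfu x]
    exact Subtype.ext_iff
  have h := (Groth.LocCohBase.idealDepth_shortExact J f u.rangeRestrict hf (LinearMap.surjective_rangeRestrict u) hex).2.2
  refine le_trans (le_min h0 ?_) h
  rw [show (2 : ℕ∞) = 1 + 1 from rfl]
  exact add_le_add hK le_rfl

/-- depth of the ring along an ideal from the fibre local rings -/
theorem le_idealDepth_self_of_fibre [Module.Flat A B] (J : Ideal B) (n : ℕ)
    (h : ∀ q : PrimeSpectrum B, J ≤ q.asIdeal →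
      (n : ℕ∞) ≤ LocCoh.idealDepth (q.asIdeal.map (algebraMap B (EGA4.FibLocRing A B q.asIdeal)))
        (EGA4.FibLocRing A B q.asIdeal)) :
    (n : ℕ∞) ≤ LocCoh.idealDepth J B := by
  refine le_idealDepth_of_fibre A J B n fun q hq => ?_
  haveI := Groth.Ega4b.fibLocRing_isLocalRing A B q.asIdeal
  have hmax : q.asIdeal.map (algebraMap B (EGA4.FibLocRing A B q.asIdeal)) =
      maximalIdeal (EGA4.FibLocRing A B q.asIdeal) := by
    rw [← IsLocalRing.map_maximalIdeal_of_surjective (Ideal.Quotient.mk _) Ideal.Quotient.mk_surjective,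
      ← Localization.AtPrime.map_eq_maximalIdeal, Ideal.map_map]
    rfl
  have h' := h q hq
  rw [hmax] at h' ⊢
  refine le_of_le_of_eq h' ?_
  let S := Localization.AtPrime q.asIdeal
  let e₀ : LocalizedModule q.asIdeal.primeCompl B ≃ₗ[S] S :=
    LinearEquiv.extendScalarsOfIsLocalization q.asIdeal.primeCompl S
      (IsLocalizedModule.iso q.asIdeal.primeCompl (Algebra.linearMap B S))
  let e₁ : EGA4.FibLocMod A B q.asIdeal B ≃ₗ[S] EGA4.FibLocRing A B q.asIdeal :=
    Submodule.Quotient.equiv _ _ e₀ (by
      rw [Submodule.map_smul'', Submodule.map_top, LinearMap.range_eq_top.2 e₀.surjective]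
      exact Ideal.mul_top _)
  exact ((Groth.Ega4b.depth_eq_of_surjective_algebraMap (A := S) (B := EGA4.FibLocRing A B q.asIdeal)
    Ideal.Quotient.mk_surjective _).symm.trans ((Groth.Ega4b.depth_congr' e₁).symm.trans
      (Groth.Ega4b.depth_eq_of_surjective_algebraMap (A := S) (B := EGA4.FibLocRing A B q.asIdeal)
        Ideal.Quotient.mk_surjective _)))

end Groth.MiscGeom.QGor

end
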