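import Groth.Agent.MiscGeom.DepthTensorFiniteLength
import Groth.Agent.MiscGeom.QGorDepth
import Groth.Agent.FlatMorOne.FlatnessCriteria
import Mathlib.RingTheory.Flat.Equalizer

/-!
# The key proposition on four term exact sequences flat off `V(J)`
-/

universe u

open TensorProduct IsLocalRing

noncomputable section

namespace Groth.MiscGeom.QGor

/-- the kernel of a surjection of flat modules is flat -/
theorem flat_of_exact {A : Type u} [CommRing A] {N P Q : Type u} [AddCommGroup N] [Module A N] [AddCommGroup P]
    [Module A P] [AddCommGroup Q] [Module A Q] [Module.Flat A P] [Module.Flat A Q] (u : N →ₗ[A] P) (v : P →ₗ[A] Q)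
    (hu : Function.Injective u) (huv : Function.Exact u v) (hv : Function.Surjective v) : Module.Flat A N := by
  rw [Module.Flat.iff_lTensor_injective]
  intro I _
  have h1 : Function.Injective (u.rTensor I) := (LinearMap.lTensor_inj_iff_rTensor_inj _ _).1
    (LinearMap.lTensor_injective_of_exact_of_flat v hv u hu huv I)
  have h2 : Function.Injective (I.subtype.lTensor P) :=
    Module.Flat.lTensor_preserves_injective_linearMap _ I.injective_subtype
  have h3 : Function.Injective (u.rTensor A ∘ₗ I.subtype.lTensor N) := by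
    rw [LinearMap.rTensor_comp_lTensor, ← LinearMap.lTensor_comp_rTensor]
    exact h2.comp h1
  exact Function.Injective.of_comp h3

variable {A B : Type u} [CommRing A] [CommRing B] [Algebra A B]

/-- localisation at `q` of a short exact sequence -/
theorem exists_localized_exact (q : Ideal B) [q.IsPrime] {N P Q : Type u} [AddCommGroup N] [Module B N] [Module A N]
    [IsScalarTower A B N] [AddCommGroup P] [Module B P] [Module A P] [IsScalarTower A B P]
    [AddCommGroup Q] [Module B Q] [Module A Q] [IsScalarTower A B Q] (u : N →ₗ[B] P) (v : P →ₗ[B] Q)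
    (hu : Function.Injective u) (huv : Function.Exact u v) (hv : Function.Surjective v) :
    ∃ (uq : LocalizedModule q.primeCompl N →ₗ[A] LocalizedModule q.primeCompl P)
      (vq : LocalizedModule q.primeCompl P →ₗ[A] LocalizedModule q.primeCompl Q),
      Function.Injective uq ∧ Function.Exact uq vq ∧ Function.Surjective vq ∧
        ∀ x, uq (LocalizedModule.mkLinearMap q.primeCompl N x) = LocalizedModule.mkLinearMap q.primeCompl P (u x) :=
  let mN := LocalizedModule.mkLinearMap q.primeCompl N
  let mP := LocalizedModule.mkLinearMap q.primeCompl P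
  let mQ := LocalizedModule.mkLinearMap q.primeCompl Q
  ⟨(IsLocalizedModule.map q.primeCompl mN mP u).restrictScalars A, (IsLocalizedModule.map q.primeCompl mP mQ v).restrictScalars A,
    IsLocalizedModule.map_injective _ mN mP u hu, IsLocalizedModule.map_exact _ mN mP mQ u v huv,
    IsLocalizedModule.map_surjective _ mP mQ v hv, fun x => IsLocalizedModule.map_apply _ mN mP u x⟩

theorem flatAt_of_exact (q : Ideal B) [q.IsPrime] {N P Q : Type u} [AddCommGroup N] [Module B N] [Module A N]
    [IsScalarTower A B N] [AddCommGroup P] [Module B P] [Module A P] [IsScalarTower A B P]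
    [AddCommGroup Q] [Module B Q] [Module A Q] [IsScalarTower A B Q] (u : N →ₗ[B] P) (v : P →ₗ[B] Q)
    (hu : Function.Injective u) (huv : Function.Exact u v) (hv : Function.Surjective v)
    (hP : FlatCA.FlatAt A q P) (hQ : FlatCA.FlatAt A q Q) : FlatCA.FlatAt A q N := by
  obtain ⟨uq, vq, h1, h2, h3, -⟩ := exists_localized_exact (A := A) q u v hu huv hv
  haveI : Module.Flat A (LocalizedModule q.primeCompl P) := hP
  haveI : Module.Flat A (LocalizedModule q.primeCompl Q) := hQ
  exact flat_of_exact uq vq h1 h2 h3

theorem flatAt_of_flat (q : Ideal B) [q.IsPrime] (N : Type u) [AddCommGroup N] [Module B N] [Module A N]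
    [IsScalarTower A B N] [Module.Flat A N] : FlatCA.FlatAt A q N :=
  Groth.Calg5.RelGCI.flat_localizedModule q.primeCompl

variable [IsNoetherianRing B] [IsLocalRing A] [IsLocalRing B] [IsLocalHom (algebraMap A B)]

/-- quotient of a flat module by a finite submodule, flat off `V(J)`, with closed fibre of positive depth -/
theorem flat_coker_of_depth (J : Ideal B) {N P Q : Type u} [AddCommGroup N] [Module B N] [Module A N]
    [IsScalarTower A B N] [Module.Finite B N] [AddCommGroup P] [Module B P] [Module A P] [IsScalarTower A B P]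
    [Module.Flat A P] [AddCommGroup Q] [Module B Q] [Module A Q] [IsScalarTower A B Q]
    (u : N →ₗ[B] P) (v : P →ₗ[B] Q) (hu : Function.Injective u) (huv : Function.Exact u v) (hv : Function.Surjective v)
    (hQ : ∀ q : PrimeSpectrum B, ¬ J ≤ q.asIdeal → FlatCA.FlatAt A q.asIdeal Q)
    (h1 : 1 ≤ LocCoh.idealDepth J (EGA4.FibMod A B N)) : Module.Flat A Q := by
  let k := A ⧸ maximalIdeal A
  have hinj : Function.Injective ((u.restrictScalars A).rTensor k) := by
    rw [injective_iff_map_eq_zero]
    intro z hz
    obtain ⟨p, rfl⟩ : ∃ p : N, p ⊗ₜ[A] (1 : k) = z := by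
      clear hz
      induction z using TensorProduct.induction_on with
      | zero => exact ⟨0, zero_tmul _ _⟩
      | tmul n c =>
        obtain ⟨c, rfl⟩ := Ideal.Quotient.mk_surjective c
        refine ⟨c • n, ?_⟩
        rw [smul_tmul, Algebra.smul_def, mul_one]
        rfl
      | add a b ha hb =>
        obtain ⟨pa, rfl⟩ := ha
        obtain ⟨pb, rfl⟩ := hb
        exact ⟨pa + pb, add_tmul _ _ _⟩
    suffices hp : p ∈ (EGA4.mB A B • (⊤ : Submodule B N)) by
      rw [← Submodule.restrictScalars_mem A, Ideal.smul_restrictScalars, Submodule.restrictScalars_top] at hp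
      refine Submodule.smul_induction_on hp ?_ ?_
      · intro a ha n _
        rw [smul_tmul, Algebra.smul_def, mul_one]
        rw [show algebraMap A k a = 0 from Ideal.Quotient.eq_zero_iff_mem.2 ha, tmul_zero]
      · intro a b ha hb
        rw [add_tmul, ha, hb, add_zero]
    rw [← Submodule.Quotient.mk_eq_zero]
    refine Groth.DepthRefl.eq_zero_of_killed J h1 _ fun q hq => ?_
    obtain ⟨uq, vq, h1', h2', h3', hcomp⟩ := exists_localized_exact (A := A) q.asIdeal u v hu huv hv
    haveI : Module.Flat A (LocalizedModule q.asIdeal.primeCompl Q) := hQ q hq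
    have hk : Function.Injective (uq.rTensor k) := (LinearMap.lTensor_inj_iff_rTensor_inj _ _).1
      (LinearMap.lTensor_injective_of_exact_of_flat vq h3' uq h1' h2' k)
    let mN := (LocalizedModule.mkLinearMap q.asIdeal.primeCompl N).restrictScalars A
    let mP := (LocalizedModule.mkLinearMap q.asIdeal.primeCompl P).restrictScalars A
    have h0 : mN p ⊗ₜ[A] (1 : k) = 0 := hk (by
      have := congrArg (mP.rTensor k) hz
      rw [map_zero, LinearMap.rTensor_tmul, LinearMap.rTensor_tmul] at this
      rw [map_zero, LinearMap.rTensor_tmul, show uq (mN p) = mP (u p) from hcomp p]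
      exact this)
    have h2 := congrArg (TensorProduct.tensorQuotEquivQuotSMul (LocalizedModule q.asIdeal.primeCompl N) (maximalIdeal A)) h0
    rw [map_zero, show (1 : k) = Ideal.Quotient.mk (maximalIdeal A) 1 from rfl,
      TensorProduct.tensorQuotEquivQuotSMul_tmul_mk, one_smul, Submodule.Quotient.mk_eq_zero] at h2
    obtain ⟨w, hw, s, hws⟩ := exists_smul_mem_of_mem_smul_top q.asIdeal (mN p) h2
    obtain ⟨t, ht⟩ := LocalizedModule.mk_eq.1 (hws : LocalizedModule.mk p 1 = LocalizedModule.mk w s)
    refine ⟨(t : B) * s, (inferInstance : q.asIdeal.IsPrime).mem_or_mem.mt ?_, ?_⟩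
    · rintro (h | h)
      exacts [t.2 h, s.2 h]
    · rw [← Submodule.Quotient.mk_smul, Submodule.Quotient.mk_eq_zero, mul_smul]
      rw [one_smul] at ht
      rw [show (t : B) • (s : B) • p = t • s • p from rfl, ht]
      exact Submodule.smul_mem _ _ hw
  obtain ⟨-, hflat⟩ := Groth.FlatMorOne.injective_and_flat_coker B (u.restrictScalars A)
    ((LinearMap.lTensor_inj_iff_rTensor_inj _ _).2 hinj)
  haveI := hflat
  exact Module.Flat.of_linearEquiv ((Submodule.quotEquivOfEq _ _ (LinearMap.exact_iff.1
    (show Function.Exact (u.restrictScalars A) (v.restrictScalars A) from huv)).symm).trans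
      ((v.restrictScalars A).quotKerEquivOfSurjective hv)).symm

variable [IsNoetherianRing A] (J : Ideal B)
  {F E0 E1 G : Type u} [AddCommGroup F] [Module B F] [Module A F] [IsScalarTower A B F] [Module.Finite B F]
  [AddCommGroup E0] [Module B E0] [Module A E0] [IsScalarTower A B E0] [Module.Finite B E0] [Module.Flat A E0]
  [AddCommGroup E1] [Module B E1] [Module A E1] [IsScalarTower A B E1] [Module.Finite B E1] [Module.Flat A E1]
  [AddCommGroup G] [Module B G] [Module A G] [IsScalarTower A B G]
  (f : F →ₗ[B] E0) (u : E0 →ₗ[B] E1) (v : E1 →ₗ[B] G)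
  (hf : Function.Injective f) (hfu : Function.Exact f u) (huv : Function.Exact u v) (hv : Function.Surjective v)

omit [IsNoetherianRing B] [IsLocalRing A] [IsLocalRing B] [IsLocalHom (algebraMap A B)] [IsNoetherianRing A] in
theorem exact_rangeRestrict {M₁ M₂ M₃ : Type u} [AddCommGroup M₁] [Module B M₁] [AddCommGroup M₂] [Module B M₂]
    [AddCommGroup M₃] [Module B M₃] (a : M₁ →ₗ[B] M₂) (b : M₂ →ₗ[B] M₃) (h : Function.Exact a b) :
    Function.Exact a b.rangeRestrict := fun x => by
  rw [← h x]
  exact Subtype.ext_iff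

include hf hfu huv hv

theorem fourTerm_flat_of_flat [Module.Flat A G] : Module.Flat A F := by
  haveI : Module.Flat A (LinearMap.range u) :=
    flat_of_exact ((LinearMap.range u).subtype.restrictScalars A) (v.restrictScalars A) Subtype.val_injective
      (fun x => (huv x).trans (by simp)) hv
  exact flat_of_exact (f.restrictScalars A) (u.rangeRestrict.restrictScalars A) hf
    (exact_rangeRestrict f u hfu) u.surjective_rangeRestrict

theorem fourTerm_fibre_exact [Module.Flat A G] :
    ∃ (f' : EGA4.FibMod A B F →ₗ[B] EGA4.FibMod A B E0) (u' : EGA4.FibMod A B E0 →ₗ[B] EGA4.FibMod A B E1),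
      Function.Injective f' ∧ Function.Exact f' u' := by
  let k := A ⧸ maximalIdeal A
  haveI : Module.Flat A (LinearMap.range u) :=
    flat_of_exact ((LinearMap.range u).subtype.restrictScalars A) (v.restrictScalars A) Subtype.val_injective
      (fun x => (huv x).trans (by simp)) hv
  obtain ⟨eF⟩ := exists_tensor_residue (A := A) (B := B) F
  obtain ⟨e0⟩ := exists_tensor_residue (A := A) (B := B) E0
  obtain ⟨e1⟩ := exists_tensor_residue (A := A) (B := B) E1
  let F1 : F ⊗[A] k →ₗ[B] E0 ⊗[A] k := AlgebraTensorModule.rTensor A k f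
  let U1 : E0 ⊗[A] k →ₗ[B] E1 ⊗[A] k := AlgebraTensorModule.rTensor A k u
  have hF1 : Function.Injective F1 := (LinearMap.lTensor_inj_iff_rTensor_inj k (f.restrictScalars A)).1
    (LinearMap.lTensor_injective_of_exact_of_flat (u.rangeRestrict.restrictScalars A) u.surjective_rangeRestrict
      (f.restrictScalars A) hf (exact_rangeRestrict f u hfu) k)
  have hK1 : Function.Injective (((LinearMap.range u).subtype.restrictScalars A).rTensor k) :=
    (LinearMap.lTensor_inj_iff_rTensor_inj _ _).1
      (LinearMap.lTensor_injective_of_exact_of_flat (v.restrictScalars A) hv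
        ((LinearMap.range u).subtype.restrictScalars A) Subtype.val_injective (fun x => (huv x).trans (by simp)) k)
  have hexA : Function.Exact ((f.restrictScalars A).rTensor k) ((u.restrictScalars A).rTensor k) := by
    intro z
    have hr := rTensor_exact k (f := f.restrictScalars A) (g := u.rangeRestrict.restrictScalars A)
      (exact_rangeRestrict f u hfu) u.surjective_rangeRestrict z
    rw [← hr, show u.restrictScalars A = (LinearMap.range u).subtype.restrictScalars A ∘ₗ u.rangeRestrict.restrictScalars A
      from rfl, LinearMap.rTensor_comp, LinearMap.comp_apply]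
    exact ⟨fun h => hK1 (h.trans (map_zero _).symm), fun h => by rw [h, map_zero]⟩
  refine ⟨e0.symm.toLinearMap ∘ₗ F1 ∘ₗ eF.toLinearMap, e1.symm.toLinearMap ∘ₗ U1 ∘ₗ e0.toLinearMap,
    e0.symm.injective.comp (hF1.comp eF.injective), fun y => ?_⟩
  show e1.symm (U1 (e0 y)) = 0 ↔ _
  rw [LinearEquiv.map_eq_zero_iff]
  refine (hexA (e0 y)).trans ⟨fun ⟨z, hz⟩ => ⟨eF.symm z, ?_⟩, fun ⟨x, hx⟩ => ⟨eF x, ?_⟩⟩
  · show e0.symm (F1 (eF (eF.symm z))) = y
    rw [LinearEquiv.apply_symm_apply]
    exact (congrArg e0.symm hz).trans (e0.symm_apply_apply y)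
  · rw [← hx]
    exact (e0.apply_symm_apply _).symm

variable (h0 : 2 ≤ LocCoh.idealDepth J (EGA4.FibMod A B E0)) (h1 : 1 ≤ LocCoh.idealDepth J (EGA4.FibMod A B E1))

include h0 h1 in
theorem fourTerm_depth_of_flat [Module.Flat A G] : 2 ≤ LocCoh.idealDepth J (EGA4.FibMod A B F) := by
  obtain ⟨f', u', hf', hfu'⟩ := fourTerm_fibre_exact (A := A) f u v hf hfu huv hv
  exact two_le_idealDepth_of_exact J f' u' hf' hfu' h0 h1

variable (hGU : ∀ q : PrimeSpectrum B, ¬ J ≤ q.asIdeal → FlatCA.FlatAt A q.asIdeal G)

include h0 hGU in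
theorem fourTerm_flat_of_depth (h2 : 2 ≤ LocCoh.idealDepth J (EGA4.FibMod A B F)) : Module.Flat A G := by
  have hKU : ∀ q : PrimeSpectrum B, ¬ J ≤ q.asIdeal → FlatCA.FlatAt A q.asIdeal (LinearMap.range u) := fun q hq =>
    flatAt_of_exact q.asIdeal (LinearMap.range u).subtype v Subtype.val_injective
      (fun x => (huv x).trans (by simp)) hv (flatAt_of_flat _ E1) (hGU q hq)
  have hex := exact_rangeRestrict f u hfu
  haveI : Module.Flat A (LinearMap.range u) :=
    flat_coker_of_depth J f u.rangeRestrict hf hex u.surjective_rangeRestrict hKU (le_trans one_le_two h2)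
  obtain ⟨eF⟩ := exists_tensor_residue (A := A) (B := B) F
  obtain ⟨e0⟩ := exists_tensor_residue (A := A) (B := B) E0
  obtain ⟨eK⟩ := exists_tensor_residue (A := A) (B := B) (LinearMap.range u)
  let k := A ⧸ maximalIdeal A
  let F1 : F ⊗[A] k →ₗ[B] E0 ⊗[A] k := AlgebraTensorModule.rTensor A k f
  let U1 : E0 ⊗[A] k →ₗ[B] LinearMap.range u ⊗[A] k := AlgebraTensorModule.rTensor A k u.rangeRestrict
  haveI : Module.Finite B (F ⊗[A] k) := Module.Finite.equiv eF
  haveI : Module.Finite B (E0 ⊗[A] k) := Module.Finite.equiv e0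
  haveI : Module.Finite B (LinearMap.range u ⊗[A] k) := Module.Finite.equiv eK
  have hF1 : Function.Injective F1 := (LinearMap.lTensor_inj_iff_rTensor_inj k (f.restrictScalars A)).1
    (LinearMap.lTensor_injective_of_exact_of_flat (u.rangeRestrict.restrictScalars A) u.surjective_rangeRestrict
      (f.restrictScalars A) hf hex k)
  have hd := (Groth.LocCohBase.idealDepth_shortExact J F1 U1 hF1
    (LinearMap.rTensor_surjective k (g := u.rangeRestrict.restrictScalars A) u.surjective_rangeRestrict)
    (rTensor_exact k (f := f.restrictScalars A) (g := u.rangeRestrict.restrictScalars A) hex u.surjective_rangeRestrict)).2.1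
  have hK : 1 ≤ LocCoh.idealDepth J (EGA4.FibMod A B (LinearMap.range u)) := by
    rw [Groth.LocCohBase.idealDepth_congr eK]
    refine le_trans ?_ hd
    rw [← Groth.LocCohBase.idealDepth_congr eF, ← Groth.LocCohBase.idealDepth_congr e0]
    refine le_min (le_trans one_le_two h0) ?_
    revert h2
    generalize LocCoh.idealDepth J (EGA4.FibMod A B F) = x
    cases x <;> intro h2
    · exact le_top
    · norm_cast at h2 ⊢
      omega
  exact flat_coker_of_depth J (LinearMap.range u).subtype v Subtype.val_injective
    (fun x => (huv x).trans (by simp)) hv hGU hK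

end Groth.MiscGeom.QGor

end
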