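import Groth.Agent.MiscGeom.FourTermFlat
import Groth.Agent.LocCohBase.Torsion
import Groth.Agent.LocCohBase.Cd

/-!
# Flatness from the vanishing of `H²_J` of the closed fibre
-/

universe u

open TensorProduct IsLocalRing CategoryTheory
open Groth.LocCohBase (subSeq subSeq_shortExact subsingleton_H_congr)

noncomputable section

namespace Groth.MiscGeom.QGor

section LocCoh

variable {R : Type u} [CommRing R] [IsNoetherianRing R] (J : Ideal R)

theorem isPowerTorsion_of_local {M : Type u} [AddCommGroup M] [Module R M]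
    (h : ∀ (x : M) (q : PrimeSpectrum R), ¬ J ≤ q.asIdeal → ∃ t ∉ q.asIdeal, t • x = 0) :
    LocCoh.IsPowerTorsion J M := fun x => by
  have hrad : J ≤ ((⊥ : Submodule R M).colon {x}).radical := by
    rw [Ideal.radical_eq_sInf]
    refine le_sInf fun P hP => ?_
    by_contra hJ
    obtain ⟨t, ht, htx⟩ := h x ⟨P, hP.2⟩ hJ
    exact ht (hP.1 (by simpa [Submodule.mem_colon_singleton] using htx))
  obtain ⟨n, hn⟩ := Ideal.exists_pow_le_of_le_radical_of_fg hrad (IsNoetherian.noetherian J)
  exact ⟨n, fun a ha => by simpa [Submodule.mem_colon_singleton] using hn ha⟩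

/-- a map which is an isomorphism off `V(J)` transports the vanishing of `H²_J` -/
theorem subsingleton_H_two_of_iso_off {M N : Type u} [AddCommGroup M] [Module R M] [AddCommGroup N] [Module R N]
    (f : M →ₗ[R] N) (hk : LocCoh.IsPowerTorsion J (LinearMap.ker f))
    (hc : LocCoh.IsPowerTorsion J (N ⧸ LinearMap.range f))
    (h : Subsingleton (LocCoh.H J 2 M)) : Subsingleton (LocCoh.H J 2 N) := by
  have h3 : Subsingleton (LocCoh.H J 3 (LinearMap.ker f)) :=
    Groth.LocCohBase.subsingleton_succ_of_isPowerTorsion J 2 _ hk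
  have hI : Subsingleton (LocCoh.H J 2 (LinearMap.range f)) :=
    (subsingleton_H_congr J 2 f.quotKerEquivRange).1
      (Groth.LocCohBase.subsingleton_X₃ (subSeq_shortExact (LinearMap.ker f)) 2 h h3)
  exact Groth.LocCohBase.subsingleton_X₂ (subSeq_shortExact (LinearMap.range f)) 2 hI
    (Groth.LocCohBase.subsingleton_succ_of_isPowerTorsion J 1 _ hc)

/-- the cokernel has no `J`-torsion -/
theorem one_le_idealDepth_coker {P Q : Type u} [AddCommGroup P] [Module R P] [Module.Finite R P]
    [AddCommGroup Q] [Module R Q] [Module.Finite R Q] (u : P →ₗ[R] Q)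
    (h0 : 2 ≤ LocCoh.idealDepth J P) (h1 : 1 ≤ LocCoh.idealDepth J Q)
    (h2 : Subsingleton (LocCoh.H J 2 (LinearMap.ker u))) : 1 ≤ LocCoh.idealDepth J (Q ⧸ LinearMap.range u) := by
  have hP : Subsingleton (LocCoh.H J 1 P) :=
    (Groth.LocCohBase.le_idealDepth_iff_localCohomology J 2 P).1 (by exact_mod_cast h0) 1 (by norm_num)
  have hQ : Subsingleton (LocCoh.H J 0 Q) :=
    (Groth.LocCohBase.le_idealDepth_iff_localCohomology J 1 Q).1 (by exact_mod_cast h1) 0 (by norm_num)
  have hI : Subsingleton (LocCoh.H J 1 (LinearMap.range u)) :=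
    (subsingleton_H_congr J 1 u.quotKerEquivRange).1
      (Groth.LocCohBase.subsingleton_X₃ (subSeq_shortExact (LinearMap.ker u)) 1 hP h2)
  have hC := Groth.LocCohBase.subsingleton_X₃ (subSeq_shortExact (LinearMap.range u)) 0 hQ hI
  have := (Groth.LocCohBase.le_idealDepth_iff_localCohomology J 1 (Q ⧸ LinearMap.range u)).2
    fun i hi => by
      obtain rfl : i = 0 := by omega
      exact hC
  exact_mod_cast this

end LocCoh

variable {A B : Type u} [CommRing A] [CommRing B] [Algebra A B] [IsLocalRing A]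

/-- a relation on the closed fibre lifts where the cokernel is flat -/
theorem exists_smul_mem_of_flatAt (q : Ideal B) [q.IsPrime] {N P Q : Type u} [AddCommGroup N] [Module B N] [Module A N]
    [IsScalarTower A B N] [AddCommGroup P] [Module B P] [Module A P] [IsScalarTower A B P]
    [AddCommGroup Q] [Module B Q] [Module A Q] [IsScalarTower A B Q] (u : N →ₗ[B] P) (v : P →ₗ[B] Q)
    (hu : Function.Injective u) (huv : Function.Exact u v) (hv : Function.Surjective v)
    (hQ : FlatCA.FlatAt A q Q) (p : N) (hp : u p ∈ (EGA4.mB A B • (⊤ : Submodule B P))) :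
    ∃ t ∉ q, t • p ∈ (EGA4.mB A B • (⊤ : Submodule B N)) := by
  let k := A ⧸ maximalIdeal A
  obtain ⟨uq, vq, h1', h2', h3', hcomp⟩ := exists_localized_exact (A := A) q u v hu huv hv
  haveI : Module.Flat A (LocalizedModule q.primeCompl Q) := hQ
  have hk : Function.Injective (uq.rTensor k) := (LinearMap.lTensor_inj_iff_rTensor_inj _ _).1
    (LinearMap.lTensor_injective_of_exact_of_flat vq h3' uq h1' h2' k)
  let mN := (LocalizedModule.mkLinearMap q.primeCompl N).restrictScalars A
  let mP := (LocalizedModule.mkLinearMap q.primeCompl P).restrictScalars A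
  have hz : (u p) ⊗ₜ[A] (1 : k) = 0 := by
    rw [← Submodule.restrictScalars_mem A, Ideal.smul_restrictScalars, Submodule.restrictScalars_top] at hp
    refine Submodule.smul_induction_on hp ?_ ?_
    · intro a ha n _
      rw [smul_tmul, Algebra.smul_def, mul_one]
      rw [show algebraMap A k a = 0 from Ideal.Quotient.eq_zero_iff_mem.2 ha, tmul_zero]
    · intro a b ha hb
      rw [add_tmul, ha, hb, add_zero]
  have h0 : mN p ⊗ₜ[A] (1 : k) = 0 := hk (by
    have := congrArg (mP.rTensor k) hz
    rw [map_zero, LinearMap.rTensor_tmul] at this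
    rw [map_zero, LinearMap.rTensor_tmul, show uq (mN p) = mP (u p) from hcomp p]
    exact this)
  have h2 := congrArg (TensorProduct.tensorQuotEquivQuotSMul (LocalizedModule q.primeCompl N) (maximalIdeal A)) h0
  rw [map_zero, show (1 : k) = Ideal.Quotient.mk (maximalIdeal A) 1 from rfl,
    TensorProduct.tensorQuotEquivQuotSMul_tmul_mk, one_smul, Submodule.Quotient.mk_eq_zero] at h2
  obtain ⟨w, hw, s, hws⟩ := exists_smul_mem_of_mem_smul_top q (mN p) h2
  obtain ⟨t, ht⟩ := LocalizedModule.mk_eq.1 (hws : LocalizedModule.mk p 1 = LocalizedModule.mk w s)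
  refine ⟨(t : B) * s, (inferInstance : q.IsPrime).mem_or_mem.mt ?_, ?_⟩
  · rintro (h | h)
    exacts [t.2 h, s.2 h]
  · rw [mul_smul]
    rw [one_smul] at ht
    rw [show (t : B) • (s : B) • p = t • s • p from rfl, ht]
    exact Submodule.smul_mem _ _ hw

variable [IsNoetherianRing B]

theorem one_le_idealDepth_fibre_of_H_two (J : Ideal B)
    {F E0 E1 G : Type u} [AddCommGroup F] [Module B F] [Module A F] [IsScalarTower A B F] [Module.Finite B F]
    [AddCommGroup E0] [Module B E0] [Module A E0] [IsScalarTower A B E0] [Module.Finite B E0] [Module.Flat A E0]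
    [AddCommGroup E1] [Module B E1] [Module A E1] [IsScalarTower A B E1] [Module.Finite B E1] [Module.Flat A E1]
    [AddCommGroup G] [Module B G] [Module A G] [IsScalarTower A B G]
    (f : F →ₗ[B] E0) (u : E0 →ₗ[B] E1) (v : E1 →ₗ[B] G)
    (hf : Function.Injective f) (hfu : Function.Exact f u) (huv : Function.Exact u v) (hv : Function.Surjective v)
    (hGU : ∀ q : PrimeSpectrum B, ¬ J ≤ q.asIdeal → FlatCA.FlatAt A q.asIdeal G)
    (h0 : 2 ≤ LocCoh.idealDepth J (EGA4.FibMod A B E0)) (h1 : 1 ≤ LocCoh.idealDepth J (EGA4.FibMod A B E1))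
    (hH2 : Subsingleton (LocCoh.H J 2 (EGA4.FibMod A B F))) :
    1 ≤ LocCoh.idealDepth J (EGA4.FibMod A B G) := by
  have hle : ∀ {N P : Type u} [AddCommGroup N] [Module B N] [AddCommGroup P] [Module B P] (g : N →ₗ[B] P),
      (EGA4.mB A B • (⊤ : Submodule B N)) ≤ (EGA4.mB A B • (⊤ : Submodule B P)).comap g := fun g => by
    rw [← Submodule.map_le_iff_le_comap, Submodule.map_smul'']
    exact Submodule.smul_mono le_rfl le_top
  let f' : EGA4.FibMod A B F →ₗ[B] EGA4.FibMod A B E0 := Submodule.mapQ _ _ f (hle f)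
  let u' : EGA4.FibMod A B E0 →ₗ[B] EGA4.FibMod A B E1 := Submodule.mapQ _ _ u (hle u)
  let v' : EGA4.FibMod A B E1 →ₗ[B] EGA4.FibMod A B G := Submodule.mapQ _ _ v (hle v)
  let ι : LinearMap.range u →ₗ[B] E1 := (LinearMap.range u).subtype
  have hιv : Function.Exact ι v := fun x => (huv x).trans (by simp [ι])
  have hKU : ∀ q : PrimeSpectrum B, ¬ J ≤ q.asIdeal → FlatCA.FlatAt A q.asIdeal (LinearMap.range u) := fun q hq =>
    flatAt_of_exact q.asIdeal ι v Subtype.val_injective hιv hv (flatAt_of_flat _ E1) (hGU q hq)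
  have hex := exact_rangeRestrict f u hfu
  let φ : EGA4.FibMod A B F →ₗ[B] LinearMap.ker u' := f'.codRestrict _ fun x => by
    obtain ⟨x, rfl⟩ := Submodule.Quotient.mk_surjective _ x
    show u' (f' (Submodule.Quotient.mk x)) = 0
    simp only [f', u', Submodule.mapQ_apply, hfu.apply_apply_eq_zero, Submodule.Quotient.mk_zero]
  have hker : LocCoh.IsPowerTorsion J (LinearMap.ker φ) := isPowerTorsion_of_local J fun x q hq => by
    obtain ⟨y, hy⟩ := Submodule.Quotient.mk_surjective _ (x : EGA4.FibMod A B F)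
    have hx : f' (x : EGA4.FibMod A B F) = 0 := congrArg Subtype.val x.2
    rw [← hy, show f' (Submodule.Quotient.mk y) = Submodule.Quotient.mk (f y) from rfl,
      Submodule.Quotient.mk_eq_zero] at hx
    obtain ⟨t, ht, hty⟩ := exists_smul_mem_of_flatAt q.asIdeal f u.rangeRestrict hf hex u.surjective_rangeRestrict
      (hKU q hq) y hx
    refine ⟨t, ht, Subtype.ext ?_⟩
    rw [Submodule.coe_smul, ← hy, ← Submodule.Quotient.mk_smul, ZeroMemClass.coe_zero, Submodule.Quotient.mk_eq_zero]
    exact hty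
  have hcok : LocCoh.IsPowerTorsion J (LinearMap.ker u' ⧸ LinearMap.range φ) := isPowerTorsion_of_local J fun z q hq => by
    obtain ⟨x, rfl⟩ := Submodule.Quotient.mk_surjective _ z
    obtain ⟨y, hy⟩ := Submodule.Quotient.mk_surjective _ (x : EGA4.FibMod A B E0)
    have hx : u' (x : EGA4.FibMod A B E0) = 0 := x.2
    rw [← hy, show u' (Submodule.Quotient.mk y) = Submodule.Quotient.mk (u y) from rfl,
      Submodule.Quotient.mk_eq_zero] at hx
    obtain ⟨t, ht, hty⟩ := exists_smul_mem_of_flatAt q.asIdeal ι v Subtype.val_injective hιv hv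
      (hGU q hq) (u.rangeRestrict y) hx
    have hmap : (EGA4.mB A B • (⊤ : Submodule B (LinearMap.range u))) =
        (EGA4.mB A B • (⊤ : Submodule B E0)).map u.rangeRestrict := by
      rw [Submodule.map_smul'', Submodule.map_top, LinearMap.range_rangeRestrict]
    rw [hmap] at hty
    obtain ⟨w, hw, hwy⟩ := hty
    obtain ⟨a, ha⟩ := (hex (t • y - w)).1 (by rw [map_sub, map_smul, hwy, sub_self])
    refine ⟨t, ht, ?_⟩
    rw [← Submodule.Quotient.mk_smul, Submodule.Quotient.mk_eq_zero]
    refine ⟨Submodule.Quotient.mk a, Subtype.ext ?_⟩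
    rw [Submodule.coe_smul, ← hy, ← Submodule.Quotient.mk_smul]
    show Submodule.Quotient.mk (f a) = _
    rw [Submodule.Quotient.eq, ha]
    simpa using hw
  have h2 : Subsingleton (LocCoh.H J 2 (LinearMap.ker u')) := subsingleton_H_two_of_iso_off J φ hker hcok hH2
  have hsurj : Function.Surjective v' := fun z => by
    obtain ⟨z, rfl⟩ := Submodule.Quotient.mk_surjective _ z
    obtain ⟨y, rfl⟩ := hv z
    exact ⟨Submodule.Quotient.mk y, rfl⟩
  have hrange : LinearMap.range u' = LinearMap.ker v' := by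
    refine le_antisymm ?_ fun z hz => ?_
    · rintro _ ⟨z, rfl⟩
      obtain ⟨y, rfl⟩ := Submodule.Quotient.mk_surjective _ z
      simp only [LinearMap.mem_ker, u', v', Submodule.mapQ_apply, huv.apply_apply_eq_zero, Submodule.Quotient.mk_zero]
    · obtain ⟨y, rfl⟩ := Submodule.Quotient.mk_surjective _ z
      rw [LinearMap.mem_ker, show v' (Submodule.Quotient.mk y) = Submodule.Quotient.mk (v y) from rfl,
        Submodule.Quotient.mk_eq_zero] at hz
      have hmap : (EGA4.mB A B • (⊤ : Submodule B G)) = (EGA4.mB A B • (⊤ : Submodule B E1)).map v := by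
        rw [Submodule.map_smul'', Submodule.map_top, LinearMap.range_eq_top.2 hv]
      rw [hmap] at hz
      obtain ⟨w, hw, hwy⟩ := hz
      obtain ⟨a, ha⟩ := (huv (y - w)).1 (by rw [map_sub, hwy, sub_self])
      refine ⟨Submodule.Quotient.mk a, ?_⟩
      show Submodule.Quotient.mk (u a) = _
      rw [Submodule.Quotient.eq, ha]
      simpa using hw
  refine le_of_le_of_eq (one_le_idealDepth_coker J u' h0 h1 h2) (Groth.LocCohBase.idealDepth_congr ?_)
  exact (Submodule.quotEquivOfEq _ _ hrange).trans (v'.quotKerEquivOfSurjective hsurj)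

end Groth.MiscGeom.QGor

end
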