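import Mathlib.Algebra.Module.FinitePresentation
import Mathlib.Algebra.Module.LocalizedModule.IsLocalization
import Mathlib.RingTheory.Localization.AtPrime.Basic
import Mathlib.LinearAlgebra.Dual.Lemmas
import Mathlib.RingTheory.Noetherian.Basic
import Mathlib.RingTheory.LocalRing.Module
import Mathlib.RingTheory.LocalProperties.Projective

/-!
# Presentations of modules free at a prime
-/

universe u

noncomputable section

namespace Groth.MiscGeom.QGor

variable {B : Type u} [CommRing B] [IsNoetherianRing B]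

/-- a module free at `q` is a direct summand of a free module up to some `s ∉ q` -/
theorem exists_retract_smul (q : Ideal B) [q.IsPrime] (F : Type u) [AddCommGroup F] [Module B F] [Module.Finite B F]
    [Module.Free (Localization.AtPrime q) (LocalizedModule q.primeCompl F)] :
    ∃ (k : ℕ) (i : F →ₗ[B] (Fin k → B)) (r : (Fin k → B) →ₗ[B] F) (s : B),
      s ∉ q ∧ ∀ x, r (i x) = s • x := by
  haveI : Module.FinitePresentation B F := Module.finitePresentation_of_finite B F
  obtain ⟨k, r, hr⟩ := Module.Finite.exists_fin' B F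
  let S := q.primeCompl
  let Bq := Localization.AtPrime q
  let mkF := LocalizedModule.mkLinearMap S F
  let mkP := LocalizedModule.mkLinearMap S (Fin k → B)
  let rq : LocalizedModule S (Fin k → B) →ₗ[Bq] LocalizedModule S F := IsLocalizedModule.mapExtendScalars S mkP mkF Bq r
  have hrq : ∀ x, rq (mkP x) = mkF (r x) := fun x => IsLocalizedModule.map_apply S mkP mkF r x
  have hsurj : Function.Surjective rq := IsLocalizedModule.map_surjective S mkP mkF r hr
  obtain ⟨σ, hσ⟩ := Module.projective_lifting_property rq LinearMap.id hsurj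
  let g : F →ₗ[B] LocalizedModule S (Fin k → B) := (σ.restrictScalars B) ∘ₗ mkF
  obtain ⟨i, s, hi⟩ := Module.FinitePresentation.exists_lift_of_isLocalizedModule S mkP g
  have h : mkF ∘ₗ (r ∘ₗ i) = mkF ∘ₗ ((s : B) • LinearMap.id) := LinearMap.ext fun x => by
    have h1 : mkP (i x) = (s : B) • g x := LinearMap.congr_fun hi x
    show mkF (r (i x)) = mkF ((s : B) • x)
    rw [← hrq, h1, LinearMap.map_smul_of_tower]
    exact (congrArg ((s : B) • ·) (LinearMap.congr_fun hσ (mkF x))).trans (map_smul mkF _ x).symm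
  obtain ⟨t, ht⟩ := Module.Finite.exists_smul_of_comp_eq_of_isLocalizedModule S mkF (r ∘ₗ i) _ h
  refine ⟨k, (t : B) • i, r, (t : B) * s, (inferInstance : q.IsPrime).mem_or_mem.mt ?_, fun x => ?_⟩
  · rintro (h | h)
    exacts [t.2 h, s.2 h]
  · have := LinearMap.congr_fun ht x
    rw [LinearMap.smul_apply, map_smul, mul_smul]
    exact this

/-- the cokernel of the dual of a presentation of a module free at `q` is free at `q` -/
theorem free_localized_coker_of_regular {n m : ℕ} (q : Ideal B) [q.IsPrime]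
    (h : (Fin n → B) →ₗ[B] (Fin m → B)) (ψ : (Fin m → B) →ₗ[B] (Fin n → B)) (s : B) (hs : s ∉ q)
    (hreg : ∀ x, h (ψ (h x)) = s • h x) :
    Module.Free (Localization.AtPrime q) (LocalizedModule q.primeCompl ((Fin m → B) ⧸ LinearMap.range h)) := by
  let S := q.primeCompl
  let Bq := Localization.AtPrime q
  let G := (Fin m → B) ⧸ LinearMap.range h
  let j : G →ₗ[B] (Fin m → B) := (LinearMap.range h).liftQ (s • LinearMap.id - h ∘ₗ ψ) (by
    rintro _ ⟨x, rfl⟩
    simp [hreg])
  have hj : ∀ g : G, (LinearMap.range h).mkQ (j g) = s • g := fun g => by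
    induction g using Submodule.Quotient.induction_on with
    | _ y =>
      show (LinearMap.range h).mkQ (s • y - h (ψ y)) = s • Submodule.Quotient.mk y
      rw [map_sub, map_smul, Submodule.mkQ_apply, Submodule.mkQ_apply,
        (Submodule.Quotient.mk_eq_zero (LinearMap.range h)).2 (LinearMap.mem_range_self h (ψ y)), sub_zero]
  let mkP := LocalizedModule.mkLinearMap S (Fin m → B)
  let mkG := LocalizedModule.mkLinearMap S G
  let πq : LocalizedModule S (Fin m → B) →ₗ[Bq] LocalizedModule S G :=
    IsLocalizedModule.mapExtendScalars S mkP mkG Bq (LinearMap.range h).mkQ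
  let jq : LocalizedModule S G →ₗ[Bq] LocalizedModule S (Fin m → B) := IsLocalizedModule.mapExtendScalars S mkG mkP Bq j
  let u := (IsLocalization.map_units Bq (⟨s, hs⟩ : S)).unit
  let jq' : LocalizedModule S G →ₗ[Bq] LocalizedModule S (Fin m → B) := (↑u⁻¹ : Bq) • jq
  have hsplit : πq ∘ₗ jq' = LinearMap.id := by
    have h1 : (πq ∘ₗ jq).restrictScalars B = ((algebraMap B Bq s) • LinearMap.id : _ →ₗ[Bq] LocalizedModule S G).restrictScalars B :=
      IsLocalizedModule.linearMap_ext S mkG mkG (LinearMap.ext fun g => by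
        show πq (jq (mkG g)) = algebraMap B Bq s • mkG g
        rw [show jq (mkG g) = mkP (j g) from IsLocalizedModule.map_apply S mkG mkP j g,
          show πq (mkP (j g)) = mkG ((LinearMap.range h).mkQ (j g)) from IsLocalizedModule.map_apply S mkP mkG _ _,
          hj, map_smul, algebraMap_smul])
    refine LinearMap.ext fun x => ?_
    have h2 := LinearMap.congr_fun h1 x
    simp only [LinearMap.coe_restrictScalars, LinearMap.comp_apply, LinearMap.smul_apply, LinearMap.id_apply] at h2
    show πq ((↑u⁻¹ : Bq) • jq x) = x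
    rw [map_smul, h2, smul_smul, IsUnit.val_inv_mul, one_smul]
  haveI : Module.Free Bq (LocalizedModule S (Fin m → B)) :=
    Module.free_of_isLocalizedModule S mkP
  haveI : Module.Projective Bq (LocalizedModule S G) := Module.Projective.of_split jq' πq hsplit
  haveI : Module.Finite Bq (LocalizedModule S G) := Module.Finite.of_isLocalizedModule S mkG
  haveI : Module.Flat Bq (LocalizedModule S G) := inferInstance
  exact Module.free_of_flat_of_isLocalRing

theorem exists_fourTerm (J : Ideal B) (F : Type u) [AddCommGroup F] [Module B F] [Module.Finite B F]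
    [Module.IsReflexive B F]
    (hU : ∀ q : PrimeSpectrum B, ¬ J ≤ q.asIdeal →
      Module.Free (Localization.AtPrime q.asIdeal) (LocalizedModule q.asIdeal.primeCompl F)) :
    ∃ (n m : ℕ) (g : F →ₗ[B] (Fin n → B)) (h : (Fin n → B) →ₗ[B] (Fin m → B)),
      Function.Injective g ∧ Function.Exact g h ∧
      ∀ q : PrimeSpectrum B, ¬ J ≤ q.asIdeal →
        Module.Free (Localization.AtPrime q.asIdeal)
          (LocalizedModule q.asIdeal.primeCompl ((Fin m → B) ⧸ LinearMap.range h)) := by
  classical
  obtain ⟨n, π, hπ⟩ := Module.Finite.exists_fin' B (Module.Dual B F)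
  obtain ⟨m, k, hk⟩ := Module.Finite.exists_fin' B (LinearMap.ker π)
  let φ : (Fin m → B) →ₗ[B] (Fin n → B) := (LinearMap.ker π).subtype ∘ₗ k
  have hφ : LinearMap.range φ = LinearMap.ker π := by
    rw [LinearMap.range_comp, LinearMap.range_eq_top.2 hk, Submodule.map_top, Submodule.range_subtype]
  let e₁ : Module.Dual B (Fin n → B) ≃ₗ[B] (Fin n → B) := (Pi.basisFun B (Fin n)).toDualEquiv.symm
  let e₂ : Module.Dual B (Fin m → B) ≃ₗ[B] (Fin m → B) := (Pi.basisFun B (Fin m)).toDualEquiv.symm
  let g : F →ₗ[B] (Fin n → B) := e₁.toLinearMap ∘ₗ π.dualMap ∘ₗ Module.Dual.eval B F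
  let h : (Fin n → B) →ₗ[B] (Fin m → B) := e₂.toLinearMap ∘ₗ φ.dualMap ∘ₗ e₁.symm.toLinearMap
  refine ⟨n, m, g, h, e₁.injective.comp ((LinearMap.dualMap_injective_of_surjective hπ).comp
    (Module.bijective_dual_eval B F).1), fun v => ⟨fun hv => ?_, ?_⟩, fun q hq => ?_⟩
  · have hv' : φ.dualMap (e₁.symm v) = 0 := e₂.map_eq_zero_iff.1 hv
    have hker : LinearMap.ker π ≤ LinearMap.ker (e₁.symm v) := by
      rw [← hφ]
      rintro _ ⟨u, rfl⟩
      exact LinearMap.congr_fun hv' u
    let Y : Module.Dual B (Module.Dual B F) :=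
      (LinearMap.ker π).liftQ (e₁.symm v) hker ∘ₗ (π.quotKerEquivOfSurjective hπ).symm.toLinearMap
    obtain ⟨x, hx⟩ := (Module.bijective_dual_eval B F).2 Y
    refine ⟨x, e₁.symm.injective (LinearMap.ext fun w => ?_)⟩
    show e₁.symm (e₁ (π.dualMap (Module.Dual.eval B F x))) w = e₁.symm v w
    rw [LinearEquiv.symm_apply_apply]
    show Module.Dual.eval B F x (π w) = e₁.symm v w
    rw [hx]
    show (LinearMap.ker π).liftQ (e₁.symm v) hker ((π.quotKerEquivOfSurjective hπ).symm (π w)) = e₁.symm v w
    rw [← LinearMap.quotKerEquivOfSurjective_apply_mk π hπ w, LinearEquiv.symm_apply_apply]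
    rfl
  · rintro ⟨x, rfl⟩
    show e₂ (φ.dualMap (e₁.symm (e₁ (π.dualMap (Module.Dual.eval B F x))))) = 0
    rw [LinearEquiv.symm_apply_apply, LinearEquiv.map_eq_zero_iff]
    refine LinearMap.ext fun w => ?_
    show Module.Dual.eval B F x (π (φ w)) = 0
    rw [LinearMap.mem_ker.1 (hφ ▸ LinearMap.mem_range_self φ w : φ w ∈ LinearMap.ker π), map_zero]
  · haveI := hU q hq
    obtain ⟨l, i, r, s, hs, hri⟩ := exists_retract_smul q.asIdeal F
    -- a section of `π` up to `s`
    choose v hv using fun j : Fin l => hπ (i.dualMap ((Pi.basisFun B (Fin l)).dualBasis j))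
    let σ : Module.Dual B F →ₗ[B] (Fin n → B) := (Pi.basisFun B (Fin l)).dualBasis.constr B v ∘ₗ r.dualMap
    have hσ : ∀ p, π (σ p) = s • p := fun p => by
      have h1 : π ∘ₗ (Pi.basisFun B (Fin l)).dualBasis.constr B v = i.dualMap :=
        (Pi.basisFun B (Fin l)).dualBasis.ext fun j => by
          rw [LinearMap.comp_apply, Module.Basis.constr_basis, hv]
      show (π ∘ₗ (Pi.basisFun B (Fin l)).dualBasis.constr B v) (r.dualMap p) = s • p
      rw [h1]
      refine LinearMap.ext fun x => ?_
      show p (r (i x)) = s * p x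
      rw [hri, map_smul]
      rfl
    have hmem : ∀ j : Fin n, s • Pi.basisFun B (Fin n) j - σ (π (Pi.basisFun B (Fin n) j)) ∈ LinearMap.range φ := fun j => by
      rw [hφ, LinearMap.mem_ker, map_sub, map_smul, hσ, sub_self]
    choose w hw using hmem
    let ψ : (Fin n → B) →ₗ[B] (Fin m → B) := (Pi.basisFun B (Fin n)).constr B w
    have hψ : φ ∘ₗ ψ = s • LinearMap.id - σ ∘ₗ π := (Pi.basisFun B (Fin n)).ext fun j => by
      rw [LinearMap.comp_apply, Module.Basis.constr_basis, hw]
      rfl
    refine free_localized_coker_of_regular q.asIdeal h (e₁.toLinearMap ∘ₗ ψ.dualMap ∘ₗ e₂.symm.toLinearMap) s hs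
      fun x => ?_
    show e₂ (φ.dualMap (e₁.symm (e₁ (ψ.dualMap (e₂.symm (e₂ (φ.dualMap (e₁.symm x)))))))) = s • e₂ (φ.dualMap (e₁.symm x))
    rw [LinearEquiv.symm_apply_apply, LinearEquiv.symm_apply_apply, ← map_smul]
    refine congrArg e₂ (LinearMap.ext fun y => ?_)
    show e₁.symm x (φ (ψ (φ y))) = s • e₁.symm x (φ y)
    rw [show φ (ψ (φ y)) = (φ ∘ₗ ψ) (φ y) from rfl, hψ]
    simp [show π (φ y) = 0 from LinearMap.mem_ker.1 (hφ ▸ LinearMap.mem_range_self φ y)]

end Groth.MiscGeom.QGor

end
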