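import Mathlib.RingTheory.Smooth.IntegralClosure
import Mathlib.RingTheory.Localization.BaseChange
import Mathlib.RingTheory.Etale.Basic

/-!
# Integral closedness in a localization passes to étale algebras
-/

set_option autoImplicit false
universe u

open TensorProduct

namespace Groth.MiscGeom

theorem mem_range_of_isIntegral_away (A B L M : Type u) [CommRing A] [CommRing B] [CommRing L] [CommRing M]
    [Algebra A B] [Algebra.Smooth A B] [Algebra A L] [Algebra B M] (f : A) [IsLocalization.Away f L]
    [IsLocalization.Away (algebraMap A B f) M]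
    (h : ∀ l : L, IsIntegral A l → l ∈ Set.range (algebraMap A L)) (m : M) (hm : IsIntegral B m) :
    m ∈ Set.range (algebraMap B M) := by
  haveI : IsLocalization (Submonoid.powers (algebraMap A B f)) (B ⊗[A] L) := by
    have : IsLocalization (Algebra.algebraMapSubmonoid B (Submonoid.powers f)) (B ⊗[A] L) :=
      IsLocalization.tensor L (Submonoid.powers f)
    rwa [Algebra.algebraMapSubmonoid, Submonoid.map_powers] at this
  let e : B ⊗[A] L ≃ₐ[B] M := IsLocalization.algEquiv (Submonoid.powers (algebraMap A B f)) (B ⊗[A] L) M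
  have hz : IsIntegral B (e.symm m) := hm.map e.symm.toAlgHom
  obtain ⟨w, hw⟩ := (TensorProduct.toIntegralClosure_bijective_of_smooth (R := A) (S := B) (B := L)).2 ⟨e.symm m, hz⟩
  have key : ∀ v : B ⊗[A] integralClosure A L, (TensorProduct.toIntegralClosure A B L v : B ⊗[A] L) ∈
      (algebraMap B (B ⊗[A] L)).range := by
    intro v
    induction v using TensorProduct.induction_on with
    | zero => simp
    | add x y hx hy => rw [map_add]; exact Subring.add_mem _ hx hy
    | tmul b c =>
      obtain ⟨a, ha⟩ := h c.1 c.2
      refine ⟨a • b, ?_⟩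
      show (a • b) ⊗ₜ[A] (1 : L) = b ⊗ₜ[A] (c.1 : L)
      rw [TensorProduct.smul_tmul, ← Algebra.algebraMap_eq_smul_one, ha]
  obtain ⟨b, hb⟩ := key w
  rw [hw] at hb
  exact ⟨b, by rw [← e.commutes b, hb, AlgEquiv.apply_symm_apply]⟩

end Groth.MiscGeom
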