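import Groth.Agent.MiscGeom.MagnetGrading

/-!
# Attractors of `S`-affine schemes through the grading; change of monoid
-/

set_option autoImplicit false
universe u

open CategoryTheory CategoryTheory.Limits MonoidalCategory CartesianMonoidalCategory MonObj AlgebraicGeometry Opposite
open Magnet

noncomputable section

namespace Groth.MiscGeom.Mag

variable {S : Scheme.{u}} {A : CommRingCat.{u}} (str : Spec A ⟶ S) {X : Over S} [IsAffineHom X.hom]
  {M : Type} [AddCommMonoid M] (a : MonAct (AMonS S M) X)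

theorem exists_sigma (x : Over.mk str ⟶ X) :
    ∃ σ : gB str X ⟶ A, gGam str X ≫ σ = 𝟙 A ∧ Spec.map σ ≫ (gX0 str X).left = x.left :=
  exists_gHom str X x.left (𝟙 A) (by rw [Over.w x, Spec.map_id, Category.id_comp]; rfl)

theorem factor_iff {N Z : Type} [AddCommMonoid N] [AddCommMonoid Z] (g : N →+ Z) (hg : Function.Injective g)
    (τ : gB str X ⟶ MA A Z) (hτ : gGam str X ≫ τ = maConst A Z) :
    (∃ χ : Spec (MA A N) ⟶ X.left, χ ≫ X.hom = Spec.map (maConst A N) ≫ str ∧
        Spec.map (maMap A g) ≫ χ = Spec.map τ ≫ (gX0 str X).left) ↔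
      ∀ (b : gB str X) (z : Multiplicative Z), z ∉ Set.range (AddMonoidHom.toMultiplicative g) →
        (τ.hom b).coeff z = 0 := by
  rw [← exists_comp_maMap_iff A g hg τ]
  constructor
  · rintro ⟨χ, h1, h2⟩
    obtain ⟨ψ, hψ1, hψ2⟩ := exists_gHom str X χ (maConst A N) h1
    exact ⟨ψ, gHom_ext str X (by rw [reassoc_of% hψ1, hτ, maConst_naturality])
      (by rw [Spec.map_comp, Category.assoc, hψ2, h2])⟩
  · rintro ⟨ψ, rfl⟩
    have h : gGam str X ≫ ψ = maConst A N := by
      refine CommRingCat.hom_ext (RingHom.ext fun r => maMap_injective g hg ?_)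
      have h3 : (gGam str X ≫ ψ) ≫ maMap A g = maConst A N ≫ maMap A g := by
        rw [Category.assoc, hτ, maConst_naturality]
      exact DFunLike.congr_fun (congrArg CommRingCat.Hom.hom h3) r
    refine ⟨Spec.map ψ ≫ (gX0 str X).left, ?_, by rw [Spec.map_comp, Category.assoc]⟩
    rw [Category.assoc, Over.w (gX0 str X)]
    show Spec.map ψ ≫ Spec.map (gGam str X) ≫ str = _
    rw [← Spec.map_comp_assoc, h]

theorem gGam_orbit (σ : gB str X ⟶ A) (hσ : gGam str X ≫ σ = 𝟙 A) :
    gGam str X ≫ gDelta str a ≫ maBase σ M = maConst A M := by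
  rw [reassoc_of% (gGam_gDelta str a), maConst_maBase, reassoc_of% hσ]

/-- the criterion: the coefficients outside `N` vanish at `x` -/
theorem good_iff_coeff (N : AddSubmonoid M) (x : Over.mk str ⟶ X) (σ : gB str X ⟶ A)
    (hσ : gGam str X ≫ σ = 𝟙 A) (hx : Spec.map σ ≫ (gX0 str X).left = x.left) :
    Good N a x ↔ ∀ (b : gB str X) (m : Multiplicative M), m.toAdd ∉ N → σ.hom (((gDelta str a).hom b).coeff m) = 0 := by
  rw [good_affine_iff N a (A := A) str x]
  rw [show (specMA (A := A) str M).hom ≫ ((AMonS S M ◁ x) ≫ a.act).left =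
      Spec.map (gDelta str a ≫ maBase σ M) ≫ (gX0 str X).left from orbit_eq str a str σ x hx.symm,
    factor_iff str N.subtype Subtype.val_injective _ (gGam_orbit str a σ hσ)]
  refine forall_congr' fun b => forall_congr' fun m => ?_
  have hr : m ∈ Set.range (AddMonoidHom.toMultiplicative N.subtype) ↔ m.toAdd ∈ N :=
    ⟨fun ⟨y, hy⟩ => hy ▸ y.toAdd.2, fun h => ⟨Multiplicative.ofAdd ⟨m.toAdd, h⟩, rfl⟩⟩
  rw [hr]
  exact imp_congr_right fun _ => iff_of_eq (congrArg (· = 0) (MonoidAlgebra.coeff_mapRingHom σ.hom _ m))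

theorem good_of_good_restrict {Z : Type} [AddCommMonoid Z] (f : M →+ Z) (Y : AddSubmonoid Z)
    (x : Over.mk str ⟶ X) (h : Good Y (a.restrict (AMonS.map S f)) x) : Good (Y.comap f) a x := by
  obtain ⟨σ, hσ, hx⟩ := exists_sigma str x
  obtain ⟨χ, hχ1, hχ2⟩ := (good_affine_iff Y (a.restrict (AMonS.map S f)) (A := A) str x).1 h
  have e : (specMA (A := A) str Z).hom ≫ ((AMonS S Z ◁ x) ≫ (a.restrict (AMonS.map S f)).act).left =
      Spec.map (gDelta str a ≫ maBase σ M ≫ maMap A f) ≫ (gX0 str X).left := by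
    rw [MonAct.restrict_act, whisker_exchange_assoc, Over.comp_left]
    refine ((Category.assoc _ _ _).symm.trans ((congrArg (· ≫ ((AMonS S M ◁ x) ≫ a.act).left)
      (specMA_whiskerRight (A := A) str f)).trans (Category.assoc _ _ _))).trans ?_
    rw [orbit_eq str a str σ x hx.symm, ← Spec.map_comp_assoc, Category.assoc]
  rw [e] at hχ2
  have hc := (factor_iff str Y.subtype Subtype.val_injective _
    (by rw [← Category.assoc (gDelta str a), ← Category.assoc (gGam str X), gGam_orbit str a σ hσ, maConst_naturality])).1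
    ⟨χ, hχ1, hχ2⟩
  refine (good_iff_coeff str a (Y.comap f) x σ hσ hx).2 fun b m hm => ?_
  have h1 := hc (((gDelta str a).hom b).coeff m) (AddMonoidHom.toMultiplicative f m) fun ⟨y, hy⟩ => hm (by
    show f m.toAdd ∈ Y
    rw [show f m.toAdd = (y.toAdd : Z) from (congrArg Multiplicative.toAdd hy).symm]
    exact y.toAdd.2)
  change ((maMap A f).hom ((maBase σ M).hom ((gDelta str a).hom _))).coeff _ = 0 at h1
  rw [gDelta_coeff] at h1
  simp only [maMap, maBase] at h1
  change (MonoidAlgebra.mapDomain (AddMonoidHom.toMultiplicative f)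
    (MonoidAlgebra.mapRingHom (Multiplicative M) σ.hom (MonoidAlgebra.single m _))).coeff _ = 0 at h1
  rw [MonoidAlgebra.mapRingHom_single, MonoidAlgebra.mapDomain_single, MonoidAlgebra.coeff_single,
    Finsupp.single_eq_same] at h1
  exact h1

theorem attrComap_bijective_affine {Z : Type} [AddCommMonoid Z] (f : M →+ Z) (Y : AddSubmonoid Z)
    (T : (Over S)ᵒᵖ) : Function.Bijective ((attrComap a f Y).app T) := by
  obtain ⟨T⟩ := T
  have hcomm : ∀ φ, (attrToX (a.restrict (AMonS.map S f)) Y).app (op T) ((attrComap a f Y).app (op T) φ) =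
      (attrToX a (Y.comap f)).app (op T) φ := fun φ => by
    show lift (toUnit T ≫ η[AMonS S Y]) (𝟙 T) ≫ ((attrComap a f Y).app (op T) φ).1 =
      lift (toUnit T ≫ η[AMonS S (Y.comap f)]) (𝟙 T) ≫ φ.1
    rw [attrComap_app_coe]
    simp only [lift_whiskerRight_assoc, Category.assoc, IsMonHom.one_hom]
  refine ⟨fun φ φ' h => attrToX_injective (Y.comap f) a (by rw [← hcomm, ← hcomm, h]), fun ψ => ?_⟩
  let x : T ⟶ X := (attrToX (a.restrict (AMonS.map S f)) Y).app (op T) ψ
  have hx : Good Y (a.restrict (AMonS.map S f)) x := (good_iff Y _ x).2 ⟨ψ, rfl⟩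
  have hg : Good (Y.comap f) a x := good_local (Y.comap f) a x T.left.affineCover fun j =>
    good_of_good_restrict (A := _) (T.left.affineCover.f j ≫ T.hom) a f Y _ (hx.comp Y _ _)
  obtain ⟨φ, hφ⟩ := (good_iff (Y.comap f) a x).1 hg
  exact ⟨φ, attrToX_injective Y _ ((hcomm φ).trans hφ)⟩

end Groth.MiscGeom.Mag

end
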