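import Groth.Agent.MiscGeom.MagnetClosed
import Mathlib.AlgebraicGeometry.Morphisms.SchemeTheoreticallyDominant

/-!
# Extending along scheme-theoretically dominant open immersions of monoids over a field
-/

universe u v₁ u₁

open CategoryTheory CategoryTheory.Limits MonoidalCategory CartesianMonoidalCategory MonObj AlgebraicGeometry Opposite
open Magnet

noncomputable section

namespace Groth.MiscGeom.Mag

/-- lift through a closed immersion along a scheme-theoretically dominant map -/
theorem exists_lift_of_dominant {P' P Z Y : Scheme.{u}} (f : Z ⟶ Y) [IsClosedImmersion f] (g : P' ⟶ P)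
    [IsSchemeTheoreticallyDominant g] (φ : P ⟶ Y) (ψ : P' ⟶ Z) (w : g ≫ φ = ψ ≫ f) : ∃ χ, χ ≫ f = φ := by
  have h1 : (g ≫ φ).ker = φ.ker := by
    rw [Scheme.Hom.ker_comp, g.ker_eq_bot, Scheme.IdealSheafData.map_bot]
  have h2 : f.ker ≤ φ.ker := by
    rw [← h1, w]
    exact Scheme.Hom.le_ker_comp ψ f
  exact ⟨IsClosedImmersion.lift f φ h2, IsClosedImmersion.lift_fac f φ h2⟩

variable {k : Type u} [Field k]

local notation "Sk" => Spec (CommRingCat.of k)

theorem isPullback_whiskerRight {S : Scheme.{u}} {G M : Over S} (i : G ⟶ M) (T : Over S) :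
    IsPullback (fst G T).left (i ▷ T).left i.left (fst M T).left := by
  have h2 : (i ▷ T).left ≫ pullback.snd M.hom T.hom = pullback.snd G.hom T.hom :=
    congrArg CommaMorphism.left (whiskerRight_snd i T)
  refine (IsPullback.of_right (h₁₂ := pullback.snd M.hom T.hom) (v₁₃ := T.hom) (h₂₂ := M.hom) ?_
    (congrArg CommaMorphism.left (whiskerRight_fst i T))
    (IsPullback.of_hasPullback M.hom T.hom).flip).flip
  rw [h2, Over.w i]
  exact (IsPullback.of_hasPullback G.hom T.hom).flip

theorem dominant_whiskerRight {G M : Over Sk} (i : G ⟶ M) [QuasiCompact i.left]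
    [IsSchemeTheoreticallyDominant i.left] (T : Over Sk) : IsSchemeTheoreticallyDominant (i ▷ T).left := by
  haveI : Flat T.hom := inferInstance
  haveI : Flat (fst M T).left := inferInstanceAs (Flat (pullback.fst M.hom T.hom))
  exact IsSchemeTheoreticallyDominant.of_isPullback (isPullback_whiskerRight i T)

theorem exists_lift_whiskerRight {G M Z Y T : Over Sk} (i : G ⟶ M) [QuasiCompact i.left]
    [IsSchemeTheoreticallyDominant i.left] (f : Z ⟶ Y) [IsClosedImmersion f.left] (φ : M ⊗ T ⟶ Y)
    (ψ : G ⊗ T ⟶ Z) (w : (i ▷ T) ≫ φ = ψ ≫ f) : ∃ χ, χ ≫ f = φ := by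
  haveI := dominant_whiskerRight i T
  obtain ⟨χ, hχ⟩ := exists_lift_of_dominant f.left (i ▷ T).left φ.left ψ.left
    (congrArg CommaMorphism.left w)
  exact ⟨Over.homMk χ (by rw [← Over.w f, reassoc_of% hχ, Over.w φ]), Over.OverMorphism.ext hχ⟩

theorem exists_action_extension {G M X Z : Over Sk} [MonObj M] [MonObj G] (i : G ⟶ M) [IsMonHom i]
    [QuasiCompact i.left] [IsSchemeTheoreticallyDominant i.left] (a : MonAct M X) (b : MonAct G Z) (j : Z ⟶ X)
    [IsClosedImmersion j.left] (hj : MonAct.IsEquivariant b (a.restrict i) j) :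
    ∃ c : MonAct M Z, MonAct.IsEquivariant c a j ∧ c.restrict i = b := by
  unfold MonAct.IsEquivariant at hj
  rw [MonAct.restrict_act] at hj
  obtain ⟨χ, hχ⟩ := exists_lift_whiskerRight i j ((M ◁ j) ≫ a.act) b.act (by
    rw [hj, whisker_exchange_assoc])
  haveI := mono_of_closedImmersion j
  refine ⟨MonAct.mk' χ (fun T x => ?_) (fun T g h x => ?_), ?_, MonAct.ext' ?_⟩
  · rw [← cancel_mono j, Category.assoc, hχ, lift_whiskerLeft_assoc, a.lift_one_act]
  · rw [← cancel_mono j, Category.assoc, Category.assoc, hχ, lift_whiskerLeft_assoc, lift_whiskerLeft_assoc,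
      a.lift_mul_act]
    congr 2
    rw [Category.assoc, hχ, lift_whiskerLeft_assoc]
  · exact hχ
  · rw [← cancel_mono j, MonAct.restrict_act, MonAct.mk'_act, Category.assoc, hχ, hj, whisker_exchange_assoc]

theorem isPullback_dense {G M X Z : Over Sk} [MonObj M] [MonObj G] (i : G ⟶ M) [IsMonHom i]
    [QuasiCompact i.left] [IsSchemeTheoreticallyDominant i.left] (aX : MonAct G X) (aZ : MonAct G Z) (j : Z ⟶ X)
    [IsClosedImmersion j.left] (hj : MonAct.IsEquivariant aZ aX j) :
    IsPullback (MonAct.eqvHom.postcomp ((MonAct.regular M).restrict i) j hj)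
      (MonAct.eqvHom.evalAt ((MonAct.regular M).restrict i) aZ η[M])
      (MonAct.eqvHom.evalAt ((MonAct.regular M).restrict i) aX η[M]) (yoneda.map j) := by
  haveI := mono_of_closedImmersion j
  refine isPullback_evalAt η[M] j hj fun T φ z hz => ?_
  refine exists_lift_whiskerRight i j φ.1 ((G ◁ z) ≫ aZ.act) ?_
  refine (key_evalAt i aX φ).trans ?_
  rw [hz, whiskerLeft_comp_assoc, Category.assoc]
  unfold MonAct.IsEquivariant at hj
  rw [hj]

end Groth.MiscGeom.Mag

end
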