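import Groth.Prelude.Def_Magnet
import Mathlib.CategoryTheory.Sites.Canonical

/-!
# The functor of equivariant maps and the fixed-point functor are sheaves on subcanonical sites
-/

universe v₁ u₁

open CategoryTheory MonoidalCategory CartesianMonoidalCategory MonObj Opposite
open Magnet Magnet.MonAct

noncomputable section

namespace Groth.MiscGeom.Mag

variable {C : Type u₁} [Category.{v₁} C] [CartesianMonoidalCategory C]
  {J : GrothendieckTopology C} [J.Subcanonical]

theorem isSheaf_yoneda' (X : C) : Presieve.IsSheaf J (yoneda.obj X) :=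
  GrothendieckTopology.Subcanonical.isSheaf_of_isRepresentable _

/-- two morphisms agreeing on a covering sieve agree -/
theorem hom_ext_cover {X W : C} (R : Sieve W) (hR : R ∈ J W) {f g : W ⟶ X}
    (h : ∀ ⦃V : C⦄ (k : V ⟶ W), R k → k ≫ f = k ≫ g) : f = g :=
  ((isSheaf_yoneda' (J := J) X R hR).isSeparatedFor).ext h

theorem isSheaf_eqvHom {A B X : C} [MonObj A] (ρ : MonAct A B) (a : MonAct A X) :
    Presheaf.IsSheaf J (eqvHom ρ a) := by
  rw [isSheaf_iff_isSheaf_of_type]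
  intro T R hR x hx
  have hxc : ∀ {V W : C} (g : W ⟶ V) (t : V ⟶ T) (ht : R t),
      (x (g ≫ t) (R.downward_closed ht g)).1 = (B ◁ g) ≫ (x t ht).1 := fun {V W} g t ht => by
    have h := hx g (𝟙 W) ht (R.downward_closed ht g) (by rw [Category.id_comp])
    have h' : ((B ◁ g) ≫ (x t ht).1) = (B ◁ 𝟙 W) ≫ (x (g ≫ t) (R.downward_closed ht g)).1 :=
      congrArg Subtype.val h
    rw [whiskerLeft_id, Category.id_comp] at h'
    exact h'.symm
  let R' := R.pullback (snd B T)
  have hR' : R' ∈ J (B ⊗ T) := J.pullback_stable _ hR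
  let y : Presieve.FamilyOfElements (yoneda.obj X) R'.arrows := fun W h hh =>
    lift (h ≫ fst B T) (𝟙 W) ≫ (x (h ≫ snd B T) hh).1
  have hy : y.Compatible := by
    rw [Presieve.compatible_iff_sieveCompatible]
    intro V W h g hh
    show lift ((g ≫ h) ≫ fst B T) (𝟙 W) ≫ (x ((g ≫ h) ≫ snd B T) _).1 =
      g ≫ lift (h ≫ fst B T) (𝟙 V) ≫ (x (h ≫ snd B T) hh).1
    have e : ∀ (p : W ⟶ T) (hp : R p), p = g ≫ h ≫ snd B T →
        (x p hp).1 = (B ◁ g) ≫ (x (h ≫ snd B T) hh).1 := by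
      rintro p hp rfl
      exact hxc g _ hh
    rw [e _ _ (Category.assoc _ _ _), lift_whiskerLeft_assoc, comp_lift_assoc, Category.id_comp, Category.comp_id,
      Category.assoc]
  obtain ⟨φ, hφ, -⟩ := isSheaf_yoneda' (J := J) X R' hR' y hy
  have hpt : ∀ {W : C} (b : W ⟶ B) (t : W ⟶ T) (ht : R t), lift b t ≫ φ = lift b (𝟙 W) ≫ (x t ht).1 := by
    intro W b t ht
    have hm : R' (lift b t) := by
      show R (lift b t ≫ snd B T)
      rwa [lift_snd]
    refine (hφ (lift b t) hm).trans ?_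
    show lift (lift b t ≫ fst B T) (𝟙 W) ≫ (x (lift b t ≫ snd B T) hm).1 = _
    congr 1
    · rw [lift_fst]
    · congr 2
      · exact lift_snd _ _
  have heq : IsEquivariant (ρ.prod (MonAct.trivial A T)) a φ := by
    refine hom_ext_cover (R.pullback (snd A (B ⊗ T) ≫ snd B T)) (J.pullback_stable _ hR) fun W k hk => ?_
    have hk' : R ((k ≫ snd A (B ⊗ T)) ≫ snd B T) := by
      rw [Category.assoc]; exact hk
    rw [← lift_comp_fst_snd k, ← lift_comp_fst_snd (k ≫ snd A (B ⊗ T)), lift_prod_act_assoc, lift_trivial_act,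
      lift_whiskerLeft_assoc]
    generalize k ≫ fst A (B ⊗ T) = g
    generalize (k ≫ snd A (B ⊗ T)) ≫ fst B T = b
    revert hk'
    generalize (k ≫ snd A (B ⊗ T)) ≫ snd B T = t
    intro ht
    rw [hpt _ t ht, hpt b t ht]
    have h := (x t ht).2
    rw [mem_eqvHom_iff] at h
    exact h W g b (𝟙 W)
  refine ⟨⟨φ, heq⟩, fun W t ht => Subtype.ext ?_, fun ψ hψ => Subtype.ext ?_⟩
  · show (B ◁ t) ≫ φ = (x t ht).1
    have h1 : B ◁ t = lift (fst B W) (snd B W ≫ t) := by
      apply CartesianMonoidalCategory.hom_ext <;> simp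
    rw [h1, hpt _ _ (R.downward_closed ht (snd B W)), hxc (snd B W) t ht, lift_whiskerLeft_assoc, Category.id_comp,
      lift_fst_snd, Category.id_comp]
  · refine hom_ext_cover R' hR' fun W k hk => ?_
    refine Eq.trans ?_ (hφ k hk).symm
    show k ≫ ψ.1 = lift (k ≫ fst B T) (𝟙 W) ≫ (x (k ≫ snd B T) hk).1
    have h' : (B ◁ (k ≫ snd B T)) ≫ ψ.1 = (x (k ≫ snd B T) hk).1 := congrArg Subtype.val (hψ _ hk)
    rw [← h', lift_whiskerLeft_assoc, Category.id_comp, lift_comp_fst_snd]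

theorem isSheaf_fixedPsh {A X : C} [MonObj A] (a : MonAct A X) : Presheaf.IsSheaf J (fixedPsh a) := by
  rw [isSheaf_iff_isSheaf_of_type]
  intro T R hR x hx
  let y : Presieve.FamilyOfElements (yoneda.obj X) R.arrows := fun W h hh => (x h hh).1
  have hy : y.Compatible := fun Y₁ Y₂ Z g₁ g₂ f₁ f₂ h₁ h₂ w => congrArg Subtype.val (hx g₁ g₂ h₁ h₂ w)
  obtain ⟨φ, hφ, huniq⟩ := isSheaf_yoneda' (J := J) X R hR y hy
  refine ⟨⟨φ, fun T' t g => ?_⟩, fun W h hh => Subtype.ext (hφ h hh), fun ψ hψ => Subtype.ext ?_⟩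
  · refine hom_ext_cover (R.pullback t) (J.pullback_stable _ hR) fun W k hk => ?_
    have e : (k ≫ t) ≫ φ = (x (k ≫ t) hk).1 := hφ _ hk
    rw [comp_lift_assoc, ← Category.assoc k t φ, e]
    have h := (x (k ≫ t) hk).2 W (𝟙 W) (k ≫ g)
    rwa [Category.id_comp] at h
  · exact huniq ψ.1 fun W h hh => congrArg Subtype.val (hψ h hh)

end Groth.MiscGeom.Mag

end
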