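import Groth.Agent.MiscGeom.TopDual
import Groth.Agent.DepthRefl.Basic

/-!
# Ordinary dualizing complexes
-/

universe u

open CategoryTheory IsLocalRing Groth.DualCore

attribute [local instance] HasDerivedCategory.standard

noncomputable section

namespace Groth.MiscGeom.QGor

variable {A : Type u} [CommRing A]

/-- homology of a shift -/
def hdShiftEquiv (X : Dual.D A) (n i j : ℤ) (h : n + j = i) : Dual.HD A (X⟦n⟧) j ≃ₗ[A] Dual.HD A X i :=
  (homAEquiv (X⟦n⟧) j).symm.trans ((homShiftEquiv (Dual.inD A A) X n i j h).trans (homAEquiv X i))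

variable [IsNoetherianRing A] {ω : Dual.D A} (hω : Dual.IsDualizing A ω)

theorem degree_shift (c : ℤ) (p : PrimeSpectrum A) :
    degree (isDualizing_shift hω c) p = degree hω p - c := by
  refine ((degree_iff (isDualizing_shift hω c) p (degree hω p - c)).1 ?_).symm
  show p ∈ Module.support A (Dual.inD A (A ⧸ p.asIdeal) ⟶ ω⟦c⟧⟦degree hω p - c⟧)
  rw [LinearEquiv.support_eq (homShiftEquiv (Dual.inD A (A ⧸ p.asIdeal)) ω c (degree hω p) (degree hω p - c) (by ring))]
  exact (degree_iff hω p _).2 rfl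

variable [IsLocalRing A]

include hω

theorem isNormalized_shift_degree_closedPoint :
    Dual.IsNormalized A (ω⟦degree hω (IsLocalRing.closedPoint A)⟧) := by
  obtain ⟨N, hN, hnt, -⟩ := exists_normalized hω
  suffices h : degree hω (IsLocalRing.closedPoint A) = N by rwa [h]
  refine ((degree_iff hω (IsLocalRing.closedPoint A) N).1 ?_).symm
  show IsLocalRing.closedPoint A ∈ Module.support A (Dual.inD A (A ⧸ maximalIdeal A) ⟶ ω⟦N⟧)
  haveI : Nontrivial (Dual.inD A (A ⧸ maximalIdeal A) ⟶ ω⟦N⟧) := hnt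
  obtain ⟨q, hq⟩ := (Module.nonempty_support_iff (R := A)).2 this
  exact Module.mem_support_mono (IsLocalRing.le_maximalIdeal q.2.ne_top) hq

theorem max_degree_zero (hn : Dual.IsNormalized A ω) (m : PrimeSpectrum A) (hm : m.asIdeal.IsMaximal) :
    degree hω m = 0 := by
  refine isMax_degree_zero hω m fun i hi => ?_
  rw [IsLocalRing.eq_maximalIdeal hm]
  exact hn i hi

/-- a dualizing complex which is a module in degree `0` off a nowhere dense closed set is ordinary -/
theorem ordinary_of_off (n : ℕ) (hd : ringKrullDim A = n) (J : Ideal A) (hJ : 1 ≤ J.height)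
    (hoff : ∀ p : PrimeSpectrum A, ¬ J ≤ p.asIdeal → ∀ i : ℤ, i ≠ 0 → p ∉ Module.support A (Dual.HD A ω i)) :
    EGA4.IsEquidim A ∧ Dual.IsNormalized A (ω⟦(n : ℤ)⟧) := by
  have h0 : ∀ P : PrimeSpectrum A, P.asIdeal ∈ minimalPrimes A → degree hω P = 0 := fun P hP => by
    have hJP : ¬ J ≤ P.asIdeal := fun hle => by
      have h := hJ.trans (Ideal.height_mono hle)
      rw [Ideal.height_eq_zero_iff.2 hP] at h
      exact absurd h (by simp)
    by_contra hne
    exact hoff P hJP _ hne ((localized_HD_minimal hω P hP _).2 rfl)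
  let m := IsLocalRing.closedPoint A
  let c := degree hω m
  have hn : Dual.IsNormalized A (ω⟦c⟧) := isNormalized_shift_degree_closedPoint hω
  have hω' := isDualizing_shift hω c
  have hco : ∀ P : PrimeSpectrum A, P.asIdeal ∈ minimalPrimes A →
      ∃ e : ℕ, Order.coheight P = e ∧ (e : ℤ) = c := fun P hP => by
    obtain ⟨e, he⟩ := exists_coheight_eq hω P
    refine ⟨e, he, ?_⟩
    have h1 := degree_eq_neg_coheight hω' (max_degree_zero hω' hn) e P he
    rw [degree_shift hω c, h0 P hP] at h1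
    omega
  -- a minimal prime of maximal dimension
  obtain ⟨l, hl⟩ := Order.le_krullDim_iff.1 hd.ge
  obtain ⟨P₀, hP₀, hle⟩ := Ideal.exists_minimalPrimes_le (bot_le : (⊥ : Ideal A) ≤ l.head.asIdeal)
  obtain ⟨e₀, he₀, hec₀⟩ := hco ⟨P₀, hP₀.isPrime⟩ hP₀
  have hn0 : (n : ℕ∞) ≤ Order.coheight (⟨P₀, hP₀.isPrime⟩ : PrimeSpectrum A) := by
    rw [← hl]
    exact (Order.length_le_coheight le_rfl).trans (Order.coheight_anti hle)
  have hle0 : Order.coheight (⟨P₀, hP₀.isPrime⟩ : PrimeSpectrum A) ≤ (n : ℕ∞) :=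
    WithBot.coe_le_coe.1 ((Order.coheight_le_krullDim _).trans hd.le)
  rw [he₀] at hn0 hle0
  have hnc : (n : ℤ) = c := by
    have := Nat.cast_le.1 hn0
    have := Nat.cast_le.1 hle0
    omega
  refine ⟨fun P hP => ?_, by rw [hnc]; exact hn⟩
  obtain ⟨e, he, hec⟩ := hco ⟨P, hP.isPrime⟩ hP
  rw [hd, ringKrullDim_quotient_eq_coheight ⟨P, hP.isPrime⟩, he]
  have : e = n := by omega
  rw [this]
  rfl

/-- depth of the dualizing module at a prime -/
theorem min_two_le_depth_localized (hn : Dual.IsNormalized A ω) (n : ℕ) (hd : ringKrullDim A = n)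
    (hEq : EGA4.IsEquidim A) (p : PrimeSpectrum A) :
    min (2 : ℕ∞) p.asIdeal.height ≤
      LocCoh.depth (Localization.AtPrime p.asIdeal) (LocalizedModule p.asIdeal.primeCompl (Dual.HD A ω (-(n : ℤ)))) := by
  let B := Localization.AtPrime p.asIdeal
  haveI : IsNoetherianRing B := IsLocalization.isNoetherianRing p.asIdeal.primeCompl _ inferInstance
  have hmin : ∀ P ∈ (Module.annihilator A A).minimalPrimes, ringKrullDim (A ⧸ P) = (n : WithBot ℕ∞) := fun P hP => by
    rw [Module.annihilator_eq_bot.2 inferInstance] at hP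
    exact (hEq P hP).trans hd
  have hmax := max_degree_zero hω hn
  have hp : p ∈ Module.support A A := by
    rw [Module.mem_support_iff_of_finite, Module.annihilator_eq_bot.2 inferInstance]
    exact bot_le
  obtain ⟨d, e, hdim, -, -, -, -, hrange⟩ := exists_degree_range hω A p hp
  obtain ⟨c, hc⟩ := exists_coheight_eq hω p
  have h1 := (hrange _ (mem_support_top_degree hω A hmax n hmin p hp)).1
  have h2 := supportDim_localized_add_le hω A n hmin p c hc d hdim
  have hdeg := degree_eq_neg_coheight hω hmax c p hc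
  rw [hdeg] at h1
  let eB : LocalizedModule p.asIdeal.primeCompl A ≃ₗ[B] B :=
    LinearEquiv.extendScalarsOfIsLocalization p.asIdeal.primeCompl B
      (IsLocalizedModule.iso p.asIdeal.primeCompl (Algebra.linearMap A B))
  rw [Module.supportDim_eq_of_equiv eB, Module.supportDim_self_eq_ringKrullDim] at hdim
  have hht : p.asIdeal.height = (d : ℕ∞) := by
    rw [IsLocalization.AtPrime.ringKrullDim_eq_height p.asIdeal B] at hdim
    exact WithBot.coe_inj.1 (hdim.trans rfl)
  have hω' : Dual.IsDualizing B (((extD A B).obj ω)⟦degree hω p⟧) :=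
    isDualizing_shift (isDualizing_atPrime p.asIdeal hω) _
  have h3 := min_two_le_depth_top hω' (isNormalized_degree hω p) d hdim
  rw [hht]
  refine le_of_le_of_eq h3 (Groth.DualCore.depth_congr ?_)
  exact (hdShiftEquiv _ (degree hω p) (-(n : ℤ)) (-(d : ℤ)) (by omega)).trans
    ((HDExtEquiv (B := B) ω (-(n : ℤ))).symm.trans (tensorEquivLocalized p.asIdeal _))

/-- `(S₂)` for the dualizing module -/
theorem hasSk_two_dualizingModule (n : ℕ) (hd : ringKrullDim A = n) (hEq : EGA4.IsEquidim A)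
    (hn : Dual.IsNormalized A (ω⟦(n : ℤ)⟧)) : LocCoh.HasSk 2 A (Dual.HD A ω 0) := by
  intro p _
  let e := hdShiftEquiv ω (n : ℤ) 0 (-(n : ℤ)) (by ring)
  let B := Localization.AtPrime p
  have h := min_two_le_depth_localized (isDualizing_shift hω _) hn n hd hEq ⟨p, inferInstance⟩
  haveI : IsNoetherianRing B := IsLocalization.isNoetherianRing p.primeCompl _ inferInstance
  rw [Groth.DualCore.depth_congr
    ((tensorEquivLocalized p _).symm.trans ((TensorProduct.AlgebraTensorModule.congr (LinearEquiv.refl B B) e).trans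
      (tensorEquivLocalized p _)))] at h
  refine le_trans (min_le_min le_rfl (Module.supportDim_le_ringKrullDim B _)) ?_
  rw [IsLocalization.AtPrime.ringKrullDim_eq_height p B]
  calc min ((2 : ℕ) : WithBot ℕ∞) (p.height : WithBot ℕ∞) = ((min (2 : ℕ∞) p.height : ℕ∞) : WithBot ℕ∞) := by
        rw [WithBot.coe_min]; rfl
    _ ≤ _ := WithBot.coe_le_coe.2 h

/-- depth along a closed set of codimension two -/
theorem two_le_idealDepth_dualizingModule (n : ℕ) (hd : ringKrullDim A = n) (hEq : EGA4.IsEquidim A)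
    (hn : Dual.IsNormalized A (ω⟦(n : ℤ)⟧)) (J : Ideal A) (hJ : 2 ≤ J.height) :
    2 ≤ LocCoh.idealDepth J (Dual.HD A ω 0) := by
  haveI : Module.Finite A (Dual.HD A (ω⟦(n : ℤ)⟧) (-(n : ℤ))) := (isDualizing_shift hω _).finite_cohomology _
  rw [← Groth.LocCohBase.idealDepth_congr (hdShiftEquiv ω (n : ℤ) 0 (-(n : ℤ)) (by ring))]
  refine Groth.LocCohBase.le_idealDepth_of_forall_depth J 2 _ fun p _ hle => ?_
  refine le_trans ?_ (min_two_le_depth_localized (isDualizing_shift hω _) hn n hd hEq ⟨p, inferInstance⟩)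
  exact le_min le_rfl (hJ.trans (Ideal.height_mono hle))

end Groth.MiscGeom.QGor

end
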