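import Groth.Agent.MiscGeom.RelSkLocal
import Groth.Agent.Ega4Algebra2.SkFlat

/-!
# Flatness of the cokernel from the relative `(S₂)` condition after base change
-/

universe u

open TensorProduct IsLocalRing

noncomputable section

namespace Groth.MiscGeom.QGor

variable {R C : Type u} [CommRing R] [CommRing C] [Algebra R C]

/-- a fibre local ring at a generization in the same fibre is a localisation of the fibre local ring -/
theorem exists_localization_fibLocRing (n r : Ideal C) [n.IsPrime] [r.IsPrime] (hrn : r ≤ n)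
    (hp : r.comap (algebraMap R C) = n.comap (algebraMap R C)) :
    ∃ (R0 : Ideal (EGA4.FibLocRing R C n)) (_ : R0.IsPrime),
      Nonempty (Localization.AtPrime R0 ≃+* EGA4.FibLocRing R C r) := by
  let Cn := Localization.AtPrime n
  let Cr := Localization.AtPrime r
  let Tn := EGA4.FibLocRing R C n
  let Fr := EGA4.FibLocRing R C r
  let I : Ideal Cn := (n.comap (algebraMap R C)).map (algebraMap R Cn)
  let π : Cn →+* Tn := Ideal.Quotient.mk I
  let ρ : Cr →+* Fr := Ideal.Quotient.mk _
  have hdisj : Disjoint (n.primeCompl : Set C) r := Set.disjoint_left.2 fun a ha h => ha (hrn h)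
  let rn : Ideal Cn := r.map (algebraMap C Cn)
  haveI : rn.IsPrime := IsLocalization.isPrime_of_isPrime_disjoint n.primeCompl Cn r inferInstance hdisj
  have hIr : I ≤ rn := by
    show (n.comap (algebraMap R C)).map (algebraMap R Cn) ≤ r.map (algebraMap C Cn)
    rw [IsScalarTower.algebraMap_eq R C Cn, ← Ideal.map_map, ← hp]
    exact Ideal.map_mono Ideal.map_comap_le
  let R0 : Ideal Tn := rn.map π
  haveI : R0.IsPrime := Ideal.map_isPrime_of_surjective Ideal.Quotient.mk_surjective (by rwa [Ideal.mk_ker])
  have hmem : ∀ a : C, π (algebraMap C Cn a) ∈ R0 ↔ a ∈ r := fun a => by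
    have h1 : R0.comap π = rn := by
      rw [Ideal.comap_map_of_surjective π Ideal.Quotient.mk_surjective, ← RingHom.ker_eq_comap_bot, Ideal.mk_ker,
        sup_eq_left.2 hIr]
    rw [← Ideal.mem_comap, h1]
    exact ⟨fun h => (IsLocalization.under_map_of_isPrime_disjoint n.primeCompl Cn (by infer_instance) hdisj).le h,
      fun h => Ideal.mem_map_of_mem _ h⟩
  let g : Cn →+* Cr := IsLocalization.lift (M := n.primeCompl) (g := algebraMap C Cr) fun y =>
    IsLocalization.map_units Cr (⟨y, fun h => y.2 (hrn h)⟩ : r.primeCompl)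
  have hg : ∀ a, g (algebraMap C Cn a) = algebraMap C Cr a := fun a => IsLocalization.lift_eq _ _
  let β : Tn →+* Fr := Ideal.Quotient.lift I (ρ.comp g) (by
    intro a ha
    refine RingHom.mem_ker.1 ((Ideal.map_le_iff_le_comap.2 ?_ : I ≤ RingHom.ker (ρ.comp g)) ha)
    intro x hx
    show ρ (g (algebraMap R Cn x)) = 0
    rw [IsScalarTower.algebraMap_apply R C Cn, hg, ← IsScalarTower.algebraMap_apply R C Cr]
    exact Ideal.Quotient.eq_zero_iff_mem.2 (Ideal.mem_map_of_mem _ (hp.symm ▸ hx)))
  have hβ : ∀ a, β (π (algebraMap C Cn a)) = ρ (algebraMap C Cr a) := fun a => congrArg ρ (hg a)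
  letI : Algebra Tn Fr := β.toAlgebra
  haveI : IsLocalization.AtPrime Fr R0 := by
    have hu : ∀ x : Tn, x ∉ R0 → IsUnit (β x) := by
      intro x hx
      obtain ⟨x, rfl⟩ := Ideal.Quotient.mk_surjective x
      obtain ⟨a, s, rfl⟩ := IsLocalization.exists_mk'_eq n.primeCompl x
      have ha : a ∉ r := fun h => hx (by
        refine Ideal.mem_map_of_mem _ ((IsLocalization.mk'_mem_iff).2 ?_)
        exact Ideal.mem_map_of_mem _ h)
      show IsUnit (ρ (g (IsLocalization.mk' Cn a s)))
      rw [IsLocalization.lift_mk']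
      exact ((IsLocalization.map_units Cr (⟨a, ha⟩ : r.primeCompl)).mul (Units.isUnit _)).map ρ
    refine (isLocalization_iff R0.primeCompl Fr).2 ⟨fun x => hu x x.2, fun z => ?_, fun {x y} hxy => ?_⟩
    · obtain ⟨z, rfl⟩ := Ideal.Quotient.mk_surjective z
      obtain ⟨a, s, rfl⟩ := IsLocalization.exists_mk'_eq r.primeCompl z
      refine ⟨⟨π (algebraMap C Cn a), ⟨π (algebraMap C Cn s), fun h => s.2 ((hmem s).1 h)⟩⟩, ?_⟩
      show ρ _ * β (π (algebraMap C Cn s)) = β (π (algebraMap C Cn a))
      rw [hβ, hβ, ← map_mul, IsLocalization.mk'_spec]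
    · obtain ⟨x, rfl⟩ := Ideal.Quotient.mk_surjective x
      obtain ⟨y, rfl⟩ := Ideal.Quotient.mk_surjective y
      obtain ⟨a, s, has⟩ := IsLocalization.exists_mk'_eq n.primeCompl (x - y)
      have h0 : β (π (algebraMap C Cn a)) = 0 := by
        rw [show algebraMap C Cn a = (x - y) * algebraMap C Cn s by rw [← has, IsLocalization.mk'_spec], map_mul,
          map_mul, map_sub, map_sub]
        change (algebraMap Tn Fr) (π x) = (algebraMap Tn Fr) (π y) at hxy
        rw [show β (π x) = β (π y) from hxy, sub_self, zero_mul]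
      rw [hβ] at h0
      have h1 : algebraMap C Cr a ∈ ((r.comap (algebraMap R C)).map (algebraMap R C)).map (algebraMap C Cr) := by
        rw [Ideal.map_map, ← IsScalarTower.algebraMap_eq]
        exact Ideal.Quotient.eq_zero_iff_mem.1 h0
      obtain ⟨c, hc, hca⟩ := (IsLocalization.algebraMap_mem_map_algebraMap_iff r.primeCompl _ _ _).1 h1
      refine ⟨⟨π (algebraMap C Cn c), fun h => hc ((hmem c).1 h)⟩, ?_⟩
      show π (algebraMap C Cn c) * π x = π (algebraMap C Cn c) * π y
      rw [← sub_eq_zero, ← mul_sub, ← map_sub, ← map_mul]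
      refine Ideal.Quotient.eq_zero_iff_mem.2 ?_
      rw [← has, show algebraMap C Cn c * IsLocalization.mk' Cn a s = IsLocalization.mk' Cn (c * a) s from
        IsLocalization.mul_mk'_eq_mk'_of_mul _ _ _, IsLocalization.mk'_mem_iff]
      show _ ∈ (n.comap (algebraMap R C)).map (algebraMap R Cn)
      rw [IsScalarTower.algebraMap_eq R C Cn, ← Ideal.map_map, ← hp]
      exact Ideal.mem_map_of_mem _ hca
  exact ⟨R0, inferInstance, ⟨(IsLocalization.algEquiv R0.primeCompl (Localization.AtPrime R0) Fr).toRingEquiv⟩⟩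

/-- depth at a codimension `≥ 2` point of an `(S₂)` fibre -/
theorem two_le_idealDepth_fibLocRing_of_generization [IsNoetherianRing C] (n r : Ideal C) [n.IsPrime] [r.IsPrime] (hrn : r ≤ n)
    (hp : r.comap (algebraMap R C) = n.comap (algebraMap R C))
    (hS2 : LocCoh.HasSk 2 (EGA4.FibLocRing R C n) (EGA4.FibLocRing R C n))
    (hd : (2 : WithBot ℕ∞) ≤ ringKrullDim (EGA4.FibLocRing R C r)) :
    2 ≤ LocCoh.idealDepth (r.map (algebraMap C (EGA4.FibLocRing R C r))) (EGA4.FibLocRing R C r) := by
  obtain ⟨R0, hR0, ⟨e⟩⟩ := exists_localization_fibLocRing (R := R) n r hrn hp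
  haveI := Groth.Ega4b.fibLocRing_isLocalRing R C r
  have h : Groth.Ega4b.SkLoc 2 (EGA4.FibLocRing R C r) :=
    (Groth.Ega4b.skLoc_of_ringEquiv e).1 ((Groth.Ega4b.hasSk_self_iff 2 _).1 hS2 R0)
  have hmax : r.map (algebraMap C (EGA4.FibLocRing R C r)) = maximalIdeal (EGA4.FibLocRing R C r) := by
    rw [← IsLocalRing.map_maximalIdeal_of_surjective (Ideal.Quotient.mk _) Ideal.Quotient.mk_surjective,
      ← Localization.AtPrime.map_eq_maximalIdeal, Ideal.map_map]
    rfl
  rw [hmax]
  exact WithBot.coe_le_coe.1 ((le_min le_rfl hd).trans h)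

/-- depth along `J` of a fibre stalk from the depths at the generizations in `V(J)` in the same fibre -/
theorem le_idealDepth_fibLocMod_of_pointwise_fibre {A B : Type u} [CommRing A] [CommRing B] [Algebra A B]
    [IsNoetherianRing A] [IsNoetherianRing B] (J : Ideal B) (q : Ideal B) [q.IsPrime] (E : Type u) [AddCommGroup E]
    [Module B E] [Module A E] [IsScalarTower A B E] [Module.Finite B E] (c : ℕ)
    (h : ∀ r : PrimeSpectrum B, J ≤ r.asIdeal → r.asIdeal ≤ q →
      r.asIdeal.comap (algebraMap A B) = q.comap (algebraMap A B) → FlatCA.FlatAt A r.asIdeal E ∧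
      (c : ℕ∞) ≤ LocCoh.idealDepth (r.asIdeal.map (algebraMap B (EGA4.FibLocRing A B r.asIdeal)))
        (EGA4.FibLocMod A B r.asIdeal E)) :
    (c : ℕ∞) ≤ LocCoh.idealDepth (J.map (algebraMap B (EGA4.FibLocRing A B q))) (EGA4.FibLocMod A B q E) := by
  let S := Localization.AtPrime q
  let p := q.comap (algebraMap A B)
  let G := A ⧸ p
  let X := LocalizedModule q.primeCompl (E ⊗[A] G)
  haveI : Module.Finite S X :=
    Module.Finite.of_isLocalizedModule q.primeCompl (LocalizedModule.mkLinearMap q.primeCompl (E ⊗[A] G))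
  obtain ⟨eq'⟩ := Groth.Ega4b.exists_tensor_quotient (R := A) (S := S) (LocalizedModule q.primeCompl E) p
  let e : EGA4.FibLocMod A B q E ≃ₗ[S] X :=
    eq'.trans ((AlgebraTensorModule.congr (LocalizedModule.equivTensorProduct q.primeCompl E) (LinearEquiv.refl A G)).trans
      ((AlgebraTensorModule.assoc A B S S E G).trans (LocalizedModule.equivTensorProduct q.primeCompl (E ⊗[A] G)).symm))
  have hJ : J.map (algebraMap B (EGA4.FibLocRing A B q)) =
      (J.map (algebraMap B S)).map (algebraMap S (EGA4.FibLocRing A B q)) := by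
    rw [Ideal.map_map]
    rfl
  rw [hJ, idealDepth_map_of_surjective (S := S) Ideal.Quotient.mk_surjective, Groth.LocCohBase.idealDepth_congr e]
  refine Groth.LocCohBase.le_idealDepth_of_forall_depth _ c X fun P hP hJP => ?_
  let r : Ideal B := P.comap (algebraMap B S)
  rw [Groth.LocCohBase.depth_localized_localized q P r rfl (E ⊗[A] G)]
  have hrq : r ≤ q := by
    have := Ideal.comap_mono (f := algebraMap B S) (IsLocalRing.le_maximalIdeal hP.ne_top)
    rwa [Groth.LocCohBase.comap_maximalIdeal_atPrime] at this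
  by_cases hp : p ≤ r.comap (algebraMap A B)
  · obtain ⟨h1, h2⟩ := h ⟨r, inferInstance⟩ (Ideal.map_le_iff_le_comap.1 hJP) hrq
      (le_antisymm (Ideal.comap_mono hrq) hp)
    rw [depth_localized_tensor_of_flatAt r E h1 G]
    exact h2.trans le_add_self
  · obtain ⟨a, hap, har⟩ := SetLike.not_le_iff_exists.1 hp
    have hz : ∀ z : E ⊗[A] G, algebraMap A B a • z = 0 := fun z => by
      rw [algebraMap_smul]
      induction z using TensorProduct.induction_on with
      | zero => exact smul_zero _
      | add x y hx hy => rw [smul_add, hx, hy, add_zero]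
      | tmul x g =>
        obtain ⟨g, rfl⟩ := Ideal.Quotient.mk_surjective g
        rw [← tmul_smul, ← Ideal.Quotient.mk_eq_mk, ← Submodule.Quotient.mk_smul, (Submodule.Quotient.mk_eq_zero _).2
          (show a • g ∈ p from Ideal.mul_mem_right _ _ hap), tmul_zero]
    haveI : Subsingleton (LocalizedModule r.primeCompl (E ⊗[A] G)) :=
      LocalizedModule.subsingleton_iff.2 fun z => ⟨algebraMap A B a, har, hz z⟩
    rw [LocCoh.depth, Groth.DepthRefl.depth_eq_top_of_subsingleton]
    exact le_top

/-- the double dual commutes with localisation at a prime -/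
theorem exists_ddual_localized_equiv {B : Type u} [CommRing B] [IsNoetherianRing B] (q : Ideal B) [q.IsPrime] (X : Type u)
    [AddCommGroup X] [Module B X] [Module.Finite B X] :
    Nonempty (LocalizedModule q.primeCompl (Module.Dual B (Module.Dual B X)) ≃ₗ[Localization.AtPrime q]
      Module.Dual (Localization.AtPrime q) (Module.Dual (Localization.AtPrime q) (LocalizedModule q.primeCompl X))) := by
  let S := Localization.AtPrime q
  let eS : LocalizedModule q.primeCompl B ≃ₗ[S] S :=
    LinearEquiv.extendScalarsOfIsLocalization q.primeCompl S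
      (IsLocalizedModule.iso q.primeCompl (Algebra.linearMap B S))
  have key : ∀ (Y : Type u) [AddCommGroup Y] [Module B Y] [Module.Finite B Y],
      Nonempty (LocalizedModule q.primeCompl (Module.Dual B Y) ≃ₗ[S] Module.Dual S (LocalizedModule q.primeCompl Y)) := by
    intro Y _ _ _
    haveI : Module.FinitePresentation B Y := Module.finitePresentation_of_finite B Y
    let e : LocalizedModule q.primeCompl (Module.Dual B Y) ≃ₗ[B]
        (LocalizedModule q.primeCompl Y →ₗ[S] LocalizedModule q.primeCompl B) :=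
      Module.FinitePresentation.linearEquivMapExtendScalars q.primeCompl
    exact ⟨(LinearEquiv.extendScalarsOfIsLocalization q.primeCompl S e).trans (LinearEquiv.congrRight eS)⟩
  obtain ⟨e1⟩ := key (Module.Dual B X)
  obtain ⟨e2⟩ := key X
  exact ⟨e1.trans e2.symm.dualMap⟩

theorem hasSk_quotient_congr {S : Type u} [CommRing S] {I I' : Ideal S} (h : I = I') (N : Type u) [AddCommGroup N]
    [Module S N] {k : ℕ} (hk : LocCoh.HasSk k (S ⧸ I) (N ⧸ I • (⊤ : Submodule S N))) :
    LocCoh.HasSk k (S ⧸ I') (N ⧸ I' • (⊤ : Submodule S N)) := by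
  subst h
  exact hk

variable {A' C' : Type u} [CommRing A'] [CommRing C'] [IsLocalRing A'] [IsNoetherianRing A'] [IsNoetherianRing C']
  [Algebra R A'] [Algebra C C'] [Algebra A' C'] [Algebra R C'] [IsScalarTower R C C'] [IsScalarTower R A' C']
  [Algebra.IsPushout R C A' C'] [IsNoetherianRing R] [IsNoetherianRing C] [Module.Flat R C]

/-- flatness of the pulled-back cokernel at a point where the double dual is flat with `(S₂)` fibre -/
theorem flatAt_baseChange_coker_of_hasSk (n : Ideal C) [n.IsPrime]
    (hS2 : LocCoh.HasSk 2 (EGA4.FibLocRing R C n) (EGA4.FibLocRing R C n)) (J : Ideal C)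
    (hcodim : ∀ q : PrimeSpectrum C, J ≤ q.asIdeal → (2 : WithBot ℕ∞) ≤ ringKrullDim (EGA4.FibLocRing R C q.asIdeal))
    {F : Type u} [AddCommGroup F] [Module C F] [Module.Finite C F] {k m : ℕ}
    (f : F →ₗ[C] (Fin k → C)) (u : (Fin k → C) →ₗ[C] (Fin m → C)) (hf : Function.Injective f)
    (hfu : Function.Exact f u)
    (hG : ∀ q : PrimeSpectrum C, ¬ J ≤ q.asIdeal →
      Module.Free (Localization.AtPrime q.asIdeal)
        (LocalizedModule q.asIdeal.primeCompl ((Fin m → C) ⧸ LinearMap.range u)))
    (t : A') (htm : t ∈ maximalIdeal A') (ht : maximalIdeal A' ≤ (Ideal.span {t}).radical)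
    (q' : Ideal C') [q'.IsPrime] (hqn : q'.comap (algebraMap C C') ≤ n)
    (hqA : q'.comap (algebraMap A' C') = maximalIdeal A')
    (hqR : (q'.comap (algebraMap C C')).comap (algebraMap R C) = n.comap (algebraMap R C))
    (hflat : FlatCA.FlatAt A' q' (Module.Dual C' (Module.Dual C' (C' ⊗[C] F))))
    (hsk : LocCoh.HasSk 2 (EGA4.FibLocRing A' C' q')
      (EGA4.FibLocMod A' C' q' (Module.Dual C' (Module.Dual C' (C' ⊗[C] F))))) :
    FlatCA.FlatAt A' q' (C' ⊗[C] ((Fin m → C) ⧸ LinearMap.range u)) := by
  let S := Localization.AtPrime q'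
  haveI : IsLocalHom (algebraMap A' S) := ⟨fun a ha => by
    by_contra hna
    have : a ∈ q'.comap (algebraMap A' C') := hqA ▸ hna
    rw [IsScalarTower.algebraMap_apply A' C' S] at ha
    exact (IsLocalization.AtPrime.to_map_mem_maximal_iff S q' _).2 this ha⟩
  haveI : Algebra.IsPushout R A' C C' := Algebra.IsPushout.symm inferInstance
  haveI : Module.Flat A' C' := Module.Flat.isBaseChange (R := R) (M := C) (S := A') (N := C') Algebra.IsPushout.out
  haveI : Module.Flat A' S := Module.Flat.trans A' C' S
  have hI : (q'.comap (algebraMap A' C')).map (algebraMap A' S) = EGA4.mB A' S := by rw [hqA]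
  have hJS : (J.map (algebraMap C C')).map (algebraMap C' S) = J.map (algebraMap C S) := by
    rw [Ideal.map_map, ← IsScalarTower.algebraMap_eq]
  have hT : 2 ≤ LocCoh.idealDepth (J.map (algebraMap C S)) (S ⧸ EGA4.mB A' S) := by
    let E := C' ⊗[C] C
    haveI : Module.Flat A' E := Module.Flat.trans A' C' E
    have h := le_idealDepth_fibLocMod_of_pointwise_fibre (A := A') (J.map (algebraMap C C')) q' E 2 fun r hr hrq hrA => by
      refine ⟨flatAt_of_flat _ _, ?_⟩
      let q := r.asIdeal.comap (algebraMap C C')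
      have hqp : q.comap (algebraMap R C) = n.comap (algebraMap R C) := by
        rw [← hqR, Ideal.comap_comap, Ideal.comap_comap, ← IsScalarTower.algebraMap_eq,
          IsScalarTower.algebraMap_eq R A' C', ← Ideal.comap_comap, ← Ideal.comap_comap, hrA]
      exact ((two_le_idealDepth_fibLocRing_of_generization (R := R) n q ((Ideal.comap_mono hrq).trans hqn) hqp hS2
        (hcodim ⟨q, inferInstance⟩ (Ideal.map_le_iff_le_comap.1 hr))).trans
          (le_idealDepth_fibLocMod_projective (A := R) q C _)).trans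
            (le_idealDepth_fibre_baseChange (A := R) (A' := A') r.asIdeal C)
    rw [show (J.map (algebraMap C C')).map (algebraMap C' (EGA4.FibLocRing A' C' q')) =
        (J.map (algebraMap C S)).map (algebraMap S (EGA4.FibLocRing A' C' q')) by
      rw [← hJS, Ideal.map_map (algebraMap C' S)]; rfl,
      idealDepth_map_of_surjective (S := S) Ideal.Quotient.mk_surjective] at h
    refine h.trans_eq (Groth.LocCohBase.idealDepth_congr (Submodule.Quotient.equiv _ _
      ((LocalizedModule.equivTensorProduct q'.primeCompl E).trans ((AlgebraTensorModule.cancelBaseChange C C' S S C).trans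
        (AlgebraTensorModule.rid C S S))) ?_))
    rw [Submodule.map_smul'', Submodule.map_top, LinearMap.range_eq_top.2 (LinearEquiv.surjective _), hI]
    exact Ideal.mul_top _
  let X := C' ⊗[C] F
  let DD := Module.Dual C' (Module.Dual C' X)
  haveI : Module.Flat A' (LocalizedModule q'.primeCompl DD) := hflat
  obtain ⟨e0⟩ := exists_ddual_localized_equiv q' X
  let eX : LocalizedModule q'.primeCompl X ≃ₗ[S] S ⊗[C] F :=
    (LocalizedModule.equivTensorProduct q'.primeCompl X).trans (AlgebraTensorModule.cancelBaseChange C C' S S F)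
  haveI : Module.Finite S (LocalizedModule q'.primeCompl DD) :=
    Module.Finite.of_isLocalizedModule q'.primeCompl (LocalizedModule.mkLinearMap q'.primeCompl DD)
  haveI : Module.Flat A' (S ⊗[C] ((Fin m → C) ⧸ LinearMap.range u)) :=
    flat_baseChange_coker_of_hasSk J f u hf hfu hG t htm ht hT (LocalizedModule q'.primeCompl DD)
      (e0.trans eX.dualMap.dualMap) (hasSk_quotient_congr hI _ hsk)
  exact Module.Flat.of_linearEquiv
    (((LocalizedModule.equivTensorProduct q'.primeCompl (C' ⊗[C] ((Fin m → C) ⧸ LinearMap.range u))).trans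
      (AlgebraTensorModule.cancelBaseChange C C' S S ((Fin m → C) ⧸ LinearMap.range u))).restrictScalars A')

end Groth.MiscGeom.QGor

end
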