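import Groth.Agent.MiscGeom.RelSkBaseChange
import Groth.Agent.FlatMorOne.FlatnessCriteria

/-!
# Relative `(S₂)` of a reflexive module from flatness of the cokernel
-/

universe u

open TensorProduct IsLocalRing

noncomputable section

namespace Groth.MiscGeom.QGor

variable {R C : Type u} [CommRing R] [CommRing C] [Algebra R C]

/-- localising a module over a quotient ring -/
theorem isLocalizedModule_of_surjective {C' : Type u} [CommRing C'] [Algebra C C']
    (hsurj : Function.Surjective (algebraMap C C')) (q' : Ideal C') [q'.IsPrime] (n : Ideal C) [n.IsPrime]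
    (hn : q'.comap (algebraMap C C') = n) (Y : Type u) [AddCommGroup Y] [Module C Y] [Module C' Y]
    [IsScalarTower C C' Y] :
    IsLocalizedModule n.primeCompl ((LocalizedModule.mkLinearMap q'.primeCompl Y).restrictScalars C) := by
  have hmem : ∀ c : C, c ∈ n.primeCompl ↔ algebraMap C C' c ∈ q'.primeCompl := fun c => by
    subst hn
    exact Iff.rfl
  refine ⟨fun c => ?_, fun y => ?_, fun {y₁ y₂} h => ?_⟩
  · rw [Module.End.isUnit_iff]
    have := IsLocalizedModule.map_units (LocalizedModule.mkLinearMap q'.primeCompl Y)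
      ⟨algebraMap C C' c, (hmem c).1 c.2⟩
    rw [Module.End.isUnit_iff] at this
    convert this using 1
    funext z
    show (c : C) • z = algebraMap C C' c • z
    rw [algebraMap_smul]
  · obtain ⟨⟨z, s⟩, hz⟩ := IsLocalizedModule.surj q'.primeCompl (LocalizedModule.mkLinearMap q'.primeCompl Y) y
    obtain ⟨c, hc⟩ := hsurj s
    refine ⟨⟨z, ⟨c, (hmem c).2 (hc ▸ s.2)⟩⟩, ?_⟩
    show c • y = _
    exact (algebraMap_smul C' c y).symm.trans ((congrArg (fun a : C' => a • y) hc).trans hz)
  · obtain ⟨s, hs⟩ := IsLocalizedModule.exists_of_eq (S := q'.primeCompl)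
      (f := LocalizedModule.mkLinearMap q'.primeCompl Y) h
    obtain ⟨c, hc⟩ := hsurj s
    refine ⟨⟨c, (hmem c).2 (hc ▸ s.2)⟩, ?_⟩
    show c • y₁ = c • y₂
    rw [← algebraMap_smul C' c y₁, ← algebraMap_smul C' c y₂, hc]
    exact hs

/-- flatness over `R ⧸ I` of the localised module read off on `C ⊗ R ⧸ I` -/
theorem flat_quotient_tensor_localized (I : Ideal R) (n : Ideal C) [n.IsPrime] (G : Type u) [AddCommGroup G] [Module C G]
    [Module R G] [IsScalarTower R C G]
    {C' : Type u} [CommRing C'] [Algebra C C'] [Algebra (R ⧸ I) C'] [Algebra R C'] [IsScalarTower R C C']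
    [IsScalarTower R (R ⧸ I) C'] [Algebra.IsPushout R C (R ⧸ I) C']
    (hsurj : Function.Surjective (algebraMap C C')) (q' : Ideal C') [q'.IsPrime] (hn : q'.comap (algebraMap C C') = n)
    (h : FlatCA.FlatAt (R ⧸ I) q' (C' ⊗[C] G)) :
    Module.Flat (R ⧸ I) ((R ⧸ I) ⊗[R] LocalizedModule n.primeCompl G) := by
  haveI : Algebra.IsPushout R (R ⧸ I) C C' := Algebra.IsPushout.symm inferInstance
  haveI : Module.Flat (R ⧸ I) (LocalizedModule q'.primeCompl (C' ⊗[C] G)) := h
  haveI := isLocalizedModule_of_surjective hsurj q' n hn (C' ⊗[C] G)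
  let e1 : LocalizedModule n.primeCompl (C' ⊗[C] G) ≃ₗ[C] LocalizedModule q'.primeCompl (C' ⊗[C] G) :=
    IsLocalizedModule.iso n.primeCompl ((LocalizedModule.mkLinearMap q'.primeCompl (C' ⊗[C] G)).restrictScalars C)
  let ec : C ⊗[R] (R ⧸ I) ≃ₗ[C] C' := (Algebra.IsPushout.equiv R C (R ⧸ I) C').toLinearEquiv
  let e2 : C' ⊗[C] G ≃ₗ[C] G ⊗[R] (R ⧸ I) :=
    (TensorProduct.congr ec.symm (LinearEquiv.refl C G)).trans ((TensorProduct.comm C _ G).trans
      (AlgebraTensorModule.cancelBaseChange R C C G (R ⧸ I)))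
  let Cn := Localization.AtPrime n
  let e3 : LocalizedModule n.primeCompl (G ⊗[R] (R ⧸ I)) ≃ₗ[Cn] LocalizedModule n.primeCompl G ⊗[R] (R ⧸ I) :=
    (LocalizedModule.equivTensorProduct n.primeCompl (G ⊗[R] (R ⧸ I))).trans
      ((AlgebraTensorModule.assoc R C Cn Cn G (R ⧸ I)).symm.trans
        (AlgebraTensorModule.congr (LocalizedModule.equivTensorProduct n.primeCompl G).symm (LinearEquiv.refl R (R ⧸ I))))
  let e2' : LocalizedModule n.primeCompl (C' ⊗[C] G) ≃ₗ[Cn] LocalizedModule n.primeCompl (G ⊗[R] (R ⧸ I)) :=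
    IsLocalizedModule.mapEquiv n.primeCompl (LocalizedModule.mkLinearMap n.primeCompl (C' ⊗[C] G))
      (LocalizedModule.mkLinearMap n.primeCompl (G ⊗[R] (R ⧸ I))) Cn e2
  let e : LocalizedModule q'.primeCompl (C' ⊗[C] G) ≃ₗ[R] (R ⧸ I) ⊗[R] LocalizedModule n.primeCompl G :=
    ((e1.symm.restrictScalars R).trans ((e2'.trans e3).restrictScalars R)).trans
      (TensorProduct.comm R (LocalizedModule n.primeCompl G) (R ⧸ I))
  exact Module.Flat.of_linearEquiv
    (LinearEquiv.extendScalarsOfSurjective (R := R) (Ideal.Quotient.mk_surjective (I := I)) e).symm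

variable [IsNoetherianRing R] [IsNoetherianRing C] [Module.Flat R C]

/-- relative `(S₂)` of the kernel when the cokernel is flat -/
theorem relSk_of_flatAt_coker (n : Ideal C) [n.IsPrime]
    (hS2 : LocCoh.HasSk 2 (EGA4.FibLocRing R C n) (EGA4.FibLocRing R C n)) (J : Ideal C)
    (hcodim : ∀ q : PrimeSpectrum C, J ≤ q.asIdeal → (2 : WithBot ℕ∞) ≤ ringKrullDim (EGA4.FibLocRing R C q.asIdeal))
    {F : Type u} [AddCommGroup F] [Module C F] [Module R F] [IsScalarTower R C F] [Module.Finite C F]
    (hFU : ∀ q : PrimeSpectrum C, ¬ J ≤ q.asIdeal →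
      Module.Free (Localization.AtPrime q.asIdeal) (LocalizedModule q.asIdeal.primeCompl F))
    {k m : ℕ} (f : F →ₗ[C] (Fin k → C)) (u : (Fin k → C) →ₗ[C] (Fin m → C)) (hf : Function.Injective f)
    (hfu : Function.Exact f u)
    (hG : ∀ q : PrimeSpectrum C, ¬ J ≤ q.asIdeal →
      Module.Free (Localization.AtPrime q.asIdeal)
        (LocalizedModule q.asIdeal.primeCompl ((Fin m → C) ⧸ LinearMap.range u)))
    (hflat : FlatCA.FlatAt R n ((Fin m → C) ⧸ LinearMap.range u)) :
    FlatCA.FlatAt R n F ∧ LocCoh.HasSk 2 (EGA4.FibLocRing R C n) (EGA4.FibLocMod R C n F) := by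
  have hGU : ∀ r : PrimeSpectrum C, ¬ J ≤ r.asIdeal → FlatCA.FlatAt R r.asIdeal ((Fin m → C) ⧸ LinearMap.range u) :=
    fun r hr => by
      haveI := hG r hr
      haveI : Module.Flat R (Localization.AtPrime r.asIdeal) := Module.Flat.trans R C (Localization.AtPrime r.asIdeal)
      haveI : IsScalarTower R (Localization.AtPrime r.asIdeal)
          (LocalizedModule r.asIdeal.primeCompl ((Fin m → C) ⧸ LinearMap.range u)) :=
        IsScalarTower.of_algebraMap_smul fun a x => by
          rw [IsScalarTower.algebraMap_apply R C (Localization.AtPrime r.asIdeal), algebraMap_smul, algebraMap_smul]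
      exact Module.Flat.trans R (Localization.AtPrime r.asIdeal)
        (LocalizedModule r.asIdeal.primeCompl ((Fin m → C) ⧸ LinearMap.range u))
  have hE : ∀ l : ℕ, (2 : ℕ∞) ≤ LocCoh.idealDepth (J.map (algebraMap C (EGA4.FibLocRing R C n)))
      (EGA4.FibLocMod R C n (Fin l → C)) := fun l => by
    haveI : Module.Flat R (Fin l → C) := Module.Flat.trans R C (Fin l → C)
    exact le_idealDepth_fibLocMod_of_pointwise_fibre J n (Fin l → C) 2 fun r hr hrn hrp =>
      ⟨flatAt_of_flat _ _, (two_le_idealDepth_fibLocRing_of_generization n r.asIdeal hrn hrp hS2 (hcodim r hr)).trans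
        (le_idealDepth_fibLocMod_projective (A := R) r.asIdeal (Fin l → C) _)⟩
  haveI : Module.Flat R (Fin k → C) := Module.Flat.trans R C (Fin k → C)
  haveI : Module.Flat R (Fin m → C) := Module.Flat.trans R C (Fin m → C)
  obtain ⟨h1, h2⟩ := fourTerm_at (A := R) J f u (LinearMap.range u).mkQ hf hfu (LinearMap.exact_map_mkQ_range u)
    (Submodule.mkQ_surjective _) hGU n (hE k) (le_trans one_le_two (hE m))
  refine ⟨h2 hflat, ?_⟩
  let S := Localization.AtPrime n
  let T := EGA4.FibLocRing R C n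
  let M := EGA4.FibLocMod R C n F
  let e1 : M ≃ₗ[T] T ⊗[C] F :=
    LinearEquiv.extendScalarsOfSurjective (R := S) Ideal.Quotient.mk_surjective
      ((TensorProduct.quotTensorEquivQuotSMul (LocalizedModule n.primeCompl F)
          ((n.comap (algebraMap R C)).map (algebraMap R S))).symm.trans
        ((AlgebraTensorModule.congr (LinearEquiv.refl S T) (LocalizedModule.equivTensorProduct n.primeCompl F)).trans
          (AlgebraTensorModule.cancelBaseChange C S S T F)))
  haveI : Module.Finite T M := Module.Finite.equiv e1.symm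
  have hd := h1.1 hflat
  intro Q hQ
  by_cases hJQ : J.map (algebraMap C T) ≤ Q
  · exact (min_le_left _ _).trans (WithBot.coe_le_coe.2
      (hd.trans (Groth.LocCohBase.idealDepth_le_depth_localized _ Q hJQ M)))
  let TQ := Localization.AtPrime Q
  let eM : LocalizedModule Q.primeCompl M ≃ₗ[TQ] LocalizedModule Q.primeCompl (T ⊗[C] F) :=
    IsLocalizedModule.mapEquiv Q.primeCompl (LocalizedModule.mkLinearMap Q.primeCompl M)
      (LocalizedModule.mkLinearMap Q.primeCompl (T ⊗[C] F)) TQ e1
  haveI : Module.Free TQ (LocalizedModule Q.primeCompl (T ⊗[C] F)) :=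
    free_localized_baseChange (J := J) T F hFU ⟨Q, hQ⟩ hJQ
  haveI : Module.Free TQ (LocalizedModule Q.primeCompl M) := Module.Free.of_equiv eM.symm
  haveI : Module.Finite TQ (LocalizedModule Q.primeCompl M) :=
    Module.Finite.of_isLocalizedModule Q.primeCompl (LocalizedModule.mkLinearMap Q.primeCompl M)
  let b := Module.finBasis TQ (LocalizedModule Q.primeCompl M)
  have hS : Groth.Ega4b.SkLoc 2 TQ := (Groth.Ega4b.hasSk_self_iff 2 _).1 hS2 Q
  refine ((min_le_min le_rfl (Module.supportDim_le_ringKrullDim TQ _)).trans hS).trans (WithBot.coe_le_coe.2 ?_)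
  exact (Groth.DepthRefl.le_depth_pi _ _).trans_eq (Groth.LocCohBase.idealDepth_congr b.equivFun).symm

end Groth.MiscGeom.QGor

end
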