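import Groth.Agent.MiscGeom.SplitOff
import Groth.Agent.DepthRefl.Serre
import Groth.Agent.LocCohBase.CM
import Groth.Agent.Ega4Algebra2.DepthFlat
import Groth.Agent.S2668

/-!
# Flatness of the cokernel from the relative `(S₂)` condition of the double dual, local form
-/

universe u

open TensorProduct IsLocalRing Pointwise

noncomputable section

namespace Groth.MiscGeom.QGor

variable {A S : Type u} [CommRing A] [CommRing S] [IsLocalRing A] [IsLocalRing S] [IsNoetherianRing A]
  [IsNoetherianRing S] [Algebra A S] [IsLocalHom (algebraMap A S)]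

/-- depth along an ideal of a flat module from that of its closed fibre -/
theorem le_idealDepth_of_flat_fibre (I : Ideal S) (c : ℕ) : ∀ (N : Type u) [AddCommGroup N] [Module S N] [Module A N]
    [IsScalarTower A S N] [Module.Finite S N] [Module.Flat A N],
    (c : ℕ∞) ≤ LocCoh.idealDepth I (EGA4.FibMod A S N) → (c : ℕ∞) ≤ LocCoh.idealDepth I N := by
  by_cases hI : I = ⊤
  · intro N _ _ _ _ _ _ _
    rw [Groth.LocCohBase.idealDepth_eq_top_of_smul_top_eq_top (by rw [hI, Submodule.top_smul])]
    exact le_top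
  suffices h : ∀ (N : Type u) [AddCommGroup N] [Module S N] [Module A N]
      [IsScalarTower A S N] [Module.Finite S N] [Module.Flat A N],
      (c : ℕ∞) ≤ LocCoh.idealDepth I (N ⊗[A] (A ⧸ maximalIdeal A)) → (c : ℕ∞) ≤ LocCoh.idealDepth I N by
    intro N _ _ _ _ _ _ hc
    obtain ⟨e⟩ := exists_tensor_residue (A := A) (B := S) N
    exact h N (hc.trans_eq (Groth.LocCohBase.idealDepth_congr e))
  induction c with
  | zero => intros; simp
  | succ g ih =>
    intro N _ _ _ _ _ _ hg
    rcases subsingleton_or_nontrivial N with hN | hN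
    · rw [Groth.DepthRefl.depth_eq_top_of_subsingleton]
      exact le_top
    haveI := Groth.Ega4b.nontrivial_tensor (R := A) S N (A ⧸ maximalIdeal A)
    have hIF := Groth.LocCohBase.smul_maximalIdeal_ne_top (R := S) (N ⊗[A] (A ⧸ maximalIdeal A)) hI
    obtain ⟨y, hyI, hy⟩ := Groth.LocCohBase.exists_regular_of_one_le hIF
      (le_trans (by exact_mod_cast Nat.succ_pos g) hg)
    haveI := Groth.Ega4b.flat_quotSMulTop_of_fibre N hy
    have hyN : IsSMulRegular N y :=
      (LinearEquiv.isSMulRegular_congr (TensorProduct.AlgebraTensorModule.rid A S N) y).1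
        (Groth.Ega4b.isSMulRegular_tensor_of_fibre N hy A)
    have hIN := Groth.LocCohBase.smul_maximalIdeal_ne_top (R := S) N hI
    obtain ⟨e1⟩ := Groth.Ega4b.exists_quotSMulTop_tensor_left (R := A) (S := S) N (A ⧸ maximalIdeal A) y
    have h1 := Groth.LocCohBase.idealDepth_quotSMulTop_add_one I _ hIF hyI hy
    rw [Groth.LocCohBase.idealDepth_congr e1] at h1
    rw [← h1, Nat.cast_succ] at hg
    have h2 := ih (QuotSMulTop y N) ((ENat.add_le_add_iff_right (by simp)).1 hg)
    rw [← Groth.LocCohBase.idealDepth_quotSMulTop_add_one I N hIN hyI hyN, Nat.cast_succ]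
    exact add_le_add h2 le_rfl

/-- the closed fibre of a finite free module has the depth of the closed fibre ring -/
theorem le_idealDepth_fibMod_free (I : Ideal S) (E : Type u) [AddCommGroup E] [Module S E] [Module.Finite S E]
    [Module.Free S E] :
    LocCoh.idealDepth I (S ⧸ EGA4.mB A S) ≤ LocCoh.idealDepth I (EGA4.FibMod A S E) := by
  let T := S ⧸ EGA4.mB A S
  let b := Module.finBasis S E
  let e : EGA4.FibMod A S E ≃ₗ[S] (Fin (Module.finrank S E) → T) :=
    (Submodule.Quotient.equiv (EGA4.mB A S • (⊤ : Submodule S E))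
      (EGA4.mB A S • (⊤ : Submodule S (Fin (Module.finrank S E) → S))) b.equivFun (by
        rw [Submodule.map_smul'', Submodule.map_top, LinearMap.range_eq_top.2 b.equivFun.surjective])).trans
      ((TensorProduct.quotTensorEquivQuotSMul (Fin (Module.finrank S E) → S) (EGA4.mB A S)).symm.trans
        (TensorProduct.piScalarRight S S T (Fin (Module.finrank S E))))
  rw [Groth.LocCohBase.idealDepth_congr e, ← idealDepth_map_of_surjective (S := S) (T := T) Ideal.Quotient.mk_surjective I T,
    ← idealDepth_map_of_surjective (S := S) (T := T) Ideal.Quotient.mk_surjective I (Fin (Module.finrank S E) → T)]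
  exact Groth.DepthRefl.le_depth_pi _ _

omit [IsLocalRing A] [IsLocalRing S] [IsNoetherianRing A] [IsLocalHom (algebraMap A S)] in
/-- a minimal prime over `r + (x)` has quotient by `r` of dimension at most one -/
theorem ringKrullDim_quotient_le_one (r : Ideal S) [r.IsPrime] (x : S) (P : Ideal S) [P.IsPrime]
    (hP : P ∈ (r ⊔ Ideal.span {x}).minimalPrimes) :
    ringKrullDim (Localization.AtPrime P ⧸ r.map (algebraMap S (Localization.AtPrime P))) ≤ 1 := by
  have hrP : r ≤ P := le_sup_left.trans hP.1.2
  let L := Localization.AtPrime P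
  let r' := r.map (algebraMap S L)
  have hdisj : Disjoint (P.primeCompl : Set S) r := Set.disjoint_left.2 fun a ha h => ha (hrP h)
  haveI : r'.IsPrime := IsLocalization.isPrime_of_isPrime_disjoint P.primeCompl L r inferInstance hdisj
  let D := L ⧸ r'
  haveI : IsLocalRing D := IsLocalRing.of_surjective' _ Ideal.Quotient.mk_surjective
  let φ : S →+* D := (Ideal.Quotient.mk r').comp (algebraMap S L)
  have hmap : maximalIdeal D = P.map φ := by
    rw [← IsLocalRing.map_maximalIdeal_of_surjective (Ideal.Quotient.mk r') Ideal.Quotient.mk_surjective,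
      ← Localization.AtPrime.map_eq_maximalIdeal, Ideal.map_map]
  have hmax : maximalIdeal D ∈ (Ideal.span {φ x}).minimalPrimes := by
    refine ⟨⟨inferInstance, (Ideal.span_singleton_le_iff_mem _).2 ?_⟩, fun Q hQ hle => ?_⟩
    · rw [hmap]
      exact Ideal.mem_map_of_mem _ (hP.1.2 (Ideal.mem_sup_right (Ideal.mem_span_singleton_self x)))
    · haveI := hQ.1
      rw [hmap, Ideal.map_le_iff_le_comap]
      refine hP.2 ⟨inferInstance, sup_le (fun a ha => ?_) ?_⟩ ?_
      · show φ a ∈ Q
        rw [show φ a = 0 from Ideal.Quotient.eq_zero_iff_mem.2 (Ideal.mem_map_of_mem _ ha)]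
        exact Q.zero_mem
      · rw [Ideal.span_singleton_le_iff_mem]
        exact hQ.2 (Ideal.mem_span_singleton_self _)
      · intro a ha
        by_contra haP
        have : IsUnit (φ a) := (IsLocalization.map_units L (⟨a, haP⟩ : P.primeCompl)).map (Ideal.Quotient.mk r')
        exact hQ.1.ne_top (Ideal.eq_top_of_isUnit_mem _ ha this)
  rw [← IsLocalRing.maximalIdeal_height_eq_ringKrullDim]
  exact WithBot.coe_le_coe.2 (Ideal.height_le_one_of_isPrincipal_of_mem_minimalPrimes (Ideal.span {φ x}) _ hmax)

/-- depth two along `J` of the closed fibre of a flat module, locally free off `V(J)`, with `(S₂)` closed fibre -/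
theorem two_le_idealDepth_fibMod_of_hasSk (J : Ideal S) (t : A) (htm : t ∈ maximalIdeal A)
    (ht : maximalIdeal A ≤ (Ideal.span {t}).radical)
    [Module.Flat A S] (hT : 2 ≤ LocCoh.idealDepth J (S ⧸ EGA4.mB A S))
    (K : Type u) [AddCommGroup K] [Module S K] [Module A K] [IsScalarTower A S K] [Module.Finite S K]
    (hK : 1 ≤ LocCoh.idealDepth J K)
    (hKU : ∀ r : PrimeSpectrum S, ¬ J ≤ r.asIdeal →
      Module.Free (Localization.AtPrime r.asIdeal) (LocalizedModule r.asIdeal.primeCompl K))
    (hSk : LocCoh.HasSk 2 (S ⧸ EGA4.mB A S) (EGA4.FibMod A S K)) :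
    2 ≤ LocCoh.idealDepth J (EGA4.FibMod A S K) := by
  let T := S ⧸ EGA4.mB A S
  let M := EGA4.FibMod A S K
  let π : S →+* T := Ideal.Quotient.mk _
  haveI : Module.Finite T M := Module.Finite.of_restrictScalars_finite S T M
  have hS2 : 2 ≤ LocCoh.idealDepth J S := le_idealDepth_of_flat_fibre J 2 S (le_of_le_of_eq hT
    (Groth.LocCohBase.idealDepth_congr (Submodule.quotEquivOfEq _ _ (Ideal.mul_top (EGA4.mB A S)).symm)))
  rw [← idealDepth_map_of_surjective (S := S) (T := T) Ideal.Quotient.mk_surjective J M]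
  have hT' : 2 ≤ LocCoh.idealDepth (J.map π) T :=
    hT.trans_eq (idealDepth_map_of_surjective (S := S) (T := T) Ideal.Quotient.mk_surjective J T).symm
  refine Groth.LocCohBase.le_idealDepth_of_forall_depth _ 2 M fun Q hQ hJQ => ?_
  by_cases hQM : (⟨Q, hQ⟩ : PrimeSpectrum T) ∈ Module.support T M
  swap
  · haveI : Subsingleton (LocalizedModule Q.primeCompl M) := Module.notMem_support_iff.1 hQM
    rw [LocCoh.depth, Groth.DepthRefl.depth_eq_top_of_subsingleton]
    exact le_top
  let q := Q.comap π
  have hmq : EGA4.mB A S ≤ q := fun a ha => by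
    show π a ∈ Q
    rw [show π a = 0 from Ideal.Quotient.eq_zero_iff_mem.2 ha]
    exact Q.zero_mem
  -- `q` is in the support of `K`
  have hqK : Module.annihilator S K ≤ q := fun a ha => by
    refine (Module.mem_support_iff_of_finite.1 hQM) (Module.mem_annihilator.2 fun x => ?_)
    obtain ⟨x, rfl⟩ := Submodule.Quotient.mk_surjective _ x
    show Submodule.Quotient.mk (a • x) = 0
    rw [Module.mem_annihilator.1 ha x, Submodule.Quotient.mk_zero]
  obtain ⟨r, hr, hrq⟩ := Ideal.exists_minimalPrimes_le hqK
  haveI := hr.1.1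
  have hrJ : ¬ J ≤ r :=
    (Groth.LocCohBase.one_le_idealDepth_iff J K).1 hK r (Module.associatedPrimes.minimalPrimes_annihilator_subset_associatedPrimes S K hr)
  have hrK : (⟨r, inferInstance⟩ : PrimeSpectrum S) ∈ Module.support S K := Module.mem_support_iff_of_finite.2 hr.1.2
  haveI := hKU ⟨r, inferInstance⟩ hrJ
  obtain ⟨r0, hr0, hr0r⟩ := Ideal.exists_minimalPrimes_le (bot_le : (⊥ : Ideal S) ≤ r)
  haveI := hr0.1.1
  have hr0K := annihilator_le_of_free ⟨r, inferInstance⟩ hrK r0 hr0r
  have htq : algebraMap A S t ∈ q := hmq (Ideal.mem_map_of_mem _ htm)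
  obtain ⟨P, hP, hPq⟩ := Ideal.exists_minimalPrimes_le
    (sup_le (hr0r.trans hrq) ((Ideal.span_singleton_le_iff_mem _).2 htq) : r0 ⊔ Ideal.span {algebraMap A S t} ≤ q)
  haveI := hP.1.1
  have hmP : EGA4.mB A S ≤ P := Ideal.map_le_iff_le_comap.2 fun a ha => by
    obtain ⟨k, hk⟩ := ht ha
    obtain ⟨c, hc⟩ := Ideal.mem_span_singleton'.1 hk
    refine (inferInstance : P.IsPrime).mem_of_pow_mem k ?_
    rw [← map_pow, ← hc, map_mul]
    exact Ideal.mul_mem_left _ _ (hP.1.2 (Ideal.mem_sup_right (Ideal.mem_span_singleton_self _)))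
  -- `P` is not in `V(J)`
  have hPJ : ¬ J ≤ P := fun hJP => by
    let L := Localization.AtPrime P
    let eL : LocalizedModule P.primeCompl S ≃ₗ[L] L :=
      LinearEquiv.extendScalarsOfIsLocalization P.primeCompl L
        (IsLocalizedModule.iso P.primeCompl (Algebra.linearMap S L))
    have hd : (2 : ℕ∞) ≤ LocCoh.depth L L :=
      (hS2.trans (Groth.LocCohBase.idealDepth_le_depth_localized J P hJP S)).trans_eq
        (Groth.LocCohBase.idealDepth_congr eL)
    have hrP : r0 ≤ P := le_sup_left.trans hP.1.2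
    have hass : r0.map (algebraMap S L) ∈ associatedPrimes L L := by
      haveI : (r0.map (algebraMap S L)).IsPrime := IsLocalization.isPrime_of_isPrime_disjoint P.primeCompl L r0
        inferInstance (Set.disjoint_left.2 fun a ha h => ha (hrP h))
      refine Module.associatedPrimes.minimalPrimes_annihilator_subset_associatedPrimes L L ⟨⟨inferInstance, ?_⟩, fun Q' hQ' hle => ?_⟩
      · intro a ha
        rw [show a = 0 by simpa using Module.mem_annihilator.1 ha 1]
        exact Ideal.zero_mem _
      · haveI := hQ'.1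
        rw [Ideal.map_le_iff_le_comap]
        refine hr0.2 ⟨inferInstance, bot_le⟩ ?_
        intro a ha
        have h1 : a ∈ (r0.map (algebraMap S L)).comap (algebraMap S L) := hle ha
        exact (IsLocalization.under_map_of_isPrime_disjoint P.primeCompl L (by infer_instance)
          (Set.disjoint_left.2 fun b hb h => hb (hrP h))).le h1
    have h2 := (WithBot.coe_le_coe.2 hd).trans
      ((Groth.LocCohBase.depth_le_ringKrullDim_quotient hass).trans (ringKrullDim_quotient_le_one r0 _ P hP))
    norm_cast at h2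
  haveI := hKU ⟨P, inferInstance⟩ hPJ
  have hPK : (⟨P, inferInstance⟩ : PrimeSpectrum S) ∈ Module.support S K :=
    Module.mem_support_iff_of_finite.2 (hr0K.trans (le_sup_left.trans hP.1.2))
  -- a minimal prime of the fibre in the support
  have hPQ : P.map π ≤ Q := Ideal.map_le_iff_le_comap.2 hPq
  obtain ⟨R0, hR0, hR0P⟩ := Ideal.exists_minimalPrimes_le (bot_le : (⊥ : Ideal T) ≤ Q)
  obtain ⟨R0, hR0, hR0P⟩ : ∃ R0 ∈ minimalPrimes T, R0.comap π ≤ P := by
    haveI : (P.map π).IsPrime := Ideal.map_isPrime_of_surjective Ideal.Quotient.mk_surjective (by rwa [Ideal.mk_ker])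
    obtain ⟨R0, hR0, hle⟩ := Ideal.exists_minimalPrimes_le (bot_le : (⊥ : Ideal T) ≤ P.map π)
    refine ⟨R0, hR0, (Ideal.comap_mono hle).trans (le_of_eq ?_)⟩
    rw [Ideal.comap_map_of_surjective π Ideal.Quotient.mk_surjective, ← RingHom.ker_eq_comap_bot, Ideal.mk_ker,
      sup_eq_left.2 hmP]
  haveI : R0.IsPrime := hR0.1.1
  have hR0Q : R0 ≤ Q := fun x hx => by
    obtain ⟨a, rfl⟩ := Ideal.Quotient.mk_surjective x
    exact hPQ (Ideal.mem_map_of_mem _ (hR0P hx))
  have hR0K : (⟨R0.comap π, inferInstance⟩ : PrimeSpectrum S) ∈ Module.support S K :=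
    Module.mem_support_iff_of_finite.2 (annihilator_le_of_free ⟨P, inferInstance⟩ hPK _ hR0P)
  have hR0M : Module.annihilator T M ≤ R0 := fun x hx => by
    obtain ⟨a, rfl⟩ := Ideal.Quotient.mk_surjective x
    have hsup : (⟨R0.comap π, inferInstance⟩ : PrimeSpectrum S) ∈ Module.support S M := by
      rw [Module.support_quotient]
      exact ⟨hR0K, fun b hb => by
        show π b ∈ R0
        rw [show π b = 0 from Ideal.Quotient.eq_zero_iff_mem.2 hb]
        exact R0.zero_mem⟩
    exact Module.mem_support_iff_of_finite.1 hsup (Module.mem_annihilator.2 fun y => Module.mem_annihilator.1 hx y)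
  let TQ := Localization.AtPrime Q
  let R0' := R0.map (algebraMap T TQ)
  have hdisj : Disjoint (Q.primeCompl : Set T) R0 := Set.disjoint_left.2 fun a ha h => ha (hR0Q h)
  haveI : R0'.IsPrime := IsLocalization.isPrime_of_isPrime_disjoint Q.primeCompl TQ R0 inferInstance hdisj
  haveI : Module.Finite TQ (LocalizedModule Q.primeCompl M) :=
    Module.Finite.of_isLocalizedModule Q.primeCompl (LocalizedModule.mkLinearMap Q.primeCompl M)
  have hann : Module.annihilator TQ (LocalizedModule Q.primeCompl M) ≤ R0' := fun z hz => by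
    obtain ⟨a, c, rfl⟩ := IsLocalization.exists_mk'_eq Q.primeCompl z
    obtain ⟨y, hy⟩ := Module.mem_support_iff'.1
      (Module.mem_support_iff_of_finite.2 hR0M : (⟨R0, inferInstance⟩ : PrimeSpectrum T) ∈ Module.support T M)
    have h1 : algebraMap T TQ a ∈ Module.annihilator TQ (LocalizedModule Q.primeCompl M) := by
      rw [← IsLocalization.mk'_spec TQ a c]
      exact Ideal.mul_mem_right _ _ hz
    have h0 := Module.mem_annihilator.1 h1 (LocalizedModule.mkLinearMap Q.primeCompl M y)
    rw [algebraMap_smul, ← map_smul, IsLocalizedModule.eq_zero_iff Q.primeCompl] at h0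
    obtain ⟨d, hd⟩ := h0
    rw [Submonoid.smul_def, ← mul_smul] at hd
    refine (IsLocalization.mk'_mem_iff).2 (Ideal.mem_map_of_mem _ ?_)
    by_contra haR
    refine hy _ (fun h => ?_) hd
    rcases (inferInstance : R0.IsPrime).mem_or_mem h with h | h
    · exact d.2 (hR0Q h)
    · exact haR h
  let eT : LocalizedModule Q.primeCompl T ≃ₗ[TQ] TQ :=
    LinearEquiv.extendScalarsOfIsLocalization Q.primeCompl TQ
      (IsLocalizedModule.iso Q.primeCompl (Algebra.linearMap T TQ))
  have hd : (2 : ℕ∞) ≤ LocCoh.depth TQ TQ :=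
    (hT'.trans (Groth.LocCohBase.idealDepth_le_depth_localized _ Q hJQ T)).trans_eq
      (Groth.LocCohBase.idealDepth_congr eT)
  have hass : R0' ∈ associatedPrimes TQ TQ := by
    refine Module.associatedPrimes.minimalPrimes_annihilator_subset_associatedPrimes TQ TQ ⟨⟨inferInstance, ?_⟩, fun Q' hQ' hle => ?_⟩
    · intro a ha
      rw [show a = 0 by simpa using Module.mem_annihilator.1 ha 1]
      exact Ideal.zero_mem _
    · haveI := hQ'.1
      rw [Ideal.map_le_iff_le_comap]
      refine hR0.2 ⟨inferInstance, bot_le⟩ ?_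
      intro a ha
      have h1 : a ∈ R0'.comap (algebraMap T TQ) := hle ha
      exact (IsLocalization.under_map_of_isPrime_disjoint Q.primeCompl TQ (by infer_instance) hdisj).le h1
  have hdim : ((2 : ℕ) : WithBot ℕ∞) ≤ Module.supportDim TQ (LocalizedModule Q.primeCompl M) := by
    rw [Module.supportDim_eq_ringKrullDim_quotient_annihilator]
    exact ((WithBot.coe_le_coe.2 hd).trans (Groth.LocCohBase.depth_le_ringKrullDim_quotient hass)).trans
      (ringKrullDim_le_of_surjective _ (Ideal.Quotient.factor_surjective hann))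
  exact WithBot.coe_le_coe.1 ((le_min le_rfl hdim).trans (hSk Q))

variable {B : Type u} [CommRing B] [IsNoetherianRing B] [Algebra B S]

/-- the cokernel is flat when the double dual of the pulled-back module is flat with `(S₂)` closed fibre -/
theorem flat_baseChange_coker_of_hasSk (J : Ideal B) {F : Type u} [AddCommGroup F] [Module B F] [Module.Finite B F] {n m : ℕ}
    (f : F →ₗ[B] (Fin n → B)) (u : (Fin n → B) →ₗ[B] (Fin m → B)) (hf : Function.Injective f)
    (hfu : Function.Exact f u)
    (hG : ∀ q : PrimeSpectrum B, ¬ J ≤ q.asIdeal →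
      Module.Free (Localization.AtPrime q.asIdeal)
        (LocalizedModule q.asIdeal.primeCompl ((Fin m → B) ⧸ LinearMap.range u)))
    (t : A) (htm : t ∈ maximalIdeal A) (ht : maximalIdeal A ≤ (Ideal.span {t}).radical) [Module.Flat A S]
    (hT : 2 ≤ LocCoh.idealDepth (J.map (algebraMap B S)) (S ⧸ EGA4.mB A S))
    (N : Type u) [AddCommGroup N] [Module S N] [Module A N] [IsScalarTower A S N] [Module.Flat A N]
    (e : N ≃ₗ[S] Module.Dual S (Module.Dual S (S ⊗[B] F)))
    (hN : LocCoh.HasSk 2 (S ⧸ EGA4.mB A S) (EGA4.FibMod A S N)) :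
    Module.Flat A (S ⊗[B] ((Fin m → B) ⧸ LinearMap.range u)) := by
  let J' := J.map (algebraMap B S)
  let E0 := S ⊗[B] (Fin n → B)
  let E1 := S ⊗[B] (Fin m → B)
  let G := S ⊗[B] ((Fin m → B) ⧸ LinearMap.range u)
  let u' : E0 →ₗ[S] E1 := u.baseChange S
  let v' : E1 →ₗ[S] G := (LinearMap.range u).mkQ.baseChange S
  have huv' : Function.Exact u' v' := lTensor_exact S (LinearMap.exact_map_mkQ_range u) (Submodule.mkQ_surjective _)
  have hv' : Function.Surjective v' := LinearMap.lTensor_surjective S (Submodule.mkQ_surjective _)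
  let K := LinearMap.ker u'
  have hfree := free_localized_baseChange (J := J) S _ hG
  have hKfree : ∀ r : PrimeSpectrum S, ¬ J' ≤ r.asIdeal →
      Module.Free (Localization.AtPrime r.asIdeal) (LocalizedModule r.asIdeal.primeCompl K) := fun r hr =>
    free_localized_ker r.asIdeal u' v' huv' hv' (hfree r hr)
  haveI : Module.Flat A E0 := Module.Flat.trans A S E0
  haveI : Module.Flat A E1 := Module.Flat.trans A S E1
  have h0 : 2 ≤ LocCoh.idealDepth J' (EGA4.FibMod A S E0) := hT.trans (le_idealDepth_fibMod_free J' E0)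
  have h1 : 1 ≤ LocCoh.idealDepth J' (EGA4.FibMod A S E1) :=
    le_trans one_le_two (hT.trans (le_idealDepth_fibMod_free J' E1))
  have hS : 2 ≤ LocCoh.idealDepth J' S := le_idealDepth_of_flat_fibre J' 2 S (le_of_le_of_eq hT
    (Groth.LocCohBase.idealDepth_congr (Submodule.quotEquivOfEq _ _ (Ideal.mul_top (EGA4.mB A S)).symm)))
  have hK : 2 ≤ LocCoh.idealDepth J' K := two_le_idealDepth_of_exact J' K.subtype u' Subtype.val_injective
    (LinearMap.exact_subtype_ker_map u') (le_idealDepth_of_flat_fibre J' 2 E0 h0)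
    (le_idealDepth_of_flat_fibre J' 1 E1 h1)
  haveI : Module.IsReflexive S K := Groth.DepthRefl.isReflexive_of_depth J' (le_trans one_le_two hS) K
    (fun r hr => by
      haveI := hKfree r hr
      haveI : Module.Finite (Localization.AtPrime r.asIdeal) (LocalizedModule r.asIdeal.primeCompl K) :=
        Module.Finite.of_isLocalizedModule r.asIdeal.primeCompl (LocalizedModule.mkLinearMap r.asIdeal.primeCompl K)
      exact isReflexive_of_free_finite _ _) hK
  let φ : S ⊗[B] F →ₗ[S] K := toKerBaseChange S f u hfu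
  haveI : Module.Finite S (S ⊗[B] F) := inferInstance
  have hφ : HasQuasiInverseOff (M := S ⊗[B] F) (N := LinearMap.ker (u.baseChange S)) (J.map (algebraMap B S))
      (toKerBaseChange S f u hfu) := hasQuasiInverseOff_toKerBaseChange J f u hf hfu hG S
  let d : Module.Dual S K ≃ₗ[S] Module.Dual S (S ⊗[B] F) :=
    LinearEquiv.ofBijective φ.dualMap (bijective_dualMap (M := S ⊗[B] F) (N := LinearMap.ker (u.baseChange S)) (J.map (algebraMap B S)) hS φ hφ)
  let eK : N ≃ₗ[S] K := e.trans (d.dualMap.trans (Module.evalEquiv S K).symm)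
  haveI : Module.Flat A K := Module.Flat.of_linearEquiv (eK.restrictScalars A).symm
  let eM : EGA4.FibMod A S N ≃ₗ[S ⧸ EGA4.mB A S] EGA4.FibMod A S K :=
    LinearEquiv.extendScalarsOfSurjective (R := S) Ideal.Quotient.mk_surjective
      (Submodule.Quotient.equiv _ _ eK (by
        rw [Submodule.map_smul'', Submodule.map_top, LinearMap.range_eq_top.2 eK.surjective]))
  have h2 := two_le_idealDepth_fibMod_of_hasSk J' t htm ht hT K (le_trans one_le_two hK) hKfree
    (Groth.Agent.S2668.hasSk_congr eM hN)
  refine fourTerm_flat_of_depth J' K.subtype u' v' Subtype.val_injective (LinearMap.exact_subtype_ker_map u') huv' hv' h0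
    (fun r hr => ?_) h2
  haveI := hfree r hr
  haveI : Module.Flat A (Localization.AtPrime r.asIdeal) := Module.Flat.trans A S (Localization.AtPrime r.asIdeal)
  haveI : IsScalarTower A (Localization.AtPrime r.asIdeal) (LocalizedModule r.asIdeal.primeCompl G) :=
    IsScalarTower.of_algebraMap_smul fun a x => by
      rw [IsScalarTower.algebraMap_apply A S (Localization.AtPrime r.asIdeal), algebraMap_smul, algebraMap_smul]
  exact Module.Flat.trans A (Localization.AtPrime r.asIdeal) (LocalizedModule r.asIdeal.primeCompl G)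

end Groth.MiscGeom.QGor

end
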