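import Groth.Agent.DualCore.AtPrime
import Groth.Agent.DualCore.CM
import Groth.Agent.DualCore.Depth
import Groth.Agent.Ega4Algebra1.SuppLoc
import Groth.Agent.LocCohBase.DepthTower
import Groth.Prelude.Def_EGA4b

/-!
# Serre conditions through dualizing complexes
-/

universe u

open CategoryTheory IsLocalRing Groth.DualCore

attribute [local instance] HasDerivedCategory.standard

noncomputable section

namespace Groth.MiscGeom.QGor

variable {A : Type u} [CommRing A] [IsNoetherianRing A] {ω : Dual.D A}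

section Degrees

variable (hω : Dual.IsDualizing A ω) (M : Type u) [AddCommGroup M] [Module A M] [Module.Finite A M]

include hω

theorem mem_support_of_mem_hom (p : PrimeSpectrum A) (i : ℤ)
    (hi : p ∈ Module.support A (Dual.inD A M ⟶ ω⟦i⟧)) : p ∈ Module.support A M := by
  by_contra h
  rw [Module.notMem_support_iff] at h
  haveI := h
  haveI := (tensorEquivLocalized p.asIdeal M).toEquiv.subsingleton
  exact not_subsingleton_iff_nontrivial.2 ((nontrivial_localized_hom_iff p.asIdeal hω M i).1 hi)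
    (subsingleton_hom_of_subsingleton _ _ i)

/-- the range of the nonvanishing degrees at a prime, with both ends attained -/
theorem exists_degree_range (p : PrimeSpectrum A) (hp : p ∈ Module.support A M) :
    ∃ d e : ℕ, Module.supportDim (Localization.AtPrime p.asIdeal) (LocalizedModule p.asIdeal.primeCompl M) = d ∧
      LocCoh.depth (Localization.AtPrime p.asIdeal) (LocalizedModule p.asIdeal.primeCompl M) = e ∧ e ≤ d ∧
      p ∈ Module.support A (Dual.inD A M ⟶ ω⟦degree hω p - d⟧) ∧
      p ∈ Module.support A (Dual.inD A M ⟶ ω⟦degree hω p - e⟧) ∧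
      ∀ i, p ∈ Module.support A (Dual.inD A M ⟶ ω⟦i⟧) → degree hω p - d ≤ i ∧ i ≤ degree hω p - e := by
  let B := Localization.AtPrime p.asIdeal
  let c := degree hω p
  let ω' := ((extD A B).obj ω)⟦c⟧
  haveI : IsNoetherianRing B := IsLocalization.isNoetherianRing p.asIdeal.primeCompl _ inferInstance
  have hω' : Dual.IsDualizing B ω' := isDualizing_shift (isDualizing_atPrime p.asIdeal hω) _
  have hn : Dual.IsNormalized B ω' := isNormalized_degree hω p
  let M' := TensorProduct A B M
  have hiff : ∀ i, p ∈ Module.support A (Dual.inD A M ⟶ ω⟦i⟧) ↔ Nontrivial (Dual.inD B M' ⟶ ω'⟦i - c⟧) := fun i =>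
    (nontrivial_localized_hom_iff p.asIdeal hω M i).trans
      (nontrivial_shift_iff _ _ c i (i - c) (add_sub_cancel c i)).symm
  haveI : Nontrivial (LocalizedModule p.asIdeal.primeCompl M) := hp
  haveI : Nontrivial M' := (tensorEquivLocalized p.asIdeal M).toEquiv.nontrivial
  obtain ⟨d, hd⟩ := exists_supportDim_eq B M'
  obtain ⟨e, he⟩ := Groth.LocCohBase.exists_depth_eq (R := B) M'
  obtain ⟨hlow, he'⟩ := (depth_eq_iff hω' hn M' e).1 he
  have hrange : ∀ i, p ∈ Module.support A (Dual.inD A M ⟶ ω⟦i⟧) → c - d ≤ i ∧ i ≤ c - e := fun i hi => by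
    have h := (hiff i).1 hi
    have h1 : -(d : ℤ) ≤ i - c ∧ i - c ≤ 0 := by
      by_contra hc
      exact not_subsingleton_iff_nontrivial.2 h (hom_le_ringKrullDim hω' hn M' hd.le (i - c) (by lia))
    refine ⟨by lia, ?_⟩
    by_contra hc
    have h2 := hlow (c - i).toNat (by lia)
    rw [show (-((c - i).toNat : ℤ)) = i - c by lia] at h2
    exact not_subsingleton_iff_nontrivial.2 h h2
  have hd' : p ∈ Module.support A (Dual.inD A M ⟶ ω⟦c - d⟧) := by
    rw [hiff, sub_sub_cancel_left]
    exact nontrivial_hom_supportDim hω' hn M' d hd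
  have he'' : p ∈ Module.support A (Dual.inD A M ⟶ ω⟦c - e⟧) := by
    rw [hiff, sub_sub_cancel_left]
    exact he'
  refine ⟨d, e, ?_, ?_, by have := (hrange _ he'').1; lia, hd', he'', hrange⟩
  · rw [← hd]
    exact (Module.supportDim_eq_of_equiv (tensorEquivLocalized p.asIdeal M)).symm
  · rw [← he]
    exact (Groth.DualCore.depth_congr (tensorEquivLocalized p.asIdeal M)).symm

omit hω in
theorem skAt_iff {d e k : ℕ} {x y : WithBot ℕ∞} {z : ℕ∞} (hd : x = d) (he : z = e) (hy : y = (z : WithBot ℕ∞)) :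
    min (k : WithBot ℕ∞) x ≤ y ↔ k ≤ e ∨ d ≤ e := by
  subst hd he hy
  rw [show ((e : ℕ∞) : WithBot ℕ∞) = ((e : ℕ) : WithBot ℕ∞) from rfl, min_le_iff, natCast_le_natCast,
    natCast_le_natCast]

/-- Serre's condition at a prime through the nonvanishing degrees -/
theorem cond_at_iff (k : ℕ) (p : PrimeSpectrum A) :
    min (k : WithBot ℕ∞) (Module.supportDim (Localization.AtPrime p.asIdeal) (LocalizedModule p.asIdeal.primeCompl M)) ≤
        ((LocCoh.depth (Localization.AtPrime p.asIdeal) (LocalizedModule p.asIdeal.primeCompl M) : ℕ∞) : WithBot ℕ∞) ↔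
      ∀ i j : ℤ, j < i → p ∈ Module.support A (Dual.inD A M ⟶ ω⟦i⟧) → p ∈ Module.support A (Dual.inD A M ⟶ ω⟦j⟧) →
        (((k : ℤ) + i - j).toNat : WithBot ℕ∞) ≤
          Module.supportDim (Localization.AtPrime p.asIdeal) (LocalizedModule p.asIdeal.primeCompl M) := by
  by_cases hp : p ∈ Module.support A M
  · obtain ⟨d, e, hd, he, hed, hpd, hpe, hrange⟩ := exists_degree_range hω M p hp
    rw [skAt_iff hd he rfl]
    constructor
    · intro h i j hji hi hj
      have h1 := hrange i hi
      have h2 := hrange j hj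
      rw [hd, natCast_le_natCast]
      lia
    · intro h
      rcases Nat.lt_or_ge e d with hlt | hge
      · have h1 := h _ _ (by lia) hpe hpd
        rw [hd, natCast_le_natCast] at h1
        lia
      · exact Or.inr hge
  · refine iff_of_true ?_ fun i j _ hi => absurd (mem_support_of_mem_hom hω M p i hi) hp
    rw [Module.notMem_support_iff] at hp
    haveI := hp
    rw [Module.supportDim_eq_bot_of_subsingleton]
    exact (min_le_right _ _).trans bot_le

theorem hasSk_iff (k : ℕ) :
    LocCoh.HasSk k A M ↔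
      ∀ (i j : ℤ), j < i → ∀ p : PrimeSpectrum A,
        p ∈ Module.support A (Dual.inD A M ⟶ ω⟦i⟧) → p ∈ Module.support A (Dual.inD A M ⟶ ω⟦j⟧) →
          (((k : ℤ) + i - j).toNat : WithBot ℕ∞) ≤
            Module.supportDim (Localization.AtPrime p.asIdeal) (LocalizedModule p.asIdeal.primeCompl M) :=
  ⟨fun h i j hji p => (cond_at_iff hω M k p).1 (h p.asIdeal) i j hji,
    fun h p _ => (cond_at_iff hω M k ⟨p, inferInstance⟩).2 fun i j hji => h i j hji ⟨p, inferInstance⟩⟩

theorem isClosed_support_hom (i : ℤ) : IsClosed (Module.support A (Dual.inD A M ⟶ ω⟦i⟧)) := by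
  obtain ⟨c, hc⟩ := exists_isGE hω
  haveI := finite_hom ω c hω.finite_cohomology i M
  rw [Module.support_eq_zeroLocus]
  exact PrimeSpectrum.isClosed_zeroLocus _

end Degrees

/-- Serre's condition at a point concerns the generizations -/
theorem hasSkAt_iff (k : ℕ) (M : Type u) [AddCommGroup M] [Module A M] [Module.Finite A M] (q : PrimeSpectrum A) :
    EGA4.HasSkAt k A M q.asIdeal ↔ ∀ p : PrimeSpectrum A, p ≤ q →
      min (k : WithBot ℕ∞) (Module.supportDim (Localization.AtPrime p.asIdeal) (LocalizedModule p.asIdeal.primeCompl M)) ≤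
        ((LocCoh.depth (Localization.AtPrime p.asIdeal) (LocalizedModule p.asIdeal.primeCompl M) : ℕ∞) : WithBot ℕ∞) := by
  let B := Localization.AtPrime q.asIdeal
  haveI : IsNoetherianRing B := IsLocalization.isNoetherianRing q.asIdeal.primeCompl _ inferInstance
  let e := IsLocalization.AtPrime.primeSpectrumOrderIso B q.asIdeal
  have key : ∀ P : PrimeSpectrum B,
      Module.supportDim (Localization.AtPrime P.asIdeal)
          (LocalizedModule P.asIdeal.primeCompl (LocalizedModule q.asIdeal.primeCompl M)) =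
        Module.supportDim (Localization.AtPrime (e P).1.asIdeal) (LocalizedModule (e P).1.asIdeal.primeCompl M) := by
    intro P
    rw [Groth.Ega4Algebra1.supportDim_localizedModule_atPrime, Groth.Ega4Algebra1.supportDim_localizedModule_atPrime]
    apply Order.krullDim_eq_of_orderIso
    exact
      { toFun := fun a => ⟨(e a.1).1,
          (Groth.Ega4Algebra1.mem_support_localizedModule_iff q.asIdeal.primeCompl a.1).mp a.2.1,
          e.monotone (show a.1 ≤ P from a.2.2)⟩
        invFun := fun b => ⟨e.symm ⟨b.1, le_trans b.2.2 (e P).2⟩,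
          (Groth.Ega4Algebra1.mem_support_localizedModule_iff q.asIdeal.primeCompl _).mpr (by
            have h : (e (e.symm ⟨b.1, le_trans b.2.2 (e P).2⟩)).1 = b.1 := by rw [e.apply_symm_apply]
            exact (h ▸ b.2.1 : _)),
          e.le_iff_le.1 (by rw [e.apply_symm_apply]; exact b.2.2)⟩
        left_inv := fun a => by apply Subtype.ext; exact e.symm_apply_apply a.1
        right_inv := fun b => by apply Subtype.ext; simp only [Subtype.coe_eta]; rw [e.apply_symm_apply]
        map_rel_iff' := fun {a b} => e.le_iff_le (x := a.1) (y := b.1) }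
  constructor
  · intro h p hp
    let P : PrimeSpectrum B := e.symm ⟨p, hp⟩
    have hP : (e P).1 = p := by rw [e.apply_symm_apply]
    have h1 := h P.asIdeal
    rw [key, Groth.LocCohBase.depth_localized_localized q.asIdeal P.asIdeal (e P).1.asIdeal rfl M, hP] at h1
    exact h1
  · intro h P hP
    have h1 := h (e ⟨P, hP⟩).1 (e ⟨P, hP⟩).2
    rw [← key, ← Groth.LocCohBase.depth_localized_localized q.asIdeal P (e ⟨P, hP⟩).1.asIdeal rfl M] at h1
    exact h1

theorem isOpen_skLocus (hω : Dual.IsDualizing A ω) (M : Type u) [AddCommGroup M] [Module A M] [Module.Finite A M]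
    (k : ℕ) : IsOpen {p : PrimeSpectrum A | EGA4.HasSkAt k A M p.asIdeal} := by
  obtain ⟨a, b, hab⟩ := hω.finite_injective_dimension
  let Z : ℤ × ℤ → Set (PrimeSpectrum A) := fun x =>
    Module.support A (Dual.inD A M ⟶ ω⟦x.1⟧) ∩ Module.support A (Dual.inD A M ⟶ ω⟦x.2⟧)
  have hZ : ∀ x, IsClosed (Z x) := fun x => (isClosed_support_hom hω M _).inter (isClosed_support_hom hω M _)
  let idl : ℤ × ℤ → Ideal A := fun x => PrimeSpectrum.vanishingIdeal (Z x)
  let bad : ℤ × ℤ → PrimeSpectrum A → Prop := fun x q =>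
    x.2 < x.1 ∧ ¬ (((k : ℤ) + x.1 - x.2).toNat : WithBot ℕ∞) ≤
      Module.supportDim (Localization.AtPrime q.asIdeal) (LocalizedModule q.asIdeal.primeCompl M)
  let I : Set ((ℤ × ℤ) × PrimeSpectrum A) :=
    {y | y.1 ∈ Set.Icc a b ×ˢ Set.Icc a b ∧ y.2.asIdeal ∈ (idl y.1).minimalPrimes ∧ bad y.1 y.2}
  have hI : I.Finite := by
    refine Set.Finite.subset (s := (Set.Icc a b ×ˢ Set.Icc a b) ×ˢ
      (⋃ x ∈ Set.Icc a b ×ˢ Set.Icc a b, {q : PrimeSpectrum A | q.asIdeal ∈ (idl x).minimalPrimes})) ?_ ?_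
    · refine ((Set.finite_Icc a b).prod (Set.finite_Icc a b)).prod
        (((Set.finite_Icc a b).prod (Set.finite_Icc a b)).biUnion fun x _ => ?_)
      exact Set.Finite.preimage (fun q _ r _ h => PrimeSpectrum.ext h) (Ideal.finite_minimalPrimes_of_isNoetherianRing A _)
    · rintro ⟨x, q⟩ ⟨hx, hq, -⟩
      exact ⟨hx, Set.mem_iUnion₂.2 ⟨x, hx, hq⟩⟩
  have hset : {p : PrimeSpectrum A | EGA4.HasSkAt k A M p.asIdeal} =
      (⋃ y ∈ I, PrimeSpectrum.zeroLocus (y.2.asIdeal : Set A))ᶜ := by
    ext p
    rw [Set.mem_ofPred_eq, hasSkAt_iff, Set.mem_compl_iff, Set.mem_iUnion₂]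
    constructor
    · rintro h ⟨⟨⟨i, j⟩, q⟩, ⟨-, hq, hji, hbad⟩, hqp⟩
      have hqZ : q ∈ Z (i, j) := by
        rw [← (hZ (i, j)).closure_eq, ← PrimeSpectrum.zeroLocus_vanishingIdeal_eq_closure]
        exact hq.1.2
      exact hbad ((cond_at_iff hω M k q).1 (h q hqp) i j hji hqZ.1 hqZ.2)
    · intro h r hr
      rw [cond_at_iff hω]
      intro i j hji hi hj
      by_contra hbad
      have hle : idl (i, j) ≤ r.asIdeal := fun x hx => (PrimeSpectrum.mem_vanishingIdeal _ _).1 hx r ⟨hi, hj⟩
      obtain ⟨q, hq, hqr⟩ := Ideal.exists_minimalPrimes_le hle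
      have hin : ∀ l, r ∈ Module.support A (Dual.inD A M ⟶ ω⟦l⟧) → l ∈ Set.Icc a b := by
        intro l hl
        by_contra hout
        haveI := hab M l (by simp at hout; lia)
        rw [Module.support_eq_empty] at hl
        exact hl
      refine h ⟨⟨(i, j), ⟨q, hq.isPrime⟩⟩, ⟨⟨hin i hi, hin j hj⟩, hq, hji, fun hd => hbad ?_⟩, ?_⟩
      · haveI : q.IsPrime := hq.isPrime
        exact hd.trans (Groth.Ega4Algebra1.supportDim_localizedModule_mono A M (p := q) (q := r.asIdeal) hqr)
      · exact hqr.trans hr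
  rw [hset]
  exact (hI.isClosed_biUnion fun y _ => PrimeSpectrum.isClosed_zeroLocus _).isOpen_compl

end Groth.MiscGeom.QGor

end
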