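import Groth.Agent.MiscGeom.SkDual
import Mathlib.RingTheory.KrullDimension.NonZeroDivisors

/-!
# Serre conditions for equidimensional modules through dualizing complexes
-/

universe u

open CategoryTheory IsLocalRing Groth.DualCore

attribute [local instance] HasDerivedCategory.standard

noncomputable section

namespace Groth.MiscGeom.QGor

variable {A : Type u} [CommRing A] [IsNoetherianRing A] {ω : Dual.D A}

theorem ringKrullDim_quotient_eq_coheight (p : PrimeSpectrum A) :
    ringKrullDim (A ⧸ p.asIdeal) = ((Order.coheight p : ℕ∞) : WithBot ℕ∞) := by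
  rw [ringKrullDim_quotient, Order.coheight_eq_krullDim_Ici]
  exact Order.krullDim_eq_of_orderIso (OrderIso.setCongr _ _ (Set.ext fun q => Iff.rfl))

theorem exists_coheight_eq (hω : Dual.IsDualizing A ω) (p : PrimeSpectrum A) : ∃ e : ℕ, Order.coheight p = e := by
  obtain ⟨N, hN⟩ := exists_ringKrullDim_le hω
  have h := (Order.coheight_le_krullDim p).trans hN
  exact ⟨(Order.coheight p).toNat, (ENat.coe_toNat fun htop => by
    rw [htop] at h
    exact not_le.2 (ENat.natCast_lt_top N) (WithBot.coe_le_coe.1 h)).symm⟩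

/-- if the dimension function vanishes on maximal ideals it is `p ↦ -dim A/p` -/
theorem degree_eq_neg_coheight (hω : Dual.IsDualizing A ω)
    (hmax : ∀ m : PrimeSpectrum A, m.asIdeal.IsMaximal → degree hω m = 0) :
    ∀ (e : ℕ) (p : PrimeSpectrum A), Order.coheight p = e → degree hω p = -(e : ℤ) := by
  intro e
  induction e with
  | zero =>
    intro p hp
    rw [hmax p (PrimeSpectrum.isMax_iff.1 (Order.coheight_eq_zero.1 hp))]
    simp
  | succ n ih =>
    intro p hp
    obtain ⟨-, ⟨q, hpq, hq⟩, hle⟩ := Order.coheight_eq_coe_add_one_iff.1 (by exact_mod_cast hp :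
      Order.coheight p = (n : ℕ∞) + 1)
    have hcov : p ⋖ q := ⟨hpq, fun r hpr hrq => by
      obtain ⟨m, hm⟩ := exists_coheight_eq hω r
      have h1 := Order.coheight_strictAnti hrq (by rw [hq]; exact ENat.natCast_lt_top n)
      have h2 := hle r hpr
      rw [hq, hm] at h1
      rw [hm] at h2
      norm_cast at h1 h2
      omega⟩
    rw [degree_covBy hω p q hcov, ih q hq]
    push_cast
    ring

theorem isMax_degree_zero (hω : Dual.IsDualizing A ω) (m : PrimeSpectrum A)
    (h : ∀ i : ℤ, i ≠ 0 → Subsingleton (Dual.inD A (A ⧸ m.asIdeal) ⟶ ω⟦i⟧)) : degree hω m = 0 := by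
  by_contra hne
  haveI := h _ hne
  exact not_subsingleton_iff_nontrivial.2 ((degree_iff hω m _).2 rfl) inferInstance

theorem supportDim_le_natCast_iff (E : Type*) [AddCommGroup E] [Module A E] (N : ℕ) :
    Module.supportDim A E ≤ (N : WithBot ℕ∞) ↔ ∀ p ∈ Module.support A E, Order.coheight p ≤ (N : ℕ∞) := by
  constructor
  · intro h p hp
    refine WithBot.coe_le_coe.1 (le_trans ?_ h)
    rw [Order.coheight_eq_krullDim_Ici]
    exact Order.krullDim_le_of_strictMono (fun q => ⟨q.1, Module.mem_support_mono q.2 hp⟩) fun _ _ hlt => hlt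
  · intro h
    refine iSup_le fun l => ?_
    have h1 : ((l.length : ℕ) : ℕ∞) ≤ Order.coheight l.head.1 := by
      refine le_trans ?_ (Order.coheight_le_coheight_apply_of_strictMono (fun q : Module.support A E => q.1)
        (fun _ _ hlt => hlt) l.head)
      exact Order.length_le_coheight le_rfl
    exact WithBot.coe_le_coe.2 (h1.trans (h _ l.head.2))

variable (hω : Dual.IsDualizing A ω) (M : Type u) [AddCommGroup M] [Module A M] [Module.Finite A M]
  (hmax : ∀ m : PrimeSpectrum A, m.asIdeal.IsMaximal → degree hω m = 0) (δ : ℕ)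
  (hEq : ∀ P ∈ (Module.annihilator A M).minimalPrimes, ringKrullDim (A ⧸ P) = δ)

include hω hEq

omit hmax in
theorem exists_minimal_below (p : PrimeSpectrum A) (hp : p ∈ Module.support A M) :
    ∃ P : PrimeSpectrum A, P ≤ p ∧ Order.coheight P = δ ∧ P ∈ Module.support A M ∧
      ∀ Q ∈ Module.support A M, Q ≤ P → Q = P := by
  rw [Module.mem_support_iff_of_finite] at hp
  obtain ⟨P, hP, hle⟩ := Ideal.exists_minimalPrimes_le hp
  refine ⟨⟨P, hP.isPrime⟩, hle, ?_, ?_, fun Q hQ hQP => ?_⟩
  · have := hEq P hP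
    rw [ringKrullDim_quotient_eq_coheight ⟨P, hP.isPrime⟩] at this
    exact WithBot.coe_inj.1 (by exact_mod_cast this)
  · rw [Module.mem_support_iff_of_finite]
    exact hP.1.2
  · rw [Module.mem_support_iff_of_finite] at hQ
    exact PrimeSpectrum.ext (le_antisymm hQP (hP.2 ⟨Q.2, hQ⟩ hQP))

omit hmax in
theorem coheight_le_of_support (p : PrimeSpectrum A) (hp : p ∈ Module.support A M) : Order.coheight p ≤ (δ : ℕ∞) := by
  obtain ⟨P, hP, hd, -⟩ := exists_minimal_below hω M δ hEq p hp
  rw [← hd]
  exact Order.coheight_anti hP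

omit hmax in
theorem supportDim_localized_add_le (p : PrimeSpectrum A) (c : ℕ) (hc : Order.coheight p = c) (d : ℕ)
    (hd : Module.supportDim (Localization.AtPrime p.asIdeal) (LocalizedModule p.asIdeal.primeCompl M) = d) :
    d + c ≤ δ := by
  rw [Groth.Ega4Algebra1.supportDim_localizedModule_atPrime] at hd
  obtain ⟨l, hl⟩ := Order.le_krullDim_iff.1 hd.ge
  let g : {P : PrimeSpectrum A // P ∈ Module.support A M ∧ P.asIdeal ≤ p.asIdeal} → ℕ := fun P =>
    δ - (Order.coheight P.1).toNat
  have hg : StrictMono g := fun P Q hlt => by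
    obtain ⟨a, ha⟩ := exists_coheight_eq hω P.1
    obtain ⟨b, hb⟩ := exists_coheight_eq hω Q.1
    have h1 := Order.coheight_strictAnti (show P.1 < Q.1 from hlt) (by rw [hb]; exact ENat.natCast_lt_top b)
    have h2 := coheight_le_of_support hω M δ hEq P.1 P.2.1
    rw [hb, ha] at h1
    rw [ha] at h2
    norm_cast at h1 h2
    simp only [g, ha, hb, ENat.toNat_natCast]
    omega
  have h1 : g l.head + l.length ≤ g l.last := (l.map g hg).head_add_length_le_nat
  obtain ⟨b, hb⟩ := exists_coheight_eq hω l.last.1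
  have h2 : Order.coheight p ≤ Order.coheight l.last.1 := Order.coheight_anti l.last.2.2
  rw [hb, hc] at h2
  have h3 := coheight_le_of_support hω M δ hEq l.last.1 l.last.2.1
  rw [hb] at h3
  norm_cast at h2 h3
  simp only [g, hb, ENat.toNat_natCast] at h1
  omega

include hmax

theorem mem_support_top_degree (p : PrimeSpectrum A) (hp : p ∈ Module.support A M) :
    p ∈ Module.support A (Dual.inD A M ⟶ ω⟦-(δ : ℤ)⟧) := by
  obtain ⟨P, hPp, hd, hPs, hmin⟩ := exists_minimal_below hω M δ hEq p hp
  obtain ⟨d, e, hdim, -, -, hmem, -, -⟩ := exists_degree_range hω M P hPs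
  have h0 : d = 0 := by
    rw [Groth.Ega4Algebra1.supportDim_localizedModule_atPrime] at hdim
    haveI : Subsingleton {Q : PrimeSpectrum A // Q ∈ Module.support A M ∧ Q.asIdeal ≤ P.asIdeal} :=
      ⟨fun a b => Subtype.ext ((hmin a.1 a.2.1 a.2.2).trans (hmin b.1 b.2.1 b.2.2).symm)⟩
    haveI : Nonempty {Q : PrimeSpectrum A // Q ∈ Module.support A M ∧ Q.asIdeal ≤ P.asIdeal} := ⟨⟨P, hPs, le_rfl⟩⟩
    rw [Order.krullDim_eq_zero] at hdim
    exact_mod_cast hdim.symm
  rw [h0, degree_eq_neg_coheight hω hmax δ P hd, Nat.cast_zero, sub_zero] at hmem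
  exact Module.mem_support_mono hPp hmem

/-- `(S_k)` for equidimensional modules -/
theorem hasSk_iff_dim (k : ℕ) :
    LocCoh.HasSk k A M ↔ ∀ j : ℤ, j ≠ -(δ : ℤ) → ∀ p ∈ Module.support A (Dual.inD A M ⟶ ω⟦j⟧),
      ((Order.coheight p).toNat : ℤ) ≤ -j - k := by
  constructor
  · intro h j hj p hp
    have hpM := mem_support_of_mem_hom hω M p j hp
    obtain ⟨d, e, hd, he, hed, -, -, hrange⟩ := exists_degree_range hω M p hpM
    obtain ⟨c, hc⟩ := exists_coheight_eq hω p
    have h1 := hrange j hp
    have h2 := hrange _ (mem_support_top_degree hω M hmax δ hEq p hpM)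
    have h3 := supportDim_localized_add_le hω M δ hEq p c hc d hd
    rw [degree_eq_neg_coheight hω hmax c p hc] at h1 h2
    have h4 := (skAt_iff hd he rfl).1 (h p.asIdeal)
    rw [hc, ENat.toNat_natCast]
    omega
  · intro h P _
    let p : PrimeSpectrum A := ⟨P, inferInstance⟩
    by_cases hpM : p ∈ Module.support A M
    · obtain ⟨d, e, hd, he, hed, -, hme, hrange⟩ := exists_degree_range hω M p hpM
      obtain ⟨c, hc⟩ := exists_coheight_eq hω p
      refine (skAt_iff hd he rfl).2 ?_
      have h2 := hrange _ (mem_support_top_degree hω M hmax δ hEq p hpM)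
      have h3 := supportDim_localized_add_le hω M δ hEq p c hc d hd
      rw [degree_eq_neg_coheight hω hmax c p hc] at h2 hme
      by_cases hj : -(c : ℤ) - e = -(δ : ℤ)
      · exact Or.inr (by omega)
      · have h1 := h _ hj p hme
        rw [hc, ENat.toNat_natCast] at h1
        exact Or.inl (by omega)
    · rw [Module.notMem_support_iff] at hpM
      haveI : Subsingleton (LocalizedModule P.primeCompl M) := hpM
      rw [Module.supportDim_eq_bot_of_subsingleton]
      exact (min_le_right _ _).trans bot_le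

theorem hasSk_iff_supportDim (k : ℕ) :
    LocCoh.HasSk k A M ↔
      ∀ j : ℤ, j ≠ -(δ : ℤ) →
        (-j - (k : ℤ) < 0 → Subsingleton (Dual.inD A M ⟶ ω⟦j⟧)) ∧
        (0 ≤ -j - (k : ℤ) → Module.supportDim A (Dual.inD A M ⟶ ω⟦j⟧) ≤ ((-j - (k : ℤ)).toNat : WithBot ℕ∞)) := by
  rw [hasSk_iff_dim hω M hmax δ hEq k]
  refine forall₂_congr fun j _ => ⟨fun h => ⟨fun hneg => ?_, fun hnn => ?_⟩, fun h p hp => ?_⟩
  · rw [← Module.support_eq_empty_iff (R := A)]
    exact Set.eq_empty_of_forall_notMem fun p hp => by have := h p hp; omega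
  · rw [supportDim_le_natCast_iff]
    intro p hp
    obtain ⟨c, hc⟩ := exists_coheight_eq hω p
    have := h p hp
    rw [hc, ENat.toNat_natCast] at this
    rw [hc]
    exact Nat.cast_le.2 (by omega)
  · by_cases hneg : -j - (k : ℤ) < 0
    · haveI := h.1 hneg
      rw [Module.support_eq_empty] at hp
      exact absurd hp (Set.notMem_empty p)
    · have h2 := h.2 (by omega)
      rw [supportDim_le_natCast_iff] at h2
      obtain ⟨c, hc⟩ := exists_coheight_eq hω p
      have h3 := h2 p hp
      rw [hc] at h3 ⊢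
      rw [ENat.toNat_natCast]
      have := Nat.cast_le.1 h3
      omega

/-- no cohomology below the top degree -/
theorem subsingleton_hom_of_lt (j : ℤ) (hj : j < -(δ : ℤ)) : Subsingleton (Dual.inD A M ⟶ ω⟦j⟧) := by
  rw [← Module.support_eq_empty_iff (R := A)]
  refine Set.eq_empty_of_forall_notMem fun p hp => ?_
  have hpM := mem_support_of_mem_hom hω M p j hp
  obtain ⟨d, e, hd, -, -, -, -, hrange⟩ := exists_degree_range hω M p hpM
  obtain ⟨c, hc⟩ := exists_coheight_eq hω p
  have h1 := hrange j hp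
  have h3 := supportDim_localized_add_le hω M δ hEq p c hc d hd
  rw [degree_eq_neg_coheight hω hmax c p hc] at h1
  omega

end Groth.MiscGeom.QGor

end
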