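import Groth.Agent.MiscGeom.DualIsoOff
import Groth.Agent.DualCore.CM
import Mathlib

/-!
# Serre's condition `(S₂)` passes to duals
-/

universe u

noncomputable section

namespace Groth.MiscGeom.QGor

variable {R : Type u} [CommRing R] [IsNoetherianRing R]

/-- depth along `J` from a Serre condition -/
theorem le_idealDepth_of_hasSk (J : Ideal R) (k : ℕ) (hS : LocCoh.HasSk k R R) (hJ : (k : ℕ∞) ≤ J.height) :
    (k : ℕ∞) ≤ LocCoh.idealDepth J R := by
  refine Groth.LocCohBase.le_idealDepth_of_forall_depth J k R fun p _ hle => ?_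
  let B := Localization.AtPrime p
  let eB : LocalizedModule p.primeCompl R ≃ₗ[B] B :=
    LinearEquiv.extendScalarsOfIsLocalization p.primeCompl B
      (IsLocalizedModule.iso p.primeCompl (Algebra.linearMap R B))
  have h := hS p
  rw [Module.supportDim_eq_of_equiv eB, Module.supportDim_self_eq_ringKrullDim,
    IsLocalization.AtPrime.ringKrullDim_eq_height p B] at h
  refine WithBot.coe_le_coe.1 (le_trans (le_min ?_ ?_) h)
  · exact le_rfl
  · exact WithBot.coe_le_coe.2 (hJ.trans (Ideal.height_mono hle))

/-- the dual of a finite module has depth one along `J` when the ring has -/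
theorem one_le_depth_dual (J : Ideal R) (hR : 1 ≤ LocCoh.idealDepth J R) (M : Type u) [AddCommGroup M] [Module R M]
    [Module.Finite R M] : 1 ≤ LocCoh.idealDepth J (Module.Dual R M) := by
  obtain ⟨n, g, hg⟩ := Module.Finite.exists_fin' R M
  exact Groth.DepthRefl.one_le_depth_of_injective J (LinearMap.dualMap_injective_of_surjective hg)
    (hR.trans (Groth.DepthRefl.le_depth_dual_pi J n))

/-- duals of finite modules over a ring with `(S₂)` have `(S₂)` -/
theorem hasSk_two_dual (hS : LocCoh.HasSk 2 R R) (M : Type u) [AddCommGroup M] [Module R M] [Module.Finite R M] :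
    LocCoh.HasSk 2 R (Module.Dual R M) := by
  intro p _
  let B := Localization.AtPrime p
  have hS1 : LocCoh.HasSk 1 R R := fun q hq =>
    (min_le_min (show ((1 : ℕ) : WithBot ℕ∞) ≤ ((2 : ℕ) : WithBot ℕ∞) by norm_num) le_rfl).trans (hS q)
  have hloc : ∀ k : ℕ, (k : ℕ∞) ≤ LocCoh.idealDepth p (Module.Dual R M) →
      ((k : ℕ) : WithBot ℕ∞) ≤
        ((LocCoh.depth B (LocalizedModule p.primeCompl (Module.Dual R M)) : ℕ∞) : WithBot ℕ∞) := fun k hk =>
    WithBot.coe_le_coe.2 (hk.trans (Groth.LocCohBase.idealDepth_le_depth_localized p p le_rfl _))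
  refine le_trans (min_le_min le_rfl (Module.supportDim_le_ringKrullDim B _)) ?_
  rw [IsLocalization.AtPrime.ringKrullDim_eq_height p B]
  rcases le_or_gt (2 : ℕ∞) p.height with h2 | h2
  · exact (min_le_left _ _).trans
      (hloc 2 (two_le_depth_dual p (le_idealDepth_of_hasSk p 2 hS h2) M))
  rcases le_or_gt (1 : ℕ∞) p.height with h1 | h1
  · refine (min_le_right _ _).trans (le_trans ?_ (hloc 1 (one_le_depth_dual p (le_idealDepth_of_hasSk p 1 hS1 h1) M)))
    have : p.height = 1 := le_antisymm (by
      revert h2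
      generalize p.height = x
      cases x <;> intro h2
      · exact absurd h2 (by simp)
      · norm_cast at h2 ⊢
        omega) h1
    rw [this]
    rfl
  · rw [ENat.lt_one_iff_eq_zero] at h1
    rw [h1]
    exact (min_le_right _ _).trans (WithBot.coe_le_coe.2 bot_le)

end Groth.MiscGeom.QGor

end
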