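import Mathlib

/-! Systems of parameters deep in the maximal ideal, by prime avoidance. -/

set_option autoImplicit false

universe u

namespace Groth.MiscGeom.SopAvoid

open IsLocalRing

theorem le_of_succ_le {a : WithBot ℕ∞} {n : ℕ} (h : a + 1 ≤ (n + 1 : ℕ)) : a ≤ (n : ℕ) := by
  cases a with
  | bot => exact bot_le
  | coe a =>
    have h' : a + 1 ≤ (n : ℕ∞) + 1 := by
      have := h
      norm_cast at this ⊢
    exact WithBot.coe_le_coe.2 ((ENat.add_le_add_iff_right ENat.one_ne_top).1 h')

/-- An element outside every minimal prime drops the dimension. -/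
theorem ringKrullDim_quotient_succ_le {R : Type u} [CommRing R] [IsLocalRing R] {x : R}
    (hx : x ∈ maximalIdeal R) (h : ∀ p ∈ minimalPrimes R, x ∉ p) :
    ringKrullDim (R ⧸ Ideal.span {x}) + 1 ≤ ringKrullDim R := by
  have hr' : Ideal.span {x} ≠ ⊤ := fun e => (maximalIdeal.isMaximal R).ne_top
    (top_le_iff.1 (e ▸ (Ideal.span_singleton_le_iff_mem _).2 hx))
  have : Nonempty (PrimeSpectrum.zeroLocus (R := R) (Ideal.span {x})) := by
    rwa [Set.nonempty_coe_sort, Set.nonempty_iff_ne_empty, ne_eq,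
      PrimeSpectrum.zeroLocus_empty_iff_eq_top]
  rw [ringKrullDim_quotient, Order.krullDim_eq_iSup_length, ringKrullDim,
    Order.krullDim_eq_iSup_length, ← WithBot.coe_one, ← WithBot.coe_add,
    ENat.iSup_add, WithBot.coe_le_coe, iSup_le_iff]
  intro l
  obtain ⟨p, hp, hp'⟩ := Ideal.exists_minimalPrimes_le (J := l.head.1.asIdeal) bot_le
  let p' : PrimeSpectrum R := ⟨p, hp.1.1⟩
  have hxl : x ∈ l.head.1.asIdeal := by
    have := l.head.2
    simp only [PrimeSpectrum.mem_zeroLocus, SetLike.coe_subset_coe] at this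
    exact this (Ideal.mem_span_singleton_self x)
  have hp' : p' < l.head := lt_of_le_of_ne hp' fun e => h p hp (by
    rw [show p = l.head.1.asIdeal from congrArg PrimeSpectrum.asIdeal e]; exact hxl)
  refine le_trans ?_ (le_iSup _ ((l.map Subtype.val (fun _ _ ↦ id)).cons p' hp'))
  simp

/-- A sequence of length at least the dimension, inside a given power of the maximal ideal, generating an ideal
primary to the maximal ideal. -/
theorem exists_sop (k e : ℕ) : ∀ (R : Type u) [CommRing R] [IsNoetherianRing R] [IsLocalRing R],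
    ringKrullDim R ≤ e → ∃ g : Fin e → R, (∀ i, g i ∈ maximalIdeal R ^ (k + 1)) ∧
      maximalIdeal R ≤ (Ideal.span (Set.range g)).radical := by
  induction e with
  | zero =>
    intro R _ _ _ he
    haveI : Ring.KrullDimLE 0 R := Ring.krullDimLE_iff.2 (by simpa using he)
    refine ⟨Fin.elim0, fun i => i.elim0, fun x hx => ?_⟩
    rw [Set.range_eq_empty, Ideal.span_empty]
    rw [← Ring.KrullDimLE.nilradical_eq_maximalIdeal R] at hx
    exact hx
  | succ e ih =>
    intro R _ _ _ he
    by_cases h0 : ringKrullDim R ≤ (e : ℕ)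
    · obtain ⟨g, hg, hr⟩ := ih R h0
      refine ⟨Fin.cons 0 g, fun i => ?_, hr.trans (Ideal.radical_mono (Ideal.span_mono ?_))⟩
      · refine Fin.cases ?_ (fun j => ?_) i
        · simp
        · simpa using hg j
      · rintro _ ⟨i, rfl⟩
        exact ⟨i.succ, by simp⟩
    obtain ⟨x, hx, hxmin⟩ : ∃ x ∈ maximalIdeal R ^ (k + 1), ∀ p ∈ minimalPrimes R, x ∉ p := by
      by_contra hcon
      push Not at hcon
      have hfin := minimalPrimes.finite_of_isNoetherianRing R
      have hsub : ((maximalIdeal R ^ (k + 1) : Ideal R) : Set R) ⊆ ⋃ p ∈ (hfin.toFinset : Set (Ideal R)), (p : Set R) := by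
        intro x hx
        obtain ⟨p, hp, hxp⟩ := hcon x hx
        exact Set.mem_biUnion (by simpa using hp) hxp
      obtain ⟨p, hp, hle⟩ := (Ideal.subset_union_prime (f := fun p => p) ⊥ ⊥ (fun p hp _ _ =>
        ((hfin.mem_toFinset.1 hp).1.1))).1 hsub
      have hpmin := hfin.mem_toFinset.1 hp
      haveI := hpmin.1.1
      have hm : maximalIdeal R = p := le_antisymm ((Ideal.IsPrime.pow_le_iff (Nat.succ_ne_zero k)).1 hle)
        (le_maximalIdeal hpmin.1.1.ne_top)
      haveI : Ring.KrullDimLE 0 R := Ring.KrullDimLE.mk₀ fun q hq => by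
        have hq' : q = maximalIdeal R := le_antisymm (le_maximalIdeal hq.ne_top)
          (hm ▸ hpmin.2 ⟨hq, bot_le⟩ (hm ▸ le_maximalIdeal hq.ne_top))
        rw [hq']; infer_instance
      exact h0 ((Ring.krullDimLE_iff.1 (inferInstance : Ring.KrullDimLE 0 R)).trans (by simp))
    have hxm : x ∈ maximalIdeal R := Ideal.pow_le_self (Nat.succ_ne_zero k) hx
    haveI : Nontrivial (R ⧸ Ideal.span {x}) := Ideal.Quotient.nontrivial_iff.2 fun e =>
      (maximalIdeal.isMaximal R).ne_top (top_le_iff.1 (e ▸ (Ideal.span_singleton_le_iff_mem _).2 hxm))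
    let π := Ideal.Quotient.mk (Ideal.span {x})
    have hπ : Function.Surjective π := Ideal.Quotient.mk_surjective
    haveI : IsLocalRing (R ⧸ Ideal.span {x}) := IsLocalRing.of_surjective' π hπ
    have hmap : (maximalIdeal R).map π = maximalIdeal (R ⧸ Ideal.span {x}) :=
      IsLocalRing.map_maximalIdeal_of_surjective π hπ
    have hd : ringKrullDim (R ⧸ Ideal.span {x}) ≤ (e : ℕ) := by
      have h := (ringKrullDim_quotient_succ_le hxm hxmin).trans he
      exact le_of_succ_le h
    obtain ⟨g, hg, hr⟩ := ih (R ⧸ Ideal.span {x}) hd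
    have hlift : ∀ i, ∃ a ∈ maximalIdeal R ^ (k + 1), π a = g i := fun i => by
      have := hg i
      rw [← hmap, ← Ideal.map_pow] at this
      exact (Ideal.mem_map_iff_of_surjective π hπ).1 this
    choose a ha hag using hlift
    refine ⟨Fin.cons x a, fun i => ?_, fun y hy => ?_⟩
    · exact Fin.cases (by simpa using hx) (fun j => by simpa using ha j) i
    · obtain ⟨n, hn⟩ := hr (hmap ▸ Ideal.mem_map_of_mem π hy)
      refine ⟨n, ?_⟩
      rw [← map_pow, show g = π ∘ a from funext fun i => (hag i).symm, Set.range_comp,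
        ← Ideal.map_span, ← Ideal.mem_comap, Ideal.comap_map_of_surjective π hπ, ← RingHom.ker_eq_comap_bot,
        Ideal.mk_ker] at hn
      have hle : Ideal.span (Set.range a) ⊔ Ideal.span {x} ≤ Ideal.span (Set.range (Fin.cons x a : Fin (e+1) → R)) := by
        rw [Fin.range_cons, Ideal.span_insert, sup_comm]
      exact hle hn

/-- Completing an element outside all minimal primes to a system of parameters. -/
theorem exists_extend {R : Type u} [CommRing R] [IsNoetherianRing R] [IsLocalRing R] (k : ℕ)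
    {d : ℕ} (hd : ringKrullDim R = d) {f : R} (hf : f ∈ maximalIdeal R) (hmin : ∀ p ∈ minimalPrimes R, f ∉ p) :
    ∃ g : Fin (d - 1) → R, (∀ i, g i ∈ maximalIdeal R ^ (k + 1)) ∧
      maximalIdeal R ≤ (Ideal.span (insert f (Set.range g))).radical := by
  haveI : Nontrivial (R ⧸ Ideal.span {f}) := Ideal.Quotient.nontrivial_iff.2 fun e =>
    (maximalIdeal.isMaximal R).ne_top (top_le_iff.1 (e ▸ (Ideal.span_singleton_le_iff_mem _).2 hf))
  let π := Ideal.Quotient.mk (Ideal.span {f})
  have hπ : Function.Surjective π := Ideal.Quotient.mk_surjective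
  haveI : IsLocalRing (R ⧸ Ideal.span {f}) := IsLocalRing.of_surjective' π hπ
  have hmap : (maximalIdeal R).map π = maximalIdeal (R ⧸ Ideal.span {f}) :=
    IsLocalRing.map_maximalIdeal_of_surjective π hπ
  have hdq : ringKrullDim (R ⧸ Ideal.span {f}) ≤ ((d - 1 : ℕ) : ℕ) := by
    have h := (ringKrullDim_quotient_succ_le hf hmin).trans hd.le
    rcases d with - | d
    · exfalso
      have h1 : (0 : WithBot ℕ∞) + 1 ≤ ((0 : ℕ) : WithBot ℕ∞) := le_trans
        (add_le_add ringKrullDim_nonneg_of_nontrivial le_rfl) h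
      exact absurd (show (1 : WithBot ℕ∞) ≤ 0 by simpa using h1) (by decide)
    · simpa using le_of_succ_le h
  obtain ⟨g, hg, hr⟩ := exists_sop k (d - 1) (R ⧸ Ideal.span {f}) hdq
  have hlift : ∀ i, ∃ a ∈ maximalIdeal R ^ (k + 1), π a = g i := fun i => by
    have := hg i
    rw [← hmap, ← Ideal.map_pow] at this
    exact (Ideal.mem_map_iff_of_surjective π hπ).1 this
  choose a ha hag using hlift
  refine ⟨a, ha, fun y hy => ?_⟩
  obtain ⟨n, hn⟩ := hr (hmap ▸ Ideal.mem_map_of_mem π hy)
  refine ⟨n, ?_⟩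
  rw [← map_pow, show g = π ∘ a from funext fun i => (hag i).symm, Set.range_comp,
    ← Ideal.map_span, ← Ideal.mem_comap, Ideal.comap_map_of_surjective π hπ, ← RingHom.ker_eq_comap_bot,
    Ideal.mk_ker] at hn
  rwa [Ideal.span_insert, sup_comm]

end Groth.MiscGeom.SopAvoid
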