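import Groth.Agent.MiscGeom.FreePresentation
import Groth.Agent.MiscGeom.DualIsoOff
import Groth.Agent.MiscGeom.FourTermAt
import Mathlib

/-!
# Splitting a four term sequence off `V(J)`
-/

universe u

open TensorProduct

noncomputable section

namespace Groth.MiscGeom.QGor

theorem isReflexive_of_free_finite (R M : Type u) [CommRing R] [AddCommGroup M] [Module R M]
    [Module.Free R M] [Module.Finite R M] : Module.IsReflexive R M := inferInstance

variable {B : Type u} [CommRing B] [IsNoetherianRing B]

/-- up to a scalar `t ∉ q`, the sequence `F → E⁰ → E¹` splits at a prime `q` where the cokernel is free -/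
theorem exists_splitting_at (q : Ideal B) [q.IsPrime] {F : Type u} [AddCommGroup F] [Module B F] {n m : ℕ}
    (f : F →ₗ[B] (Fin n → B)) (u : (Fin n → B) →ₗ[B] (Fin m → B)) (hf : Function.Injective f)
    (hfu : Function.Exact f u)
    [Module.Free (Localization.AtPrime q) (LocalizedModule q.primeCompl ((Fin m → B) ⧸ LinearMap.range u))] :
    ∃ t ∉ q, ∃ (ρ : (Fin n → B) →ₗ[B] F) (σ : (Fin m → B) →ₗ[B] (Fin n → B)),
      f ∘ₗ ρ + σ ∘ₗ u = t • LinearMap.id ∧ ρ ∘ₗ f = t • LinearMap.id := by
  obtain ⟨k, i, r, s, hs, hri⟩ := exists_retract_smul q ((Fin m → B) ⧸ LinearMap.range u)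
  obtain ⟨r', hr'⟩ := Module.projective_lifting_property (LinearMap.range u).mkQ r (Submodule.mkQ_surjective _)
  let τ : ((Fin m → B) ⧸ LinearMap.range u) →ₗ[B] (Fin m → B) := r' ∘ₗ i
  have hτ : ∀ x, (LinearMap.range u).mkQ (τ x) = s • x := fun x => by
    rw [← hri x, ← hr']
    rfl
  let π : (Fin m → B) →ₗ[B] LinearMap.range u :=
    LinearMap.codRestrict (LinearMap.range u) (s • LinearMap.id - τ ∘ₗ (LinearMap.range u).mkQ) fun x => by
      rw [← Submodule.Quotient.mk_eq_zero, ← Submodule.mkQ_apply]
      show (LinearMap.range u).mkQ (s • x - τ ((LinearMap.range u).mkQ x)) = 0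
      rw [map_sub, map_smul, hτ, sub_self]
  obtain ⟨σ, hσ⟩ := Module.projective_lifting_property u.rangeRestrict π u.surjective_rangeRestrict
  have hσ' : ∀ x, u (σ (u x)) = s • u x := fun x => by
    have := congrArg Subtype.val (LinearMap.congr_fun hσ (u x))
    refine this.trans ?_
    show s • u x - τ ((LinearMap.range u).mkQ (u x)) = s • u x
    rw [Submodule.mkQ_apply, (Submodule.Quotient.mk_eq_zero _).2 (LinearMap.mem_range_self u x), map_zero, sub_zero]
  let d : (Fin n → B) →ₗ[B] LinearMap.range f :=
    LinearMap.codRestrict (LinearMap.range f) (s • LinearMap.id - σ ∘ₗ u) fun x => (hfu _).1 (by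
      show u (s • x - σ (u x)) = 0
      rw [map_sub, map_smul, hσ', sub_self])
  let ρ : (Fin n → B) →ₗ[B] F := (LinearEquiv.ofInjective f hf).symm.toLinearMap ∘ₗ d
  have hfρ : ∀ x, f (ρ x) = s • x - σ (u x) := fun x =>
    congrArg Subtype.val ((LinearEquiv.ofInjective f hf).apply_symm_apply (d x))
  refine ⟨s, hs, ρ, σ, LinearMap.ext fun x => ?_, LinearMap.ext fun x => hf ?_⟩
  · show f (ρ x) + σ (u x) = s • x
    rw [hfρ, sub_add_cancel]
  · show f (ρ (f x)) = f (s • x)
    rw [hfρ, hfu.apply_apply_eq_zero, map_zero, sub_zero, map_smul]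

/-- the map from the base change of the kernel to the kernel of the base change -/
def toKerBaseChange {F E0 E1 : Type u} [AddCommGroup F] [Module B F] [AddCommGroup E0] [Module B E0] [AddCommGroup E1]
    [Module B E1] (S : Type u) [CommRing S] [Algebra B S] (f : F →ₗ[B] E0) (u : E0 →ₗ[B] E1)
    (hfu : Function.Exact f u) : S ⊗[B] F →ₗ[S] LinearMap.ker (u.baseChange S) :=
  LinearMap.codRestrict _ (f.baseChange S) fun x => by
    rw [LinearMap.mem_ker, ← LinearMap.comp_apply, ← LinearMap.baseChange_comp, hfu.linearMap_comp_eq_zero,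
      LinearMap.baseChange_zero, LinearMap.zero_apply]

theorem hasQuasiInverseOff_toKerBaseChange (J : Ideal B) {F : Type u} [AddCommGroup F] [Module B F] {n m : ℕ}
    (f : F →ₗ[B] (Fin n → B)) (u : (Fin n → B) →ₗ[B] (Fin m → B)) (hf : Function.Injective f)
    (hfu : Function.Exact f u)
    (hG : ∀ q : PrimeSpectrum B, ¬ J ≤ q.asIdeal →
      Module.Free (Localization.AtPrime q.asIdeal)
        (LocalizedModule q.asIdeal.primeCompl ((Fin m → B) ⧸ LinearMap.range u)))
    (S : Type u) [CommRing S] [Algebra B S] :
    HasQuasiInverseOff (M := S ⊗[B] F) (N := LinearMap.ker (u.baseChange S)) (J.map (algebraMap B S))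
      (toKerBaseChange S f u hfu) := by
  intro q hq
  have hq' : ¬ J ≤ q.asIdeal.comap (algebraMap B S) := fun h => hq (Ideal.map_le_iff_le_comap.2 h)
  haveI := hG ⟨q.asIdeal.comap (algebraMap B S), inferInstance⟩ hq'
  obtain ⟨t, ht, ρ, σ, h1, h2⟩ := exists_splitting_at (q.asIdeal.comap (algebraMap B S)) f u hf hfu
  have h1' := congrArg (LinearMap.baseChange S) h1
  have h2' := congrArg (LinearMap.baseChange S) h2
  rw [LinearMap.baseChange_add, LinearMap.baseChange_comp, LinearMap.baseChange_comp, LinearMap.baseChange_smul,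
    LinearMap.baseChange_id] at h1'
  rw [LinearMap.baseChange_comp, LinearMap.baseChange_smul, LinearMap.baseChange_id] at h2'
  refine ⟨algebraMap B S t, ht, ρ.baseChange S ∘ₗ (LinearMap.ker (u.baseChange S)).subtype,
    LinearMap.ext fun x => ?_, LinearMap.ext fun x => Subtype.ext ?_⟩
  · show ρ.baseChange S (f.baseChange S x) = algebraMap B S t • x
    rw [algebraMap_smul]
    exact LinearMap.congr_fun h2' x
  · show f.baseChange S (ρ.baseChange S x.1) = algebraMap B S t • x.1
    rw [algebraMap_smul]
    have := LinearMap.congr_fun h1' x.1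
    rw [LinearMap.add_apply, LinearMap.comp_apply, LinearMap.comp_apply, LinearMap.mem_ker.1 x.2, map_zero,
      add_zero] at this
    exact this

/-- localised kernel of a map of projective modules with locally free cokernel is free -/
theorem free_localized_ker (T : Ideal B) [T.IsPrime] {E0 E1 : Type u} [AddCommGroup E0] [Module B E0]
    [Module.Finite B E0] [Module.Projective B E0] [AddCommGroup E1] [Module B E1] [Module.Projective B E1]
    (u : E0 →ₗ[B] E1) {G : Type u} [AddCommGroup G] [Module B G] (v : E1 →ₗ[B] G) (huv : Function.Exact u v)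
    (hv : Function.Surjective v) (hG : Module.Free (Localization.AtPrime T) (LocalizedModule T.primeCompl G)) :
    Module.Free (Localization.AtPrime T) (LocalizedModule T.primeCompl (LinearMap.ker u)) := by
  haveI := hG
  haveI : Module.Projective (Localization.AtPrime T) (LocalizedModule T.primeCompl E0) :=
    Module.Projective.of_equiv (LocalizedModule.equivTensorProduct T.primeCompl E0).symm
  haveI : Module.Projective (Localization.AtPrime T) (LocalizedModule T.primeCompl E1) :=
    Module.Projective.of_equiv (LocalizedModule.equivTensorProduct T.primeCompl E1).symm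
  haveI : Module.Projective (Localization.AtPrime T) (LocalizedModule T.primeCompl (LinearMap.ker u)) :=
    projective_of_exact_four (LocalizedModule.map T.primeCompl (LinearMap.ker u).subtype)
      (LocalizedModule.map T.primeCompl u) (LocalizedModule.map T.primeCompl v)
      (LocalizedModule.map_injective _ _ Subtype.val_injective)
      (LocalizedModule.map_exact _ _ u (LinearMap.exact_subtype_ker_map u))
      (LocalizedModule.map_exact _ u v huv) (LocalizedModule.map_surjective _ v hv)
  haveI : Module.Finite (Localization.AtPrime T) (LocalizedModule T.primeCompl (LinearMap.ker u)) :=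
    Module.Finite.of_isLocalizedModule T.primeCompl (LocalizedModule.mkLinearMap T.primeCompl _)
  haveI : Module.FinitePresentation (Localization.AtPrime T) (LocalizedModule T.primeCompl (LinearMap.ker u)) :=
    Module.finitePresentation_of_finite _ _
  exact Module.free_of_flat_of_isLocalRing

/-- a nonzero module free at `r` is supported at every generization of `r` -/
theorem annihilator_le_of_free {M : Type u} [AddCommGroup M] [Module B M] [Module.Finite B M] (r : PrimeSpectrum B)
    [Module.Free (Localization.AtPrime r.asIdeal) (LocalizedModule r.asIdeal.primeCompl M)]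
    (hr : r ∈ Module.support B M) (r0 : Ideal B) [r0.IsPrime] (h0 : r0 ≤ r.asIdeal) :
    Module.annihilator B M ≤ r0 := by
  intro a ha
  let R := Localization.AtPrime r.asIdeal
  haveI : Nontrivial (LocalizedModule r.asIdeal.primeCompl M) := Module.mem_support_iff.1 hr
  let b := Module.Free.chooseBasis R (LocalizedModule r.asIdeal.primeCompl M)
  obtain ⟨i⟩ := b.index_nonempty
  have h1 : algebraMap B R a • b i = 0 := by
    rw [algebraMap_smul]
    obtain ⟨x, s, hxs⟩ : ∃ x s, b i = LocalizedModule.mk x s := by
      induction b i using LocalizedModule.induction_on with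
      | _ x s => exact ⟨x, s, rfl⟩
    rw [hxs, LocalizedModule.smul'_mk, Module.mem_annihilator.1 ha x, LocalizedModule.zero_mk]
  have h2 : algebraMap B R a = 0 := by
    have := congrArg (fun v => b.repr v i) h1
    simp only [map_smul, Finsupp.smul_apply, Module.Basis.repr_self, Finsupp.single_eq_same, smul_eq_mul, mul_one,
      map_zero, Finsupp.zero_apply] at this
    exact this
  obtain ⟨⟨c, hc⟩, hca⟩ := (IsLocalization.map_eq_zero_iff r.asIdeal.primeCompl R a).1 h2
  exact ((inferInstance : r0.IsPrime).mem_or_mem (by rw [hca]; exact r0.zero_mem)).resolve_left fun h => hc (h0 h)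

end Groth.MiscGeom.QGor

end
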