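import Groth.Agent.MiscGeom.SkDualEquidim
import Groth.Agent.DualCore.Normalized

/-!
# The top cohomology of a normalized dualizing complex has depth two
-/

universe u

open CategoryTheory IsLocalRing Groth.DualCore

attribute [local instance] HasDerivedCategory.standard

noncomputable section

namespace Groth.MiscGeom.QGor

variable {A : Type u} [CommRing A] [IsNoetherianRing A] [IsLocalRing A] {ω : Dual.D A}
  (hω : Dual.IsDualizing A ω) (hn : Dual.IsNormalized A ω)

include hω hn

omit hn [IsLocalRing A] in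
theorem coheight_lt_of_lt {p q : PrimeSpectrum A} (h : p < q) : Order.coheight q < Order.coheight p := by
  obtain ⟨e, he⟩ := exists_coheight_eq hω q
  exact Order.coheight_strictAnti h (by rw [he]; exact ENat.natCast_lt_top e)

theorem subsingleton_hom_below (N : Type u) [AddCommGroup N] [Module A N] [Module.Finite A N] (d : ℕ)
    (h : ∀ p ∈ Module.support A N, Order.coheight p < (d : ℕ∞)) (i : ℤ) (hi : i ≤ -(d : ℤ)) :
    Subsingleton (Dual.inD A N ⟶ ω⟦i⟧) := by
  rcases subsingleton_or_nontrivial N with hN | hN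
  · exact subsingleton_hom_of_subsingleton ω N i
  obtain ⟨p, hp⟩ := (Module.nonempty_support_iff (R := A)).2 hN
  have h0 : 1 ≤ d := by
    have h1 := h p hp
    by_contra hlt
    obtain rfl : d = 0 := by omega
    exact not_lt_zero h1
  refine hom_le_ringKrullDim hω hn N (d := d - 1) ?_ i (Or.inl (by omega))
  rw [supportDim_le_natCast_iff]
  intro q hq
  obtain ⟨e, he⟩ := exists_coheight_eq hω q
  have h1 := h q hq
  rw [he] at h1 ⊢
  have h2 := Nat.cast_lt.1 h1
  exact Nat.cast_le.2 (by omega)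

omit hn [IsLocalRing A] in
theorem finite_topLocus (N : Type u) [AddCommGroup N] [Module A N] [Module.Finite A N] (d : ℕ)
    (hd : ∀ p ∈ Module.support A N, Order.coheight p ≤ (d : ℕ∞)) :
    {p : PrimeSpectrum A | p ∈ Module.support A N ∧ Order.coheight p = (d : ℕ∞)}.Finite := by
  refine Set.Finite.subset (s := {p : PrimeSpectrum A | p.asIdeal ∈ (Module.annihilator A N).minimalPrimes}) ?_ ?_
  · exact Set.Finite.preimage (fun q _ r _ h => PrimeSpectrum.ext h) (Ideal.finite_minimalPrimes_of_isNoetherianRing A _)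
  · rintro p ⟨hp, hpd⟩
    rw [Module.mem_support_iff_of_finite] at hp
    obtain ⟨P, hP, hle⟩ := Ideal.exists_minimalPrimes_le hp
    rcases eq_or_lt_of_le (show (⟨P, hP.isPrime⟩ : PrimeSpectrum A) ≤ p from hle) with heq | hlt
    · rw [← heq]
      exact hP
    · exfalso
      have h1 := hd ⟨P, hP.isPrime⟩ (by rw [Module.mem_support_iff_of_finite]; exact hP.1.2)
      have h2 := coheight_lt_of_lt hω hlt
      rw [hpd] at h2
      exact absurd h1 (not_le.2 h2)

omit hn in
theorem exists_avoid (N : Type u) [AddCommGroup N] [Module A N] [Module.Finite A N] (d : ℕ)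
    (hd : ∀ p ∈ Module.support A N, Order.coheight p ≤ (d : ℕ∞)) (I : Ideal A)
    (hI : ∀ p ∈ Module.support A N, Order.coheight p = (d : ℕ∞) → ¬ I ≤ p.asIdeal) :
    ∃ y ∈ I, ∀ p ∈ Module.support A N, Order.coheight p = (d : ℕ∞) → y ∉ p.asIdeal := by
  have hfin := finite_topLocus hω N d hd
  have hns : ¬ (I : Set A) ⊆ ⋃ p ∈ (↑hfin.toFinset : Set (PrimeSpectrum A)), (p.asIdeal : Set A) := by
    intro h
    obtain ⟨p, hp, hle⟩ := (Ideal.subset_union_prime (f := fun p : PrimeSpectrum A => p.asIdeal)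
      (IsLocalRing.closedPoint A) (IsLocalRing.closedPoint A) fun p _ _ _ => p.isPrime).1 h
    rw [Set.Finite.mem_toFinset] at hp
    exact hI p hp.1 hp.2 hle
  obtain ⟨y, hy, hy'⟩ := Set.not_subset.1 hns
  refine ⟨y, hy, fun p hp hpd hyp => hy' (Set.mem_iUnion₂.2 ⟨p, ?_, hyp⟩)⟩
  simpa using ⟨hp, hpd⟩

/-- an element avoiding the top dimensional primes is injective on the top `Hom`, with cokernel in the next one -/
theorem exists_top_step (N : Type u) [AddCommGroup N] [Module A N] [Module.Finite A N] (d : ℕ)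
    (hd : ∀ p ∈ Module.support A N, Order.coheight p ≤ (d : ℕ∞)) (y : A)
    (hy : ∀ p ∈ Module.support A N, Order.coheight p = (d : ℕ∞) → y ∉ p.asIdeal) :
    IsSMulRegular (Dual.inD A N ⟶ ω⟦-(d : ℤ)⟧) y ∧
      (∀ p ∈ Module.support A (N ⧸ LinearMap.range (LinearMap.lsmul A N y)),
        p ∈ Module.support A N ∧ Order.coheight p < (d : ℕ∞)) ∧
      ∃ ψ : (Dual.inD A N ⟶ ω⟦-(d : ℤ)⟧) →ₗ[A]
          (Dual.inD A (N ⧸ LinearMap.range (LinearMap.lsmul A N y)) ⟶ ω⟦1 - (d : ℤ)⟧),
        ∀ w, ψ w = 0 → ∃ v, w = y • v := by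
  let l := LinearMap.lsmul A N y
  let R := LinearMap.range l
  have hlow : ∀ (X : Type u) [AddCommGroup X] [Module A X] [Module.Finite A X],
      (∀ p ∈ Module.support A X, p ∈ Module.support A N) →
      (∀ p ∈ Module.support A X, y ∉ p.asIdeal → False) →
      ∀ p ∈ Module.support A X, p ∈ Module.support A N ∧ Order.coheight p < (d : ℕ∞) := fun X _ _ _ h1 h2 p hp =>
    ⟨h1 p hp, lt_of_le_of_ne (hd p (h1 p hp)) fun heq => h2 p hp (hy p (h1 p hp) heq)⟩
  have hker := hlow (LinearMap.ker l)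
    (fun p hp => Module.support_subset_of_injective (LinearMap.ker l).subtype Subtype.val_injective hp)
    (fun p hp hyp => by
      obtain ⟨m, hm⟩ := Module.mem_support_iff'.1 hp
      exact hm y hyp (Subtype.ext m.2))
  have hquot := hlow (N ⧸ R)
    (fun p hp => Module.support_subset_of_surjective R.mkQ (Submodule.mkQ_surjective R) hp)
    (fun p hp hyp => by
      obtain ⟨m, hm⟩ := Module.mem_support_iff'.1 hp
      obtain ⟨m, rfl⟩ := Submodule.Quotient.mk_surjective _ m
      exact hm y hyp (by rw [← Submodule.Quotient.mk_smul, Submodule.Quotient.mk_eq_zero]; exact ⟨m, rfl⟩))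
  haveI := subsingleton_hom_below hω hn (LinearMap.ker l) d (fun p hp => (hker p hp).2) (-(d : ℤ) - 1) (by omega)
  haveI := subsingleton_hom_below hω hn (LinearMap.ker l) d (fun p hp => (hker p hp).2) (-(d : ℤ)) le_rfl
  haveI := subsingleton_hom_below hω hn (N ⧸ R) d (fun p hp => (hquot p hp).2) (-(d : ℤ)) le_rfl
  let g := l.rangeRestrict
  have hg : Function.Surjective g := l.surjective_rangeRestrict
  have hexg : Function.Exact (LinearMap.ker l).subtype g := fun x => by
    rw [← LinearMap.exact_subtype_ker_map l x]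
    exact Subtype.ext_iff
  let e := map1 ω (-(d : ℤ)) g
  have he : Function.Bijective e := by
    refine ⟨?_, fun v => ?_⟩
    · rw [injective_iff_map_eq_zero]
      intro v hv
      obtain ⟨x, rfl⟩ := (map1_exact_right (LinearMap.ker l).subtype g Subtype.val_injective hg hexg ω
        (-(d : ℤ) - 1) (-(d : ℤ)) (by ring) v).1 hv
      rw [Subsingleton.elim x 0, map_zero]
    · exact (map1_exact_mid (LinearMap.ker l).subtype g Subtype.val_injective hg hexg ω (-(d : ℤ)) v).1
        (Subsingleton.elim _ _)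
  let ι := map1 ω (-(d : ℤ)) R.subtype
  have hι : Function.Injective ι := by
    rw [injective_iff_map_eq_zero]
    intro v hv
    obtain ⟨x, rfl⟩ := (map1_exact_mid R.subtype R.mkQ Subtype.val_injective (Submodule.mkQ_surjective R)
      (LinearMap.exact_subtype_mkQ R) ω (-(d : ℤ)) v).1 hv
    rw [Subsingleton.elim x 0, map_zero]
  have hcomp : ∀ v : Dual.inD A N ⟶ ω⟦-(d : ℤ)⟧, e (ι v) = y • v := fun v => by
    show map1 ω _ g (map1 ω _ R.subtype v) = y • v
    rw [← map1_comp, ← map1_smul_id]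
    rfl
  let eE := LinearEquiv.ofBijective e he
  refine ⟨fun v w h => hι (he.1 ?_), hquot,
    (delta R.subtype R.mkQ Subtype.val_injective (Submodule.mkQ_surjective R) (LinearMap.exact_subtype_mkQ R) ω
      (-(d : ℤ)) (1 - (d : ℤ)) (by ring)).comp eE.symm.toLinearMap, fun w hw => ?_⟩
  · rw [hcomp, hcomp]
    exact h
  · obtain ⟨v, hv⟩ := (map1_exact_left R.subtype R.mkQ Subtype.val_injective (Submodule.mkQ_surjective R)
      (LinearMap.exact_subtype_mkQ R) ω (-(d : ℤ)) (1 - (d : ℤ)) (by ring) (eE.symm w)).1 hw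
    refine ⟨v, ?_⟩
    rw [← hcomp, show ι v = eE.symm w from hv]
    exact (eE.apply_symm_apply w).symm

/-- the dualizing module has depth at least `min 2 d` -/
theorem min_two_le_depth_top (d : ℕ) (hd : ringKrullDim A = (d : WithBot ℕ∞)) :
    min (2 : ℕ∞) (d : ℕ∞) ≤ LocCoh.depth A (Dual.HD A ω (-(d : ℤ))) := by
  let K := Dual.HD A ω (-(d : ℤ))
  let eK : (Dual.inD A A ⟶ ω⟦-(d : ℤ)⟧) ≃ₗ[A] K := homAEquiv ω (-(d : ℤ))
  haveI : Module.Finite A K := hω.finite_cohomology _
  rcases Nat.eq_zero_or_pos d with rfl | hd0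
  · simp
  by_cases htop : maximalIdeal A • (⊤ : Submodule A K) = ⊤
  · rw [LocCoh.depth, Groth.LocCohBase.idealDepth_eq_top_of_smul_top_eq_top htop]
    exact le_top
  have hA : ∀ p ∈ Module.support A A, Order.coheight p ≤ (d : ℕ∞) := fun p _ =>
    WithBot.coe_le_coe.1 ((Order.coheight_le_krullDim p).trans hd.le)
  have hm : ∀ (p : PrimeSpectrum A) (c : ℕ), 0 < c → Order.coheight p = (c : ℕ∞) → ¬ maximalIdeal A ≤ p.asIdeal := by
    intro p c hc hpc hle
    have : p.asIdeal.IsMaximal := by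
      rw [← (maximalIdeal.isMaximal A).eq_of_le p.2.ne_top hle]
      exact maximalIdeal.isMaximal A
    rw [Order.coheight_eq_zero.2 (PrimeSpectrum.isMax_iff.2 this)] at hpc
    have h1 : (0 : ℕ) = c := by exact_mod_cast hpc
    omega
  obtain ⟨y, hym, hy⟩ := exists_avoid hω A d hA (maximalIdeal A) (fun p _ hp => hm p d hd0 hp)
  obtain ⟨hreg₀, hquot, ψ, hψ⟩ := exists_top_step hω hn A d hA y hy
  have hreg : IsSMulRegular K y := fun v w h => eK.symm.injective (hreg₀ (show y • eK.symm v = y • eK.symm w by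
    rw [← map_smul, ← map_smul]
    exact congrArg eK.symm h))
  rw [LocCoh.depth]
  by_cases h1 : d = 1
  · subst h1
    refine le_trans (min_le_right _ _) ((Groth.LocCohBase.le_idealDepth_iff_exists _ htop 1).2 ⟨[y], rfl, ?_, ?_⟩)
    · exact (RingTheory.Sequence.isWeaklyRegular_cons_iff _ y []).2 ⟨hreg, RingTheory.Sequence.IsWeaklyRegular.nil A _⟩
    · simpa using hym
  let N' := A ⧸ LinearMap.range (LinearMap.lsmul A A y)
  have hN' : ∀ p ∈ Module.support A N', Order.coheight p ≤ ((d - 1 : ℕ) : ℕ∞) := fun p hp => by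
    obtain ⟨e, he⟩ := exists_coheight_eq hω p
    have h := (hquot p hp).2
    rw [he] at h ⊢
    have := Nat.cast_lt.1 h
    exact Nat.cast_le.2 (by omega)
  obtain ⟨z, hzm, hz⟩ := exists_avoid hω N' (d - 1) hN' (maximalIdeal A) (fun p _ hp => hm p (d - 1) (by omega) hp)
  obtain ⟨hregz, -⟩ := exists_top_step hω hn N' (d - 1) hN' z hz
  rw [show (-((d - 1 : ℕ) : ℤ)) = 1 - (d : ℤ) by omega] at hregz
  refine le_trans (min_le_left _ _) ((Groth.LocCohBase.le_idealDepth_iff_exists _ htop 2).2 ⟨[y, z], rfl, ?_, ?_⟩)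
  · refine (RingTheory.Sequence.isWeaklyRegular_cons_iff _ y [z]).2 ⟨hreg,
      (RingTheory.Sequence.isWeaklyRegular_cons_iff _ z []).2 ⟨?_, RingTheory.Sequence.IsWeaklyRegular.nil A _⟩⟩
    refine isSMulRegular_iff_right_eq_zero_of_smul.2 fun x hx => ?_
    obtain ⟨w, rfl⟩ := Submodule.Quotient.mk_surjective _ x
    rw [← Submodule.Quotient.mk_smul, Submodule.Quotient.mk_eq_zero, Submodule.mem_smul_pointwise_iff_exists] at hx
    obtain ⟨u, -, hu⟩ := hx
    have h0 : ψ (eK.symm w) = 0 := by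
      refine isSMulRegular_iff_right_eq_zero_of_smul.1 hregz _ ?_
      rw [← map_smul, ← map_smul, ← hu, map_smul, map_smul]
      have hkill : y ∈ Module.annihilator A N' := by
        rw [Module.mem_annihilator]
        intro n
        obtain ⟨n, rfl⟩ := Submodule.Quotient.mk_surjective _ n
        rw [← Submodule.Quotient.mk_smul, Submodule.Quotient.mk_eq_zero]
        exact ⟨n, rfl⟩
      exact Module.mem_annihilator.1 (annihilator_le_annihilator_hom ω N' _ hkill) _
    obtain ⟨v, hv⟩ := hψ _ h0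
    obtain rfl : w = y • eK v := by rw [← map_smul, ← hv, LinearEquiv.apply_symm_apply]
    rw [Submodule.Quotient.mk_eq_zero]
    exact Submodule.smul_mem_pointwise_smul (eK v) y ⊤ trivial
  · simp only [List.mem_cons, List.not_mem_nil, or_false]
    rintro r (rfl | rfl)
    exacts [hym, hzm]

end Groth.MiscGeom.QGor

end
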